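import Groth.Prelude.Def_FEt
import Mathlib.AlgebraicGeometry.Pullbacks
import Mathlib.AlgebraicGeometry.Morphisms.OpenImmersion

/-!
Purity passes to a quotient of a local ring as soon as restriction of finite etale covers from the
punctured spectrum of `A` to that of the quotient is essentially surjective.
-/

set_option autoImplicit false
universe u

open AlgebraicGeometry CategoryTheory CategoryTheory.Limits

namespace Groth.Agent.Pi1C.PurityQuot

/-- Restriction of finite etale covers along a composition. -/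
noncomputable def restrictComp {X Y Z : Scheme.{u}} (f : X ⟶ Y) (g : Y ⟶ Z) :
    FEt.restrict (f ≫ g) ≅ FEt.restrict g ⋙ FEt.restrict f :=
  MorphismProperty.Over.pullbackComp (P := FEt.prop.{u}) (Q := ⊤) f g

/-- Restriction of finite etale covers along equal morphisms. -/
noncomputable def restrictCongr {X Y : Scheme.{u}} {f g : X ⟶ Y} (h : f = g) :
    FEt.restrict f ≅ FEt.restrict g :=
  eqToIso (by rw [h])

instance isIso_fst_id {X Y : Scheme.{u}} (g : Y ⟶ X) : IsIso (pullback.fst g (𝟙 X)) :=
  pullback_fst_iso_of_right_iso g (𝟙 X)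

/-- Restriction along the identity. -/
noncomputable def restrictId (X : Scheme.{u}) : FEt.restrict (𝟙 X) ≅ 𝟭 (FEt.Cat X) :=
  NatIso.ofComponents (fun Y => MorphismProperty.Over.isoMk
      (@asIso _ _ _ _ (pullback.fst Y.hom (𝟙 X)) (isIso_fst_id Y.hom))
    (by
      change pullback.fst Y.hom (𝟙 X) ≫ Y.hom = pullback.snd Y.hom (𝟙 X)
      rw [pullback.condition, Category.comp_id]))
    (fun {Y Y'} g => by
      ext
      change pullback.lift (pullback.fst Y.hom (𝟙 X) ≫ g.left) (pullback.snd Y.hom (𝟙 X)) _ ≫
        pullback.fst Y'.hom (𝟙 X) = pullback.fst Y.hom (𝟙 X) ≫ g.left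
      exact pullback.lift_fst _ _ _)

/-- Restriction along an isomorphism is an equivalence. -/
noncomputable def restrictEquiv {X Y : Scheme.{u}} (e : X ≅ Y) : FEt.Cat Y ≌ FEt.Cat X :=
  CategoryTheory.Equivalence.mk (FEt.restrict e.hom) (FEt.restrict e.inv)
    ((restrictId Y).symm ≪≫ restrictCongr e.inv_hom_id.symm ≪≫ restrictComp e.inv e.hom)
    ((restrictComp e.hom e.inv).symm ≪≫ restrictCongr e.hom_inv_id ≪≫ restrictId X)

instance restrict_isEquivalence {X Y : Scheme.{u}} (f : X ⟶ Y) [IsIso f] :
    (FEt.restrict f).IsEquivalence :=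
  (restrictEquiv (asIso f)).isEquivalence_functor

/-- The punctured spectrum of a local quotient `B` of the local ring `A` is the preimage of the
punctured spectrum of `A`. -/
theorem exists_iso_puncturedSpec (A B : Type u) [CommRing A] [IsLocalRing A] [CommRing B]
    [IsLocalRing B] (φ : A →+* B) (hφ : Function.Surjective φ) :
    ∃ e : pullback (FEt.puncturedSpec A).ι (Spec.map (CommRingCat.ofHom φ)) ≅
        (FEt.puncturedSpec B : Scheme.{u}),
      e.hom ≫ (FEt.puncturedSpec B).ι =
        pullback.snd (FEt.puncturedSpec A).ι (Spec.map (CommRingCat.ofHom φ)) := by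
  have : IsLocalHom φ := hφ.isLocalHom
  have hrange : (pullback.snd (FEt.puncturedSpec A).ι (Spec.map (CommRingCat.ofHom φ))).opensRange
      = FEt.puncturedSpec B := by
    rw [Scheme.Hom.opensRange_pullbackSnd, Scheme.Opens.opensRange_ι]
    ext x
    change PrimeSpectrum.comap φ x ≠ IsLocalRing.closedPoint A ↔ x ≠ IsLocalRing.closedPoint B
    refine not_congr ⟨fun h => ?_, fun h => ?_⟩
    · have h1 : x.asIdeal.comap φ = IsLocalRing.maximalIdeal A := congrArg PrimeSpectrum.asIdeal h
      have h2 : x.asIdeal = (IsLocalRing.maximalIdeal A).map φ := by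
        rw [← h1, Ideal.map_comap_of_surjective φ hφ]
      have h3 : x.asIdeal.IsMaximal := by
        have := Ideal.map_eq_top_or_isMaximal_of_surjective φ hφ
          (IsLocalRing.maximalIdeal.isMaximal A)
        rw [← h2] at this
        exact this.resolve_left x.isPrime.ne_top
      exact PrimeSpectrum.ext (IsLocalRing.eq_maximalIdeal h3)
    · rw [h]
      exact IsLocalRing.comap_closedPoint φ
  refine ⟨(pullback.snd (FEt.puncturedSpec A).ι
    (Spec.map (CommRingCat.ofHom φ))).isoOpensRange ≪≫ (Spec (CommRingCat.of B)).isoOfEq hrange, ?_⟩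
  simp

theorem purityHolds_of_surjective (A B : Type u) [CommRing A] [IsLocalRing A] [CommRing B]
    [IsLocalRing B] (φ : A →+* B) (hφ : Function.Surjective φ) (hA : FEt.PurityHolds A)
    (hES : (FEt.restrict (pullback.fst (FEt.puncturedSpec A).ι
      (Spec.map (CommRingCat.ofHom φ)))).EssSurj) : FEt.PurityHolds B := by
  obtain ⟨e, he⟩ := exists_iso_puncturedSpec A B φ hφ
  refine ⟨fun V₀ => ?_⟩
  have := hES
  have : (FEt.restrict (FEt.puncturedSpec A).ι).EssSurj := hA
  let W := (FEt.restrict e.hom).obj V₀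
  let V := (FEt.restrict (pullback.fst (FEt.puncturedSpec A).ι
      (Spec.map (CommRingCat.ofHom φ)))).objPreimage W
  let iV := (FEt.restrict (pullback.fst (FEt.puncturedSpec A).ι
      (Spec.map (CommRingCat.ofHom φ)))).objObjPreimageIso W
  let Y := (FEt.restrict (FEt.puncturedSpec A).ι).objPreimage V
  let iY := (FEt.restrict (FEt.puncturedSpec A).ι).objObjPreimageIso V
  refine ⟨(FEt.restrict (Spec.map (CommRingCat.ofHom φ))).obj Y, ⟨?_⟩⟩
  refine (FEt.restrict e.hom).preimageIso ?_
  refine (((restrictComp e.hom (FEt.puncturedSpec B).ι).symm ≪≫ restrictCongr he).app _) ≪≫ ?_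
  refine (((restrictComp _ _).symm ≪≫ restrictCongr pullback.condition.symm ≪≫
    restrictComp _ _).app Y) ≪≫ ?_
  exact (FEt.restrict (pullback.fst (FEt.puncturedSpec A).ι
      (Spec.map (CommRingCat.ofHom φ)))).mapIso iY ≪≫ iV

end Groth.Agent.Pi1C.PurityQuot
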