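import Groth.Agent.Pi1C.PurityGlue
import Groth.Agent.Pi1C.PurityQuot

/-!
# Extension of finite étale covers from `V(f)` to an open neighbourhood

`NbhdExt A f`: finite étale covers of `U ∩ V(f)`, `U` the punctured spectrum of the local ring `A`,
extend to an open neighbourhood of `U ∩ V(f)` in `U`. With purity at the maximal ideals of `A_f` they
extend to `U` (`essSurj_of_nbhdExt`).
-/

set_option autoImplicit false
universe u

open AlgebraicGeometry CategoryTheory CategoryTheory.Limits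

namespace Groth.Agent.Pi1C.NbhdExt

open PurityQuot

/-- `Spec A / f ⟶ Spec A`. -/
noncomputable abbrev mk (A : Type u) [CommRing A] (f : A) :
    Spec (CommRingCat.of (A ⧸ Ideal.span {f})) ⟶ Spec (CommRingCat.of A) :=
  Spec.map (CommRingCat.ofHom (Ideal.Quotient.mk (Ideal.span {f})))

/-- The cover `V0` of `U0` (with `l : U0 ⟶ punctured spectrum`) extends to an open neighbourhood of
`V(f)` in the punctured spectrum. -/
def Extends (A : Type u) [CommRing A] [IsLocalRing A] (f : A) {U0 : Scheme.{u}}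
    (l : U0 ⟶ (FEt.puncturedSpec A : Scheme.{u})) (V0 : FEt.Cat U0) : Prop :=
  ∃ (W : (FEt.puncturedSpec A : Scheme.{u}).Opens),
    (∀ x : (FEt.puncturedSpec A : Scheme.{u}),
      f ∈ PrimeSpectrum.asIdeal ((FEt.puncturedSpec A).ι x) → x ∈ W) ∧
    ∃ (V : FEt.Cat (W : Scheme.{u})) (t : U0 ⟶ (W : Scheme.{u})), t ≫ W.ι = l ∧
      Nonempty ((FEt.restrict t).obj V ≅ V0)

/-- Every finite étale cover of `U ∩ V(f)`, in any model, extends to a neighbourhood. -/
def NbhdExt (A : Type u) [CommRing A] [IsLocalRing A] (f : A) : Prop :=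
  ∀ (U0 : Scheme.{u}) (l : U0 ⟶ (FEt.puncturedSpec A : Scheme.{u}))
    (s : U0 ⟶ Spec (CommRingCat.of (A ⧸ Ideal.span {f}))),
    IsPullback l s (FEt.puncturedSpec A).ι (mk A f) → ∀ V0 : FEt.Cat U0, Extends A f l V0

section

variable {A : Type u} [CommRing A] [IsLocalRing A] {f : A}

theorem Extends.of_iso {U0 : Scheme.{u}} {l : U0 ⟶ (FEt.puncturedSpec A : Scheme.{u})}
    {V0 V0' : FEt.Cat U0} (h : Extends A f l V0) (e : V0 ≅ V0') : Extends A f l V0' := by
  obtain ⟨W, hW, V, t, ht, ⟨i⟩⟩ := h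
  exact ⟨W, hW, V, t, ht, ⟨i ≪≫ e⟩⟩

theorem Extends.restrict {U0 U1 : Scheme.{u}} {l : U0 ⟶ (FEt.puncturedSpec A : Scheme.{u})}
    (j : U1 ⟶ U0) {V0 : FEt.Cat U0} (h : Extends A f l V0) :
    Extends A f (j ≫ l) ((FEt.restrict j).obj V0) := by
  obtain ⟨W, hW, V, t, ht, ⟨i⟩⟩ := h
  exact ⟨W, hW, V, j ≫ t, by rw [Category.assoc, ht],
    ⟨(restrictComp j t).app V ≪≫ (FEt.restrict j).mapIso i⟩⟩

/-- Transport along an isomorphism of models. -/
theorem Extends.of_restrict {U0 U1 : Scheme.{u}} {l : U0 ⟶ (FEt.puncturedSpec A : Scheme.{u})}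
    (j : U1 ≅ U0) {V0 : FEt.Cat U0}
    (h : Extends A f (j.hom ≫ l) ((FEt.restrict j.hom).obj V0)) : Extends A f l V0 := by
  have h1 := h.restrict j.inv
  rw [Iso.inv_hom_id_assoc] at h1
  exact h1.of_iso (((restrictComp j.inv j.hom).symm ≪≫ restrictCongr j.inv_hom_id ≪≫
    restrictId U0).app V0)

/-- It is enough to check one model of `U ∩ V(f)`. -/
theorem NbhdExt.of_model {U0 : Scheme.{u}} (l : U0 ⟶ (FEt.puncturedSpec A : Scheme.{u}))
    (s : U0 ⟶ Spec (CommRingCat.of (A ⧸ Ideal.span {f})))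
    (hs : IsPullback l s (FEt.puncturedSpec A).ι (mk A f)) (h : ∀ V0 : FEt.Cat U0, Extends A f l V0) :
    NbhdExt A f := by
  intro U1 l1 s1 hs1 V1
  refine Extends.of_restrict (hs.isoIsPullback _ _ hs1) ?_
  have h1 : (hs.isoIsPullback _ _ hs1).hom ≫ l1 = l := hs.isoIsPullback_hom_fst _ _ hs1
  rw [h1]
  exact h _

theorem nbhdExt_iff_model {U0 : Scheme.{u}} (l : U0 ⟶ (FEt.puncturedSpec A : Scheme.{u}))
    (s : U0 ⟶ Spec (CommRingCat.of (A ⧸ Ideal.span {f})))
    (hs : IsPullback l s (FEt.puncturedSpec A).ι (mk A f)) :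
    NbhdExt A f ↔ ∀ V0 : FEt.Cat U0, Extends A f l V0 :=
  ⟨fun h => h U0 l s hs, NbhdExt.of_model l s hs⟩

end

/-- A cover which extends to a neighbourhood of `V(f)` extends to the punctured spectrum. -/
theorem exists_of_extends {A : Type u} [CommRing A] [IsNoetherianRing A] [IsLocalRing A] {f : A}
    (hf : f ∈ IsLocalRing.maximalIdeal A)
    (hP : ∀ P : Ideal (Localization.Away f), ∀ _ : P.IsMaximal,
      FEt.PurityHolds (Localization.AtPrime P)) {U0 : Scheme.{u}}
    (l : U0 ⟶ (FEt.puncturedSpec A : Scheme.{u})) (V0 : FEt.Cat U0) (h : Extends A f l V0) :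
    ∃ V : FEt.Cat (FEt.puncturedSpec A : Scheme.{u}), Nonempty ((FEt.restrict l).obj V ≅ V0) := by
  obtain ⟨W, hW, V, t, ht, ⟨i⟩⟩ := h
  have hES := PurityGlue.exists_extension hf hP W hW
  let V' := (FEt.restrict W.ι).objPreimage V
  let i' : (FEt.restrict W.ι).obj V' ≅ V := (FEt.restrict W.ι).objObjPreimageIso V
  exact ⟨V', ⟨(restrictCongr ht.symm ≪≫ restrictComp t W.ι).app V' ≪≫ (FEt.restrict t).mapIso i' ≪≫ i⟩⟩

/-- The conclusion of 0EK9 from the extension to neighbourhoods of `V(f)`. -/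
theorem essSurj_of_nbhdExt {A : Type u} [CommRing A] [IsNoetherianRing A] [IsLocalRing A] {f : A}
    (hf : f ∈ IsLocalRing.maximalIdeal A)
    (hP : ∀ P : Ideal (Localization.Away f), ∀ _ : P.IsMaximal,
      FEt.PurityHolds (Localization.AtPrime P)) (h : NbhdExt A f) :
    (FEt.restrict (pullback.fst (FEt.puncturedSpec A).ι
      (Spec.map (CommRingCat.ofHom (Ideal.Quotient.mk (Ideal.span {f})))))).EssSurj :=
  ⟨fun V0 => exists_of_extends hf hP _ V0 (h _ _ _ (IsPullback.of_hasPullback _ _) V0)⟩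

end Groth.Agent.Pi1C.NbhdExt
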