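import Groth.Agent.Pi1C.PushEt
import Groth.Agent.Pi1C.PurityQuot

/-!
# Gluing finite etale covers over a Ferrand pushout, from the existence of strong pushouts
-/

set_option autoImplicit false
universe u
open AlgebraicGeometry CategoryTheory CategoryTheory.Limits

namespace Groth.Agent.Pi1C.PushEt

open PurityQuot

/-- Restriction of a finite etale cover computed by a cartesian square. -/
noncomputable def restrictIsoOfIsPullback {X Y : Scheme.{u}} (f : X ⟶ Y) (T : FEt.Cat Y)
    (U : FEt.Cat X) (g : U.left ⟶ T.left) (h : IsPullback g U.hom T.hom f) :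
    (FEt.restrict f).obj T ≅ U :=
  MorphismProperty.Over.isoMk h.isoPullback.symm (by
    change h.isoPullback.inv ≫ U.hom = pullback.snd T.hom f
    exact h.isoPullback_inv_snd)

/-- The cartesian square of a restriction. -/
theorem isPullback_of_iso {X Y : Scheme.{u}} (f : X ⟶ Y) (T : FEt.Cat Y)
    (U : FEt.Cat X) (e : U ≅ (FEt.restrict f).obj T) :
    IsPullback (e.hom.left ≫ pullback.fst T.hom f) U.hom T.hom f := by
  let F : FEt.Cat X ⥤ Scheme.{u} := MorphismProperty.Over.forget _ _ _ ⋙ Over.forget _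
  let E : U.left ≅ pullback T.hom f := F.mapIso e
  have key : E.hom ≫ pullback.snd T.hom f = U.hom := MorphismProperty.Over.w e.hom
  have w : (E.hom ≫ pullback.fst T.hom f) ≫ T.hom = U.hom ≫ f := by
    rw [Category.assoc, pullback.condition, ← Category.assoc, key]
  exact IsPullback.of_iso_pullback ⟨w⟩ E rfl key

theorem main_of_exists
    (hex : ∀ {X Y Z : Scheme.{u}} (i : Z ⟶ X) (j : Z ⟶ Y), IsClosedImmersion i → IsIntegralHom j →
      (∀ y : Y, ∃ U : X.Opens, IsAffineOpen U ∧ ∀ z : Z, j.base z = y → i.base z ∈ U) →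
      ∃ (W : Scheme.{u}) (a : X ⟶ W) (b : Y ⟶ W), IsPushout i j a b ∧ IsStrong i j a b)
    {Z X Y W : Scheme.{u}} (i : Z ⟶ X) [IsClosedImmersion i] (j : Z ⟶ Y) [IsIntegralHom j]
    (h3 : ∀ y : Y, ∃ U : X.Opens, IsAffineOpen U ∧ ∀ z : Z, j.base z = y → i.base z ∈ U)
    (a : X ⟶ W) (b : Y ⟶ W) (hpo : IsPushout i j a b)
    (U : FEt.Cat X) (V : FEt.Cat Y) (e : (FEt.restrict i).obj U ≅ (FEt.restrict j).obj V) :
    ∃ T : FEt.Cat W, Nonempty ((FEt.restrict a).obj T ≅ U) ∧
      Nonempty ((FEt.restrict b).obj T ≅ V) := by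
  obtain ⟨W', a', b', hpo', hst⟩ := hex i j inferInstance inferInstance h3
  have hUf : IsFinite U.hom := U.prop.1
  have hUe : Etale U.hom := U.prop.2
  have hVf : IsFinite V.hom := V.prop.1
  have hVe : Etale V.hom := V.prop.2
  let P : Scheme.{u} := pullback U.hom i
  let h : P ⟶ Z := pullback.snd U.hom i
  let iP : P ⟶ U.left := pullback.fst U.hom i
  let jP : P ⟶ V.left := e.hom.left ≫ pullback.fst V.hom j
  have hX : IsPullback h iP i U.hom := (IsPullback.of_hasPullback U.hom i).flip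
  have hY : IsPullback h jP j V.hom := (isPullback_of_iso j V _ e).flip
  have hiP : IsClosedImmersion iP :=
    MorphismProperty.of_isPullback (P := @IsClosedImmersion) hX inferInstance
  have hjP : IsIntegralHom jP :=
    MorphismProperty.of_isPullback (P := @IsIntegralHom) hY inferInstance
  obtain ⟨T, aT, bT, hpoT, hT⟩ := hex iP jP hiP hjP (by
    intro v
    obtain ⟨O, hO, hO'⟩ := h3 (V.hom.base v)
    refine ⟨U.hom ⁻¹ᵁ O, hO.preimage U.hom, fun z hz => ?_⟩
    have h1 : j.base (h.base z) = V.hom.base v := by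
      rw [← hz, ← Scheme.Hom.comp_apply, ← Scheme.Hom.comp_apply, hY.w]
    have h2 := hO' _ h1
    change U.hom.base (iP.base z) ∈ O
    have h4 : U.hom.base (iP.base z) = i.base (h.base z) := by
      rw [← Scheme.Hom.comp_apply, ← Scheme.Hom.comp_apply, hX.w]
    rw [h4]
    exact h2)
  have hw : iP ≫ U.hom ≫ a' = jP ≫ V.hom ≫ b' := by
    rw [← Category.assoc, ← hX.w, ← Category.assoc, ← hY.w, Category.assoc, Category.assoc,
      hpo'.w]
  let k : T ⟶ W' := hpoT.desc (U.hom ≫ a') (V.hom ≫ b') hw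
  have hka : aT ≫ k = U.hom ≫ a' := hpoT.inl_desc _ _ _
  have hkb : bT ≫ k = V.hom ≫ b' := hpoT.inr_desc _ _ _
  obtain ⟨hkf, hke, h5, h6⟩ := main hst hT hX hY hka hkb
  let T' : FEt.Cat W' := MorphismProperty.Over.mk ⊤ k ⟨hkf, hke⟩
  let ε : W' ≅ W := hpo'.isoIsPushout _ _ hpo
  have ha : a ≫ ε.inv = a' := by simp [ε]
  have hb : b ≫ ε.inv = b' := by simp [ε]
  refine ⟨(FEt.restrict ε.inv).obj T', ⟨?_⟩, ⟨?_⟩⟩
  · exact ((restrictComp a ε.inv).symm ≪≫ restrictCongr ha).app T' ≪≫
      restrictIsoOfIsPullback a' T' U aT h5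
  · exact ((restrictComp b ε.inv).symm ≪≫ restrictCongr hb).app T' ≪≫
      restrictIsoOfIsPullback b' T' V bT h6

end Groth.Agent.Pi1C.PushEt
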