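import Groth.Agent.Pi1C.SectionsOverAffine

set_option autoImplicit false
universe u

open AlgebraicGeometry CategoryTheory CategoryTheory.Limits

namespace Groth.Agent.Pi1C.FEtExtend

/-- A cartesian square identifies a base change of finite etale covers. -/
noncomputable def isoOfIsPullback {X Y : Scheme.{u}} (f : X ⟶ Y) (V : FEt.Cat Y) (W : FEt.Cat X)
    (g : W.left ⟶ V.left) (h : IsPullback g W.hom V.hom f) : (FEt.restrict f).obj V ≅ W :=
  MorphismProperty.Over.isoMk h.isoPullback.symm (by exact h.isoPullback_inv_snd)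

/-- The isomorphism of schemes underlying an isomorphism of finite etale covers. -/
noncomputable def leftIso {X : Scheme.{u}} {V W : FEt.Cat X} (e : V ≅ W) : V.left ≅ W.left where
  hom := e.hom.left
  inv := e.inv.left
  hom_inv_id := by rw [← MorphismProperty.Comma.comp_left, e.hom_inv_id]; rfl
  inv_hom_id := by rw [← MorphismProperty.Comma.comp_left, e.inv_hom_id]; rfl

@[reassoc]
lemma left_w {X : Scheme.{u}} {V W : FEt.Cat X} (e : V ⟶ W) : e.left ≫ W.hom = V.hom := 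
  Over.w e.hom

lemma isPullback_of_iso {X Y : Scheme.{u}} (f : X ⟶ Y) (V : FEt.Cat Y) (W : FEt.Cat X)
    (e : (FEt.restrict f).obj V ≅ W) : 
    IsPullback (e.inv.left ≫ pullback.fst V.hom f) W.hom V.hom f := by
  have h1 := IsPullback.of_hasPullback V.hom f
  refine IsPullback.of_iso h1 (leftIso e) (Iso.refl _) (Iso.refl _) (Iso.refl _) ?_ ?_ ?_ ?_
  · change _ = (leftIso e).hom ≫ (leftIso e).inv ≫ _
    simp
  · exact (Category.comp_id _).trans (left_w e.hom).symm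
  · simp
  · simp

open Groth.Agent.Pi1C.SectionsOverAffine

variable {R : CommRingCat.{u}} 

instance quasiAffine (U : (Spec R).Opens) [CompactSpace U] : (U : Scheme.{u}).IsQuasiAffine :=
  .of_isImmersion U.ι

lemma isPullback_toSpecΓ (U : (Spec R).Opens) [CompactSpace U] (hU : IsIso U.ι.appTop)
    {V : Scheme.{u}} (q : V ⟶ U) [IsAffineHom q] :
    IsPullback V.toSpecΓ q (Spec.map (CommRingCat.ofHom (toΓ (q ≫ U.ι)))) U.ι := by
  have h1 := Scheme.isPullback_toSpecΓ_toSpecΓ q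
  refine IsPullback.of_iso h1.flip (Iso.refl _) (Iso.refl _) (Iso.refl _) 
    (asIso (Spec.map U.ι.appTop) ≪≫ asIso (Spec.map (Scheme.ΓSpecIso R).inv)) ?_ ?_ ?_ ?_
  · simp
  · simp
  · simp only [Iso.trans_hom, asIso_hom, Iso.refl_hom, Category.id_comp]
    rw [← Spec.map_comp, ← Spec.map_comp]
    congr 1
  · simp only [Iso.trans_hom, asIso_hom, Iso.refl_hom, Category.id_comp]
    rw [← Category.assoc, ← Scheme.toSpecΓ_naturality, Category.assoc, toSpecΓ_SpecMap_ΓSpecIso_inv, Category.comp_id]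

lemma ext_of_finite_etale (U : (Spec R).Opens) [CompactSpace U] (hU : IsIso U.ι.appTop) (V : FEt.Cat U)
    (h1 : (toΓ (V.hom ≫ U.ι)).Finite) (h2 : (toΓ (V.hom ≫ U.ι)).Etale) :
    ∃ Y : FEt.Cat (Spec R), Nonempty ((FEt.restrict U.ι).obj Y ≅ V) := by
  have : IsFinite V.hom := V.prop.1
  refine ⟨MorphismProperty.Over.mk _ (Spec.map (CommRingCat.ofHom (toΓ (V.hom ≫ U.ι)))) ⟨?_, ?_⟩, ⟨isoOfIsPullback _ _ _ V.left.toSpecΓ ?_⟩⟩
  · rwa [IsFinite.SpecMap_iff]
  · rwa [HasRingHomProperty.Spec_iff (P := @Etale)]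
  · exact isPullback_toSpecΓ U hU V.hom


lemma isIso_appTop_of_isPullback (U : (Spec R).Opens) [CompactSpace U] (hU : IsIso U.ι.appTop)
    {Y V : Scheme.{u}} (y : Y ⟶ Spec R) (q : V ⟶ U) (g : V ⟶ Y) (h : IsPullback g q y U.ι)
    [IsAffineHom y] [Flat y] : IsIso g.appTop := by
  have hY : IsAffine Y := isAffine_of_isAffineHom y
  have h1 : IsIso (pushoutSection h (UX := ⊤) (US := ⊤) (UT := ⊤) (UY := ⊤) le_top le_top (by simp)) :=
    isIso_pushoutSection_of_isQuasiSeparated_of_flat_left h _ _ _ (isAffineOpen_top _) (isAffineOpen_top _)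
      isCompact_univ isQuasiSeparated_univ
  rw [isIso_pushoutSection_iff] at h1
  have h2 : IsIso (U.ι.appLE ⊤ ⊤ le_top) := by
    have : U.ι.appLE ⊤ ⊤ le_top = U.ι.appTop := (Scheme.Hom.app_eq_appLE (f := U.ι) (U := ⊤)).symm
    rw [this]; exact hU
  have h3 : IsIso (g.appLE ⊤ ⊤ le_top) := h1.isIso_inl_of_isIso
  have : g.appLE ⊤ ⊤ le_top = g.appTop := (Scheme.Hom.app_eq_appLE (f := g) (U := ⊤)).symm
  rwa [← this]

lemma toΓ_comp {Y Z : Scheme.{u}} (g : Z ⟶ Y) (y : Y ⟶ Spec R) : toΓ (g ≫ y) = g.appTop.hom.comp (toΓ y) := by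
  simp [toΓ, RingHom.comp_assoc]

lemma finite_toΓ {Y : Scheme.{u}} (y : Y ⟶ Spec R) [IsFinite y] : (toΓ y).Finite :=
  RingHom.Finite.comp (Scheme.Hom.finite_appTop y) (RingHom.Finite.of_surjective _ 
    (ConcreteCategory.bijective_of_isIso (Scheme.ΓSpecIso R).inv).2)

lemma etale_toΓ {Y : Scheme.{u}} (y : Y ⟶ Spec R) [IsAffineHom y] [Etale y] : (toΓ y).Etale := by
  have hY : IsAffine Y := isAffine_of_isAffineHom y
  have h1 : y.appTop.hom.Etale := (HasRingHomProperty.iff_of_isAffine (P := @Etale)).mp inferInstance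
  have h2 := RingHom.Etale.respectsIso.2 y.appTop.hom (Scheme.ΓSpecIso R).symm.commRingCatIsoToRingEquiv h1
  exact h2

lemma finite_etale_of_ext (U : (Spec R).Opens) [CompactSpace U] (hU : IsIso U.ι.appTop) (V : FEt.Cat U)
    (Y : FEt.Cat (Spec R)) (e : (FEt.restrict U.ι).obj Y ≅ V) : 
    (toΓ (V.hom ≫ U.ι)).Finite ∧ (toΓ (V.hom ≫ U.ι)).Etale := by
  have h := isPullback_of_iso U.ι Y V e
  have : IsFinite Y.hom := Y.prop.1
  have : Etale Y.hom := Y.prop.2
  have h2 := isIso_appTop_of_isPullback U hU _ _ _ h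
  rw [← h.w, toΓ_comp]
  generalize hg : Scheme.Hom.appTop (e.inv.left ≫ pullback.fst Y.hom U.ι) = g at h2
  exact ⟨RingHom.Finite.comp (RingHom.Finite.of_surjective _ 
    (ConcreteCategory.bijective_of_isIso (C := CommRingCat) g).2) (finite_toΓ _), 
    RingHom.Etale.respectsIso.1 _ (asIso g).commRingCatIsoToRingEquiv (etale_toΓ Y.hom)⟩

lemma ext_iff (U : (Spec R).Opens) [CompactSpace U] (hU : IsIso U.ι.appTop) (V : FEt.Cat U) :
    (∃ Y : FEt.Cat (Spec R), Nonempty ((FEt.restrict U.ι).obj Y ≅ V)) ↔ 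
    (toΓ (V.hom ≫ U.ι)).Finite ∧ (toΓ (V.hom ≫ U.ι)).Etale := 
  ⟨fun ⟨Y, ⟨e⟩⟩ => finite_etale_of_ext U hU V Y e, fun h => ext_of_finite_etale U hU V h.1 h.2⟩

end Groth.Agent.Pi1C.FEtExtend
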