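import Mathlib.AlgebraicGeometry.Morphisms.Etale
import Mathlib.AlgebraicGeometry.Morphisms.WeaklyEtale
import Mathlib.RingTheory.Unramified.LocalRing
import Mathlib.FieldTheory.IsSepClosed
import Groth.Agent.Hensel.LocalEtale

/-!
# Lifting strictly local points along etale morphisms

* `exists_algHom_of_comap_eq` : `A₀ → C₀` étale, `A₀ → R` with `R` strictly henselian, `q` a prime of
  `C₀` over the contraction of `m_R`. Then there is an `A₀`-algebra map `C₀ → R` with `m_R ∩ C₀ = q`.
* `exists_lift_of_etale`: `f : T ⟶ X` étale, `s : Spec R ⟶ X` with `R` strictly henselian, `y : T` a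
  point over the image of the closed point. Then `s` lifts to `t : Spec R ⟶ T` with `t(closed) = y`.
-/

set_option autoImplicit false

universe u

open AlgebraicGeometry CategoryTheory TopologicalSpace

namespace Groth.Agent.Pi1C.StrictHensPoint

theorem exists_algHom_of_comap_eq (A₀ C₀ R : Type u) [CommRing A₀] [CommRing C₀] [CommRing R]
    [HenselianLocalRing R] [IsSepClosed (IsLocalRing.ResidueField R)] [Algebra A₀ R] [Algebra A₀ C₀]
    [Algebra.Etale A₀ C₀] (q : Ideal C₀) [q.IsPrime]
    (hq : q.comap (algebraMap A₀ C₀) = (IsLocalRing.maximalIdeal R).comap (algebraMap A₀ R)) :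
    ∃ g : C₀ →ₐ[A₀] R, (IsLocalRing.maximalIdeal R).comap g.toRingHom = q := by
  let p : Ideal A₀ := q.under A₀
  have hp : p = (IsLocalRing.maximalIdeal R).comap (algebraMap A₀ R) := hq
  let φ : p.ResidueField →+* IsLocalRing.ResidueField R :=
    Ideal.ResidueField.lift p ((IsLocalRing.residue R).comp (algebraMap A₀ R))
      (by
        intro a ha
        rw [hp] at ha
        rw [RingHom.mem_ker, RingHom.comp_apply, IsLocalRing.residue_eq_zero_iff]
        exact ha)
      (by
        intro a ha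
        change IsUnit _
        rw [isUnit_iff_ne_zero, ne_eq, RingHom.comp_apply, IsLocalRing.residue_eq_zero_iff]
        intro h
        apply ha
        change a ∈ p
        rw [hp]
        exact h)
  let : Algebra p.ResidueField (IsLocalRing.ResidueField R) := φ.toAlgebra
  have : IsScalarTower A₀ p.ResidueField (IsLocalRing.ResidueField R) := by
    refine IsScalarTower.of_algebraMap_eq' ?_
    ext a
    change _ = φ (algebraMap A₀ _ a)
    rw [Ideal.ResidueField.lift_algebraMap]
    rfl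
  let := Localization.AtPrime.algebraOfLiesOver p q
  have : Algebra.IsUnramifiedAt A₀ q := inferInstance
  have : Algebra.IsSeparable p.ResidueField q.ResidueField := inferInstance
  let τ : q.ResidueField →ₐ[p.ResidueField] IsLocalRing.ResidueField R := IsSepClosed.lift
  let τ' : q.ResidueField →ₐ[A₀] IsLocalRing.ResidueField R := τ.restrictScalars A₀
  let σ : C₀ →ₐ[A₀] IsLocalRing.ResidueField R := τ'.comp (IsScalarTower.toAlgHom A₀ C₀ q.ResidueField)
  obtain ⟨g, hg⟩ := Groth.Agent.Hensel.LocalEtale.exists_algHom_of_residueField σ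
  refine ⟨g, ?_⟩
  ext a
  change g a ∈ IsLocalRing.maximalIdeal R ↔ a ∈ q
  rw [← IsLocalRing.residue_eq_zero_iff, hg]
  change τ (algebraMap C₀ q.ResidueField a) = 0 ↔ _
  rw [map_eq_zero_iff τ τ.injective, Ideal.algebraMap_residueField_eq_zero]

theorem exists_lift_of_etale {X T : Scheme.{u}} (f : T ⟶ X) [Etale f] (y : T) (R : Type u)
    [CommRing R] [HenselianLocalRing R] [IsSepClosed (IsLocalRing.ResidueField R)]
    (s : Spec (CommRingCat.of R) ⟶ X) (hs : s (IsLocalRing.closedPoint R) = f y) :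
    ∃ t : Spec (CommRingCat.of R) ⟶ T, t ≫ f = s ∧ t (IsLocalRing.closedPoint R) = y := by
  obtain ⟨N, hN, hyN, -⟩ := exists_isAffineOpen_mem_and_subset (X := X) (U := ⊤) (x := f y) trivial
  obtain ⟨M, hM, hyM, hMN⟩ := exists_isAffineOpen_mem_and_subset (X := T) (U := f ⁻¹ᵁ N) (x := y) hyN
  replace hMN : M ≤ f ⁻¹ᵁ N := hMN
  have hrange : Set.range s ⊆ Set.range hN.fromSpec := by
    rw [hN.range_fromSpec]
    rintro _ ⟨z, rfl⟩
    have h1 : IsLocalRing.closedPoint R ∈ s ⁻¹ᵁ N := by
      change s (IsLocalRing.closedPoint R) ∈ N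
      rw [hs]; exact hyN
    have h2 : z ∈ s ⁻¹ᵁ N :=
      (IsLocalRing.specializes_closedPoint z).mem_open (s ⁻¹ᵁ N).isOpen h1
    exact h2
  let s' : Spec (CommRingCat.of R) ⟶ Spec Γ(X, N) := IsOpenImmersion.lift hN.fromSpec s hrange
  have hs' : s' ≫ hN.fromSpec = s := IsOpenImmersion.lift_fac _ _ _
  obtain ⟨φ, hφ⟩ := Spec.map_surjective s'
  let : Algebra Γ(X, N) R := φ.hom.toAlgebra
  let : Algebra Γ(X, N) Γ(T, M) := (f.appLE N M hMN).hom.toAlgebra
  have het : (f.appLE N M hMN).hom.Etale :=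
    HasRingHomProperty.appLE @Etale f inferInstance ⟨N, hN⟩ ⟨M, hM⟩ hMN
  have : Algebra.Etale Γ(X, N) Γ(T, M) := het
  let q : Spec Γ(T, M) := hM.primeIdealOf ⟨y, hyM⟩
  have hqy : hM.fromSpec q = y := hM.fromSpec_primeIdealOf ⟨y, hyM⟩
  have hqcomap : q.asIdeal.comap (algebraMap Γ(X, N) Γ(T, M)) =
      (IsLocalRing.maximalIdeal R).comap (algebraMap Γ(X, N) R) := by
    have h1 : hN.fromSpec (Spec.map (f.appLE N M hMN) q) = hN.fromSpec (s' (IsLocalRing.closedPoint R)) := by
      have e1 : hN.fromSpec (Spec.map (f.appLE N M hMN) q) = (Spec.map (f.appLE N M hMN) ≫ hN.fromSpec) q := rfl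
      have e2 : hN.fromSpec (s' (IsLocalRing.closedPoint R)) = (s' ≫ hN.fromSpec) (IsLocalRing.closedPoint R) := rfl
      rw [e1, e2, IsAffineOpen.SpecMap_appLE_fromSpec _ hN hM hMN, hs', hs, Scheme.Hom.comp_apply, hqy]
    have h2 := hN.fromSpec.isOpenEmbedding.injective h1
    rw [← hφ] at h2
    exact congrArg PrimeSpectrum.asIdeal h2
  obtain ⟨g, hg⟩ := exists_algHom_of_comap_eq Γ(X, N) Γ(T, M) R q.asIdeal hqcomap
  refine ⟨Spec.map (CommRingCat.ofHom g.toRingHom) ≫ hM.fromSpec, ?_, ?_⟩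
  · rw [Category.assoc, ← IsAffineOpen.SpecMap_appLE_fromSpec _ hN hM hMN, ← Category.assoc,
      ← Spec.map_comp, ← hs', ← hφ]
    congr 2
    ext a
    exact g.commutes a
  · change hM.fromSpec (Spec.map (CommRingCat.ofHom g.toRingHom) (IsLocalRing.closedPoint R)) = y
    have : Spec.map (CommRingCat.ofHom g.toRingHom) (IsLocalRing.closedPoint R) = q :=
      PrimeSpectrum.ext hg
    rw [this, hqy]

end Groth.Agent.Pi1C.StrictHensPoint
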