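import Groth.Agent.Pi1C.IndEtaleWE
import Groth.Agent.Hensel.Lazard

/-!
# Strict henselizations are ind-etale (Lazard form) and weakly etale
-/

set_option autoImplicit false

universe u

namespace Groth.Agent.Pi1C.StrictHensWE

theorem lazard_of_isStrictHenselization (A R : Type u) [CommRing A] [IsLocalRing A] [CommRing R]
    [IsLocalRing R] [Algebra A R] [IsLocalHom (algebraMap A R)] [Hensel.IsStrictHenselization A R] :
    Groth.Agent.Pi1C.IndEtaleWE.Lazard A R :=
  Groth.Agent.Hensel.Lazard.laz_of_isStrictHenselization A R

theorem weaklyEtale_of_isStrictHenselization (A R : Type u) [CommRing A] [IsLocalRing A] [CommRing R]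
    [IsLocalRing R] [Algebra A R] [IsLocalHom (algebraMap A R)] [Hensel.IsStrictHenselization A R] :
    Algebra.WeaklyEtale A R :=
  Groth.Agent.Pi1C.IndEtaleWE.weaklyEtale_of_lazard (lazard_of_isStrictHenselization A R)

end Groth.Agent.Pi1C.StrictHensWE
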