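import Groth.Prelude.Def_FEt
import Groth.Prelude.Def_Hens2
import Groth.Agent.Pi1C.StrictHensWE
import Groth.Agent.Pi1C.StrictHensPoint
import Groth.Agent.S0538
import Mathlib.AlgebraicGeometry.Morphisms.UniversallyOpen

/-!
# Generizations of a point of an etale scheme via the strict henselization
-/

set_option autoImplicit false

universe u

open AlgebraicGeometry CategoryTheory CategoryTheory.Limits TopologicalSpace

namespace Groth.Agent.Pi1C.StrictHensConn

section

variable (X : Scheme.{u}) (x : X) (R : Type u) [CommRing R] [IsLocalRing R]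
  [Algebra (X.presheaf.stalk x) R] [IsLocalHom (algebraMap (X.presheaf.stalk x) R)]

theorem specOf_closedPoint : Hens2.specOf X x R (IsLocalRing.closedPoint R) = x := by
  have h1 : Spec.map (CommRingCat.ofHom (algebraMap (X.presheaf.stalk x) R)) (IsLocalRing.closedPoint R) =
      IsLocalRing.closedPoint (X.presheaf.stalk x) := by
    exact IsLocalRing.comap_closedPoint (algebraMap (X.presheaf.stalk x) R)
  change X.fromSpecStalk x (Spec.map (CommRingCat.ofHom (algebraMap (X.presheaf.stalk x) R))
    (IsLocalRing.closedPoint R)) = x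
  rw [h1]
  exact Scheme.fromSpecStalk_closedPoint

theorem eq_closedPoint_of_specOf_eq [Hensel.IsStrictHenselization (X.presheaf.stalk x) R]
    (r : Spec (CommRingCat.of R)) (hr : Hens2.specOf X x R r = x) : r = IsLocalRing.closedPoint R := by
  have h1 : X.fromSpecStalk x (Spec.map (CommRingCat.ofHom (algebraMap (X.presheaf.stalk x) R)) r) = x := hr
  have h2 : Spec.map (CommRingCat.ofHom (algebraMap (X.presheaf.stalk x) R)) r =
      IsLocalRing.closedPoint (X.presheaf.stalk x) := by
    apply (X.fromSpecStalk x).isEmbedding.injective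
    rw [h1]
    exact Scheme.fromSpecStalk_closedPoint.symm
  have h3 : r.asIdeal.comap (algebraMap (X.presheaf.stalk x) R) =
      IsLocalRing.maximalIdeal (X.presheaf.stalk x) := congrArg PrimeSpectrum.asIdeal h2
  have h4 : IsLocalRing.maximalIdeal R ≤ r.asIdeal := by
    rw [← Groth.Agent.S0538.result (X.presheaf.stalk x) R, Ideal.map_le_iff_le_comap, h3]
  apply PrimeSpectrum.ext
  exact ((IsLocalRing.maximalIdeal.isMaximal R).eq_of_le r.isPrime.ne_top h4).symm

/-- A flat `X`-morphism `t : Spec R ⟶ T` from a strictly local ring at `x ∉ U` hits exactly the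
generizations of `t(closed)`; the ones lying over `U` are the image of the punctured spectrum. -/
theorem setOf_specializes_eq_image {X T : Scheme.{u}} (f : T ⟶ X) (U : X.Opens)
    (hcl : ∀ x : X, x ∉ U → IsClosed ({x} : Set X)) (x : X) (hx : x ∉ U) (R : Type u) [CommRing R]
    [IsLocalRing R] [Algebra (X.presheaf.stalk x) R] [IsLocalHom (algebraMap (X.presheaf.stalk x) R)]
    [Hensel.IsStrictHenselization (X.presheaf.stalk x) R]
    (t : Spec (CommRingCat.of R) ⟶ T) [Flat t] (ht : t ≫ f = Hens2.specOf X x R) :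
    {z : T | f z ∈ U ∧ z ⤳ t (IsLocalRing.closedPoint R)} = t '' (FEt.puncturedSpec R) := by
  have hfc : f (t (IsLocalRing.closedPoint R)) = x := by
    have : f (t (IsLocalRing.closedPoint R)) = (t ≫ f) (IsLocalRing.closedPoint R) := rfl
    rw [this, ht, specOf_closedPoint]
  ext z
  constructor
  · rintro ⟨hz1, hz2⟩
    obtain ⟨r, hr, rfl⟩ := Flat.generalizingMap t hz2
    refine ⟨r, ?_, rfl⟩
    change r ≠ IsLocalRing.closedPoint R
    rintro rfl
    rw [hfc] at hz1
    exact hx hz1
  · rintro ⟨r, hr, rfl⟩
    have hr' : r ≠ IsLocalRing.closedPoint R := hr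
    have hsp : r ⤳ IsLocalRing.closedPoint R := IsLocalRing.specializes_closedPoint r
    refine ⟨?_, hsp.map t.continuous⟩
    by_contra hU
    have h1 : f (t r) ⤳ f (t (IsLocalRing.closedPoint R)) := (hsp.map t.continuous).map f.continuous
    have h2 := (hcl _ hU).closure_eq ▸ h1.mem_closure
    rw [hfc] at h2
    have h3 : Hens2.specOf X x R r = x := by
      rw [← ht]
      exact (Set.mem_singleton_iff.mp h2).symm
    exact hr' (eq_closedPoint_of_specOf_eq X x R r h3)

theorem flat_fromSpecStalk (X : Scheme.{u}) (x : X) : Flat (X.fromSpecStalk x) := by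
  obtain ⟨N, hN, hxN, -⟩ := exists_isAffineOpen_mem_and_subset (X := X) (U := ⊤) (x := x) trivial
  rw [← hN.fromSpecStalk_eq_fromSpecStalk hxN, IsAffineOpen.fromSpecStalk]
  have h1 : Flat (Spec.map (X.presheaf.germ N x hxN)) := by
    rw [Flat.SpecMap_iff]
    let _ : Algebra Γ(X, N) (X.presheaf.stalk x) := (X.presheaf.germ N x hxN).hom.toAlgebra
    have := hN.isLocalization_stalk ⟨x, hxN⟩
    change Module.Flat Γ(X, N) (X.presheaf.stalk x)
    exact IsLocalization.flat _ (hN.primeIdealOf ⟨x, hxN⟩).asIdeal.primeCompl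
  infer_instance

theorem weaklyEtale_fromSpecStalk (X : Scheme.{u}) (x : X) : WeaklyEtale (X.fromSpecStalk x) where
  flat := flat_fromSpecStalk X x
  flat_diagonal := inferInstance

theorem weaklyEtale_specOf (X : Scheme.{u}) (x : X) (R : Type u) [CommRing R] [IsLocalRing R]
    [Algebra (X.presheaf.stalk x) R] [IsLocalHom (algebraMap (X.presheaf.stalk x) R)]
    [Hensel.IsStrictHenselization (X.presheaf.stalk x) R] : WeaklyEtale (Hens2.specOf X x R) := by
  have h1 : Algebra.WeaklyEtale (X.presheaf.stalk x) R :=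
    Groth.Agent.Pi1C.StrictHensWE.weaklyEtale_of_isStrictHenselization _ _
  have h2 : WeaklyEtale (Spec.map (CommRingCat.ofHom (algebraMap (X.presheaf.stalk x) R))) := by
    refine ⟨?_, ?_⟩
    · rw [Flat.SpecMap_iff]
      exact (RingHom.flat_algebraMap_iff).mpr h1.flat
    · rw [diagonal_SpecMap]
      have h2 : Flat (Spec.map (CommRingCat.ofHom (Algebra.TensorProduct.lmul' (X.presheaf.stalk x) :
          TensorProduct (X.presheaf.stalk x) R R →ₐ[X.presheaf.stalk x] R).toRingHom)) := by
        rw [Flat.SpecMap_iff]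
        exact h1.flat_lmul'
      infer_instance
  have h3 := weaklyEtale_fromSpecStalk X x
  infer_instance

end

end Groth.Agent.Pi1C.StrictHensConn
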