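import Groth.Agent.Pi1A.ClopenCrit
import Groth.Agent.Sga2.IdemClopen
import Mathlib.RingTheory.Etale.Pi
import Mathlib.AlgebraicGeometry.Limits

/-!
# Idempotent criterion for (full) faithfulness of `FEt.restrict f`, and its converse

For `T` finite etale over `S` compare idempotents of `Γ(T)` with those of `Γ(T ×_S X)`.
-/

set_option autoImplicit false

universe u

open CategoryTheory CategoryTheory.Limits AlgebraicGeometry

namespace Groth.Agent.Pi1C.IdemCrit

open Groth.Agent.Sga2.IdemClopen Groth.Agent.Pi1A.ClopenCrit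

/-! ### idempotents and clopen subsets -/

theorem isClopen_basicOpen {Z : Scheme.{u}} {e : Γ(Z, ⊤)} (he : e * e = e) :
    IsClopen (Z.basicOpen e : Set Z) := by
  refine ⟨?_, (Z.basicOpen e).isOpen⟩
  have : (Z.basicOpen e : Set Z) = (Z.basicOpen (1 - e) : Set Z)ᶜ := by
    ext x
    have h1 : x ∈ Z.basicOpen e ⊔ Z.basicOpen (1 - e) := by rw [basicOpen_sup]; trivial
    constructor
    · intro hx hx'
      have : x ∈ Z.basicOpen e ⊓ Z.basicOpen (1 - e) := ⟨hx, hx'⟩
      rw [basicOpen_inf he] at this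
      exact this.elim
    · intro hx
      rcases h1 with h1 | h1
      · exact h1
      · exact (hx h1).elim
  rw [this]
  exact (Z.basicOpen (1 - e)).isOpen.isClosed_compl

theorem eq_zero_of_basicOpen_eq_bot {Z : Scheme.{u}} {e : Γ(Z, ⊤)} (he : e * e = e)
    (h : Z.basicOpen e = ⊥) : e = 0 :=
  (isInd_of_idem he).eq_zero (basicOpen_sup e) h

theorem exists_idem_of_isClopen {Z : Scheme.{u}} {U : Set Z} (hU : IsClopen U) :
    ∃ e : Γ(Z, ⊤), e * e = e ∧ (Z.basicOpen e : Set Z) = U := by
  let V : Z.Opens := ⟨U, hU.isOpen⟩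
  let W : Z.Opens := ⟨Uᶜ, hU.compl.isOpen⟩
  have hVW : V ⊔ W = ⊤ := by
    ext x
    exact iff_of_true (em (x ∈ U)) trivial
  have hVW' : V ⊓ W = ⊥ := by
    ext x
    exact ⟨fun hx => hx.2 hx.1, fun hx => hx.elim⟩
  obtain ⟨e, he⟩ := exists_isInd hVW hVW'
  exact ⟨e, he.idem hVW, congrArg (fun Q : Z.Opens => (Q : Set Z)) (he.basicOpen_eq hVW)⟩

theorem idem_ext {Z : Scheme.{u}} {e e' : Γ(Z, ⊤)} (he : e * e = e) (he' : e' * e' = e')
    (h : (Z.basicOpen e : Set Z) = Z.basicOpen e') : e = e' := by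
  have h1 : Z.basicOpen e = Z.basicOpen e' := TopologicalSpace.Opens.ext h
  have h2 := isInd_of_idem he
  have h3 := isInd_of_idem he'
  refine IsInd.unique (basicOpen_sup e) h2 ?_
  have h4 : Z.basicOpen (1 - e) = Z.basicOpen (1 - e') := by
    have h5 : Z.basicOpen (1 - e) = Z.basicOpen (1 - e) ⊓ (Z.basicOpen e' ⊔ Z.basicOpen (1 - e')) := by
      rw [basicOpen_sup, inf_top_eq]
    have h6 : Z.basicOpen (1 - e') = Z.basicOpen (1 - e') ⊓ (Z.basicOpen e ⊔ Z.basicOpen (1 - e)) := by
      rw [basicOpen_sup, inf_top_eq]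
    rw [inf_sup_left, ← h1, inf_comm, basicOpen_inf he, bot_sup_eq] at h5
    rw [inf_sup_left, h1, inf_comm (Z.basicOpen (1 - e')), basicOpen_inf he', bot_sup_eq] at h6
    rw [h5, h6, inf_comm]
    have h7 : Z.basicOpen (1 - e') ⊓ Z.basicOpen (1 - e) = Z.basicOpen (1 - e') := h6.symm
    rw [inf_assoc, inf_idem]
  rw [h1, h4]
  exact h3

/-! ### forward criterion -/

/-- **Idempotent criterion.** -/
theorem restrict_fullyFaithful_of_idem {X S : Scheme.{u}} (f : X ⟶ S)
    (h1 : ∀ (T : FEt.Cat S) (e : Γ(T.left, ⊤)), e * e = e →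
      (pullback.fst T.hom f).appTop e = 0 → e = 0)
    (h2 : ∀ (T : FEt.Cat S) (e : Γ(pullback T.hom f, ⊤)), e * e = e →
      ∃ e' : Γ(T.left, ⊤), e' * e' = e' ∧ (pullback.fst T.hom f).appTop e' = e) :
    (FEt.restrict f).Full ∧ (FEt.restrict f).Faithful := by
  apply restrict_fullyFaithful_of_isClopen
  · intro T U hU hU0
    obtain ⟨e, he, rfl⟩ := exists_idem_of_isClopen hU
    have h3 : (pullback.fst T.hom f).appTop e = 0 := by
      apply eq_zero_of_basicOpen_eq_bot
      · rw [← map_mul, he]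
      · rw [← Scheme.preimage_basicOpen_top]
        exact TopologicalSpace.Opens.ext hU0
    rw [h1 T e he h3, Scheme.basicOpen_zero]
    rfl
  · intro T V hV
    obtain ⟨e, he, rfl⟩ := exists_idem_of_isClopen hV
    obtain ⟨e', he', rfl⟩ := h2 T e he
    refine ⟨_, isClopen_basicOpen he', ?_⟩
    rw [← Scheme.preimage_basicOpen_top]
    rfl

/-! ### converse -/

/-- the ring `ℤ × ℤ` (in universe `u`) -/
abbrev Z2 : Type u := Bool → ULift.{u} ℤ

/-- its idempotent `(1, 0)` -/
def ε : Z2.{u} := Pi.single true 1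

theorem eps_mul : ε.{u} * ε = ε := by
  unfold ε
  rw [← Pi.single_mul, one_mul]

/-- the ring map out of `ℤ × ℤ` defined by an idempotent -/
def ringHom {R : Type u} [CommRing R] (e : R) (he : e * e = e) : Z2.{u} →+* R where
  toFun a := (a true).down • e + (a false).down • (1 - e)
  map_one' := by simp
  map_zero' := by simp
  map_add' a b := by simp [add_smul]; abel
  map_mul' a b := by
    have h1 : e * (1 - e) = 0 := by rw [mul_sub, he, mul_one, sub_self]
    have h2 : (1 - e) * (1 - e) = 1 - e := by rw [sub_mul, one_mul, h1, sub_zero]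
    have h3 : (1 - e) * e = 0 := by rw [mul_comm, h1]
    simp only [Pi.mul_apply, ULift.mul_down, zsmul_eq_mul, Int.cast_mul]
    calc _ = ((a true).down : R) * ((b true).down : R) * (e * e) + ((a true).down : R) * ((b false).down : R) * (e * (1 - e))
          + ((a false).down : R) * ((b true).down : R) * ((1 - e) * e)
          + ((a false).down : R) * ((b false).down : R) * ((1 - e) * (1 - e)) := by
            rw [he, h1, h2, h3]; ring
      _ = _ := by ring

@[simp] theorem ringHom_eps {R : Type u} [CommRing R] (e : R) (he : e * e = e) : ringHom e he ε = e := by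
  simp [ringHom, ε]

theorem ringHom_ext {R : Type u} [CommRing R] {φ ψ : Z2.{u} →+* R} (h : φ ε = ψ ε) : φ = ψ := by
  refine RingHom.ext fun a => ?_
  have h1 : a = (a true).down • ε + (a false).down • (1 - ε) := by
    funext b
    cases b
    · simp [ε]
      apply ULift.ext
      simp
    · simp [ε]
      apply ULift.ext
      simp
  rw [h1]
  simp only [map_add, map_zsmul, map_sub, map_one, h]

/-- the scheme `Spec (ℤ × ℤ)` -/
noncomputable abbrev E : Scheme.{u} := Spec (CommRingCat.of Z2.{u})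

/-- The structure map. -/
noncomputable abbrev toZ : E.{u} ⟶ Spec (CommRingCat.of (ULift.{u} ℤ)) :=
  Spec.map (CommRingCat.ofHom (algebraMap (ULift.{u} ℤ) Z2.{u}))

instance : IsFinite toZ.{u} := by
  rw [IsFinite.SpecMap_iff]
  exact RingHom.finite_algebraMap.mpr inferInstance

instance : Etale toZ.{u} := by
  rw [HasRingHomProperty.Spec_iff (P := @Etale)]
  change (algebraMap (ULift.{u} ℤ) Z2.{u}).Etale
  rw [RingHom.etale_algebraMap]
  infer_instance

/-- The idempotent function attached to a map to `E`. -/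
noncomputable def idemOf {T : Scheme.{u}} (g : T ⟶ E.{u}) : Γ(T, ⊤) :=
  g.appTop ((Scheme.ΓSpecIso (CommRingCat.of Z2.{u})).inv ε)

theorem idemOf_idem {T : Scheme.{u}} (g : T ⟶ E.{u}) : idemOf g * idemOf g = idemOf g := by
  unfold idemOf
  rw [← map_mul, ← map_mul, eps_mul]

theorem idemOf_comp {T T' : Scheme.{u}} (h : T' ⟶ T) (g : T ⟶ E.{u}) :
    idemOf (h ≫ g) = h.appTop (idemOf g) := by
  unfold idemOf
  rw [Scheme.Hom.comp_appTop]
  rfl

/-- The map to `E` attached to an idempotent. -/
noncomputable def ofIdem {T : Scheme.{u}} (e : Γ(T, ⊤)) (he : e * e = e) : T ⟶ E.{u} :=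
  T.toSpecΓ ≫ Spec.map (CommRingCat.ofHom (ringHom e he))

theorem idemOf_ofIdem {T : Scheme.{u}} (e : Γ(T, ⊤)) (he : e * e = e) : idemOf (ofIdem e he) = e := by
  unfold idemOf ofIdem
  have h1 : (T.toSpecΓ ≫ Spec.map (CommRingCat.ofHom (ringHom e he))).appTop =
      (Scheme.ΓSpecIso (CommRingCat.of Z2.{u})).hom ≫ CommRingCat.ofHom (ringHom e he) := by
    rw [Scheme.Hom.comp_appTop, Scheme.toSpecΓ_appTop]
    exact (Scheme.ΓSpecIso_naturality _)
  rw [h1]
  simp

theorem hom_ext {T : Scheme.{u}} {g h : T ⟶ E.{u}} (H : idemOf g = idemOf h) : g = h := by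
  apply ext_of_isAffine
  have h1 : (Scheme.ΓSpecIso (CommRingCat.of Z2.{u})).inv ≫ g.appTop =
      (Scheme.ΓSpecIso (CommRingCat.of Z2.{u})).inv ≫ h.appTop := by
    ext1
    exact ringHom_ext H
  exact (cancel_epi _).1 h1

/-- The trivial double cover, as an object of `FEt.Cat S`. -/
noncomputable def E' (S : Scheme.{u}) : FEt.Cat S :=
  MorphismProperty.Over.mk _ (pullback.fst (specULiftZIsTerminal.from S) toZ.{u})
    ⟨inferInstance, inferInstance⟩

/-- map to the trivial double cover given by an idempotent -/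
noncomputable def toE' {S : Scheme.{u}} {T : Scheme.{u}} (t : T ⟶ S) (g : T ⟶ E.{u}) :
    T ⟶ (E' S).left :=
  pullback.lift t g (specULiftZIsTerminal.hom_ext _ _)

@[simp] theorem toE'_hom {S : Scheme.{u}} {T : Scheme.{u}} (t : T ⟶ S) (g : T ⟶ E.{u}) :
    toE' t g ≫ (E' S).hom = t := pullback.lift_fst _ _ _

/-- projection from the trivial double cover -/
noncomputable def sndE (S : Scheme.{u}) : (E' S).left ⟶ E.{u} :=
  pullback.snd (specULiftZIsTerminal.from S) toZ.{u}

theorem toE'_snd {S : Scheme.{u}} {T : Scheme.{u}} (t : T ⟶ S) (g : T ⟶ E.{u}) :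
    toE' t g ≫ sndE S = g := pullback.lift_snd _ _ _

section Converse

variable {X S : Scheme.{u}} (f : X ⟶ S)

/-- If `FEt.restrict f` is faithful, idempotents of `Γ(T)` are determined by their image in `Γ(T ×_S X)`. -/
theorem idem_eq_of_faithful [(FEt.restrict f).Faithful] (T : FEt.Cat S) (e e' : Γ(T.left, ⊤))
    (he : e * e = e) (he' : e' * e' = e')
    (h : (pullback.fst T.hom f).appTop e = (pullback.fst T.hom f).appTop e') : e = e' := by
  let a : T ⟶ E' S := MorphismProperty.Over.homMk (toE' (S := S) T.hom (ofIdem e he)) (toE'_hom _ _)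
  let b : T ⟶ E' S := MorphismProperty.Over.homMk (toE' (S := S) T.hom (ofIdem e' he')) (toE'_hom _ _)
  have hab : (FEt.restrict f).map a = (FEt.restrict f).map b := by
    apply MorphismProperty.Over.Hom.ext
    apply pullback.hom_ext
    · have ha : ((FEt.restrict f).map a).left ≫ pullback.fst (E' S).hom f =
        pullback.fst T.hom f ≫ a.left := pullback.lift_fst _ _ _
      have hb : ((FEt.restrict f).map b).left ≫ pullback.fst (E' S).hom f =
        pullback.fst T.hom f ≫ b.left := pullback.lift_fst _ _ _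
      refine ha.trans (Eq.trans ?_ hb.symm)
      apply pullback.hom_ext
      · change (pullback.fst T.hom f ≫ toE' (S := S) T.hom (ofIdem e he)) ≫ (E' S).hom =
          (pullback.fst T.hom f ≫ toE' (S := S) T.hom (ofIdem e' he')) ≫ (E' S).hom
        simp
      · change (pullback.fst T.hom f ≫ toE' (S := S) T.hom (ofIdem e he)) ≫ sndE S =
          (pullback.fst T.hom f ≫ toE' (S := S) T.hom (ofIdem e' he')) ≫ sndE S
        rw [Category.assoc, Category.assoc, toE'_snd, toE'_snd]
        apply hom_ext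
        rw [idemOf_comp, idemOf_comp, idemOf_ofIdem, idemOf_ofIdem, h]
    · have ha : ((FEt.restrict f).map a).left ≫ pullback.snd (E' S).hom f = pullback.snd T.hom f :=
        w ((FEt.restrict f).map a)
      have hb : ((FEt.restrict f).map b).left ≫ pullback.snd (E' S).hom f = pullback.snd T.hom f :=
        w ((FEt.restrict f).map b)
      exact ha.trans hb.symm
  have hab' := (FEt.restrict f).map_injective hab
  have h1 : toE' (S := S) T.hom (ofIdem e he) = toE' (S := S) T.hom (ofIdem e' he') := congrArg (fun t => t.left) hab'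
  have h2 := congrArg (fun t => t ≫ sndE S) h1
  change toE' (S := S) T.hom (ofIdem e he) ≫ sndE S = toE' (S := S) T.hom (ofIdem e' he') ≫ sndE S at h2
  rw [toE'_snd, toE'_snd] at h2
  have h3 := congrArg idemOf h2
  rwa [idemOf_ofIdem, idemOf_ofIdem] at h3

/-- If `FEt.restrict f` is full, idempotents of `Γ(T ×_S X)` lift to idempotents of `Γ(T)`. -/
theorem exists_idem_of_full [(FEt.restrict f).Full] (T : FEt.Cat S) (e : Γ(pullback T.hom f, ⊤))
    (he : e * e = e) : ∃ e' : Γ(T.left, ⊤), e' * e' = e' ∧ (pullback.fst T.hom f).appTop e' = e := by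
  let φ : (FEt.restrict f).obj T ⟶ (FEt.restrict f).obj (E' S) :=
    MorphismProperty.Over.homMk
      (pullback.lift (toE' (S := S) (pullback.fst T.hom f ≫ T.hom) (ofIdem e he)) (pullback.snd T.hom f)
        (by rw [toE'_hom]; exact pullback.condition)) (pullback.lift_snd _ _ _)
  obtain ⟨a, ha⟩ := (FEt.restrict f).map_surjective φ
  let g : T.left ⟶ E.{u} := a.left ≫ sndE S
  refine ⟨idemOf g, idemOf_idem g, ?_⟩
  rw [← idemOf_comp]
  have h1 : pullback.fst T.hom f ≫ a.left = toE' (S := S) (pullback.fst T.hom f ≫ T.hom) (ofIdem e he) := by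
    have h2 : ((FEt.restrict f).map a).left ≫ pullback.fst (E' S).hom f =
        pullback.fst T.hom f ≫ a.left := pullback.lift_fst _ _ _
    rw [← h2, ha]
    exact pullback.lift_fst _ _ _
  have h3 : pullback.fst T.hom f ≫ g = ofIdem e he := by
    change pullback.fst T.hom f ≫ a.left ≫ sndE S = _
    rw [← Category.assoc, h1, toE'_snd]
  rw [h3, idemOf_ofIdem]

end Converse

end Groth.Agent.Pi1C.IdemCrit
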