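import Groth.Prelude.Def_CAlg
import Mathlib.RingTheory.KrullDimension.NonZeroDivisors
import Mathlib.RingTheory.KrullDimension.Module
import Mathlib.RingTheory.Ideal.KrullsHeightTheorem
import Mathlib.RingTheory.Localization.LocalizationLocalization

set_option autoImplicit false
universe u v w

namespace Groth.Agent.Pi1C.DimFun

section Order

variable {A : Type u} [CommRing A] [IsNoetherianRing A]

theorem wellFoundedGT : WellFoundedGT (PrimeSpectrum A) := by
  have h : StrictMono (fun p : PrimeSpectrum A => p.asIdeal) := fun p q h => h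
  exact ⟨WellFounded.mono (InvImage.wf (fun p : PrimeSpectrum A => p.asIdeal)
    (wellFounded_gt (α := Ideal A))) (fun p q h => h)⟩

theorem wellFoundedLT : WellFoundedLT (PrimeSpectrum A) := by
  refine ⟨WellFounded.mono (InvImage.wf (fun p : PrimeSpectrum A => Order.height p)
    (wellFounded_lt (α := ℕ∞))) (fun p q h => ?_)⟩
  refine Order.height_strictMono h ?_
  have : (p.asIdeal).height < ⊤ := Ideal.height_lt_top p.isPrime.ne_top
  rwa [PrimeSpectrum.height_eq_orderHeight] at this

variable (δ : PrimeSpectrum A → ℤ) (hδ : ∀ p q : PrimeSpectrum A, p ⋖ q → δ p = δ q + 1)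
include hδ

theorem delta_sub_le_height (q p : PrimeSpectrum A) (hqp : q ≤ p) :
    ((δ q - δ p).toNat : ℕ∞) ≤ Order.height p ∧ δ p ≤ δ q := by
  have := wellFoundedLT (A := A)
  have := wellFoundedGT (A := A)
  have : IsStronglyCoatomic (PrimeSpectrum A) := IsStronglyCoatomic.of_wellFounded_gt wellFounded_gt
  induction p using WellFoundedLT.induction with
  | ind p ih =>
    rcases hqp.eq_or_lt with rfl | hlt
    · simp
    · obtain ⟨r, hqr, hrp⟩ := exists_le_covBy_of_lt hlt
      obtain ⟨h1, h2⟩ := ih r hrp.lt hqr
      have h3 := hδ r p hrp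
      constructor
      · have h4 : Order.height r + 1 ≤ Order.height p := Order.height_add_one_le hrp.lt
        refine le_trans ?_ h4
        have h5 : (δ q - δ p).toNat = (δ q - δ r).toNat + 1 := by omega
        rw [h5]
        push_cast
        gcongr
      · omega

theorem coheight_eq [IsLocalRing A] (p : PrimeSpectrum A) :
    δ (IsLocalRing.closedPoint A) ≤ δ p ∧
      Order.coheight p = ((δ p - δ (IsLocalRing.closedPoint A)).toNat : ℕ∞) := by
  have := wellFoundedLT (A := A)
  have := wellFoundedGT (A := A)
  have hle : p ≤ IsLocalRing.closedPoint A := IsLocalRing.le_maximalIdeal p.isPrime.ne_top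
  refine ⟨(delta_sub_le_height δ hδ _ _ hle).2, ?_⟩
  induction p using WellFoundedGT.induction with
  | ind p ih =>
    have hmin := (delta_sub_le_height δ hδ _ _ hle).2
    rcases hle.eq_or_lt with heq | hlt
    · subst heq
      simp only [sub_self, Int.toNat_zero, Nat.cast_zero, Order.coheight_eq_zero]
      intro q hq
      exact IsLocalRing.le_maximalIdeal q.isPrime.ne_top
    · rw [Order.coheight_eq_iSup_gt_coheight]
      apply le_antisymm
      · refine iSup₂_le fun q hq => ?_
        have hqm : q ≤ IsLocalRing.closedPoint A := IsLocalRing.le_maximalIdeal q.isPrime.ne_top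
        rw [ih q hq hqm]
        obtain ⟨r, hpr, hrq⟩ := exists_covBy_le_of_lt hq
        have h1 := hδ p r hpr
        have h2 := (delta_sub_le_height δ hδ _ _ hrq).2
        have h3 := (delta_sub_le_height δ hδ _ _ hqm).2
        have : (δ q - δ (IsLocalRing.closedPoint A)).toNat + 1 ≤
          (δ p - δ (IsLocalRing.closedPoint A)).toNat := by omega
        exact_mod_cast this
      · obtain ⟨r, hpr, hrm⟩ := exists_covBy_le_of_lt hlt
        refine le_trans ?_ (le_iSup₂ (f := fun q (_ : q > p) => Order.coheight q + 1) r hpr.lt)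
        rw [ih r hpr.lt hrm]
        have h1 := hδ p r hpr
        have h3 := (delta_sub_le_height δ hδ _ _ hrm).2
        have : (δ p - δ (IsLocalRing.closedPoint A)).toNat ≤
          (δ r - δ (IsLocalRing.closedPoint A)).toNat + 1 := by omega
        exact_mod_cast this

end Order

theorem ringKrullDim_quotient_eq_coheight {A : Type u} [CommRing A] (p : PrimeSpectrum A) :
    ringKrullDim (A ⧸ p.asIdeal) = Order.coheight p := by
  rw [ringKrullDim_quotient, Order.coheight_eq_krullDim_Ici]
  congr 1

section Depth

open LocCoh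

theorem idealDepth_congr {R : Type u} {S : Type v} [CommRing R] [CommRing S] (e : R ≃+* S)
    {M : Type w} {N : Type w} [AddCommGroup M] [Module R M] [AddCommGroup N] [Module S N]
    (f : M ≃+ N) (hf : ∀ (r : R) (m : M), f (r • m) = e r • f m)
    (I : Ideal R) (J : Ideal S) (h : ∀ r, r ∈ I ↔ e r ∈ J) : idealDepth I M = idealDepth J N := by
  have hIJ : J = I.map (e : R →+* S) := by
    apply le_antisymm
    · intro s hs
      obtain ⟨r, rfl⟩ := e.surjective s
      exact Ideal.mem_map_of_mem _ ((h r).2 hs)
    · rw [Ideal.map_le_iff_le_comap]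
      intro r hr
      exact (h r).1 hr
  have htop : (I • (⊤ : Submodule R M) = ⊤) ↔ (J • (⊤ : Submodule S N) = ⊤) := by
    have key : ∀ m : M, m ∈ I • (⊤ : Submodule R M) ↔ f m ∈ J • (⊤ : Submodule S N) := by
      intro m
      constructor
      · intro hm
        induction hm using Submodule.smul_induction_on' with
        | smul r hr n hn =>
          rw [hf]
          exact Submodule.smul_mem_smul ((h r).1 hr) trivial
        | add x hx y hy h1 h2 =>
          rw [map_add]
          exact add_mem h1 h2
      · intro hm
        suffices ∀ n ∈ J • (⊤ : Submodule S N), f.symm n ∈ I • (⊤ : Submodule R M) by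
          simpa using this _ hm
        intro n hn
        induction hn using Submodule.smul_induction_on' with
        | smul r hr n hn =>
          have : f.symm (r • n) = e.symm r • f.symm n := by
            apply f.injective
            rw [hf]
            simp
          rw [this]
          refine Submodule.smul_mem_smul ((h _).2 ?_) trivial
          simpa using hr
        | add x hx y hy h1 h2 =>
          rw [map_add]
          exact add_mem h1 h2
    constructor
    · intro h1
      rw [eq_top_iff]
      intro n _
      obtain ⟨m, rfl⟩ := f.surjective n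
      rw [← key, h1]
      trivial
    · intro h1
      rw [eq_top_iff]
      intro m _
      rw [key, h1]
      trivial
  unfold idealDepth
  by_cases h1 : I • (⊤ : Submodule R M) = ⊤
  · rw [if_pos h1, if_pos (htop.1 h1)]
  · rw [if_neg h1, if_neg (fun h2 => h1 (htop.2 h2))]
    have hreg : ∀ rs : List R, RingTheory.Sequence.IsWeaklyRegular M rs ↔
        RingTheory.Sequence.IsWeaklyRegular N (rs.map e) := fun rs =>
      f.isWeaklyRegular_congr (List.forall₂_map_right_iff.mpr <|
        List.forall₂_same.mpr fun r _ x => hf r x)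
    apply le_antisymm
    · refine iSup₂_le fun rs hrs => ?_
      refine le_trans ?_ (le_iSup₂ (f := fun (rs : List S)
        (_ : RingTheory.Sequence.IsWeaklyRegular N rs ∧ ∀ r ∈ rs, r ∈ J) => (rs.length : ℕ∞))
        (rs.map e) ⟨(hreg rs).1 hrs.1, ?_⟩)
      · simp
      · intro s hs
        obtain ⟨r, hr, rfl⟩ := List.mem_map.1 hs
        exact (h r).1 (hrs.2 r hr)
    · refine iSup₂_le fun ss hss => ?_
      have hmap : (ss.map e.symm).map e = ss := by simp [Function.comp_def]
      refine le_trans ?_ (le_iSup₂ (f := fun (rs : List R)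
        (_ : RingTheory.Sequence.IsWeaklyRegular M rs ∧ ∀ r ∈ rs, r ∈ I) => (rs.length : ℕ∞))
        (ss.map e.symm) ⟨(hreg _).2 (by rw [hmap]; exact hss.1), ?_⟩)
      · simp
      · intro r hr
        obtain ⟨s, hs, rfl⟩ := List.mem_map.1 hr
        exact (h _).2 (by simpa using hss.2 s hs)

theorem depth_congr_ring {R : Type u} {S : Type u} [CommRing R] [CommRing S] [IsLocalRing R]
    [IsLocalRing S] (e : R ≃+* S) : depth R R = depth S S := by
  refine idealDepth_congr e (e : R ≃+ S) (fun r m => by simp) _ _ (fun r => ?_)
  simp only [IsLocalRing.mem_maximalIdeal, mem_nonunits_iff]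
  rw [not_iff_not]
  exact ((MulEquiv.isUnit_map e).symm)

/-- the localized module of a ring at a prime, as a module over the localized ring -/
noncomputable def localizedModuleSelf {R : Type u} [CommRing R] (S : Submonoid R) :
    LocalizedModule S R ≃ₗ[Localization S] Localization S :=
  (IsLocalizedModule.linearEquiv S (LocalizedModule.mkLinearMap S R)
    (Algebra.linearMap R (Localization S))).extendScalarsOfIsLocalization S (Localization S)

theorem depth_localizedModule_self {R : Type u} [CommRing R] (p : Ideal R) [p.IsPrime] :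
    depth (Localization.AtPrime p) (LocalizedModule p.primeCompl R) =
      depth (Localization.AtPrime p) (Localization.AtPrime p) :=
  idealDepth_congr (RingEquiv.refl _) (localizedModuleSelf p.primeCompl).toAddEquiv
    (fun r m => by
      exact (localizedModuleSelf p.primeCompl).map_smul r m) _ _ (fun r => Iff.rfl)

theorem supportDim_localizedModule_self {R : Type u} [CommRing R] (p : Ideal R) [p.IsPrime] :
    Module.supportDim (Localization.AtPrime p) (LocalizedModule p.primeCompl R) =
      p.height := by
  rw [Module.supportDim_eq_of_equiv (localizedModuleSelf p.primeCompl),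
    Module.supportDim_self_eq_ringKrullDim, IsLocalization.AtPrime.ringKrullDim_eq_height p]

theorem depth_localization_away {R : Type u} [CommRing R] (f : R) (P : Ideal (Localization.Away f))
    [P.IsPrime] (p : Ideal R) [p.IsPrime] (hp : p = P.comap (algebraMap R (Localization.Away f))) :
    depth (Localization.AtPrime P) (Localization.AtPrime P) =
      depth (Localization.AtPrime p) (Localization.AtPrime p) := by
  subst hp
  exact (depth_congr_ring
    (IsLocalization.localizationLocalizationAtPrimeIsoLocalization
      (Submonoid.powers f) P).toRingEquiv).symm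

end Depth

section Main

open LocCoh

variable {A : Type u} [CommRing A] [IsNoetherianRing A] [IsLocalRing A]

/-- depth(A_p) ≥ min(k, ht p) for the primes `p` not containing `f`, if `A_f` is `(S_k)`. -/
theorem min_le_depth_of_hasSk (f : A) (k : ℕ) (h : HasSk k (Localization.Away f) (Localization.Away f))
    (p : Ideal A) [p.IsPrime] (hf : f ∉ p) :
    min (k : WithBot ℕ∞) (p.height : WithBot ℕ∞) ≤
      ((depth (Localization.AtPrime p) (Localization.AtPrime p) : ℕ∞) : WithBot ℕ∞) := by
  have hdisj : Disjoint (Submonoid.powers f : Set A) (p : Set A) := by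
    rw [Set.disjoint_left]
    rintro x ⟨n, rfl⟩ hx
    exact hf (‹p.IsPrime›.mem_of_pow_mem n hx)
  set P : Ideal (Localization.Away f) := p.map (algebraMap A (Localization.Away f)) with hP
  have hPprime : P.IsPrime :=
    IsLocalization.isPrime_of_isPrime_disjoint (Submonoid.powers f) _ p ‹_› hdisj
  have hcomap : P.comap (algebraMap A (Localization.Away f)) = p :=
    IsLocalization.under_map_of_isPrime_disjoint (Submonoid.powers f) _ ‹_› hdisj
  have h1 := h P
  rw [depth_localizedModule_self, supportDim_localizedModule_self,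
    depth_localization_away f P p hcomap.symm] at h1
  have h2 : P.height = p.height := by
    rw [← IsLocalization.height_under (Submonoid.powers f) P]
    exact congrArg Ideal.height hcomap
  rwa [h2] at h1

/-- If `A` has a dimension function, `A_f` is `(S_2)` and the components of `Spec A` meeting `D(f)` have
dimension at least `n + 1`, `n ≥ 2`, then `depth A_p + dim A/p > n` ... here for general `n` with the
obvious bound. -/
theorem lt_depth_add_dim (δ : PrimeSpectrum A → ℤ)
    (hδ : ∀ p q : PrimeSpectrum A, p ⋖ q → δ p = δ q + 1) (f : A) (hfm : f ∈ IsLocalRing.maximalIdeal A)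
    (hS : HasSk 2 (Localization.Away f) (Localization.Away f))
    (hdim : ∀ p : Ideal A, p ∈ minimalPrimes A → f ∉ p → (3 : WithBot ℕ∞) ≤ ringKrullDim (A ⧸ p))
    (p : Ideal A) [hp : p.IsPrime] (hf : f ∉ p) :
    (2 : WithBot ℕ∞) < ((depth (Localization.AtPrime p) (Localization.AtPrime p) : ℕ∞) : WithBot ℕ∞) +
      ringKrullDim (A ⧸ p) := by
  let x : PrimeSpectrum A := ⟨p, hp⟩
  have hmin := min_le_depth_of_hasSk f 2 hS p hf
  obtain ⟨q, hq, hqp⟩ := Ideal.exists_minimalPrimes_le (I := (⊥ : Ideal A)) (J := p) bot_le
  have hq' : q ∈ minimalPrimes A := hq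
  have hqprime : q.IsPrime := hq.1.1
  let y : PrimeSpectrum A := ⟨q, hqprime⟩
  have hyx : y ≤ x := hqp
  have h3 := hdim q hq' (fun h => hf (hqp h))
  have ey : ringKrullDim (A ⧸ q) = (Order.coheight y : WithBot ℕ∞) := ringKrullDim_quotient_eq_coheight y
  have ex : ringKrullDim (A ⧸ p) = (Order.coheight x : WithBot ℕ∞) := ringKrullDim_quotient_eq_coheight x
  rw [ey, (coheight_eq δ hδ y).2] at h3
  have hd := delta_sub_le_height δ hδ y x hyx
  have hx := (coheight_eq δ hδ x)
  rw [ex, hx.2]
  have hht : Order.height x = p.height := (PrimeSpectrum.height_eq_orderHeight x).symm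
  have hxm : x < IsLocalRing.closedPoint A := by
    refine lt_of_le_of_ne (IsLocalRing.le_maximalIdeal hp.ne_top) ?_
    intro h
    apply hf
    have : p = IsLocalRing.maximalIdeal A := congrArg PrimeSpectrum.asIdeal h
    rw [this]; exact hfm
  have hc1 : 1 ≤ (δ x - δ (IsLocalRing.closedPoint A)).toNat := by
    have h0 : Order.coheight x ≠ 0 := by
      rw [Ne, Order.coheight_eq_zero]
      intro h
      exact absurd (h hxm.le) (not_le_of_gt hxm)
    rw [hx.2] at h0
    have : (δ x - δ (IsLocalRing.closedPoint A)).toNat ≠ 0 := by exact_mod_cast h0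
    omega
  have h3' : 3 ≤ (δ y - δ (IsLocalRing.closedPoint A)).toNat := by
    have h30 : (((3 : ℕ) : ℕ∞) : WithBot ℕ∞) ≤
      (((δ y - δ (IsLocalRing.closedPoint A)).toNat : ℕ∞) : WithBot ℕ∞) := h3
    exact_mod_cast WithBot.coe_le_coe.1 h30
  rw [← hht] at hmin
  have h4 : min (2 : WithBot ℕ∞) (((δ y - δ x).toNat : ℕ∞) : WithBot ℕ∞) ≤
      ((depth (Localization.AtPrime p) (Localization.AtPrime p) : ℕ∞) : WithBot ℕ∞) := by
    refine le_trans ?_ hmin
    exact min_le_min le_rfl (WithBot.coe_le_coe.2 hd.1)
  generalize depth (Localization.AtPrime p) (Localization.AtPrime p) = D at h4 ⊢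
  have h5 : ((min 2 (δ y - δ x).toNat : ℕ) : ℕ∞) ≤ D := by
    have : (((min 2 (δ y - δ x).toNat : ℕ) : ℕ∞) : WithBot ℕ∞) ≤ (D : WithBot ℕ∞) := by
      refine le_trans (le_of_eq ?_) h4
      norm_cast
    exact WithBot.coe_le_coe.1 this
  have h6 : (3 : ℕ∞) ≤ D + ((δ x - δ (IsLocalRing.closedPoint A)).toNat : ℕ∞) := by
    refine le_trans ?_ (add_le_add h5 le_rfl)
    have : 3 ≤ min 2 (δ y - δ x).toNat + (δ x - δ (IsLocalRing.closedPoint A)).toNat := by omega
    exact_mod_cast this
  have h7 : (2 : ℕ∞) < D + ((δ x - δ (IsLocalRing.closedPoint A)).toNat : ℕ∞) :=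
    lt_of_lt_of_le (by norm_num) h6
  have h8 := WithBot.coe_lt_coe.2 h7
  rw [WithBot.coe_add] at h8
  exact h8

end Main

end Groth.Agent.Pi1C.DimFun
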