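import Groth.Agent.Pi1C.DimFun

set_option autoImplicit false
universe u

namespace Groth.Agent.Pi1C.DimFun2

open LocCoh DimFun

variable {A : Type u} [CommRing A] [IsNoetherianRing A] [IsLocalRing A]

/-- a prime `p` not containing `f` with `V(p) ∩ V(f) ≠ {m}` has coheight at least two. -/
theorem two_le_coheight (f : A) (hfm : f ∈ IsLocalRing.maximalIdeal A) (x : PrimeSpectrum A)
    (hf : f ∉ x.asIdeal)
    (hrad : (x.asIdeal ⊔ Ideal.span {f}).radical ≠ IsLocalRing.maximalIdeal A) :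
    2 ≤ Order.coheight x := by
  have hle : (x.asIdeal ⊔ Ideal.span {f}).radical ≤ IsLocalRing.maximalIdeal A := by
    rw [← (IsLocalRing.maximalIdeal.isMaximal A).isPrime.radical]
    apply Ideal.radical_mono
    exact sup_le (IsLocalRing.le_maximalIdeal x.isPrime.ne_top)
      ((Ideal.span_singleton_le_iff_mem _).2 hfm)
  obtain ⟨q, hq, hqp, hqm⟩ : ∃ q : Ideal A, x.asIdeal ⊔ Ideal.span {f} ≤ q ∧ q.IsPrime ∧
      q ≠ IsLocalRing.maximalIdeal A := by
    by_contra hcon
    push Not at hcon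
    apply hrad
    apply le_antisymm hle
    rw [Ideal.radical_eq_sInf]
    refine le_sInf ?_
    rintro q ⟨h1, h2⟩
    exact (hcon q h1 h2).ge
  let y : PrimeSpectrum A := ⟨q, hqp⟩
  have hfq : f ∈ q := hq (Ideal.mem_sup_right (Ideal.mem_span_singleton_self f))
  have hxy : x < y := by
    refine lt_of_le_of_ne (show x.asIdeal ≤ q from le_sup_left.trans hq) ?_
    intro h
    apply hf
    rw [h]
    exact hfq
  have hym : y < IsLocalRing.closedPoint A := by
    refine lt_of_le_of_ne (IsLocalRing.le_maximalIdeal hqp.ne_top) ?_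
    intro h
    exact hqm (congrArg PrimeSpectrum.asIdeal h)
  have h1 : Order.coheight (IsLocalRing.closedPoint A) + 1 ≤ Order.coheight y :=
    Order.coheight_add_one_le hym
  have h2 : Order.coheight y + 1 ≤ Order.coheight x := Order.coheight_add_one_le hxy
  calc (2 : ℕ∞) = 0 + 1 + 1 := by norm_num
    _ ≤ Order.coheight (IsLocalRing.closedPoint A) + 1 + 1 := by gcongr; exact zero_le
    _ ≤ Order.coheight y + 1 := by gcongr
    _ ≤ _ := h2

/-- Hypothesis (a) of Stacks 0EK9 implies hypothesis (b). -/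
theorem three_lt_depth_add_dim (δ : PrimeSpectrum A → ℤ)
    (hδ : ∀ p q : PrimeSpectrum A, p ⋖ q → δ p = δ q + 1) (f : A) (hfm : f ∈ IsLocalRing.maximalIdeal A)
    (hS : HasSk 2 (Localization.Away f) (Localization.Away f))
    (hdim : ∀ p : Ideal A, p ∈ minimalPrimes A → f ∉ p → (4 : WithBot ℕ∞) ≤ ringKrullDim (A ⧸ p))
    (p : Ideal A) [hp : p.IsPrime] (hf : f ∉ p)
    (hrad : (p ⊔ Ideal.span {f}).radical ≠ IsLocalRing.maximalIdeal A) :
    (3 : WithBot ℕ∞) < ((depth (Localization.AtPrime p) (Localization.AtPrime p) : ℕ∞) : WithBot ℕ∞) +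
      ringKrullDim (A ⧸ p) := by
  let x : PrimeSpectrum A := ⟨p, hp⟩
  have hmin := min_le_depth_of_hasSk f 2 hS p hf
  obtain ⟨q, hq, hqp⟩ := Ideal.exists_minimalPrimes_le (I := (⊥ : Ideal A)) (J := p) bot_le
  have hq' : q ∈ minimalPrimes A := hq
  have hqprime : q.IsPrime := hq.1.1
  let y : PrimeSpectrum A := ⟨q, hqprime⟩
  have hyx : y ≤ x := hqp
  have h3 := hdim q hq' (fun h => hf (hqp h))
  have ey : ringKrullDim (A ⧸ q) = (Order.coheight y : WithBot ℕ∞) := ringKrullDim_quotient_eq_coheight y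
  have ex : ringKrullDim (A ⧸ p) = (Order.coheight x : WithBot ℕ∞) := ringKrullDim_quotient_eq_coheight x
  rw [ey, (coheight_eq δ hδ y).2] at h3
  have hd := delta_sub_le_height δ hδ y x hyx
  have hx := (coheight_eq δ hδ x)
  rw [ex, hx.2]
  have hht : Order.height x = p.height := (PrimeSpectrum.height_eq_orderHeight x).symm
  have hc1 : 2 ≤ (δ x - δ (IsLocalRing.closedPoint A)).toNat := by
    have h0 := two_le_coheight f hfm x hf hrad
    rw [hx.2] at h0
    have h30 : (((2 : ℕ) : ℕ∞)) ≤ (((δ x - δ (IsLocalRing.closedPoint A)).toNat : ℕ∞)) := h0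
    exact_mod_cast h30
  have h3' : 4 ≤ (δ y - δ (IsLocalRing.closedPoint A)).toNat := by
    have h30 : (((4 : ℕ) : ℕ∞) : WithBot ℕ∞) ≤
      (((δ y - δ (IsLocalRing.closedPoint A)).toNat : ℕ∞) : WithBot ℕ∞) := h3
    exact_mod_cast WithBot.coe_le_coe.1 h30
  rw [← hht] at hmin
  have h4 : min (2 : WithBot ℕ∞) (((δ y - δ x).toNat : ℕ∞) : WithBot ℕ∞) ≤
      ((depth (Localization.AtPrime p) (Localization.AtPrime p) : ℕ∞) : WithBot ℕ∞) := by
    refine le_trans ?_ hmin
    exact min_le_min le_rfl (WithBot.coe_le_coe.2 hd.1)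
  generalize depth (Localization.AtPrime p) (Localization.AtPrime p) = D at h4 ⊢
  have h5 : ((min 2 (δ y - δ x).toNat : ℕ) : ℕ∞) ≤ D := by
    have : (((min 2 (δ y - δ x).toNat : ℕ) : ℕ∞) : WithBot ℕ∞) ≤ (D : WithBot ℕ∞) := by
      refine le_trans (le_of_eq ?_) h4
      norm_cast
    exact WithBot.coe_le_coe.1 this
  have h6 : (4 : ℕ∞) ≤ D + ((δ x - δ (IsLocalRing.closedPoint A)).toNat : ℕ∞) := by
    refine le_trans ?_ (add_le_add h5 le_rfl)
    have : 4 ≤ min 2 (δ y - δ x).toNat + (δ x - δ (IsLocalRing.closedPoint A)).toNat := by omega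
    exact_mod_cast this
  have h7 : (3 : ℕ∞) < D + ((δ x - δ (IsLocalRing.closedPoint A)).toNat : ℕ∞) :=
    lt_of_lt_of_le (by norm_num) h6
  have h8 := WithBot.coe_lt_coe.2 h7
  rw [WithBot.coe_add] at h8
  exact h8

end Groth.Agent.Pi1C.DimFun2
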