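import Groth.Agent.Pi1C.DualTorsion
import Groth.Agent.Pi1C.DimFun2
import Groth.Agent.LoccohA.DExtFin

/-!
# Annihilation of local cohomology from a dualizing complex (input for Stacks 0EK9)
-/

set_option autoImplicit false
universe u
attribute [local instance] HasDerivedCategory.standard

open CategoryTheory

namespace Groth.Agent.Pi1C.AnnihInput

open DualTorsion

variable {A : Type u} [CommRing A] [IsNoetherianRing A] [IsLocalRing A]

/-- The annihilator of `H^i_m(M)` is contained only in primes `p` with `depth M_p + dim A/p ≤ i`. -/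
theorem depth_add_dim_le_of_annihilator_le (hd : ∃ ω : Dual.D A, Dual.IsDualizing A ω)
    (M : Type u) [AddCommGroup M] [Module A M] [Module.Finite A M] (i : ℕ) (p : PrimeSpectrum A)
    (hp : Module.annihilator A (LocCoh.H (IsLocalRing.maximalIdeal A) i M) ≤ p.asIdeal) :
    ((LocCoh.depth (Localization.AtPrime p.asIdeal) (LocalizedModule p.asIdeal.primeCompl M) : ℕ∞) :
      WithBot ℕ∞) + ringKrullDim (A ⧸ p.asIdeal) ≤ (i : WithBot ℕ∞) := by
  obtain ⟨ω, hω⟩ := hd
  obtain ⟨n, hn1, hn2⟩ := exists_normalized hω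
  have hfin : Module.Finite A (Dual.inD A M ⟶ (ω⟦n⟧)⟦(-(i : ℤ))⟧) :=
    LoccohA.DExtFin.finite_E hn1 _ M
  rw [← Groth.Agent.S1713.result A _ hn1 hn2 M i] at hp
  refine (Groth.Agent.S1712.result A _ hn1 hn2 M i p).1 ⟨i, le_rfl, ?_⟩
  rw [Module.support_eq_zeroLocus]
  exact hp

/-- Given finitely many bad-locus conditions off `V(f)`, produce the ideal `c`. -/
theorem exists_ideal_aux (f : A) (hf : f ∈ IsLocalRing.maximalIdeal A) (J : Ideal A)
    (hJ : ∀ p : Ideal A, p.IsPrime → J ≤ p → f ∉ p →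
      (p ⊔ Ideal.span {f}).radical = IsLocalRing.maximalIdeal A) :
    ∃ (c : Ideal A) (n : ℕ), c ≤ IsLocalRing.maximalIdeal A ∧
      (c ⊔ Ideal.span {f}).radical = IsLocalRing.maximalIdeal A ∧ ∀ a ∈ c, f ^ n * a ∈ J := by
  classical
  -- the chain (J : f^n)
  let K : ℕ →o Ideal A :=
    { toFun := fun k => Submodule.comap (LinearMap.mulLeft A (f ^ k)) J
      monotone' := by
        intro i j hij x hx
        simp only [Submodule.mem_comap, LinearMap.mulLeft_apply] at hx ⊢
        obtain ⟨k, rfl⟩ := Nat.exists_eq_add_of_le hij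
        rw [pow_add, mul_comm (f ^ i), mul_assoc]
        exact J.mul_mem_left _ hx }
  obtain ⟨n, hn⟩ := monotone_stabilizes_iff_noetherian.2 (inferInstance : IsNoetherian A A) K
  have hmem : ∀ k x, x ∈ K k ↔ f ^ k * x ∈ J := fun k x => Iff.rfl
  have hreg : ∀ x, f * x ∈ K n → x ∈ K n := by
    intro x hx
    have h1 : x ∈ K (n + 1) := by
      rw [hmem] at hx ⊢
      rw [pow_succ, mul_assoc]
      exact hx
    rwa [← hn (n + 1) (by omega)] at h1
  have hJK : J ≤ K n := by
    intro x hx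
    rw [hmem]
    exact J.mul_mem_left _ hx
  have hcm : K n ⊓ IsLocalRing.maximalIdeal A ≤ IsLocalRing.maximalIdeal A := inf_le_right
  have hprime_m := (IsLocalRing.maximalIdeal.isMaximal A).isPrime
  refine ⟨K n ⊓ IsLocalRing.maximalIdeal A, n, inf_le_right, ?_, fun a ha => (hmem n a).1 ha.1⟩
  apply le_antisymm
  · rw [← hprime_m.radical]
    apply Ideal.radical_mono
    rw [hprime_m.radical]
    exact sup_le inf_le_right ((Ideal.span_singleton_le_iff_mem _).2 hf)
  · rw [Ideal.radical_eq_sInf]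
    refine le_sInf ?_
    rintro q ⟨hq1, hq2⟩
    have hq1' : (K n ⊓ IsLocalRing.maximalIdeal A) ≤ q := le_sup_left.trans hq1
    have hfq : f ∈ q := hq1 (Ideal.mem_sup_right (Ideal.mem_span_singleton_self f))
    rcases hq2.inf_le.1 hq1' with h | h
    · obtain ⟨p, hp, hpq⟩ := Ideal.exists_minimalPrimes_le h
      have hpp : p.IsPrime := hp.1.1
      have hfp : f ∉ p := by
        intro hfp
        -- elements of minimal primes are zero divisors modulo `K n`
        obtain ⟨x, hx1, hx2⟩ := Ideal.exists_mul_mem_of_mem_minimalPrimes hp hfp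
        exact hx1 (hreg x hx2)
      have := hJ p hpp (hJK.trans hp.1.2) hfp
      rw [← this]
      refine (Ideal.radical_mono (sup_le hpq ((Ideal.span_singleton_le_iff_mem _).2 hfq))).trans ?_
      rw [hq2.radical]
    · exact h

/-- hypothesis (hc) of Stacks 0EK9 gives the depth/dimension inequality. -/
theorem depth_add_dim_of_hyp (hd : ∃ ω : Dual.D A, Dual.IsDualizing A ω) (f : A)
    (hf : f ∈ IsLocalRing.maximalIdeal A)
    (hc : ((LocCoh.HasSk 2 (Localization.Away f) (Localization.Away f) ∧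
        ∀ p : Ideal A, p ∈ minimalPrimes A → f ∉ p → (4 : WithBot ℕ∞) ≤ ringKrullDim (A ⧸ p)) ∨
      (∀ p : Ideal A, ∀ _ : p.IsPrime, f ∉ p → (p ⊔ Ideal.span {f}).radical ≠ IsLocalRing.maximalIdeal A →
        (3 : WithBot ℕ∞) < (LocCoh.depth (Localization.AtPrime p) (Localization.AtPrime p) : WithBot ℕ∞) + ringKrullDim (A ⧸ p)))) :
    ∀ p : Ideal A, ∀ _ : p.IsPrime, f ∉ p → (p ⊔ Ideal.span {f}).radical ≠ IsLocalRing.maximalIdeal A →
        (3 : WithBot ℕ∞) < (LocCoh.depth (Localization.AtPrime p) (Localization.AtPrime p) : WithBot ℕ∞) +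
          ringKrullDim (A ⧸ p) := by
  rcases hc with ⟨h1, h2⟩ | h
  · obtain ⟨ω, hω⟩ := hd
    obtain ⟨δ, -, hδ⟩ := Groth.Agent.S1722.result A ω hω
    intro p hp hfp hrad
    exact DimFun2.three_lt_depth_add_dim δ hδ f hf h1 h2 p hfp hrad
  · exact h

/-- Input (0) of the proof of Stacks 0EK9, general form: if `depth M_p + dim A/p > s` for the primes `p` not
containing `f` with `V(p) ∩ V(f) ≠ {m}`, then there is an ideal `c` with `c + (f)` primary to the maximal ideal
such that `f^n c` kills `H^i_m(M)` for all `i ≤ s`. -/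
theorem exists_annihilator_of_lt (hd : ∃ ω : Dual.D A, Dual.IsDualizing A ω) (f : A)
    (hf : f ∈ IsLocalRing.maximalIdeal A) (M : Type u) [AddCommGroup M] [Module A M] [Module.Finite A M]
    (s : ℕ)
    (hM : ∀ p : Ideal A, ∀ _ : p.IsPrime, f ∉ p →
        (p ⊔ Ideal.span {f}).radical ≠ IsLocalRing.maximalIdeal A →
        (s : WithBot ℕ∞) < (LocCoh.depth (Localization.AtPrime p) (LocalizedModule p.primeCompl M) :
          WithBot ℕ∞) + ringKrullDim (A ⧸ p)) :
    ∃ (c : Ideal A) (n : ℕ), c ≤ IsLocalRing.maximalIdeal A ∧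
      (c ⊔ Ideal.span {f}).radical = IsLocalRing.maximalIdeal A ∧
      ∀ i ≤ s, ∀ a ∈ c, ∀ x : LocCoh.H (IsLocalRing.maximalIdeal A) i M, (f ^ n * a) • x = 0 := by
  let J : Ideal A := (Finset.range (s + 1)).inf
    (fun i => Module.annihilator A (LocCoh.H (IsLocalRing.maximalIdeal A) i M))
  obtain ⟨c, n, h1, h2, h3⟩ := exists_ideal_aux f hf J (by
    intro p hp hJp hfp
    obtain ⟨i, hi, hip⟩ := (Ideal.IsPrime.inf_le' hp).1 hJp
    by_contra hrad
    have h1 := depth_add_dim_le_of_annihilator_le hd M i ⟨p, hp⟩ hip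
    have h2 := hM p hp hfp hrad
    have h3 : (i : WithBot ℕ∞) ≤ (s : WithBot ℕ∞) := by
      exact_mod_cast (Nat.lt_succ_iff.1 (Finset.mem_range.1 hi))
    exact absurd (h1.trans h3) (not_le_of_gt h2))
  refine ⟨c, n, h1, h2, fun i hi a ha x => ?_⟩
  have h4 : J ≤ Module.annihilator A (LocCoh.H (IsLocalRing.maximalIdeal A) i M) :=
    Finset.inf_le (Finset.mem_range.2 (by omega))
  exact Module.mem_annihilator.1 (h4 (h3 a ha)) x

/-- modding out `f`-power torsion does not change the depth at primes not containing `f`. -/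
theorem depth_quotient_torsion (f : A) (T : Ideal A) (hT : ∀ t ∈ T, ∃ n : ℕ, f ^ n * t = 0)
    (p : Ideal A) [p.IsPrime] (hfp : f ∉ p) :
    LocCoh.depth (Localization.AtPrime p) (LocalizedModule p.primeCompl (A ⧸ T)) =
      LocCoh.depth (Localization.AtPrime p) (Localization.AtPrime p) := by
  let φ : LocalizedModule p.primeCompl A →ₗ[Localization.AtPrime p] LocalizedModule p.primeCompl (A ⧸ T) :=
    LocalizedModule.map p.primeCompl T.mkQ
  have hφ : Function.Bijective φ := by
    constructor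
    · rw [injective_iff_map_eq_zero]
      intro x hx
      induction x using LocalizedModule.induction_on with
      | h m s =>
        simp only [φ, LocalizedModule.map_mk] at hx
        rw [← LocalizedModule.zero_mk s, LocalizedModule.mk_eq] at hx
        obtain ⟨u, hu⟩ := hx
        rw [smul_zero, smul_zero] at hu
        have h2 : ((u * s : p.primeCompl) : A) * m ∈ T := by
          have h3 : T.mkQ (((u * s : p.primeCompl) : A) • m) = 0 := by
            rw [map_smul]
            rw [← hu, smul_smul]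
            rfl
          rw [← Ideal.Quotient.eq_zero_iff_mem]
          exact h3
        obtain ⟨n, hn⟩ := hT _ h2
        rw [← LocalizedModule.zero_mk s, LocalizedModule.mk_eq]
        have hfn : f ^ n ∈ p.primeCompl := fun h => hfp (‹p.IsPrime›.mem_of_pow_mem n h)
        refine ⟨⟨f ^ n, hfn⟩ * u, ?_⟩
        rw [smul_zero, smul_zero]
        change ((f ^ n * (u : A)) • ((s : A) • m)) = 0
        rw [smul_smul, smul_eq_mul, ← hn]
        push_cast
        ring
    · exact LocalizedModule.map_surjective _ _ (Submodule.mkQ_surjective T)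
  rw [← DimFun.depth_localizedModule_self p]
  exact (DimFun.idealDepth_congr (RingEquiv.refl _) (LinearEquiv.ofBijective φ hφ).toAddEquiv
    (fun r m => (LinearEquiv.ofBijective φ hφ).map_smul r m) _ _ (fun r => Iff.rfl)).symm

/-- Input (0) of the proof of Stacks 0EK9, for a quotient of `A` by `f`-power torsion elements (e.g. `T = ⊥` or all
the `f`-power torsion), with exactly the hypotheses of S1141. -/
theorem exists_annihilator_quotient (hd : ∃ ω : Dual.D A, Dual.IsDualizing A ω) (f : A)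
    (hf : f ∈ IsLocalRing.maximalIdeal A)
    (hc : ((LocCoh.HasSk 2 (Localization.Away f) (Localization.Away f) ∧
        ∀ p : Ideal A, p ∈ minimalPrimes A → f ∉ p → (4 : WithBot ℕ∞) ≤ ringKrullDim (A ⧸ p)) ∨
      (∀ p : Ideal A, ∀ _ : p.IsPrime, f ∉ p → (p ⊔ Ideal.span {f}).radical ≠ IsLocalRing.maximalIdeal A →
        (3 : WithBot ℕ∞) < (LocCoh.depth (Localization.AtPrime p) (Localization.AtPrime p) : WithBot ℕ∞) + ringKrullDim (A ⧸ p))))
    (T : Ideal A) (hT : ∀ t ∈ T, ∃ n : ℕ, f ^ n * t = 0) :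
    ∃ (c : Ideal A) (n : ℕ), c ≤ IsLocalRing.maximalIdeal A ∧
      (c ⊔ Ideal.span {f}).radical = IsLocalRing.maximalIdeal A ∧
      ∀ i ≤ 3, ∀ a ∈ c, ∀ x : LocCoh.H (IsLocalRing.maximalIdeal A) i (A ⧸ T), (f ^ n * a) • x = 0 := by
  have h := depth_add_dim_of_hyp hd f hf hc
  refine exists_annihilator_of_lt hd f hf (A ⧸ T) 3 ?_
  intro p hp hfp hrad
  have := h p hp hfp hrad
  rw [depth_quotient_torsion f T hT p hfp]
  exact this

/-- Input (0) of the proof of Stacks 0EK9, for `A` itself. -/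
theorem exists_annihilator_self (hd : ∃ ω : Dual.D A, Dual.IsDualizing A ω) (f : A)
    (hf : f ∈ IsLocalRing.maximalIdeal A)
    (hc : ((LocCoh.HasSk 2 (Localization.Away f) (Localization.Away f) ∧
        ∀ p : Ideal A, p ∈ minimalPrimes A → f ∉ p → (4 : WithBot ℕ∞) ≤ ringKrullDim (A ⧸ p)) ∨
      (∀ p : Ideal A, ∀ _ : p.IsPrime, f ∉ p → (p ⊔ Ideal.span {f}).radical ≠ IsLocalRing.maximalIdeal A →
        (3 : WithBot ℕ∞) < (LocCoh.depth (Localization.AtPrime p) (Localization.AtPrime p) : WithBot ℕ∞) + ringKrullDim (A ⧸ p)))) :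
    ∃ (c : Ideal A) (n : ℕ), c ≤ IsLocalRing.maximalIdeal A ∧
      (c ⊔ Ideal.span {f}).radical = IsLocalRing.maximalIdeal A ∧
      ∀ i ≤ 3, ∀ a ∈ c, ∀ x : LocCoh.H (IsLocalRing.maximalIdeal A) i A, (f ^ n * a) • x = 0 := by
  have h := depth_add_dim_of_hyp hd f hf hc
  refine exists_annihilator_of_lt hd f hf A 3 ?_
  intro p hp hfp hrad
  have := h p hp hfp hrad
  rw [DimFun.depth_localizedModule_self p]
  exact this

end Groth.Agent.Pi1C.AnnihInput
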