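import Groth.Agent.Pi1C.PuncturedSections
import Mathlib.Algebra.Category.Ring.Constructions

/-!
More on global sections: flat base change over affine bases, kernel and cokernel of restriction of
sections along a morphism which is an isomorphism over a basic open, passing from elementwise to
`I ^ n`-torsion.
-/

set_option autoImplicit false
set_option linter.unusedSectionVars false

universe u

open CategoryTheory CategoryTheory.Limits AlgebraicGeometry TopologicalSpace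

namespace Groth.Agent.Pi1C.PuncturedSections

lemma appLE_top {X Y : Scheme.{u}} (f : X ⟶ Y) (e : (⊤ : X.Opens) ≤ f ⁻¹ᵁ (⊤ : Y.Opens)) :
    f.appLE ⊤ ⊤ e = f.appTop := by
  rw [Scheme.Hom.appLE]
  exact (congrArg (f.app ⊤ ≫ ·) (X.presheaf.map_id _)).trans (Category.comp_id _)

/-- Flat base change for global sections of a qcqs scheme over `Spec A`. -/
theorem isPushout_sections {A A' : CommRingCat.{u}} (α : A ⟶ A') [hα : Flat (Spec.map α)]
    {V V' : Scheme.{u}}
    [CompactSpace V] [QuasiSeparatedSpace V] (h : V ⟶ Spec A) (p : V' ⟶ V) (q : V' ⟶ Spec A')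
    (H : IsPullback p q h (Spec.map α)) :
    IsPushout ((Scheme.ΓSpecIso A).inv ≫ h.appTop) α p.appTop
      ((Scheme.ΓSpecIso A').inv ≫ q.appTop) := by
  have e1 : (⊤ : (Spec A').Opens) ≤ Spec.map α ⁻¹ᵁ (⊤ : (Spec A).Opens) := fun _ _ => trivial
  have e2 : (⊤ : V.Opens) ≤ h ⁻¹ᵁ (⊤ : (Spec A).Opens) := fun _ _ => trivial
  have e3 : (⊤ : V'.Opens) = p ⁻¹ᵁ (⊤ : V.Opens) ⊓ q ⁻¹ᵁ (⊤ : (Spec A').Opens) := by
    ext x; simp
  have h1 := isIso_pushoutSection_of_isQuasiSeparated_of_flat_right H (US := ⊤) (UT := ⊤)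
    (UX := ⊤) (UY := ⊤) e1 e2 e3 (isAffineOpen_top _) (isAffineOpen_top _)
    isCompact_univ isQuasiSeparated_univ
  have h2 := (isIso_pushoutSection_iff ..).mp h1
  rw [appLE_top, appLE_top, appLE_top, appLE_top] at h2
  refine IsPushout.of_iso h2 (Scheme.ΓSpecIso A) (Iso.refl _) (Scheme.ΓSpecIso A') (Iso.refl _)
    ?_ ?_ ?_ ?_
  · simp
  · exact Scheme.ΓSpecIso_naturality _
  · simp
  · simp

section Torsion

variable {V Y : Scheme.{u}} [CompactSpace V] [QuasiSeparatedSpace V]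
  [CompactSpace Y] [QuasiSeparatedSpace Y] (j : V ⟶ Y) (r : Γ(Y, ⊤))

lemma res_eq (x : Γ(Y, ⊤)) :
    V.presheaf.map (homOfLE le_top : j ⁻¹ᵁ (Y.basicOpen r) ⟶ ⊤).op (j.appTop x) =
      j.app (Y.basicOpen r) (Y.presheaf.map (homOfLE le_top : Y.basicOpen r ⟶ ⊤).op x) := by
  have := j.naturality (homOfLE le_top : Y.basicOpen r ⟶ ⊤).op
  have h2 := congr($this x)
  simp only [CommRingCat.comp_apply] at h2
  rw [h2]
  rfl

lemma preimage_basicOpen_eq : j ⁻¹ᵁ (Y.basicOpen r) = V.basicOpen (j.appTop r) :=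
  Scheme.preimage_basicOpen_top _ _

lemma exists_pow_mul_eq_zero_of_isIso_app (hr : IsIso (j.app (Y.basicOpen r))) (x : Γ(Y, ⊤))
    (hx : j.appTop x = 0) : ∃ n : ℕ, r ^ n * x = 0 := by
  have h1 := res_eq j r x
  rw [hx, map_zero] at h1
  have h2 : Y.presheaf.map (homOfLE le_top : Y.basicOpen r ⟶ ⊤).op x = 0 := by
    have h3 : Function.Injective (j.app (Y.basicOpen r)) :=
      (ConcreteCategory.bijective_of_isIso (j.app (Y.basicOpen r))).1
    apply h3
    rw [← h1, map_zero]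
  have h4 : IsLocalization.Away r Γ(Y, Y.basicOpen r) :=
    isLocalization_basicOpen_of_qcqs isCompact_univ isQuasiSeparated_univ r
  obtain ⟨⟨_, n, rfl⟩, hn⟩ := IsLocalization.exists_of_eq (M := Submonoid.powers r)
    (S := Γ(Y, Y.basicOpen r)) (x := x) (y := 0) (by rw [map_zero]; exact h2)
  exact ⟨n, by simpa using hn⟩

lemma exists_pow_mul_eq_of_isIso_app (hr : IsIso (j.app (Y.basicOpen r))) (y : Γ(V, ⊤)) :
    ∃ n : ℕ, ∃ x : Γ(Y, ⊤), j.appTop x = j.appTop r ^ n * y := by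
  have h3 : Function.Surjective (j.app (Y.basicOpen r)) :=
    (ConcreteCategory.bijective_of_isIso (j.app (Y.basicOpen r))).2
  obtain ⟨z, hz⟩ := h3 (V.presheaf.map (homOfLE le_top : j ⁻¹ᵁ (Y.basicOpen r) ⟶ ⊤).op y)
  have h4 : IsLocalization.Away r Γ(Y, Y.basicOpen r) :=
    isLocalization_basicOpen_of_qcqs isCompact_univ isQuasiSeparated_univ r
  obtain ⟨⟨x, ⟨_, n, rfl⟩⟩, hx⟩ := IsLocalization.surj (Submonoid.powers r) z
  have hx' : z * (Y.presheaf.map (homOfLE le_top : Y.basicOpen r ⟶ ⊤).op (r ^ n)) =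
    Y.presheaf.map (homOfLE le_top : Y.basicOpen r ⟶ ⊤).op x := hx
  -- compare on `V.basicOpen (j r)`
  have h5 : V.presheaf.map (homOfLE le_top : j ⁻¹ᵁ (Y.basicOpen r) ⟶ ⊤).op
      (j.appTop x - j.appTop r ^ n * y) = 0 := by
    rw [map_sub, map_mul, ← map_pow, res_eq, ← hx', map_mul, hz, res_eq]
    ring
  have h6 : V.presheaf.map (homOfLE le_top : V.basicOpen (j.appTop r) ⟶ ⊤).op
      (j.appTop x - j.appTop r ^ n * y) = 0 := by
    have h7 : (homOfLE le_top : V.basicOpen (j.appTop r) ⟶ ⊤) =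
      homOfLE (preimage_basicOpen_eq j r).ge ≫ homOfLE le_top := rfl
    rw [h7, op_comp, Functor.map_comp, CommRingCat.comp_apply, h5, map_zero]
  have h8 : IsLocalization.Away (j.appTop r) Γ(V, V.basicOpen (j.appTop r)) :=
    isLocalization_basicOpen_of_qcqs isCompact_univ isQuasiSeparated_univ _
  obtain ⟨⟨_, m, rfl⟩, hm⟩ := IsLocalization.exists_of_eq (M := Submonoid.powers (j.appTop r))
    (S := Γ(V, V.basicOpen (j.appTop r))) (x := j.appTop x - j.appTop r ^ n * y) (y := 0)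
    (by rw [map_zero]; exact h6)
  refine ⟨m + n, r ^ m * x, ?_⟩
  simp only [mul_zero, mul_sub, sub_eq_zero] at hm
  rw [map_mul, map_pow, hm, pow_add]
  ring

end Torsion

section IdealPow

variable {A M : Type*} [CommRing A] [AddCommGroup M] [Module A M]

/-- From elementwise powers to powers of the ideal. -/
lemma exists_pow_smul_mem (I : Ideal A) (hI : I.FG) (N : Submodule A M) (y : M)
    (h : ∀ a ∈ I, ∃ n : ℕ, a ^ n • y ∈ N) : ∃ n : ℕ, ∀ a ∈ I ^ n, a • y ∈ N := by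
  let J : Ideal A := N.comap (LinearMap.toSpanSingleton A M y)
  have hJ : ∀ a, a ∈ J ↔ a • y ∈ N := fun a => Iff.rfl
  have h1 : I ≤ J.radical := by
    intro a ha
    obtain ⟨n, hn⟩ := h a ha
    exact ⟨n, hn⟩
  obtain ⟨n, hn⟩ := Ideal.exists_pow_le_of_le_radical_of_fg h1 hI
  exact ⟨n, fun a ha => (hJ a).1 (hn ha)⟩

lemma exists_pow_smul_eq_zero (I : Ideal A) (hI : I.FG) (y : M)
    (h : ∀ a ∈ I, ∃ n : ℕ, a ^ n • y = 0) : ∃ n : ℕ, ∀ a ∈ I ^ n, a • y = 0 := by
  simpa using exists_pow_smul_mem I hI (⊥ : Submodule A M) y (by simpa using h)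

end IdealPow

end Groth.Agent.Pi1C.PuncturedSections
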