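import Groth.Agent.Pi1C.MLift2
import Groth.Agent.Pi1C.PuncturedSections2
import Mathlib.RingTheory.Localization.BaseChange
import Mathlib.RingTheory.Flat.EquationalCriterion
import Mathlib.RingTheory.Flat.Localization
import Mathlib.Algebra.Module.LocalizedModule.Submodule

/-!
An `m`-closed algebra `B` over `A` which is finite flat after inverting each element of `m` is
finite over `A`, if some power of a nonzerodivisor `f ∈ m` kills `H^1_m(A)`, and then some power of
`f` kills `H^2_m(B)` if some power of `f` kills `H^2_m(A)`.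
-/

set_option autoImplicit false

universe u

namespace Groth.Agent.Pi1C.PuncFinite

open Groth.Agent.Pi1C.MLift Groth.Agent.Pi1C.PuncturedSections TensorProduct

variable {A : Type u} [CommRing A] {m : Ideal A} {B : Type u} [CommRing B] [Algebra A B]

/-- `B → A_g ⊗ B` -/
noncomputable abbrev toAway (g : A) : B →ₗ[A] Localization.Away g ⊗[A] B :=
  TensorProduct.mk A (Localization.Away g) B 1

instance isLocalizedModule_toAway (g : A) :
    IsLocalizedModule (Submonoid.powers g) (toAway (B := B) g) :=
  (isLocalizedModule_iff_isBaseChange (Submonoid.powers g) (Localization.Away g) _).2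
    (TensorProduct.isBaseChange A B (Localization.Away g))

lemma exists_fg_of_away (g : A)
    [Module.Finite (Localization.Away g) (Localization.Away g ⊗[A] B)] :
    ∃ N : Submodule A B, N.FG ∧ ∀ b : B, ∃ n : ℕ, g ^ n • b ∈ N := by
  obtain ⟨S, hS⟩ := (Module.Finite.fg_top :
    (⊤ : Submodule (Localization.Away g) (Localization.Away g ⊗[A] B)).FG)
  have h1 : ∀ y : Localization.Away g ⊗[A] B, ∃ (b : B) (s : Submonoid.powers g),
      IsLocalizedModule.mk' (toAway (B := B) g) b s = y := fun y => by
    obtain ⟨⟨b, s⟩, h⟩ := IsLocalizedModule.mk'_surjective (Submonoid.powers g)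
      (toAway (B := B) g) y
    exact ⟨b, s, h⟩
  choose β σ hβ using h1
  classical
  let N : Submodule A B := Submodule.span A (S.image β : Set B)
  refine ⟨N, ⟨_, rfl⟩, fun b => ?_⟩
  have h2 : N.localized' (Localization.Away g) (Submonoid.powers g) (toAway (B := B) g) = ⊤ := by
    rw [← top_le_iff, ← hS, Submodule.span_le]
    intro y hy
    rw [SetLike.mem_coe, Submodule.mem_localized']
    exact ⟨β y, Submodule.subset_span (by simpa using ⟨y, hy, rfl⟩), σ y, hβ y⟩
  have h3 : toAway (B := B) g b ∈
      N.localized' (Localization.Away g) (Submonoid.powers g) (toAway (B := B) g) := by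
    rw [h2]; trivial
  rw [Submodule.mem_localized'] at h3
  obtain ⟨x, hx, s, hs⟩ := h3
  rw [IsLocalizedModule.mk'_eq_iff, Submonoid.smul_def, ← map_smul] at hs
  obtain ⟨c, hc⟩ := IsLocalizedModule.exists_of_eq (S := Submonoid.powers g) hs
  obtain ⟨_, n, rfl⟩ := s
  obtain ⟨_, k, rfl⟩ := c
  refine ⟨k + n, ?_⟩
  have hc' : g ^ k • x = g ^ k • g ^ n • b := hc
  rw [pow_add, mul_smul, ← hc']
  exact N.smul_mem _ hx

lemma exists_fg (hm : m.FG)
    (hfin : ∀ g ∈ m, Module.Finite (Localization.Away g) (Localization.Away g ⊗[A] B)) :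
    ∃ M : Submodule A B, M.FG ∧ ∀ b : B, ∃ k : ℕ, ∀ x ∈ m ^ k, x • b ∈ M := by
  obtain ⟨s, hs⟩ := id hm
  have hsm : ∀ g : s, (g : A) ∈ m := fun g => hs ▸ Ideal.subset_span g.2
  have h1 : ∀ g : s, ∃ N : Submodule A B, N.FG ∧ ∀ b : B, ∃ n : ℕ, (g : A) ^ n • b ∈ N := by
    intro g
    have := hfin g (hsm g)
    exact exists_fg_of_away (g : A)
  choose N hN hN2 using h1
  refine ⟨⨆ g, N g, Submodule.fg_iSup _ hN, fun b => ?_⟩
  let J : Ideal A := (⨆ g, N g).comap (LinearMap.toSpanSingleton A B b)
  have hJ : ∀ a, a ∈ J ↔ a • b ∈ ⨆ g, N g := fun a => Iff.rfl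
  have h1 : m ≤ J.radical := by
    rw [← hs, Ideal.span_le]
    intro a ha
    obtain ⟨n, hn⟩ := hN2 ⟨a, ha⟩ b
    exact ⟨n, (hJ _).2 (Submodule.mem_iSup_of_mem _ hn)⟩
  obtain ⟨n, hn⟩ := Ideal.exists_pow_le_of_le_radical_of_fg h1 hm
  exact ⟨n, fun a ha => (hJ a).1 (hn ha)⟩

lemma eq_zero_of_flat (hm : m.FG)
    (hB : ∀ (k : ℕ) (y : B), (∀ x ∈ m ^ k, x • y = 0) → y = 0)
    (hflat : ∀ g ∈ m, Module.Flat (Localization.Away g) (Localization.Away g ⊗[A] B))
    (f : A) (hf : ∀ a : A, f * a = 0 → a = 0) (b : B) (hb : f • b = 0) : b = 0 := by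
  obtain ⟨k, hk⟩ := exists_pow_smul_eq_zero m hm b (fun g hg => by
    have := hflat g hg
    have hreg : IsSMulRegular A f := by
      intro x y hxy
      rw [← sub_eq_zero]
      apply hf
      have : f * x = f * y := hxy
      rw [mul_sub, this, sub_self]
    have h1 : IsSMulRegular (Localization.Away g) (algebraMap A (Localization.Away g) f) :=
      IsSMulRegular.of_flat hreg
    have h2 : IsSMulRegular (Localization.Away g ⊗[A] B)
        (algebraMap (Localization.Away g) (Localization.Away g ⊗[A] B)
          (algebraMap A (Localization.Away g) f)) := IsSMulRegular.of_flat h1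
    have h3 : toAway g b = 0 := by
      apply h2
      change _ * toAway g b = _ * 0
      rw [mul_zero, ← IsScalarTower.algebraMap_apply A (Localization.Away g)
        (Localization.Away g ⊗[A] B) f, ← Algebra.smul_def, ← map_smul, hb, map_zero]
    obtain ⟨⟨_, n, rfl⟩, hn⟩ := (IsLocalizedModule.eq_zero_iff (Submonoid.powers g)
      (toAway (B := B) g)).1 h3
    exact ⟨n, hn⟩)
  exact hB k b hk

variable [IsNoetherianRing A]

lemma projective_away {f : A} (hfin : Module.Finite (Localization.Away f)
    (Localization.Away f ⊗[A] B))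
    (hflat : Module.Flat (Localization.Away f) (Localization.Away f ⊗[A] B)) :
    Module.Projective (Localization.Away f) (Localization.Away f ⊗[A] B) := by
  have : IsNoetherianRing (Localization.Away f) :=
    IsLocalization.isNoetherianRing (Submonoid.powers f) _ inferInstance
  have : Module.FinitePresentation (Localization.Away f) (Localization.Away f ⊗[A] B) :=
    Module.finitePresentation_of_finite _ _
  exact Module.Flat.projective_of_finitePresentation

theorem finite {f : A} {c : ℕ} (hfm : f ∈ m) (hf : ∀ a : A, f * a = 0 → a = 0)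
    (h1 : H1Cond m f c A)
    (hB : ∀ (k : ℕ) (y : B), (∀ x ∈ m ^ k, x • y = 0) → y = 0)
    (hfin : ∀ g ∈ m, Module.Finite (Localization.Away g) (Localization.Away g ⊗[A] B))
    (hflat : ∀ g ∈ m, Module.Flat (Localization.Away g) (Localization.Away g ⊗[A] B)) :
    Module.Finite A B := by
  have hm : m.FG := IsNoetherian.noetherian m
  have := projective_away (hfin f hfm) (hflat f hfm)
  obtain ⟨M, hM, hM2⟩ := exists_fg hm hfin
  exact finite_of_H1Cond h1 hfm B (eq_zero_of_flat hm hB hflat f hf) hB (Localization.Away f)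
    (Localization.Away f ⊗[A] B) (toAway f) M hM hM2

theorem exists_H2Cond {f : A} {c c' : ℕ} (hfm : f ∈ m) (hf : ∀ a : A, f * a = 0 → a = 0)
    (h1 : H1Cond m f c A) (h2 : H2Cond m f c' A)
    (hB : ∀ (k : ℕ) (y : B), (∀ x ∈ m ^ k, x • y = 0) → y = 0)
    (hfin : ∀ g ∈ m, Module.Finite (Localization.Away g) (Localization.Away g ⊗[A] B))
    (hflat : ∀ g ∈ m, Module.Flat (Localization.Away g) (Localization.Away g ⊗[A] B)) :
    ∃ c, H2Cond m f c B := by
  have hm : m.FG := IsNoetherian.noetherian m
  have := projective_away (hfin f hfm) (hflat f hfm)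
  have := finite hfm hf h1 hB hfin hflat
  exact MLift.exists_H2Cond h2 B (eq_zero_of_flat hm hB hflat f hf) (Localization.Away f)
    (Localization.Away f ⊗[A] B) (toAway f)

end Groth.Agent.Pi1C.PuncFinite
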