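import Groth.Agent.Pi1C.MLift
import Groth.Agent.Pi1C.PuncFinite

/-!
Lifting compatible families of sections modulo `J n`, on the complement of `V(I)`, from the case of
the base ring to the case of modules which are locally (on the complement of `V(I)`) finite
projective.
-/

set_option autoImplicit false

universe u

namespace Groth.Agent.Pi1C.CLift

open Groth.Agent.Pi1C.MLift Groth.Agent.Pi1C.PuncturedSections

section Ext

variable {R : Type u} [CommRing R] {I : Ideal R}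

/-- Extension of a linear map to the closures. -/
lemma exists_ext {M S M' S' : Type*} [AddCommGroup M] [Module R M] [AddCommGroup S] [Module R S]
    [AddCommGroup M'] [Module R M'] [AddCommGroup S'] [Module R S']
    (ρ : M →ₗ[R] S) (ρ' : M' →ₗ[R] S') (φ : M →ₗ[R] M') (hS' : MClosed I S')
    (hφ : ∀ c, ρ c = 0 → ρ' (φ c) = 0) (s : S) (hs : ∃ k : ℕ, ∀ x ∈ I ^ k, ∃ c, ρ c = x • s) :
    ∃ y : S', ∀ (x : R) (c : M), ρ c = x • s → ρ' (φ c) = x • y := by
  obtain ⟨k, hk⟩ := hs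
  have key : ∀ x : ↥(I ^ k), ∃ c, ρ c = (x : R) • s := fun x => hk x x.2
  choose γ hγ using key
  have hφ' : ∀ c c' : M, ρ c = ρ c' → ρ' (φ c) = ρ' (φ c') := by
    intro c c' h
    rw [← sub_eq_zero, ← map_sub, ← map_sub]
    apply hφ
    rw [map_sub, h, sub_self]
  let h : ↥(I ^ k) →ₗ[R] S' :=
    { toFun := fun x => ρ' (φ (γ x))
      map_add' := fun x y => by
        rw [← map_add, ← map_add]
        apply hφ'
        rw [map_add, hγ, hγ, hγ, Submodule.coe_add, add_smul]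
      map_smul' := fun a x => by
        rw [RingHom.id_apply, ← map_smul, ← map_smul]
        apply hφ'
        rw [map_smul, hγ, hγ, Submodule.coe_smul, smul_assoc] }
  obtain ⟨y, hy⟩ := hS'.exists_smul k h
  refine ⟨y, fun x c hc => ?_⟩
  rw [← sub_eq_zero]
  apply hS'.eq_zero k
  intro z hz
  have h1 : ρ' (φ (γ ⟨z, hz⟩)) = z • y := hy ⟨z, hz⟩
  rw [smul_sub, smul_comm z x y, ← h1, ← map_smul, ← map_smul, ← map_smul, ← map_smul, sub_eq_zero]
  apply hφ'
  rw [map_smul, map_smul, hc, hγ, smul_comm]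

end Ext

section System

variable {R : Type u} [CommRing R] {I : Ideal R}
  {M M' : Type*} [AddCommGroup M] [Module R M] [AddCommGroup M'] [Module R M']
  {S S' : ℕ → Type*} [∀ n, AddCommGroup (S n)] [∀ n, Module R (S n)]
  [∀ n, AddCommGroup (S' n)] [∀ n, Module R (S' n)]

theorem exists_lift_smul (ρ : ∀ n, M →ₗ[R] S n) (t : ∀ n, S (n + 1) →ₗ[R] S n)
    (ht : ∀ n c, t n (ρ (n + 1) c) = ρ n c)
    (ρ' : ∀ n, M' →ₗ[R] S' n) (t' : ∀ n, S' (n + 1) →ₗ[R] S' n)
    (ht' : ∀ n c, t' n (ρ' (n + 1) c) = ρ' n c)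
    (hS : ∀ (n k : ℕ) (y : S n), (∀ x ∈ I ^ k, x • y = 0) → y = 0)
    (hcoker : ∀ (n : ℕ) (s : S n), ∃ k : ℕ, ∀ x ∈ I ^ k, ∃ c, ρ n c = x • s)
    (hS' : ∀ n, MClosed I (S' n))
    (hcomplete : ∀ q : ∀ n, S' n, (∀ n, t' n (q (n + 1)) = q n) → ∃ r, ∀ n, ρ' n r = q n)
    (α : M →ₗ[R] M') (β : M' →ₗ[R] M) (g : R) (hβα : ∀ x, β (α x) = g • x)
    (hα : ∀ n c, ρ n c = 0 → ρ' n (α c) = 0) (hβ : ∀ n c, ρ' n c = 0 → ρ n (β c) = 0)
    (s : ∀ n, S n) (hs : ∀ n, t n (s (n + 1)) = s n) : ∃ c, ∀ n, ρ n c = g • s n := by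
  have h1 := fun n => exists_ext (ρ n) (ρ' n) α (hS' n) (hα n) (s n) (hcoker n (s n))
  choose q hq using h1
  have hqt : ∀ n, t' n (q (n + 1)) = q n := by
    intro n
    obtain ⟨k, hk⟩ := hcoker (n + 1) (s (n + 1))
    rw [← sub_eq_zero]
    apply (hS' n).eq_zero k
    intro x hx
    obtain ⟨c, hc⟩ := hk x hx
    have h2 := hq (n + 1) x c hc
    have h3 : ρ n c = x • s n := by rw [← ht, hc, map_smul, hs]
    have h4 := hq n x c h3
    rw [smul_sub, ← map_smul, ← h2, ht', h4, sub_self]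
  obtain ⟨r, hr⟩ := hcomplete q hqt
  refine ⟨β r, fun n => ?_⟩
  obtain ⟨k, hk⟩ := hcoker n (s n)
  rw [← sub_eq_zero]
  apply hS n k
  intro x hx
  obtain ⟨c, hc⟩ := hk x hx
  have h5 : ρ' n (x • r - α c) = 0 := by
    rw [map_sub, map_smul, hr, hq n x c hc, sub_self]
  have h6 := hβ n _ h5
  rw [map_sub, map_sub, map_smul, hβα, map_smul, map_smul, hc, sub_eq_zero] at h6
  rw [smul_sub, h6, smul_comm, sub_self]

end System

section Glue

variable {R : Type u} [CommRing R] {I : Ideal R} {C : Type*} [AddCommGroup C] [Module R C]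
  {S : ℕ → Type*} [∀ n, AddCommGroup (S n)] [∀ n, Module R (S n)]

theorem exists_of_smul (hI : I.FG) (hC : MClosed I C) (ρ : ∀ n, C →ₗ[R] S n)
    (hS : ∀ (n k : ℕ) (y : S n), (∀ x ∈ I ^ k, x • y = 0) → y = 0)
    (hsep : ∀ c : C, (∀ n, ρ n c = 0) → c = 0)
    (s : ∀ n, S n) (h : ∀ g ∈ I, ∃ (N : ℕ) (c : C), ∀ n, ρ n c = g ^ N • s n) :
    ∃ c, ∀ n, ρ n c = s n := by
  let J : Ideal R :=
    { carrier := {x | ∃ c : C, ∀ n, ρ n c = x • s n}
      add_mem' := by
        rintro x y ⟨c, hc⟩ ⟨d, hd⟩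
        exact ⟨c + d, fun n => by rw [map_add, hc, hd, add_smul]⟩
      zero_mem' := ⟨0, fun n => by rw [map_zero, zero_smul]⟩
      smul_mem' := by
        rintro a x ⟨c, hc⟩
        exact ⟨a • c, fun n => by rw [map_smul, hc, smul_smul, smul_eq_mul]⟩ }
  have hJ : I ≤ J.radical := fun g hg => h g hg
  obtain ⟨k, hk⟩ := Ideal.exists_pow_le_of_le_radical_of_fg hJ hI
  have key : ∀ x : ↥(I ^ k), ∃ c : C, ∀ n, ρ n c = (x : R) • s n := fun x => hk x.2
  choose γ hγ using key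
  let H : ↥(I ^ k) →ₗ[R] C :=
    { toFun := γ
      map_add' := fun x y => by
        rw [← sub_eq_zero]
        apply hsep
        intro n
        rw [map_sub, map_add, hγ, hγ, hγ, Submodule.coe_add, add_smul, sub_self]
      map_smul' := fun a x => by
        rw [← sub_eq_zero]
        apply hsep
        intro n
        rw [map_sub, RingHom.id_apply, map_smul, hγ, hγ, Submodule.coe_smul, smul_assoc,
          sub_self] }
  obtain ⟨y, hy⟩ := hC.exists_smul k H
  refine ⟨y, fun n => ?_⟩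
  rw [← sub_eq_zero]
  apply hS n k
  intro x hx
  have h1 : γ ⟨x, hx⟩ = x • y := hy ⟨x, hx⟩
  rw [smul_sub, ← map_smul, ← h1, hγ, sub_self]

end Glue

end Groth.Agent.Pi1C.CLift
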