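import Groth.Agent.Pi1C.CLift

/-!
Completeness of the sections of a finite flat cover of the complement of `V(I)`.
-/

set_option autoImplicit false

universe u

namespace Groth.Agent.Pi1C.CLift

open Groth.Agent.Pi1C.MLift Groth.Agent.Pi1C.PuncturedSections Groth.Agent.Pi1C.PuncFinite
open TensorProduct

variable {R : Type u} [CommRing R] {I : Ideal R}

lemma mClosed_pi {Q : Type*} [AddCommGroup Q] [Module R Q] (hQ : MClosed I Q) (b : ℕ) :
    MClosed I (Fin b → Q) := by
  constructor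
  · intro k h
    have key := fun i => hQ.exists_smul k ((LinearMap.proj i).comp h)
    choose y hy using key
    refine ⟨y, fun x => ?_⟩
    ext i
    exact hy i x
  · intro k y hy
    ext i
    exact hQ.eq_zero k (y i) (fun x hx => congrFun (hy x hx) i)

lemma eq_zero_of_forall (hI : I.FG) {Q : Type*} [AddCommGroup Q] [Module R Q]
    (hQ : ∀ (k : ℕ) (y : Q), (∀ x ∈ I ^ k, x • y = 0) → y = 0) (y : Q)
    (h : ∀ g ∈ I, ∃ N : ℕ, g ^ N • y = 0) : y = 0 := by
  obtain ⟨k, hk⟩ := exists_pow_smul_eq_zero I hI y h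
  exact hQ k y hk

/-- Retractions `M → R ^ b → M` with composite a power of `g`. -/
theorem exists_retract_away [IsNoetherianRing R] {C : Type u} [CommRing C] [Algebra R C]
    (M : Submodule R C) (hM : M.FG) (g : R) (hMg : ∀ c : C, ∃ k : ℕ, g ^ k • c ∈ M)
    (hfin : Module.Finite (Localization.Away g) (Localization.Away g ⊗[R] C))
    (hflat : Module.Flat (Localization.Away g) (Localization.Away g ⊗[R] C)) :
    ∃ (b N : ℕ) (α : M →ₗ[R] (Fin b → R)) (β : (Fin b → R) →ₗ[R] M),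
      ∀ x, β (α x) = g ^ N • x := by
  have _ := projective_away hfin hflat
  have _ : Module.Finite R M := Module.Finite.iff_fg.mpr hM
  let φ : M →ₗ[R] Localization.Away g ⊗[R] C := (toAway g).comp M.subtype
  have hφ : IsLocalizedModule (Submonoid.powers g) φ := by
    constructor
    · exact IsLocalizedModule.map_units (toAway (B := C) g)
    · intro y
      obtain ⟨⟨b, ⟨_, n, rfl⟩⟩, hb⟩ := IsLocalizedModule.surj (Submonoid.powers g)
        (toAway (B := C) g) y
      obtain ⟨k, hk⟩ := hMg b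
      refine ⟨⟨⟨g ^ k • b, hk⟩, ⟨_, k + n, rfl⟩⟩, ?_⟩
      have hb' : g ^ n • y = toAway g b := hb
      change g ^ (k + n) • y = toAway g (g ^ k • b)
      rw [map_smul, ← hb', smul_smul, pow_add]
    · intro x y hxy
      obtain ⟨⟨_, n, rfl⟩, hn⟩ := IsLocalizedModule.exists_of_eq (S := Submonoid.powers g)
        (f := toAway (B := C) g) (x₁ := (x : C)) (x₂ := (y : C)) hxy
      exact ⟨⟨_, n, rfl⟩, Subtype.ext hn⟩
  let Rg := Localization.Away g
  obtain ⟨b, β, hβ⟩ := Module.Finite.exists_fin' R M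
  let ι : (Fin b → R) →ₗ[R] (Fin b → Rg) :=
    LinearMap.pi fun i => (Algebra.linearMap R Rg).comp (LinearMap.proj i)
  have hι : IsLocalizedModule (Submonoid.powers g) ι := inferInstance
  let βf : (Fin b → Rg) →ₗ[Rg] Rg ⊗[R] C :=
    IsLocalizedModule.mapExtendScalars (Submonoid.powers g) ι φ Rg β
  have hβf : Function.Surjective βf :=
    IsLocalizedModule.map_surjective (Submonoid.powers g) ι φ β hβ
  obtain ⟨s, hs⟩ := Module.projective_lifting_property βf LinearMap.id hβf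
  have : Module.FinitePresentation R M := Module.finitePresentation_of_finite R M
  obtain ⟨α, ⟨_, n, rfl⟩, hα⟩ :=
    Module.FinitePresentation.exists_lift_of_isLocalizedModule (Submonoid.powers g) ι
      ((s.restrictScalars R).comp φ)
  -- on the localization the composite is `g ^ n`
  have h4 : ∀ x, φ (β (α x)) = φ (g ^ n • x) := by
    intro x
    have h1 : φ (β (α x)) = βf (ι (α x)) :=
      (IsLocalizedModule.map_apply (Submonoid.powers g) ι φ β (α x)).symm
    have h2 : ι (α x) = g ^ n • s (φ x) := congr($hα x)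
    have h3 : βf (s (φ x)) = φ x := congr($hs (φ x))
    rw [h1, h2, ← algebraMap_smul Rg (g ^ n) (s (φ x)), map_smul, h3, algebraMap_smul, map_smul]
  have h5 : ∀ x : M, ∃ k : ℕ, g ^ k • (β (α x) - g ^ n • x) = 0 := by
    intro x
    obtain ⟨⟨_, k, rfl⟩, hk⟩ := IsLocalizedModule.exists_of_eq (S := Submonoid.powers g) (h4 x)
    refine ⟨k, ?_⟩
    rw [smul_sub, sub_eq_zero]
    exact hk
  -- uniform bound
  obtain ⟨T, hT⟩ := (Module.Finite.fg_top : (⊤ : Submodule R M).FG)
  choose κ hκ using h5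
  let k := T.sup κ
  have h6 : ∀ x : M, g ^ k • (β (α x) - g ^ n • x) = 0 := by
    intro x
    let D : M →ₗ[R] M := g ^ k • (β.comp α - g ^ n • LinearMap.id)
    have h7 : (⊤ : Submodule R M) ≤ LinearMap.ker D := by
      rw [← hT, Submodule.span_le]
      intro y hy
      rw [SetLike.mem_coe, LinearMap.mem_ker]
      have h8 : κ y ≤ k := Finset.le_sup hy
      change g ^ k • (β (α y) - g ^ n • y) = 0
      rw [← Nat.sub_add_cancel h8, pow_add, mul_smul, hκ, smul_zero]
    exact h7 (Submodule.mem_top : x ∈ ⊤)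
  refine ⟨b, k + n, α, g ^ k • β, fun x => ?_⟩
  have h9 := h6 x
  rw [smul_sub, sub_eq_zero, smul_smul, ← pow_add] at h9
  exact h9

theorem main [IsNoetherianRing R] {C : Type u} [CommRing C] [Algebra R C] (hC : MClosed I C)
    (hfin : ∀ g ∈ I, Module.Finite (Localization.Away g) (Localization.Away g ⊗[R] C))
    (hflat : ∀ g ∈ I, Module.Flat (Localization.Away g) (Localization.Away g ⊗[R] C))
    (J : ℕ → Ideal R)
    {S : ℕ → Type*} [∀ n, AddCommGroup (S n)] [∀ n, Module R (S n)]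
    (ρ : ∀ n, C →ₗ[R] S n) (t : ∀ n, S (n + 1) →ₗ[R] S n)
    (ht : ∀ n c, t n (ρ (n + 1) c) = ρ n c)
    (hS : ∀ (n k : ℕ) (y : S n), (∀ x ∈ I ^ k, x • y = 0) → y = 0)
    (hcoker : ∀ (n : ℕ) (s : S n), ∃ k : ℕ, ∀ x ∈ I ^ k, ∃ c, ρ n c = x • s)
    (hker : ∀ n c, ρ n c = 0 ↔ ∃ k : ℕ, ∀ x ∈ I ^ k, x • c ∈ (J n • ⊤ : Submodule R C))
    {Q : ℕ → Type*} [∀ n, AddCommGroup (Q n)] [∀ n, Module R (Q n)]
    (r : ∀ n, R →ₗ[R] Q n) (t' : ∀ n, Q (n + 1) →ₗ[R] Q n)
    (ht' : ∀ n c, t' n (r (n + 1) c) = r n c)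
    (hQ : ∀ n, MClosed I (Q n))
    (hkerQ : ∀ n c, r n c = 0 ↔ c ∈ J n)
    (hsepQ : ∀ c : R, (∀ n, c ∈ J n) → c = 0)
    (hcomplete : ∀ q : ∀ n, Q n, (∀ n, t' n (q (n + 1)) = q n) → ∃ x, ∀ n, r n x = q n) :
    (∀ c : C, (∀ n, ρ n c = 0) → c = 0) ∧
    (∀ s : ∀ n, S n, (∀ n, t n (s (n + 1)) = s n) → ∃ c, ∀ n, ρ n c = s n) := by
  have hI : I.FG := IsNoetherian.noetherian I
  obtain ⟨M, hM, hM2⟩ := exists_fg hI hfin
  have hMg : ∀ g ∈ I, ∀ c : C, ∃ k : ℕ, g ^ k • c ∈ M := by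
    intro g hg c
    obtain ⟨k, hk⟩ := hM2 c
    exact ⟨k, hk _ (Ideal.pow_mem_pow hg k)⟩
  -- the system for `Fin b → R`
  let r' : ∀ (b n : ℕ), (Fin b → R) →ₗ[R] (Fin b → Q n) := fun b n =>
    LinearMap.pi fun i => (r n).comp (LinearMap.proj i)
  let t'' : ∀ (b n : ℕ), (Fin b → Q (n + 1)) →ₗ[R] (Fin b → Q n) := fun b n =>
    LinearMap.pi fun i => (t' n).comp (LinearMap.proj i)
  -- elements of `J n • M`
  have hJC : ∀ (n : ℕ) (g : R) (hg : g ∈ I) (z : C), z ∈ (J n • ⊤ : Submodule R C) →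
      ∃ k : ℕ, ∃ w ∈ (J n • ⊤ : Submodule R M), (w : C) = g ^ k • z := by
    intro n g hg z hz
    refine Submodule.smul_induction_on hz ?_ ?_
    · intro j hj c _
      obtain ⟨k, hk⟩ := hMg g hg c
      refine ⟨k, j • ⟨g ^ k • c, hk⟩, Submodule.smul_mem_smul hj trivial, ?_⟩
      change j • g ^ k • c = g ^ k • j • c
      rw [smul_comm]
    · rintro x y ⟨k, w, hw, hwx⟩ ⟨k', w', hw', hwy⟩
      refine ⟨k + k', g ^ k' • w + g ^ k • w',
        Submodule.add_mem _ (Submodule.smul_mem _ _ hw) (Submodule.smul_mem _ _ hw'), ?_⟩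
      rw [Submodule.coe_add, Submodule.coe_smul, Submodule.coe_smul, hwx, hwy, smul_add, smul_smul,
        smul_smul, ← pow_add, ← pow_add, add_comm k' k]
  have hα0 : ∀ (b n : ℕ) (α : M →ₗ[R] (Fin b → R)) (w : M), w ∈ (J n • ⊤ : Submodule R M) →
      r' b n (α w) = 0 := by
    intro b n α w hw
    refine Submodule.smul_induction_on hw ?_ ?_
    · intro j hj c _
      ext i
      change r n (α (j • c) i) = 0
      rw [map_smul, Pi.smul_apply, hkerQ, smul_eq_mul]
      exact Ideal.mul_mem_right _ _ hj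
    · intro x y hx hy
      rw [map_add, map_add, hx, hy, add_zero]
  have hα1 : ∀ (b n : ℕ) (α : M →ₗ[R] (Fin b → R)) (c : M), ρ n (c : C) = 0 →
      r' b n (α c) = 0 := by
    intro b n α c hc
    obtain ⟨k, hk⟩ := (hker n c).1 hc
    apply eq_zero_of_forall hI (mClosed_pi (hQ n) b).eq_zero
    intro g hg
    obtain ⟨k', w, hw, hwc⟩ := hJC n g hg _ (hk _ (Ideal.pow_mem_pow hg k))
    refine ⟨k' + k, ?_⟩
    have h1 : w = g ^ (k' + k) • c := Subtype.ext (by
      rw [hwc, Submodule.coe_smul, smul_smul, pow_add])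
    rw [← map_smul, ← map_smul, ← h1]
    exact hα0 b n α w hw
  have hβ1 : ∀ (b n : ℕ) (β : (Fin b → R) →ₗ[R] M) (v : Fin b → R), r' b n v = 0 →
      ρ n (β v : C) = 0 := by
    intro b n β v hv
    have h1 : v = ∑ i, v i • (Pi.single i (1 : R) : Fin b → R) := by
      ext j
      simp [Finset.sum_apply, Pi.single_apply]
    rw [h1, map_sum, Submodule.coe_sum, map_sum]
    apply Finset.sum_eq_zero
    intro i _
    rw [map_smul, Submodule.coe_smul, hker]
    refine ⟨0, fun x _ => Submodule.smul_mem _ _ (Submodule.smul_mem_smul ?_ trivial)⟩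
    rw [← hkerQ]
    exact congrFun hv i
  have hret := fun (g : R) (hg : g ∈ I) =>
    exists_retract_away M hM g (hMg g hg) (hfin g hg) (hflat g hg)
  have hsep : ∀ c : C, (∀ n, ρ n c = 0) → c = 0 := by
    intro c hc
    apply eq_zero_of_forall hI hC.eq_zero
    intro g hg
    obtain ⟨k, hk⟩ := hMg g hg c
    obtain ⟨b, N, α, β, hβα⟩ := hret g hg
    have h1 : α ⟨g ^ k • c, hk⟩ = 0 := by
      ext i
      apply hsepQ
      intro n
      rw [← hkerQ]
      exact congrFun (hα1 b n α ⟨g ^ k • c, hk⟩ (by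
        change ρ n (g ^ k • c) = 0
        rw [map_smul, hc, smul_zero])) i
    have h2 := hβα ⟨g ^ k • c, hk⟩
    rw [h1, map_zero] at h2
    refine ⟨N + k, ?_⟩
    have h3 : g ^ N • g ^ k • c = 0 := congrArg Subtype.val h2.symm
    rw [pow_add, mul_smul, h3]
  refine ⟨hsep, fun s hs => ?_⟩
  apply exists_of_smul hI hC ρ hS hsep s
  intro g hg
  obtain ⟨b, N, α, β, hβα⟩ := hret g hg
  obtain ⟨c, hc⟩ := exists_lift_smul (I := I) (fun n => (ρ n).comp M.subtype) t
    (fun n c => ht n c) (r' b) (t'' b)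
    (fun n c => by
      ext i
      exact ht' n (c i))
    hS
    (fun n s => by
      obtain ⟨k, hk⟩ := hcoker n s
      refine exists_pow_smul_mem I hI (LinearMap.range ((ρ n).comp M.subtype)) s ?_
      intro g hg
      obtain ⟨c, hc⟩ := hk _ (Ideal.pow_mem_pow hg k)
      obtain ⟨k', hk'⟩ := hMg g hg c
      refine ⟨k' + k, ⟨g ^ k' • c, hk'⟩, ?_⟩
      change ρ n (g ^ k' • c) = _
      rw [map_smul, hc, smul_smul, pow_add])
    (fun n => mClosed_pi (hQ n) b)
    (fun q hq => by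
      have key := fun i => hcomplete (fun n => q n i) (fun n => congrFun (hq n) i)
      choose x hx using key
      exact ⟨x, fun n => by ext i; exact hx i n⟩)
    α β (g ^ N) hβα (fun n c => hα1 b n α c) (fun n v => hβ1 b n β v) s hs
  exact ⟨N, c, hc⟩

end Groth.Agent.Pi1C.CLift
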