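import Groth.Agent.Localalg.LCSeq

/-!
# Local cohomology through exact functors to cochain complexes

If `F : ModuleCat R ⥤ CochainComplex (ModuleCat R) ℕ` is exact, `H^0 ∘ F ≅ Γ_I` and `F` kills
injectives in positive degrees, then `H^n ∘ F` is the `n`-th local cohomology functor. The
effaceability over a Noetherian ring is reduced to modules on which one of the `f_i` is bijective
and to `I`-power torsion modules.
-/

set_option autoImplicit false
universe w v u v' u'

open CategoryTheory Limits
open Groth.Agent.Localalg.DeltaFun Groth.Agent.Localalg.Gam Groth.Agent.Localalg.LCAbs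

namespace Groth.Agent.Pi1C.ExactCxLC

section General

variable {C : Type u} [Category.{v} C] [Abelian C] {D : Type u'} [Category.{v'} D] [Abelian D]

/-- The cohomological delta functor of an exact functor to cochain complexes. -/
noncomputable def deltaOfExact (F : C ⥤ CochainComplex D ℕ) [F.Additive]
    (hF : ∀ S : ShortComplex C, S.ShortExact → (S.map F).ShortExact) : DeltaFunctor C D where
  T n := F ⋙ HomologicalComplex.homologyFunctor D _ n
  additive _ := inferInstance
  δ := fun {S} hS n => (hF S hS).δ n (n + 1) rfl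
  naturality := fun {S S'} hS hS' φ n =>
    (HomologicalComplex.HomologySequence.δ_naturality (F.mapShortComplex.map φ)
      (hF S hS) (hF S' hS') n (n + 1) rfl).symm
  zero₃ := fun {S} hS n => (hF S hS).comp_δ n (n + 1) rfl
  zero₁ := fun {S} hS n => (hF S hS).δ_comp n (n + 1) rfl
  exact₂ := fun {S} hS n => (hF S hS).homology_exact₂ n
  exact₃ := fun {S} hS n => (hF S hS).homology_exact₃ n (n + 1) rfl
  exact₁ := fun {S} hS n => (hF S hS).homology_exact₁ n (n + 1) rfl

end General

section Module

variable {R : Type u} [CommRing R] (F : ModuleCat.{u} R ⥤ CochainComplex (ModuleCat.{u} R) ℕ)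
  [F.Additive] (hF : ∀ S : ShortComplex (ModuleCat.{u} R), S.ShortExact → (S.map F).ShortExact)

/-- `M` is acyclic: the positive cohomology of `F M` vanishes. -/
def Acyc (M : ModuleCat.{u} R) : Prop := ∀ n : ℕ, IsZero ((F.obj M).homology (n + 1))

omit [F.Additive] in
lemma Acyc.of_iso {M N : ModuleCat.{u} R} (e : M ≅ N) (h : Acyc F M) : Acyc F N := fun n =>
  (h n).of_iso ((HomologicalComplex.homologyFunctor _ _ (n + 1)).mapIso (F.mapIso e)).symm

include hF in
lemma Acyc.middle {S : ShortComplex (ModuleCat.{u} R)} (hS : S.ShortExact) (h₁ : Acyc F S.X₁)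
    (h₃ : Acyc F S.X₃) : Acyc F S.X₂ := fun n =>
  ((hF S hS).homology_exact₂ (n + 1)).isZero_of_both_zeros ((h₁ n).eq_of_src _ _)
    ((h₃ n).eq_of_tgt _ _)

/-- The quotient by the `f`-power torsion: `f` is injective on it. -/
lemma bijective_smul_quotient (f : R) (M : Type u) [AddCommGroup M] [Module R M]
    (hd : Div f M) :
    Function.Bijective (fun x : M ⧸ gam (Ideal.span {f}) M => f • x) := by
  constructor
  · have : Function.Injective (LinearMap.lsmul R (M ⧸ gam (Ideal.span {f}) M) f) := by
      rw [injective_iff_map_eq_zero]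
      intro x hx
      obtain ⟨x, rfl⟩ := Submodule.Quotient.mk_surjective _ x
      have hx' : f • x ∈ gam (Ideal.span {f}) M :=
        (Submodule.Quotient.mk_eq_zero _).1 (by simpa using hx)
      refine (Submodule.Quotient.mk_eq_zero _).2 ?_
      rw [mem_gam_span_singleton] at hx' ⊢
      obtain ⟨n, hn⟩ := hx'
      exact ⟨n + 1, by rw [pow_succ, mul_smul, hn]⟩
    exact this
  · intro x
    obtain ⟨x, rfl⟩ := Submodule.Quotient.mk_surjective _ x
    obtain ⟨y, k, hk⟩ := hd x 1
    refine ⟨Submodule.Quotient.mk y, ?_⟩
    change Submodule.Quotient.mk (f • y) = Submodule.Quotient.mk x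
    refine ((Submodule.Quotient.eq _).2 ?_).symm
    rw [mem_gam_span_singleton]
    exact ⟨k, by rwa [pow_one] at hk⟩

include hF in
/-- Devissage for injective modules over a Noetherian ring. -/
theorem acyc_of_list [IsNoetherianRing R] (l : List R)
    (hdiv : ∀ f ∈ l, ∀ M : ModuleCat.{u} R, Function.Bijective (fun x : M => f • x) → Acyc F M) :
    ∀ M : ModuleCat.{u} R, Module.Injective R M →
      Acyc F (ModuleCat.of R (gam (Ideal.span {x | x ∈ l}) M)) → Acyc F M := by
  induction l with
  | nil =>
    intro M _ h
    have h0 : gam (Ideal.span {x : R | x ∈ ([] : List R)}) M = ⊤ := by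
      rw [show {x : R | x ∈ ([] : List R)} = ∅ by ext; simp, Ideal.span_empty]
      exact gam_bot
    exact h.of_iso F ((LinearEquiv.ofEq _ _ h0).trans Submodule.topEquiv).toModuleIso
  | cons f l ih =>
    intro M hM h
    have hg : Acyc F (ModuleCat.of R (gam (Ideal.span {f}) M)) := by
      refine ih (fun g hg => hdiv g (List.mem_cons_of_mem _ hg)) _ (injective_gam _ M hM) ?_
      refine h.of_iso F (LinearEquiv.toModuleIso ?_)
      have e : Ideal.span {x : R | x ∈ f :: l} = Ideal.span {x | x ∈ l} ⊔ Ideal.span {f} := by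
        rw [← Ideal.span_union]
        congr 1
        ext x
        simp
      exact (LinearEquiv.ofEq _ _ (by rw [e])).trans (gamGamEquiv _ _ M).symm
    let S : ShortComplex (ModuleCat.{u} R) :=
      { X₁ := ModuleCat.of R (gam (Ideal.span {f}) M)
        X₂ := M
        X₃ := ModuleCat.of R (M ⧸ gam (Ideal.span {f}) M)
        f := ModuleCat.ofHom (gam (Ideal.span {f}) M).subtype
        g := ModuleCat.ofHom (gam (Ideal.span {f}) M).mkQ
        zero := by ext x; simp }
    have hS : S.ShortExact :=
      { exact := (ShortComplex.moduleCat_exact_iff_range_eq_ker S).2 (by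
          change LinearMap.range (Submodule.subtype _) = LinearMap.ker (Submodule.mkQ _)
          rw [Submodule.range_subtype, Submodule.ker_mkQ])
        mono_f := (ModuleCat.mono_iff_injective _).2 (Submodule.injective_subtype _)
        epi_g := (ModuleCat.epi_iff_surjective _).2 (Submodule.mkQ_surjective _) }
    exact Acyc.middle F hF hS hg (hdiv f (List.mem_cons_self ..) _
      (bijective_smul_quotient f M (div_of_injective f M hM)))

theorem effaceable [IsNoetherianRing R] (l : List R)
    (hdiv : ∀ f ∈ l, ∀ M : ModuleCat.{u} R, Function.Bijective (fun x : M => f • x) → Acyc F M)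
    (htors : ∀ M : ModuleCat.{u} R, LocCoh.IsPowerTorsion (Ideal.span {x | x ∈ l}) M → Acyc F M) :
    (deltaOfExact F hF).Effaceable := by
  intro J hJ n
  exact acyc_of_list F hF l hdiv J (moduleInjective J) (htors _ isPowerTorsion_gam) n

include hF in
/-- **Comparison theorem**: an exact functor to complexes with `H^0 = Γ_I`, whose positive
cohomology vanishes on modules on which some `f_i` is bijective and on `I`-power torsion modules
computes local cohomology (`R` Noetherian, `I` generated by the `f_i`). -/
theorem exists_iso [IsNoetherianRing R] (l : List R) {I : Ideal R}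
    (hI : I = Ideal.span {x | x ∈ l})
    (hdiv : ∀ f ∈ l, ∀ M : ModuleCat.{u} R, Function.Bijective (fun x : M => f • x) → Acyc F M)
    (htors : ∀ M : ModuleCat.{u} R, LocCoh.IsPowerTorsion I M → Acyc F M)
    (h0 : F ⋙ HomologicalComplex.homologyFunctor _ _ 0 ≅ gamFunctor I) (n : ℕ) :
    Nonempty (F ⋙ HomologicalComplex.homologyFunctor _ _ n ≅ localCohomology I n) := by
  subst hI
  obtain ⟨E, -, -⟩ := Groth.Agent.Localalg.DeltaFun.exists_iso
    (T := deltaOfExact F hF) (T' := (Groth.Agent.Localalg.LCAbs.lc (Ideal.span {x | x ∈ l})).D)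
    (effaceable F hF l hdiv htors) (Groth.Agent.Localalg.LCAbs.lc (Ideal.span {x | x ∈ l})).eff
    (h0 ≪≫ (Groth.Agent.Localalg.LCAbs.lc (Ideal.span {x | x ∈ l})).zero.symm)
  exact ⟨E n⟩

end Module

end Groth.Agent.Pi1C.ExactCxLC
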