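import Groth.Agent.FormalA.LocSub
import Groth.Agent.Pi1C.ExactCxLC

/-!
# The extended Čech complex of a module for a family of elements

For `g : ι → A` and an `A`-module `N`, `EC g N n = ∏_{s : Fin n → ι} N[1/g (s 0), …, 1/g (s (n-1))]`
with the alternating differential; in degree `0` it is `N` (localized at `⊥`).
-/

set_option autoImplicit false
universe u v w

open CategoryTheory Limits
open Groth.Agent.FormalA.LocSub

namespace Groth.Agent.Pi1C.CechAll

section Sum

/-- Cancellation in an alternating double sum with simplicial symmetry. -/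
theorem sum_alt_eq_zero (R : Type*) [CommRing R] {M : Type*} [AddCommGroup M] [Module R M] (n : ℕ) (T : Fin (n + 2) → Fin (n + 1) → M)
    (h : ∀ i j : Fin (n + 1), i ≤ j → T j.succ i = T i.castSucc j) :
    ∑ i : Fin (n + 2), ∑ j : Fin (n + 1), ((-1 : R) ^ ((i : ℕ) + (j : ℕ))) • T i j = 0 := by
  rw [← Finset.sum_product']
  -- the involution
  let f : Fin (n + 2) × Fin (n + 1) → M := fun p => ((-1 : R) ^ ((p.1 : ℕ) + (p.2 : ℕ))) • T p.1 p.2
  let inv : Fin (n + 2) × Fin (n + 1) → Fin (n + 2) × Fin (n + 1) := fun p =>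
    if hp : (p.1 : ℕ) ≤ (p.2 : ℕ) then (p.2.succ, ⟨p.1, lt_of_le_of_lt hp p.2.2⟩)
    else (p.2.castSucc, ⟨(p.1 : ℕ) - 1, by have := p.1.2; omega⟩)
  have key : ∀ i j : Fin (n + 1), i ≤ j → f (i.castSucc, j) + f (j.succ, i) = 0 := by
    intro i j hij
    change ((-1 : R) ^ ((i : ℕ) + (j : ℕ))) • T i.castSucc j +
      ((-1 : R) ^ ((j : ℕ) + 1 + (i : ℕ))) • T j.succ i = 0
    rw [h i j hij, ← add_smul]
    have : ((-1 : R) ^ ((i : ℕ) + (j : ℕ))) + ((-1 : R) ^ ((j : ℕ) + 1 + (i : ℕ))) = 0 := by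
      rw [show (j : ℕ) + 1 + (i : ℕ) = ((i : ℕ) + (j : ℕ)) + 1 by ring, pow_succ]
      ring
    rw [this, zero_smul]
  refine Finset.sum_involution (fun p _ => inv p) ?_ ?_ (fun _ _ => Finset.mem_univ _) ?_
  · rintro ⟨i, j⟩ -
    change f (i, j) + f (inv (i, j)) = 0
    by_cases hp : (i : ℕ) ≤ (j : ℕ)
    · have e : inv (i, j) = (j.succ, ⟨i, lt_of_le_of_lt hp j.2⟩) := dif_pos hp
      rw [e]
      exact key ⟨i, lt_of_le_of_lt hp j.2⟩ j hp
    · have e : inv (i, j) = (j.castSucc, ⟨(i : ℕ) - 1, by have := i.2; omega⟩) := dif_neg hp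
      rw [e, add_comm]
      have hi : (⟨(i : ℕ) - 1, by have := i.2; omega⟩ : Fin (n + 1)).succ = i := by
        ext
        simp only [Fin.val_succ]
        omega
      have := key j ⟨(i : ℕ) - 1, by have := i.2; omega⟩ (by
        rw [Fin.le_def]
        change (j : ℕ) ≤ (i : ℕ) - 1
        omega)
      rwa [hi] at this
  · rintro ⟨i, j⟩ - - he
    have he' : inv (i, j) = (i, j) := he
    by_cases hp : (i : ℕ) ≤ (j : ℕ)
    · have e : inv (i, j) = (j.succ, ⟨i, lt_of_le_of_lt hp j.2⟩) := dif_pos hp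
      rw [e] at he'
      have h1 := congrArg (fun p => (p.1 : ℕ)) he'
      simp only [Fin.val_succ] at h1
      omega
    · have e : inv (i, j) = (j.castSucc, ⟨(i : ℕ) - 1, by have := i.2; omega⟩) := dif_neg hp
      rw [e] at he'
      have h1 := congrArg (fun p => (p.1 : ℕ)) he'
      simp only [Fin.val_castSucc] at h1
      omega
  · rintro ⟨i, j⟩ -
    by_cases hp : (i : ℕ) ≤ (j : ℕ)
    · have e : inv (i, j) = (j.succ, ⟨i, lt_of_le_of_lt hp j.2⟩) := dif_pos hp
      rw [e]
      have hq : ¬ ((j.succ : Fin (n + 2)) : ℕ) ≤ ((⟨i, lt_of_le_of_lt hp j.2⟩ : Fin (n + 1)) : ℕ) := by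
        simp only [Fin.val_succ]
        omega
      refine (dif_neg hq).trans ?_
      ext
      · rfl
      · simp
    · have e : inv (i, j) = (j.castSucc, ⟨(i : ℕ) - 1, by have := i.2; omega⟩) := dif_neg hp
      rw [e]
      have hq : ((j.castSucc : Fin (n + 2)) : ℕ) ≤
          ((⟨(i : ℕ) - 1, by have := i.2; omega⟩ : Fin (n + 1)) : ℕ) := by
        simp only [Fin.val_castSucc]
        omega
      refine (dif_pos hq).trans ?_
      ext
      · simp only [Fin.val_succ]
        omega
      · rfl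

/-- The simplicial identity for faces of tuples. -/
theorem comp_succAbove_comm {ι : Type*} {n : ℕ} (s : Fin (n + 2) → ι) (i j : Fin (n + 1))
    (hij : i ≤ j) : (s ∘ j.succ.succAbove) ∘ i.succAbove = (s ∘ i.castSucc.succAbove) ∘ j.succAbove := by
  funext a
  simp only [Function.comp_apply]
  congr 1
  ext
  simp only [Fin.succAbove, Fin.lt_def, Fin.val_castSucc, Fin.val_succ]
  rw [Fin.le_def] at hij
  split_ifs <;> simp only [Fin.val_castSucc, Fin.val_succ] at * <;> omega

end Sum

section Defs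

variable {A : Type u} [CommRing A] {ι : Type v} (g : ι → A)

/-- The submonoid generated by the `g (s j)`. -/
def P {n : ℕ} (s : Fin n → ι) : Submonoid A := ⨆ j, Submonoid.powers (g (s j))

theorem P_comp_le {n m : ℕ} (s : Fin n → ι) (φ : Fin m → Fin n) : P g (s ∘ φ) ≤ P g s :=
  iSup_le fun j => le_iSup (fun j => Submonoid.powers (g (s j))) (φ j)

theorem mem_P {n : ℕ} (s : Fin n → ι) (j : Fin n) : g (s j) ∈ P g s :=
  le_iSup (fun j => Submonoid.powers (g (s j))) j (Submonoid.mem_powers _)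

theorem P_cons {n : ℕ} (k : ι) (s : Fin n → ι) :
    P g (Fin.cons k s : Fin (n + 1) → ι) = Submonoid.powers (g k) ⊔ P g s := by
  apply le_antisymm
  · refine iSup_le fun j => ?_
    refine Fin.cases ?_ (fun j => ?_) j
    · exact le_sup_left
    · exact le_trans (le_iSup (fun j => Submonoid.powers (g (s j))) j) le_sup_right
  · refine sup_le ?_ (iSup_le fun j => ?_)
    · exact le_iSup (fun j => Submonoid.powers (g ((Fin.cons k s : Fin (n + 1) → ι) j))) 0
    · exact le_iSup (fun j => Submonoid.powers (g ((Fin.cons k s : Fin (n + 1) → ι) j))) j.succ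

theorem P_zero (s : Fin 0 → ι) : P g s = ⊥ := by simp [P]

section Mod

variable (N : Type w) [AddCommGroup N] [Module A N] {N' N'' : Type*} [AddCommGroup N'] [Module A N']
  [AddCommGroup N''] [Module A N'']

/-- The terms of the extended Čech complex. -/
abbrev EC (n : ℕ) : Type _ := ∀ s : Fin n → ι, LocalizedModule (P g s) N

/-- The differential of the extended Čech complex. -/
noncomputable def d (n : ℕ) : EC g N n →ₗ[A] EC g N (n + 1) :=
  LinearMap.pi fun s => ∑ j : Fin (n + 1), ((-1 : A) ^ (j : ℕ)) •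
    (res (P_comp_le g s j.succAbove) ∘ₗ LinearMap.proj (s ∘ j.succAbove))

theorem d_apply (n : ℕ) (x : EC g N n) (s : Fin (n + 1) → ι) :
    d g N n x s = ∑ j : Fin (n + 1), ((-1 : A) ^ (j : ℕ)) •
      res (P_comp_le g s j.succAbove) (x (s ∘ j.succAbove)) := by
  simp only [d, LinearMap.pi_apply, LinearMap.sum_apply, LinearMap.smul_apply,
    LinearMap.comp_apply, LinearMap.proj_apply]

theorem res_congr {n : ℕ} (x : EC g N n) {s t : Fin n → ι} (h : s = t) {S : Submonoid A}
    (hs : P g s ≤ S) (ht : P g t ≤ S) : res hs (x s) = res ht (x t) := by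
  subst h; rfl

theorem d_d (n : ℕ) (x : EC g N n) : d g N (n + 1) (d g N n x) = 0 := by
  funext s
  rw [d_apply]
  let T : Fin (n + 2) → Fin (n + 1) → LocalizedModule (P g s) N := fun i j =>
    res ((P_comp_le g (s ∘ i.succAbove) j.succAbove).trans (P_comp_le g s i.succAbove))
      (x ((s ∘ i.succAbove) ∘ j.succAbove))
  have h := sum_alt_eq_zero A n T (fun i j hij => res_congr g N x (comp_succAbove_comm s i j hij) _ _)
  refine Eq.trans (Finset.sum_congr rfl fun i _ => ?_) h
  rw [d_apply, map_sum, Finset.smul_sum]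
  refine Finset.sum_congr rfl fun j _ => ?_
  rw [map_smul, res_res, smul_smul, ← pow_add]

theorem d_comp_d (n : ℕ) : d g N (n + 1) ∘ₗ d g N n = 0 := LinearMap.ext (d_d g N n)

variable {N}

/-- Functoriality. -/
noncomputable def emap (φ : N →ₗ[A] N') (n : ℕ) : EC g N n →ₗ[A] EC g N' n :=
  LinearMap.pi fun s => lmap _ φ ∘ₗ LinearMap.proj s

theorem emap_apply (φ : N →ₗ[A] N') (n : ℕ) (x : EC g N n) (s : Fin n → ι) :
    emap g φ n x s = lmap _ φ (x s) := rfl

theorem emap_d (φ : N →ₗ[A] N') (n : ℕ) (x : EC g N n) :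
    emap g φ (n + 1) (d g N n x) = d g N' n (emap g φ n x) := by
  funext s
  rw [emap_apply, d_apply, d_apply, map_sum]
  refine Finset.sum_congr rfl fun j _ => ?_
  rw [map_smul, ← res_lmap]
  rfl

theorem emap_id (n : ℕ) : emap g (LinearMap.id : N →ₗ[A] N) n = LinearMap.id := by
  refine LinearMap.ext fun x => ?_
  funext s
  exact lmap_id _

theorem emap_comp (φ : N →ₗ[A] N') (ψ : N' →ₗ[A] N'') (n : ℕ) :
    emap g (ψ ∘ₗ φ) n = emap g ψ n ∘ₗ emap g φ n := by
  refine LinearMap.ext fun x => ?_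
  funext s
  exact (lmap_comp φ ψ (x s)).symm

theorem emap_add (φ ψ : N →ₗ[A] N') (n : ℕ) : emap g (φ + ψ) n = emap g φ n + emap g ψ n := by
  refine LinearMap.ext fun x => ?_
  funext s
  exact lmap_add φ ψ (x s)

theorem emap_injective (φ : N →ₗ[A] N') (h : Function.Injective φ) (n : ℕ) :
    Function.Injective (emap g φ n) := fun x y hxy => by
  funext s
  exact lmap_injective φ h (congr_fun hxy s)

theorem emap_surjective (φ : N →ₗ[A] N') (h : Function.Surjective φ) (n : ℕ) :
    Function.Surjective (emap g φ n) := fun y => by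
  choose x hx using fun s => lmap_surjective φ h (y s)
  exact ⟨x, funext hx⟩

theorem emap_exact (φ : N →ₗ[A] N') (ψ : N' →ₗ[A] N'') (h : Function.Exact φ ψ) (n : ℕ) :
    Function.Exact (emap g φ n) (emap g ψ n) := by
  intro y
  constructor
  · intro hy
    choose x hx using fun s => (lmap_exact (S := P g s) φ ψ h (y s)).1 (congr_fun hy s)
    exact ⟨x, funext hx⟩
  · rintro ⟨x, rfl⟩
    funext s
    exact (lmap_exact (S := P g s) φ ψ h _).2 ⟨x s, rfl⟩

/-- Restriction to a bigger tuple is bijective if the new element acts bijectively. -/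
theorem res_cons_bijective {n : ℕ} (k : ι) (hk : Function.Bijective fun x : N => g k • x)
    (s : Fin n → ι) (h : P g s ≤ P g (Fin.cons k s : Fin (n + 1) → ι)) :
    Function.Bijective (res h : LocalizedModule (P g s) N →ₗ[A] _) := by
  have hb : ∀ a ∈ Submonoid.powers (g k), Function.Bijective fun x : N => a • x := by
    rintro a ⟨m, rfl⟩
    induction m with
    | zero => simp only [pow_zero, one_smul]; exact Function.bijective_id
    | succ m ih =>
      have : (fun x : N => g k ^ (m + 1) • x) = (fun x : N => g k ^ m • x) ∘ fun x : N => g k • x := by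
        funext x
        simp [pow_succ, mul_smul]
      change Function.Bijective (fun x : N => g k ^ (m + 1) • x)
      rw [this]
      exact ih.comp hk
  have e := P_cons g k s
  revert h
  rw [e]
  intro h
  exact res_bijective_sup _ _ hb

theorem le_cons {n : ℕ} (k : ι) (s : Fin n → ι) : P g s ≤ P g (Fin.cons k s : Fin (n + 1) → ι) := by
  rw [P_cons]; exact le_sup_right

theorem cons_comp_zero {n : ℕ} (k : ι) (s : Fin n → ι) :
    (Fin.cons k s : Fin (n + 1) → ι) ∘ (0 : Fin (n + 1)).succAbove = s := by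
  funext a
  simp

theorem cons_comp_succ {n : ℕ} (k : ι) (s : Fin (n + 1) → ι) (j : Fin (n + 1)) :
    (Fin.cons k s : Fin (n + 2) → ι) ∘ j.succ.succAbove = Fin.cons k (s ∘ j.succAbove) := by
  funext a
  refine Fin.cases ?_ (fun b => ?_) a
  · simp
  · simp [Fin.succ_succAbove_succ]

/-- Contraction: if some `g k` is bijective on `N` the extended Čech complex is exact. -/
theorem exact_of_bijective (k : ι) (hk : Function.Bijective fun x : N => g k • x) (n : ℕ)
    (x : EC g N (n + 1)) (hx : d g N (n + 1) x = 0) : ∃ y, d g N n y = x := by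
  choose r hr using fun (t : Fin n → ι) => (res_cons_bijective (N := N) g k hk t (le_cons g k t)).2
    (x (Fin.cons k t))
  refine ⟨r, ?_⟩
  funext s
  apply (res_cons_bijective (N := N) g k hk s (le_cons g k s)).1
  have h1 := congr_fun hx (Fin.cons k s : Fin (n + 2) → ι)
  rw [d_apply, Fin.sum_univ_succ] at h1
  rw [d_apply, map_sum]
  have e0 : res (P_comp_le g (Fin.cons k s : Fin (n + 2) → ι) (0 : Fin (n + 2)).succAbove)
      (x ((Fin.cons k s : Fin (n + 2) → ι) ∘ (0 : Fin (n + 2)).succAbove)) =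
      res (le_cons g k s) (x s) := res_congr g N x (cons_comp_zero k s) _ _
  rw [e0, Fin.val_zero, pow_zero, one_smul] at h1
  have h2 : ∀ j : Fin (n + 1), ((-1 : A) ^ ((j.succ : Fin (n + 2)) : ℕ)) •
      res (P_comp_le g (Fin.cons k s : Fin (n + 2) → ι) j.succ.succAbove)
        (x ((Fin.cons k s : Fin (n + 2) → ι) ∘ j.succ.succAbove)) =
      - (res (le_cons g k s) (((-1 : A) ^ (j : ℕ)) • res (P_comp_le g s j.succAbove)
        (r (s ∘ j.succAbove)))) := by
    intro j
    have h3 : res (P_comp_le g (Fin.cons k s : Fin (n + 2) → ι) j.succ.succAbove)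
        (x ((Fin.cons k s : Fin (n + 2) → ι) ∘ j.succ.succAbove)) =
        res (le_cons g k s) (res (P_comp_le g s j.succAbove) (r (s ∘ j.succAbove))) := by
      have hle : P g (Fin.cons k (s ∘ j.succAbove) : Fin (n + 1) → ι) ≤
          P g (Fin.cons k s : Fin (n + 2) → ι) := by
        rw [P_cons, P_cons]
        exact sup_le_sup_left (P_comp_le g s j.succAbove) _
      rw [res_congr g N x (cons_comp_succ k s j) _ hle, ← hr, res_res, res_res]
    rw [h3, map_smul, Fin.val_succ, pow_succ, mul_neg_one, neg_smul]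
  rw [Finset.sum_congr rfl fun j _ => h2 j, Finset.sum_neg_distrib, ← sub_eq_add_neg] at h1
  exact (sub_eq_zero.1 h1).symm

/-- The terms of positive degree vanish on modules on which the `g i` are locally nilpotent. -/
theorem eq_zero_of_torsion (h : ∀ (i : ι) (x : N), ∃ m : ℕ, g i ^ m • x = 0) (n : ℕ)
    (x : EC g N (n + 1)) : x = 0 := by
  funext s
  obtain ⟨y, t, hy⟩ := exists_eq_mk (x s)
  rw [hy]
  change LocalizedModule.mk y t = 0
  rw [mk_eq_zero_iff]
  obtain ⟨m, hm⟩ := h (s 0) y
  exact ⟨g (s 0) ^ m, Submonoid.pow_mem _ (mem_P g s 0) m, hm⟩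

/-- Degree zero: `N → EC g N 0` is bijective. -/
noncomputable def unit₀ : N →ₗ[A] EC g N 0 :=
  LinearMap.pi fun s => LocalizedModule.mkLinearMap (P g s) N

theorem unit₀_apply (x : N) (s : Fin 0 → ι) : unit₀ g x s = LocalizedModule.mkLinearMap (P g s) N x :=
  rfl

theorem unit₀_bijective : Function.Bijective (unit₀ g : N →ₗ[A] EC g N 0) := by
  constructor
  · rw [injective_iff_map_eq_zero]
    intro x hx
    have h := congr_fun hx (fun a : Fin 0 => a.elim0)
    rw [unit₀_apply] at h
    obtain ⟨u, hu, h'⟩ := (mkLinearMap_eq_zero_iff x).1 h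
    rw [P_zero, Submonoid.mem_bot] at hu
    rwa [hu, one_smul] at h'
  · intro y
    obtain ⟨n, ⟨t, ht⟩, hn⟩ := exists_eq_mk (y (fun a : Fin 0 => a.elim0))
    refine ⟨n, ?_⟩
    funext s
    obtain rfl : (fun a : Fin 0 => a.elim0) = s := Subsingleton.elim _ _
    rw [unit₀_apply, hn]
    have ht' : t = 1 := by
      rw [P_zero, Submonoid.mem_bot] at ht
      exact ht
    subst ht'
    rfl

theorem unit₀_natural (φ : N →ₗ[A] N') (x : N) : emap g φ 0 (unit₀ g x) = unit₀ g (φ x) := by
  funext s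
  exact lmap_mkLinearMap φ x

theorem d_unit₀_apply (x : N) (s : Fin 1 → ι) :
    d g N 0 (unit₀ g x) s = LocalizedModule.mkLinearMap (P g s) N x := by
  rw [d_apply, Fin.sum_univ_one, unit₀_apply, res_mkLinearMap]
  simp

/-- The kernel of the first differential is the torsion. -/
theorem d_unit₀_eq_zero_iff (x : N) :
    d g N 0 (unit₀ g x) = 0 ↔ ∀ i : ι, ∃ m : ℕ, g i ^ m • x = 0 := by
  constructor
  · intro h i
    have h1 := congr_fun h (fun _ : Fin 1 => i)
    rw [d_unit₀_apply] at h1
    obtain ⟨u, hu, h'⟩ := (mkLinearMap_eq_zero_iff x).1 h1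
    have e : P g (fun _ : Fin 1 => i) = Submonoid.powers (g i) := by
      simp [P]
    rw [e] at hu
    obtain ⟨m, rfl⟩ := hu
    exact ⟨m, h'⟩
  · intro h
    funext s
    rw [d_unit₀_apply]
    obtain ⟨m, hm⟩ := h (s 0)
    exact (mkLinearMap_eq_zero_iff x).2 ⟨g (s 0) ^ m, Submonoid.pow_mem _ (mem_P g s 0) m, hm⟩

end Mod

end Defs

end Groth.Agent.Pi1C.CechAll
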