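import Groth.Agent.Pi1C.CechAll

/-!
# Čech cohomology and local cohomology in all degrees

`ecFunctor g : ModuleCat A ⥤ CochainComplex (ModuleCat A) ℕ` is the extended Čech complex; over a
Noetherian ring its cohomology is local cohomology with support in `(g)`.
-/

set_option autoImplicit false
universe u v w

open CategoryTheory Limits
open Groth.Agent.FormalA.LocSub Groth.Agent.Localalg.Gam Groth.Agent.Localalg.DeltaFun
open Groth.Agent.Pi1C.CechAll Groth.Agent.Pi1C.ExactCxLC

namespace Groth.Agent.Pi1C.CechCmp

variable {A : Type u} [CommRing A] {ι : Type} (g : ι → A)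

/-- The extended Čech complex as an object of `CochainComplex (ModuleCat A) ℕ`. -/
noncomputable def ecObj (M : ModuleCat.{u} A) : CochainComplex (ModuleCat.{u} A) ℕ :=
  CochainComplex.of (fun n => ModuleCat.of A (EC g M n)) (fun n => ModuleCat.ofHom (d g M n))
    (fun n => by
      rw [← ModuleCat.ofHom_comp, d_comp_d]
      rfl)

theorem ecObj_d (M : ModuleCat.{u} A) (n : ℕ) :
    (ecObj g M).d n (n + 1) = ModuleCat.ofHom (d g M n) := by
  simp [ecObj, CochainComplex.of]

/-- The map on extended Čech complexes. -/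
noncomputable def ecMap {M M' : ModuleCat.{u} A} (φ : M ⟶ M') : ecObj g M ⟶ ecObj g M' where
  f n := ModuleCat.ofHom (emap g φ.hom n)
  comm' := by
    intro i j hij
    obtain rfl : i + 1 = j := hij
    rw [ecObj_d, ecObj_d]
    ext x
    exact (emap_d g φ.hom i x).symm

/-- The extended Čech complex functor. -/
noncomputable def ecFunctor : ModuleCat.{u} A ⥤ CochainComplex (ModuleCat.{u} A) ℕ where
  obj M := ecObj g M
  map φ := ecMap g φ
  map_id M := by
    ext n x
    exact LinearMap.congr_fun (emap_id g n) x
  map_comp φ ψ := by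
    ext n x
    exact LinearMap.congr_fun (emap_comp g φ.hom ψ.hom n) x

instance : (ecFunctor g).Additive where
  map_add {M M'} φ ψ := by
    ext n x
    exact LinearMap.congr_fun (emap_add g φ.hom ψ.hom n) x

theorem shortExact (S : ShortComplex (ModuleCat.{u} A)) (hS : S.ShortExact) :
    (S.map (ecFunctor g)).ShortExact := by
  have hex : Function.Exact S.f.hom S.g.hom :=
    (ShortComplex.ShortExact.moduleCat_exact_iff_function_exact S).1 hS.exact
  refine HomologicalComplex.shortExact_of_degreewise_shortExact _ fun n => ?_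
  have h1 : Function.Injective (emap g S.f.hom n) := emap_injective g _ hS.moduleCat_injective_f n
  have h2 : Function.Surjective (emap g S.g.hom n) := emap_surjective g _ hS.moduleCat_surjective_g n
  have h3 : Function.Exact (emap g S.f.hom n) (emap g S.g.hom n) := emap_exact g _ _ hex n
  exact
    { exact := (ShortComplex.ShortExact.moduleCat_exact_iff_function_exact _).2 h3
      mono_f := (ModuleCat.mono_iff_injective _).2 h1
      epi_g := (ModuleCat.epi_iff_surjective _).2 h2 }

/-- Exactness in terms of elements. -/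
theorem exactAt_succ_iff (M : ModuleCat.{u} A) (n : ℕ) :
    (ecObj g M).ExactAt (n + 1) ↔ ∀ x : EC g M (n + 1), d g M (n + 1) x = 0 → ∃ y, d g M n y = x := by
  rw [HomologicalComplex.exactAt_iff' _ n (n + 1) (n + 2) (by simp) (by simp),
    ShortComplex.moduleCat_exact_iff]
  have e1 := ecObj_d g M n
  have e2 := ecObj_d g M (n + 1)
  constructor
  · intro h x hx
    obtain ⟨y, hy⟩ := h x (by
      change ((ecObj g M).d (n + 1) (n + 2)).hom x = 0
      rw [e2]; exact hx)
    refine ⟨y, ?_⟩
    change ((ecObj g M).d n (n + 1)).hom y = x at hy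
    rw [e1] at hy
    exact hy
  · intro h x hx
    change ((ecObj g M).d (n + 1) (n + 2)).hom x = 0 at hx
    rw [e2] at hx
    obtain ⟨y, hy⟩ := h x hx
    refine ⟨y, ?_⟩
    change ((ecObj g M).d n (n + 1)).hom y = x
    rw [e1]
    exact hy

theorem isZero_homology_succ_iff (M : ModuleCat.{u} A) (n : ℕ) :
    IsZero ((ecObj g M).homology (n + 1)) ↔
      ∀ x : EC g M (n + 1), d g M (n + 1) x = 0 → ∃ y, d g M n y = x := by
  rw [← exactAt_succ_iff, HomologicalComplex.exactAt_iff_isZero_homology]

theorem acyc_of_bijective (k : ι) (M : ModuleCat.{u} A)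
    (hk : Function.Bijective fun x : M => g k • x) : Acyc (ecFunctor g) M := fun n =>
  (isZero_homology_succ_iff g M n).2 fun x hx => exact_of_bijective g k hk n x hx

theorem acyc_of_torsion (M : ModuleCat.{u} A) (h : ∀ (i : ι) (x : M), ∃ m : ℕ, g i ^ m • x = 0) :
    Acyc (ecFunctor g) M := fun n =>
  (isZero_homology_succ_iff g M n).2 fun x _ => ⟨0, by rw [map_zero, eq_zero_of_torsion g h n x]⟩

/-- Membership in the torsion for an ideal generated up to radical by a finite family. -/
theorem mem_gam_iff [Finite ι] (I : Ideal A) (hI : I = Ideal.span (Set.range g)) (M : Type u)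
    [AddCommGroup M] [Module A M] (x : M) : x ∈ gam I M ↔ ∀ i : ι, ∃ m : ℕ, g i ^ m • x = 0 := by
  subst hI
  constructor
  · rintro ⟨n, hn⟩ i
    exact ⟨n, hn _ (Ideal.pow_mem_pow (Ideal.subset_span (Set.mem_range_self i)) n)⟩
  · intro h
    have key : ∀ i : ι, g i ∈ ((⊥ : Submodule A M).colon {x}).radical := by
      intro i
      obtain ⟨m, hm⟩ := h i
      refine Ideal.mem_radical_iff.2 ⟨m, ?_⟩
      rw [Submodule.mem_colon_singleton]
      exact (Submodule.mem_bot A).2 hm
    have hle : Ideal.span (Set.range g) ≤ ((⊥ : Submodule A M).colon {x}).radical := by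
      rw [Ideal.span_le]
      rintro _ ⟨i, rfl⟩
      exact key i
    have hfg : (Ideal.span (Set.range g)).FG := ⟨(Set.finite_range g).toFinset, by simp⟩
    obtain ⟨n, hn⟩ := Ideal.exists_pow_le_of_le_radical_of_fg hle hfg
    exact ⟨n, fun a ha => by
      have := hn ha
      rw [Submodule.mem_colon_singleton] at this
      exact (Submodule.mem_bot A).1 this⟩

/-- The inclusion of the torsion in the degree zero term. -/
noncomputable def gunit (I : Ideal A) (M : ModuleCat.{u} A) :
    (gamFunctor I).obj M ⟶ (ecObj g M).X 0 :=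
  ModuleCat.ofHom (Y := EC g M 0) (unit₀ g ∘ₗ (gam I M).subtype)

theorem gunit_apply (I : Ideal A) (M : ModuleCat.{u} A) (y : gam I M) :
    (gunit g I M).hom y = unit₀ g y.1 := rfl

theorem gunit_d [Finite ι] (I : Ideal A) (hI : I = Ideal.span (Set.range g)) (M : ModuleCat.{u} A) :
    gunit g I M ≫ (ecObj g M).d 0 1 = 0 := by
  rw [show (ecObj g M).d 0 1 = _ from ecObj_d g M 0]
  ext x
  exact (d_unit₀_eq_zero_iff g x.1).2 ((mem_gam_iff g I hI M x.1).1 x.2)

theorem gunit_naturality (I : Ideal A) {M N : ModuleCat.{u} A} (φ : M ⟶ N) :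
    (gamFunctor I).map φ ≫ gunit g I N = gunit g I M ≫ (ecMap g φ).f 0 := by
  ext x
  exact (unit₀_natural g φ.hom x.1).symm

/-- The comparison map in degree zero, with values in cycles. -/
noncomputable def cyc [Finite ι] (I : Ideal A) (hI : I = Ideal.span (Set.range g))
    (M : ModuleCat.{u} A) : (gamFunctor I).obj M ⟶ (ecObj g M).cycles 0 :=
  (ecObj g M).liftCycles (gunit g I M) 1 (by simp) (gunit_d g I hI M)

theorem cyc_i [Finite ι] (I : Ideal A) (hI : I = Ideal.span (Set.range g)) (M : ModuleCat.{u} A) :
    cyc g I hI M ≫ (ecObj g M).iCycles 0 = gunit g I M :=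
  HomologicalComplex.liftCycles_i ..

theorem cyc_naturality [Finite ι] (I : Ideal A) (hI : I = Ideal.span (Set.range g))
    {M N : ModuleCat.{u} A} (φ : M ⟶ N) :
    (gamFunctor I).map φ ≫ cyc g I hI N =
      cyc g I hI M ≫ HomologicalComplex.cyclesMap (ecMap g φ) 0 := by
  rw [← cancel_mono ((ecObj g N).iCycles 0), Category.assoc, Category.assoc, cyc_i,
    HomologicalComplex.cyclesMap_i, ← Category.assoc, cyc_i, gunit_naturality]

/-- The comparison map in degree zero, with values in cycles. -/
noncomputable def toCycles [Finite ι] (I : Ideal A) (hI : I = Ideal.span (Set.range g)) :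
    gamFunctor I ⟶ ecFunctor g ⋙ HomologicalComplex.cyclesFunctor _ _ 0 where
  app M := cyc g I hI M
  naturality _ _ φ := cyc_naturality g I hI φ

theorem toCycles_i [Finite ι] (I : Ideal A) (hI : I = Ideal.span (Set.range g)) (M : ModuleCat.{u} A) :
    (toCycles g I hI).app M ≫ (ecObj g M).iCycles 0 = gunit g I M := cyc_i g I hI M

theorem isIso_toCycles [Finite ι] (I : Ideal A) (hI : I = Ideal.span (Set.range g)) :
    IsIso (toCycles g I hI) := by
  have : ∀ M, IsIso ((toCycles g I hI).app M) := by
    intro M
    have hi : Function.Injective ((ecObj g M).iCycles 0).hom :=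
      (ModuleCat.mono_iff_injective _).1 inferInstance
    have hc : ∀ y : gam I M, ((ecObj g M).iCycles 0).hom (((toCycles g I hI).app M).hom y) =
        unit₀ g y.1 := fun y => congrArg (fun t => t.hom y) (toCycles_i g I hI M)
    rw [ConcreteCategory.isIso_iff_bijective]
    constructor
    · intro x y hxy
      have h1 : unit₀ g x.1 = unit₀ g y.1 := by
        rw [← hc x, ← hc y]
        exact congrArg ((ecObj g M).iCycles 0).hom hxy
      exact Subtype.ext ((unit₀_bijective g).1 h1)
    · intro z
      obtain ⟨y, hy⟩ := (unit₀_bijective g).2 (((ecObj g M).iCycles 0).hom z)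
      have hd : d g M 0 (unit₀ g y) = 0 := by
        rw [hy]
        have h2 : (ecObj g M).iCycles 0 ≫ (ecObj g M).d 0 1 = 0 :=
          HomologicalComplex.iCycles_d ..
        rw [show (ecObj g M).d 0 1 = _ from ecObj_d g M 0] at h2
        exact congrArg (fun t => t.hom z) h2
      have hy' : y ∈ gam I M := (mem_gam_iff g I hI M y).2 ((d_unit₀_eq_zero_iff g y).1 hd)
      refine ⟨⟨y, hy'⟩, hi ?_⟩
      exact (hc ⟨y, hy'⟩).trans hy
  exact NatIso.isIso_of_isIso_app _

/-- `H^0` of the extended Čech complex is the torsion functor. -/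
noncomputable def zeroIso [Finite ι] (I : Ideal A) (hI : I = Ideal.span (Set.range g)) :
    ecFunctor g ⋙ HomologicalComplex.homologyFunctor _ _ 0 ≅ gamFunctor I :=
  have := isIso_toCycles g I hI
  (NatIso.ofComponents (fun M => CochainComplex.isoHomologyπ₀ (ecObj g M)) (fun φ =>
    (HomologicalComplex.homologyπ_naturality (ecMap g φ) 0).symm)).symm ≪≫
    (asIso (toCycles g I hI)).symm

variable [Finite ι] [IsNoetherianRing A]

/-- **Čech = local cohomology**, functorially, in all degrees. -/
theorem nonempty_iso (I : Ideal A) (hI : I = Ideal.span (Set.range g)) (n : ℕ) :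
    Nonempty (ecFunctor g ⋙ HomologicalComplex.homologyFunctor _ _ n ≅ localCohomology I n) := by
  classical
  have := Fintype.ofFinite ι
  have hl : I = Ideal.span {x | x ∈ (Finset.univ : Finset ι).toList.map g} := by
    rw [hI]
    congr 1
    ext x
    simp
  refine exists_iso (ecFunctor g) (shortExact g) ((Finset.univ : Finset ι).toList.map g) hl ?_ ?_
    (zeroIso g I hI) n
  · intro f hf M hM
    obtain ⟨k, -, rfl⟩ := List.mem_map.1 hf
    exact acyc_of_bijective g k M hM
  · intro M hM
    refine acyc_of_torsion g M fun i x => ?_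
    obtain ⟨m, hm⟩ := hM x
    exact ⟨m, hm _ (Ideal.pow_mem_pow (by rw [hI]; exact Ideal.subset_span (Set.mem_range_self i)) m)⟩

end Groth.Agent.Pi1C.CechCmp
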