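import Groth.Agent.LoccohA.LES2

/-!
# Annihilators of local cohomology in degrees 1 and 2 and Cech-like complexes

Let `M → P → P₂` be a complex of modules whose cohomology at `M` and `P` is `I`-power torsion, such that `P` and `P₂` have
no `I`-torsion and `H¹_I(P) = 0`.  If `a` kills `H¹_I(M)` and `H²_I(M)` then `a` maps every element of `P` (resp. `P₂`)
which lies in the image of `M` (resp. `P`) up to torsion into that image.
-/

set_option autoImplicit false

universe u

open CategoryTheory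

namespace Groth.Agent.Pi1C.CechLow

open Groth.Agent.LoccohA.LES Groth.Agent.Localalg.Gam

variable {A : Type u} [CommRing A] (I : Ideal A)

section
variable {M N P P₂ : Type u} [AddCommGroup M] [Module A M] [AddCommGroup N] [Module A N]
  [AddCommGroup P] [Module A P] [AddCommGroup P₂] [Module A P₂]

theorem hmap_add (i : ℕ) (f g : M →ₗ[A] N) (x : LocCoh.H I i M) :
    hmap I i (f + g) x = hmap I i f x + hmap I i g x := by
  obtain ⟨k, x, rfl⟩ := toH_surj I i M x
  rw [hmap_toH, hmap_toH, hmap_toH, ← map_add]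
  congr 1
  have : ModuleCat.ofHom (f + g) = ModuleCat.ofHom f + ModuleCat.ofHom g := rfl
  rw [this, Abelian.Ext.mk₀_add, Abelian.Ext.comp_add]

theorem hmap_sum {ι : Type*} (s : Finset ι) (i : ℕ) (f : ι → M →ₗ[A] N) (x : LocCoh.H I i M) :
    hmap I i (∑ j ∈ s, f j) x = ∑ j ∈ s, hmap I i (f j) x := by
  classical
  induction s using Finset.induction_on with
  | empty => rw [Finset.sum_empty, Finset.sum_empty, hmap_zero]
  | insert a s ha ih => rw [Finset.sum_insert ha, Finset.sum_insert ha, hmap_add, ih]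

/-- local cohomology of a module on which an element of `I` acts bijectively vanishes. -/
theorem subsingleton_of_bijective (i : ℕ) (x : A) (hx : x ∈ I) (hb : Function.Bijective (fun m : M => x • m)) :
    Subsingleton (LocCoh.H I i M) := by
  let e : M ≃ₗ[A] M := LinearEquiv.ofBijective (LinearMap.lsmul A M x) hb
  have h1 : ∀ z : LocCoh.H I i M, x • z = 0 → z = 0 := by
    intro z hz
    have h2 : hmap I i (LinearMap.lsmul A M x) z = x • z := by
      have : LinearMap.lsmul A M x = x • LinearMap.id := by ext; rfl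
      rw [this, hmap_smul, hmap_id]
    have h3 : hmap I i (e.symm : M →ₗ[A] M) (hmap I i (LinearMap.lsmul A M x) z) = z := by
      rw [← hmap_comp]
      have : (e.symm : M →ₗ[A] M) ∘ₗ LinearMap.lsmul A M x = LinearMap.id := by
        ext m
        exact e.symm_apply_apply m
      rw [this, hmap_id]
    rw [← h3, h2, hz, map_zero]
  refine subsingleton_of_forall_eq 0 fun z => ?_
  obtain ⟨n, hn⟩ := power_torsion I i M z
  have h2 : ∀ k : ℕ, x ^ k • z = 0 → z = 0 := by
    intro k
    induction k with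
    | zero => intro h; rwa [pow_zero, one_smul] at h
    | succ k ih =>
      intro h
      apply ih
      apply h1
      rw [← mul_smul, ← pow_succ', h]
  exact h2 n (hn _ (Ideal.pow_mem_pow hx n))

theorem subsingleton_pi {ι : Type} [Finite ι] (i : ℕ) (Q : ι → Type u) [∀ j, AddCommGroup (Q j)] [∀ j, Module A (Q j)]
    (h : ∀ j, Subsingleton (LocCoh.H I i (Q j))) : Subsingleton (LocCoh.H I i (∀ j, Q j)) := by
  classical
  have := Fintype.ofFinite ι
  refine subsingleton_of_forall_eq 0 fun z => ?_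
  have h1 : (LinearMap.id : (∀ j, Q j) →ₗ[A] (∀ j, Q j)) =
      ∑ j, (LinearMap.single A Q j) ∘ₗ (LinearMap.proj j) := by
    ext j x k
    simp [Finset.sum_apply]
  rw [← hmap_id I i z, h1, hmap_sum]
  refine Finset.sum_eq_zero fun j _ => ?_
  rw [hmap_comp, Subsingleton.elim (hmap I i (LinearMap.proj j) z) 0, map_zero]

variable [IsNoetherianRing A]

/-- annihilators pass to quotients by torsion submodules -/
theorem smul_eq_zero_of_surjective (i : ℕ) (f : M →ₗ[A] N) (hf : Function.Surjective f)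
    (hker : ∀ x ∈ LinearMap.ker f, ∃ n : ℕ, ∀ a ∈ I ^ n, a • x = 0) (a : A)
    (ha : ∀ z : LocCoh.H I i M, a • z = 0) (z : LocCoh.H I i N) : a • z = 0 := by
  obtain ⟨δ, h1, -, -⟩ := exists_exact I i (LinearMap.ker f).subtype f (Submodule.subtype_injective _)
    (LinearMap.exact_subtype_ker_map f) hf
  have : Subsingleton (LocCoh.H I (i + 1) (LinearMap.ker f)) := subsingleton_of_torsion I i _ (by
    intro x
    obtain ⟨n, hn⟩ := hker x.1 x.2
    exact ⟨n, fun a ha => Subtype.ext (hn a ha)⟩)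
  obtain ⟨w, rfl⟩ := (h1 z).1 (Subsingleton.elim _ _)
  rw [← map_smul, ha, map_zero]

/-- annihilators pass to modules containing the given one up to torsion -/
theorem smul_eq_zero_of_injective (i : ℕ) (f : M →ₗ[A] N) (hf : Function.Injective f)
    (hcok : ∀ y : N, ∃ n : ℕ, ∀ a ∈ I ^ n, a • y ∈ LinearMap.range f) (a : A)
    (ha : ∀ z : LocCoh.H I (i + 1) M, a • z = 0) (z : LocCoh.H I (i + 1) N) : a • z = 0 := by
  obtain ⟨δ, -, -, h3⟩ := exists_exact I (i + 1) f (LinearMap.range f).mkQ hf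
    (LinearMap.exact_iff.mpr (by simp)) (Submodule.mkQ_surjective _)
  have : Subsingleton (LocCoh.H I (i + 1) (N ⧸ LinearMap.range f)) := subsingleton_of_torsion I i _ (by
    intro x
    obtain ⟨y, rfl⟩ := (LinearMap.range f).mkQ_surjective x
    obtain ⟨n, hn⟩ := hcok y
    refine ⟨n, fun a ha => ?_⟩
    rw [← map_smul, Submodule.mkQ_apply, Submodule.Quotient.mk_eq_zero]
    exact hn a ha)
  obtain ⟨w, rfl⟩ := (h3 z).1 (Subsingleton.elim _ _)
  rw [← map_smul, ha, map_zero]

omit [IsNoetherianRing A] in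
/-- dimension shift -/
theorem smul_eq_zero_of_quotient (i : ℕ) (f : M →ₗ[A] P) (g : P →ₗ[A] N) (hf : Function.Injective f)
    (hfg : Function.Exact f g) (hg : Function.Surjective g) [Subsingleton (LocCoh.H I i P)] (a : A)
    (ha : ∀ z : LocCoh.H I (i + 1) M, a • z = 0) (z : LocCoh.H I i N) : a • z = 0 := by
  obtain ⟨δ, h1, -, -⟩ := exists_exact I i f g hf hfg hg
  obtain ⟨w, hw⟩ := (h1 (a • z)).1 (by rw [map_smul, ha])
  rw [← hw, Subsingleton.elim w 0, map_zero]

/-- **degree one** -/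
theorem smul_mem_range₁ (d : M →ₗ[A] P) (hker : ∀ x ∈ LinearMap.ker d, ∃ n : ℕ, ∀ a ∈ I ^ n, a • x = 0)
    (hP : ∀ y : P, (∃ n : ℕ, ∀ a ∈ I ^ n, a • y = 0) → y = 0) (a : A)
    (ha : ∀ z : LocCoh.H I 1 M, a • z = 0) (y : P)
    (hy : ∃ n : ℕ, ∀ b ∈ I ^ n, b • y ∈ LinearMap.range d) : a • y ∈ LinearMap.range d := by
  have h1 : ∀ z : LocCoh.H I 1 (LinearMap.range d), a • z = 0 :=
    smul_eq_zero_of_surjective I 1 d.rangeRestrict d.surjective_rangeRestrict
      (fun x hx => hker x (by rwa [LinearMap.ker_rangeRestrict] at hx)) a ha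
  have hP0 : Subsingleton (LocCoh.H I 0 P) := by
    refine subsingleton_of_forall_eq 0 fun z => ?_
    apply (equivGam I P).injective
    apply Subtype.ext
    rw [map_zero]
    exact hP _ (equivGam I P z).2
  have h2 := smul_eq_zero_of_quotient I 0 (LinearMap.range d).subtype (LinearMap.range d).mkQ
    (Submodule.subtype_injective _) (LinearMap.exact_iff.mpr (by simp)) (Submodule.mkQ_surjective _) a h1
  let w : gam I (P ⧸ LinearMap.range d) := ⟨(LinearMap.range d).mkQ y, by
    obtain ⟨n, hn⟩ := hy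
    refine ⟨n, fun b hb => ?_⟩
    rw [← map_smul, Submodule.mkQ_apply, Submodule.Quotient.mk_eq_zero]
    exact hn b hb⟩
  have h3 := h2 ((equivGam I _).symm w)
  rw [← map_smul, LinearEquiv.map_eq_zero_iff] at h3
  have h4 : a • (LinearMap.range d).mkQ y = 0 := congrArg Subtype.val h3
  rwa [← map_smul, Submodule.mkQ_apply, Submodule.Quotient.mk_eq_zero] at h4

/-- **degree two** -/
theorem smul_mem_range₂ (d : M →ₗ[A] P) (d' : P →ₗ[A] P₂)
    (hker : ∀ x ∈ LinearMap.ker d, ∃ n : ℕ, ∀ a ∈ I ^ n, a • x = 0)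
    (hdd : d' ∘ₗ d = 0) (hmid : ∀ y ∈ LinearMap.ker d', ∃ n : ℕ, ∀ a ∈ I ^ n, a • y ∈ LinearMap.range d)
    [Subsingleton (LocCoh.H I 1 P)]
    (hP₂ : ∀ y : P₂, (∃ n : ℕ, ∀ a ∈ I ^ n, a • y = 0) → y = 0) (a : A)
    (ha : ∀ z : LocCoh.H I 2 M, a • z = 0) (y : P₂)
    (hy : ∃ n : ℕ, ∀ b ∈ I ^ n, b • y ∈ LinearMap.range d') : a • y ∈ LinearMap.range d' := by
  have h1 : ∀ z : LocCoh.H I 2 (LinearMap.range d), a • z = 0 :=
    smul_eq_zero_of_surjective I 2 d.rangeRestrict d.surjective_rangeRestrict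
      (fun x hx => hker x (by rwa [LinearMap.ker_rangeRestrict] at hx)) a ha
  have hle : LinearMap.range d ≤ LinearMap.ker d' := by
    rintro _ ⟨x, rfl⟩
    exact congr($hdd x)
  have h2 : ∀ z : LocCoh.H I 2 (LinearMap.ker d'), a • z = 0 :=
    smul_eq_zero_of_injective I 1 (Submodule.inclusion hle) (Submodule.inclusion_injective hle) (by
      intro y
      obtain ⟨n, hn⟩ := hmid y.1 y.2
      refine ⟨n, fun b hb => ?_⟩
      exact ⟨⟨_, hn b hb⟩, rfl⟩) a h1
  have h3 : ∀ z : LocCoh.H I 1 (LinearMap.range d'), a • z = 0 :=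
    smul_eq_zero_of_quotient I 1 (LinearMap.ker d').subtype d'.rangeRestrict (Submodule.subtype_injective _)
      (by
        have := LinearMap.exact_subtype_ker_map d'.rangeRestrict
        rw [LinearMap.exact_iff] at this ⊢
        rw [Submodule.range_subtype, LinearMap.ker_rangeRestrict])
      d'.surjective_rangeRestrict a h2
  have h4 := smul_mem_range₁ I (LinearMap.range d').subtype (fun x hx => ⟨0, fun b _ => by
    rw [Submodule.ker_subtype, Submodule.mem_bot] at hx
    rw [hx, smul_zero]⟩) hP₂ a h3 y (by rwa [Submodule.range_subtype])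
  rwa [Submodule.range_subtype] at h4

omit [IsNoetherianRing A] in
/-- torsion with respect to generators -/
theorem exists_pow_smul_mem {ι : Type*} (x : ι → A) [Finite ι] (S : Submodule A P) (y : P)
    (h : ∀ i, ∃ n : ℕ, x i ^ n • y ∈ S) : ∃ n : ℕ, ∀ b ∈ (Ideal.span (Set.range x)) ^ n, b • y ∈ S := by
  let 𝔟 : Ideal A := S.comap (LinearMap.toSpanSingleton A P y)
  have h1 : Ideal.span (Set.range x) ≤ 𝔟.radical := by
    rw [Ideal.span_le]
    rintro _ ⟨i, rfl⟩
    obtain ⟨n, hn⟩ := h i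
    exact ⟨n, hn⟩
  obtain ⟨n, hn⟩ := Ideal.exists_pow_le_of_le_radical_of_fg h1
    (Submodule.fg_span (Set.finite_range x))
  exact ⟨n, fun b hb => hn hb⟩

end

end Groth.Agent.Pi1C.CechLow
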