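import Groth.Agent.Pi1C.CechCmp

/-!
# Čech cohomology and local cohomology: elementwise statements and other models of the Čech complex

`equiv_H : ker (d (n+1)) / range (d n) ≃ H^{n+1}_I(M)` for the complex of `CechAll` and, in
`model_equiv_H`, for any complex `∏_s L n s` with `L n s` a localization of `M` at the powers of
`∏ j, g (s j)` and the alternating differential.
-/

set_option autoImplicit false
universe u v w

open CategoryTheory Limits
open Groth.Agent.FormalA.LocSub Groth.Agent.Localalg.Gam Groth.Agent.Localalg.DeltaFun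
open Groth.Agent.Pi1C.CechAll Groth.Agent.Pi1C.ExactCxLC Groth.Agent.Pi1C.CechCmp

namespace Groth.Agent.Pi1C.CechModel

variable {A : Type u} [CommRing A] {ι : Type} (g : ι → A)

section Equiv

variable [Finite ι] [IsNoetherianRing A] (I : Ideal A) (hI : I = Ideal.span (Set.range g))

omit [Finite ι] [IsNoetherianRing A] in
/-- The cohomology of the extended Čech complex as a subquotient. -/
theorem nonempty_homology_equiv (M : ModuleCat.{u} A) (n : ℕ) :
    Nonempty ((↥(LinearMap.ker (d g M (n + 1))) ⧸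
      (LinearMap.range (d g M n)).submoduleOf (LinearMap.ker (d g M (n + 1)))) ≃ₗ[A]
      ((ecObj g M).homology (n + 1))) := by
  let S : ShortComplex (ModuleCat.{u} A) :=
    { X₁ := ModuleCat.of A (EC g M n)
      X₂ := ModuleCat.of A (EC g M (n + 1))
      X₃ := ModuleCat.of A (EC g M (n + 2))
      f := ModuleCat.ofHom (d g M n)
      g := ModuleCat.ofHom (d g M (n + 1))
      zero := by rw [← ModuleCat.ofHom_comp, d_comp_d]; rfl }
  have e1 : (ecObj g M).sc' n (n + 1) (n + 2) = S := by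
    have h1 := ecObj_d g M n
    have h2 := ecObj_d g M (n + 1)
    change ShortComplex.mk ((ecObj g M).d n (n + 1)) ((ecObj g M).d (n + 1) (n + 2)) _ = _
    congr 1
  have e2 : (ecObj g M).homology (n + 1) ≅ S.homology :=
    ShortComplex.homologyMapIso ((ecObj g M).isoSc' n (n + 1) (n + 2) (by simp) (by simp) ≪≫ eqToIso e1)
  refine ⟨LinearEquiv.symm ((e2 ≪≫ S.moduleCatHomologyIso).toLinearEquiv.trans
    (Submodule.quotEquivOfEq _ _ ?_))⟩
  ext x
  constructor
  · rintro ⟨y, hy⟩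
    exact ⟨y, congrArg Subtype.val hy⟩
  · rintro ⟨y, hy⟩
    exact ⟨y, Subtype.ext hy⟩

include hI in
/-- **Čech cohomology computes local cohomology** (elementwise form). -/
theorem equiv_H (M : Type u) [AddCommGroup M] [Module A M] (n : ℕ) :
    Nonempty ((↥(LinearMap.ker (d g M (n + 1))) ⧸
      (LinearMap.range (d g M n)).submoduleOf (LinearMap.ker (d g M (n + 1)))) ≃ₗ[A]
      LocCoh.H I (n + 1) M) := by
  obtain ⟨e⟩ := nonempty_homology_equiv g (ModuleCat.of A M) n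
  obtain ⟨E⟩ := CechCmp.nonempty_iso g I hI (n + 1)
  exact ⟨e.trans (E.app (ModuleCat.of A M)).toLinearEquiv⟩

end Equiv

section Transport

/-- Transport of a subquotient along isomorphisms of complexes. -/
theorem transport {X₁ X₂ X₃ Y₁ Y₂ Y₃ : Type*} [AddCommGroup X₁] [Module A X₁] [AddCommGroup X₂]
    [Module A X₂] [AddCommGroup X₃] [Module A X₃] [AddCommGroup Y₁] [Module A Y₁] [AddCommGroup Y₂]
    [Module A Y₂] [AddCommGroup Y₃] [Module A Y₃] (a : X₁ →ₗ[A] X₂) (b : X₂ →ₗ[A] X₃)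
    (a' : Y₁ →ₗ[A] Y₂) (b' : Y₂ →ₗ[A] Y₃) (e₁ : X₁ ≃ₗ[A] Y₁) (e₂ : X₂ ≃ₗ[A] Y₂) (e₃ : X₃ ≃ₗ[A] Y₃)
    (h₁ : ∀ x, e₂ (a x) = a' (e₁ x)) (h₂ : ∀ x, e₃ (b x) = b' (e₂ x)) :
    Nonempty ((↥(LinearMap.ker b) ⧸ (LinearMap.range a).submoduleOf (LinearMap.ker b)) ≃ₗ[A]
      (↥(LinearMap.ker b') ⧸ (LinearMap.range a').submoduleOf (LinearMap.ker b'))) := by
  have hk : ∀ x, x ∈ LinearMap.ker b ↔ e₂ x ∈ LinearMap.ker b' := fun x => by
    rw [LinearMap.mem_ker, LinearMap.mem_ker, ← h₂, LinearEquiv.map_eq_zero_iff]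
  let f : ↥(LinearMap.ker b) ≃ₗ[A] ↥(LinearMap.ker b') :=
    { toFun := fun x => ⟨e₂ x.1, (hk x.1).1 x.2⟩
      map_add' := fun x y => Subtype.ext (map_add e₂ _ _)
      map_smul' := fun c x => Subtype.ext (map_smul e₂ _ _)
      invFun := fun y => ⟨e₂.symm y.1, (hk _).2 (by rw [LinearEquiv.apply_symm_apply]; exact y.2)⟩
      left_inv := fun x => Subtype.ext (e₂.symm_apply_apply _)
      right_inv := fun x => Subtype.ext (e₂.apply_symm_apply _) }
  refine ⟨Submodule.Quotient.equiv _ _ f ?_⟩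
  ext y
  constructor
  · rintro ⟨x, ⟨z, hz⟩, rfl⟩
    exact ⟨e₁ z, by rw [← h₁, hz]; rfl⟩
  · rintro ⟨z, hz⟩
    refine ⟨f.symm y, ⟨e₁.symm z, ?_⟩, f.apply_symm_apply y⟩
    apply e₂.injective
    rw [h₁, LinearEquiv.apply_symm_apply, hz]
    exact (e₂.apply_symm_apply _).symm

end Transport

section Local

variable {N : Type*} [AddCommGroup N] [Module A N]

theorem prod_mem_P {n : ℕ} (s : Fin n → ι) : ∏ j, g (s j) ∈ P g s :=
  Submonoid.prod_mem _ fun j _ => mem_P g s j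

/-- Every element of `P g s` divides a power of the product. -/
theorem exists_dvd {n : ℕ} (s : Fin n → ι) {x : A} (hx : x ∈ P g s) :
    ∃ m : ℕ, x ∣ (∏ j, g (s j)) ^ m := by
  have : P g s ≤ { carrier := {x | ∃ m : ℕ, x ∣ (∏ j, g (s j)) ^ m}
                   mul_mem' := fun {x y} ⟨m, hm⟩ ⟨m', hm'⟩ => ⟨m + m', by
                    rw [pow_add]; exact mul_dvd_mul hm hm'⟩
                   one_mem' := ⟨0, by simp⟩ } := by
    refine iSup_le fun j => ?_
    rintro _ ⟨m, rfl⟩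
    exact ⟨m, pow_dvd_pow_of_dvd (Finset.dvd_prod_of_mem _ (Finset.mem_univ j)) m⟩
  exact this hx

/-- A localization at the powers of the product is a localization at `P g s`. -/
theorem isLocalizedModule_P {n : ℕ} (s : Fin n → ι) {L : Type*} [AddCommGroup L] [Module A L]
    (ℓ : N →ₗ[A] L) (h : IsLocalizedModule (Submonoid.powers (∏ j, g (s j))) ℓ) :
    IsLocalizedModule (P g s) ℓ where
  map_units x := by
    obtain ⟨m, y, hy⟩ := exists_dvd g s x.2
    have h1 := h.map_units ⟨_, m, rfl⟩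
    have h2 : algebraMap A (Module.End A L) ((∏ j, g (s j)) ^ m) =
        algebraMap A (Module.End A L) x.1 * algebraMap A (Module.End A L) y := by
      rw [← map_mul, ← hy]
    have hc : Commute (algebraMap A (Module.End A L) x.1) (algebraMap A (Module.End A L) y) :=
      Algebra.commutes _ _
    exact ((hc.isUnit_mul_iff).1 (h2 ▸ h1)).1
  surj y := by
    obtain ⟨⟨x, ⟨_, m, rfl⟩⟩, hx⟩ := h.surj y
    exact ⟨⟨x, ⟨_, Submonoid.pow_mem _ (prod_mem_P g s) m⟩⟩, hx⟩
  exists_of_eq := by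
    intro x y hxy
    obtain ⟨⟨_, m, rfl⟩, hm⟩ := h.exists_of_eq hxy
    exact ⟨⟨_, Submonoid.pow_mem _ (prod_mem_P g s) m⟩, hm⟩

end Local

section Model

variable [Finite ι] [IsNoetherianRing A] (I : Ideal A) (hI : I = Ideal.span (Set.range g))
  (M : Type u) [AddCommGroup M] [Module A M] (n : ℕ)
  (L : ∀ m : ℕ, (Fin m → ι) → Type w) [∀ m s, AddCommGroup (L m s)] [∀ m s, Module A (L m s)]
  (ℓ : ∀ m s, M →ₗ[A] L m s)
  (hℓ : ∀ m s, IsLocalizedModule (Submonoid.powers (∏ j, g (s j))) (ℓ m s))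
  (ρ : ∀ (m : ℕ) (s : Fin (m + 1) → ι) (j : Fin (m + 1)), L m (s ∘ j.succAbove) →ₗ[A] L (m + 1) s)
  (hρ : ∀ m s j (x : M), ρ m s j (ℓ m _ x) = ℓ (m + 1) s x)
  (D : ∀ m : ℕ, (∀ s, L m s) →ₗ[A] (∀ s, L (m + 1) s))
  (hD : ∀ m x s, D m x s = ∑ j : Fin (m + 1), ((-1 : A) ^ (j : ℕ)) • ρ m s j (x (s ∘ j.succAbove)))

/-- The comparison isomorphism with the model of `CechAll`. -/
noncomputable def eqv (m : ℕ) : EC g M m ≃ₗ[A] (∀ s, L m s) :=
  LinearEquiv.piCongrRight fun s =>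
    haveI := isLocalizedModule_P g s (ℓ m s) (hℓ m s)
    IsLocalizedModule.iso (P g s) (ℓ m s)

omit [Finite ι] [IsNoetherianRing A] in
theorem eqv_apply (m : ℕ) (x : EC g M m) (s : Fin m → ι) :
    haveI := isLocalizedModule_P g s (ℓ m s) (hℓ m s)
    eqv g M L ℓ hℓ m x s = IsLocalizedModule.iso (P g s) (ℓ m s) (x s) := rfl

omit [Finite ι] [IsNoetherianRing A] in
include hρ hD in
theorem eqv_d (m : ℕ) (x : EC g M m) :
    eqv g M L ℓ hℓ (m + 1) (d g M m x) = D m (eqv g M L ℓ hℓ m x) := by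
  funext s
  have i1 := isLocalizedModule_P g s (ℓ (m + 1) s) (hℓ (m + 1) s)
  rw [hD, eqv_apply, d_apply, map_sum]
  refine Finset.sum_congr rfl fun j _ => ?_
  have i2 := isLocalizedModule_P g (s ∘ j.succAbove) (ℓ m (s ∘ j.succAbove)) (hℓ m _)
  rw [map_smul, eqv_apply]
  congr 1
  -- both sides are linear in the class `x (s ∘ j.succAbove)`
  have key : (IsLocalizedModule.iso (P g s) (ℓ (m + 1) s)).toLinearMap ∘ₗ
      res (P_comp_le g s j.succAbove) =
      ρ m s j ∘ₗ (IsLocalizedModule.iso (P g (s ∘ j.succAbove))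
        (ℓ m (s ∘ j.succAbove))).toLinearMap := by
    refine IsLocalizedModule.ext (P g (s ∘ j.succAbove)) (LocalizedModule.mkLinearMap _ M) ?_ ?_
    · intro y
      exact i1.map_units ⟨y.1, P_comp_le g s j.succAbove y.2⟩
    · ext y
      simp only [LinearMap.comp_apply, LinearEquiv.coe_coe]
      rw [res_mkLinearMap, LocalizedModule.mkLinearMap_apply, LocalizedModule.mkLinearMap_apply,
        IsLocalizedModule.iso_mk_one, IsLocalizedModule.iso_mk_one, hρ]
  exact LinearMap.congr_fun key _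

include hI hℓ hρ hD in
/-- **Čech cohomology computes local cohomology**, for any model of the Čech complex. -/
theorem model_equiv_H :
    Nonempty ((↥(LinearMap.ker (D (n + 1))) ⧸
      (LinearMap.range (D n)).submoduleOf (LinearMap.ker (D (n + 1)))) ≃ₗ[A]
      LocCoh.H I (n + 1) M) := by
  obtain ⟨e⟩ := equiv_H g I hI M n
  obtain ⟨e'⟩ := transport (d g M n) (d g M (n + 1)) (D n) (D (n + 1)) (eqv g M L ℓ hℓ n)
    (eqv g M L ℓ hℓ (n + 1)) (eqv g M L ℓ hℓ (n + 2)) (eqv_d g M L ℓ hℓ ρ hρ D hD n)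
    (eqv_d g M L ℓ hℓ ρ hρ D hD (n + 1))
  exact ⟨e'.symm.trans e⟩

end Model

end Groth.Agent.Pi1C.CechModel
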