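import Groth.Agent.Pi1C.SecOver
import Groth.Agent.VarietyB.ProjGlue
import Groth.Prelude.Def_FEt

/-!
# Morphisms and cartesian squares over an affine covering of the base

For schemes affine over `X` and an affine open covering `U i` of `X`: morphisms over `X` are glued
from ring maps on sections over `U i`; a square is cartesian if the squares of rings are
cocartesian; finite etale morphisms.
-/

set_option autoImplicit false
universe u
open AlgebraicGeometry CategoryTheory CategoryTheory.Limits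

namespace Groth.Agent.Pi1C.ChartGlue

open SecOver VarietyB.ProjGlue

section restrict

variable {P X : Scheme.{u}} (q : P ⟶ X)

theorem of_iSup (Q : MorphismProperty Scheme.{u}) [IsZariskiLocalAtTarget Q] {J : Type*}
    (W : J → X.Opens) (h : ∀ i, Q (q ∣_ W i)) : Q (q ∣_ (⨆ i, W i)) := by
  rw [IsZariskiLocalAtTarget.iff_of_iSup_eq_top (P := Q) (fun i => (⨆ i, W i).ι ⁻¹ᵁ W i)]
  · intro i
    have e : (⨆ i, W i).ι ''ᵁ ((⨆ i, W i).ι ⁻¹ᵁ W i) = W i := by
      rw [Scheme.Hom.image_preimage_eq_opensRange_inf, Scheme.Opens.opensRange_ι]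
      exact inf_eq_right.mpr (le_iSup W i)
    rw [Q.arrow_mk_iso_iff (morphismRestrictRestrict q (⨆ i, W i) ((⨆ i, W i).ι ⁻¹ᵁ W i) ≪≫
      morphismRestrictEq q e)]
    exact h i
  · apply (⨆ i, W i).ι.image_injective
    dsimp
    rw [Scheme.Hom.image_iSup, Scheme.Hom.image_top_eq_opensRange, Scheme.Opens.opensRange_ι]
    simp [Scheme.Hom.image_preimage_eq_opensRange_inf, le_iSup W]

theorem prop_iSup {J : Type*} (W : J → X.Opens) (h : ∀ i, FEt.prop (q ∣_ W i)) :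
    FEt.prop (q ∣_ (⨆ i, W i)) :=
  ⟨of_iSup q @IsFinite W fun i => (h i).1, of_iSup q @Etale W fun i => (h i).2⟩

theorem prop_of_app [IsAffineHom q] {W : X.Opens} (hW : IsAffineOpen W) (h1 : (q.app W).hom.Finite)
    (h2 : (q.app W).hom.Etale) : FEt.prop (q ∣_ W) := by
  have : IsAffine W := hW
  have : IsAffine (q ⁻¹ᵁ W) := hW.preimage q
  rw [Scheme.Hom.app_eq_appLE] at h1 h2
  have h3 : (q ∣_ W).appTop = q.appLE _ _ _ := morphismRestrict_app' q W ⊤
  refine ⟨?_, ?_⟩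
  · rw [HasAffineProperty.iff_of_isAffine (P := @IsFinite)]
    refine ⟨inferInstance, ?_⟩
    rw [h3]
    exact (Scheme.Hom.appLE_congr (f := q) _ (Scheme.Opens.ι_image_top _).symm
      (Scheme.Opens.ι_image_top _).symm (fun φ => φ.hom.Finite)).mp h1
  · rw [HasRingHomProperty.iff_of_isAffine (P := @Etale), h3]
    exact (Scheme.Hom.appLE_congr (f := q) _ (Scheme.Opens.ι_image_top _).symm
      (Scheme.Opens.ι_image_top _).symm (fun φ => φ.hom.Etale)).mp h2

end restrict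

section iso

variable {W : Scheme.{u}} {J : Type*} (U : J → W.Opens) (hU : ⨆ i, U i = ⊤)
  (hA : ∀ i, IsAffineOpen (U i))

include hU hA in
theorem isIso_of_isIso_app {S S' : Scheme.{u}} (f : S ⟶ S') (π' : S' ⟶ W) [IsAffineHom π']
    [IsAffineHom f] (H : ∀ i, IsIso (f.app (π' ⁻¹ᵁ U i))) : IsIso f := by
  have hsup : ⨆ i, π' ⁻¹ᵁ U i = ⊤ := by
    rw [← Scheme.Hom.preimage_iSup, hU]; rfl
  have key : ∀ i, IsIso (f ∣_ (π' ⁻¹ᵁ U i)) := fun i =>
    (isIso_morphismRestrict_iff_isIso_app f ((hA i).preimage π')).mpr (H i)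
  exact (IsZariskiLocalAtTarget.iff_of_iSup_eq_top
    (P := MorphismProperty.isomorphisms Scheme.{u}) (f := f) _ hsup).mpr key

include hU hA in
theorem isIso_of_isIso_sec {S S' : Scheme.{u}} (f : S ⟶ S') (π' : S' ⟶ W) (π : S ⟶ W)
    (h : f ≫ π' = π) [IsAffineHom π'] [IsAffineHom π]
    (H : ∀ i, IsIso (sec (U i) f π' π h)) : IsIso f := by
  subst h
  have : IsAffineHom f := MorphismProperty.of_postcomp @IsAffineHom (W' := @IsSeparated) f π'
    inferInstance inferInstance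
  exact isIso_of_isIso_app U hU hA f π' (fun i => by rw [← sec_rfl]; exact H i)

include hU hA in
/-- A square of schemes affine over `W` is cartesian if it is so on sections over an affine cover. -/
theorem isPullback_of_isPushout_sec {P X Y : Scheme.{u}} (fst : P ⟶ X) (snd : P ⟶ Y)
    (f : X ⟶ W) (g : Y ⟶ W) (π : P ⟶ W) (h1 : fst ≫ f = π) (h2 : snd ≫ g = π)
    [IsAffineHom f] [IsAffineHom g] [IsAffineHom π]
    (H : ∀ i, IsPushout (f.app (U i)) (g.app (U i)) (sec (U i) fst f π h1) (sec (U i) snd g π h2)) :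
    IsPullback fst snd f g := by
  have w : fst ≫ f = snd ≫ g := h1.trans h2.symm
  suffices h : IsIso (pullback.lift fst snd w) from
    .of_iso_pullback ⟨w⟩ (asIso (pullback.lift fst snd w)) (pullback.lift_fst _ _ _)
      (pullback.lift_snd _ _ _)
  have hπ : pullback.lift fst snd w ≫ pullback.fst f g ≫ f = π := by
    rw [pullback.lift_fst_assoc, h1]
  have : IsAffineHom (pullback.fst f g) := MorphismProperty.pullback_fst _ _ inferInstance
  have : IsAffineHom (pullback.fst f g ≫ f) := MorphismProperty.comp_mem _ _ _ inferInstance inferInstance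
  refine isIso_of_isIso_sec U hU hA (pullback.lift fst snd w) (pullback.fst f g ≫ f) π hπ ?_
  intro i
  have hO := hA i
  have h3 : IsPushout (f.app (U i)) (g.app (U i))
      (sec (U i) (pullback.fst f g) f (pullback.fst f g ≫ f) rfl)
      (sec (U i) (pullback.snd f g) g (pullback.fst f g ≫ f) pullback.condition.symm) := by
    have := isPushout_sec (U i) (IsPullback.of_hasPullback f g) (𝟙 W) f g (pullback.fst f g ≫ f)
      (Category.comp_id _) (Category.comp_id _) rfl pullback.condition.symm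
      hO (hO.preimage f) (hO.preimage g)
    have e1 : sec (U i) f (𝟙 W) f (Category.comp_id _) = f.app (U i) :=
      (Scheme.Hom.app_eq_appLE f).symm
    have e2 : sec (U i) g (𝟙 W) g (Category.comp_id _) = g.app (U i) :=
      (Scheme.Hom.app_eq_appLE g).symm
    rw [e1, e2] at this
    exact this
  have e : sec (U i) (pullback.lift fst snd w) (pullback.fst f g ≫ f) π hπ =
      (h3.isoIsPushout _ _ (H i)).hom := by
    refine h3.hom_ext ?_ ?_
    · rw [IsPushout.inl_isoIsPushout_hom, sec_comp]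
      exact sec_congr (U i) (pullback.lift_fst _ _ _) _ _ _
    · rw [IsPushout.inr_isoIsPushout_hom, sec_comp]
      exact sec_congr (U i) (pullback.lift_snd _ _ _) _ _ _
  rw [e]
  infer_instance

end iso

section glue

variable {X : Scheme.{u}} {J : Type*} (U : J → X.Opens) (hU : ⨆ i, U i = ⊤)
  (hA : ∀ i, IsAffineOpen (U i)) {P T : Scheme.{u}} (q : P ⟶ X) [IsAffineHom q] (g : T ⟶ X)

/-- The morphism on a chart defined by a ring map. -/
noncomputable def chartHom {W : X.Opens} (hW : IsAffineOpen W) (θ : Γ(P, q ⁻¹ᵁ W) ⟶ Γ(T, g ⁻¹ᵁ W)) :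
    (g ⁻¹ᵁ W).toScheme ⟶ P :=
  (g ⁻¹ᵁ W).toSpecΓ ≫ Spec.map θ ≫ (hW.preimage q).fromSpec

theorem chartHom_comp {W : X.Opens} (hW : IsAffineOpen W) (θ : Γ(P, q ⁻¹ᵁ W) ⟶ Γ(T, g ⁻¹ᵁ W))
    (h : q.app W ≫ θ = g.app W) : chartHom q g hW θ ≫ q = (g ⁻¹ᵁ W).ι ≫ g := by
  have h1 := IsAffineOpen.SpecMap_appLE_fromSpec q hW (hW.preimage q) le_rfl
  rw [← Scheme.Hom.app_eq_appLE] at h1
  rw [chartHom, Category.assoc, Category.assoc, ← h1, ← Spec.map_comp_assoc, h,
    Scheme.Opens.toSpecΓ_naturality_assoc, hW.toSpecΓ_fromSpec, morphismRestrict_ι]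

theorem homOfLE_chartHom {W W' : X.Opens} (hle : W' ≤ W) (hW : IsAffineOpen W) (hW' : IsAffineOpen W')
    (θ : Γ(P, q ⁻¹ᵁ W) ⟶ Γ(T, g ⁻¹ᵁ W)) (θ' : Γ(P, q ⁻¹ᵁ W') ⟶ Γ(T, g ⁻¹ᵁ W'))
    (h : θ ≫ T.presheaf.map (homOfLE (g.preimage_mono hle)).op =
      P.presheaf.map (homOfLE (q.preimage_mono hle)).op ≫ θ') :
    T.homOfLE (g.preimage_mono hle) ≫ chartHom q g hW θ = chartHom q g hW' θ' := by
  rw [chartHom, ← Scheme.Opens.toSpecΓ_SpecMap_presheaf_map_assoc, ← Spec.map_comp_assoc, h,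
    Spec.map_comp_assoc, (hW.preimage q).map_fromSpec (hW'.preimage q)]
  rfl

/-- A morphism restricting to `chartHom θ` induces `θ` on sections. -/
theorem appLE_eq_of_ι_comp {W : X.Opens} (hW : IsAffineOpen W) [IsAffineHom g]
    (θ : Γ(P, q ⁻¹ᵁ W) ⟶ Γ(T, g ⁻¹ᵁ W)) (v : T ⟶ P)
    (hv : (g ⁻¹ᵁ W).ι ≫ v = chartHom q g hW θ) (hle : g ⁻¹ᵁ W ≤ v ⁻¹ᵁ (q ⁻¹ᵁ W)) :
    v.appLE (q ⁻¹ᵁ W) (g ⁻¹ᵁ W) hle = θ := by
  have h1 := IsAffineOpen.SpecMap_appLE_fromSpec v (hW.preimage q) (hW.preimage g) hle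
  apply Spec.map_injective
  rw [← cancel_mono (hW.preimage q).fromSpec, h1, ← cancel_epi (hW.preimage g).isoSpec.hom,
    IsAffineOpen.isoSpec_hom_fromSpec_assoc, hv, chartHom]
  rfl

include hU hA in
theorem exists_hom [IsAffineHom g] (θ : ∀ i, Γ(P, q ⁻¹ᵁ U i) ⟶ Γ(T, g ⁻¹ᵁ U i))
    (hθ : ∀ i, q.app (U i) ≫ θ i = g.app (U i))
    (hcomp : ∀ i j, ∃ (_ : IsAffineOpen (U i ⊓ U j)) (θ' : Γ(P, q ⁻¹ᵁ (U i ⊓ U j)) ⟶ Γ(T, g ⁻¹ᵁ (U i ⊓ U j))),
      θ i ≫ T.presheaf.map (homOfLE (g.preimage_mono inf_le_left)).op =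
        P.presheaf.map (homOfLE (q.preimage_mono inf_le_left)).op ≫ θ' ∧
      θ j ≫ T.presheaf.map (homOfLE (g.preimage_mono inf_le_right)).op =
        P.presheaf.map (homOfLE (q.preimage_mono inf_le_right)).op ≫ θ') :
    ∃ (v : T ⟶ P) (hv : v ≫ q = g), ∀ i, sec (U i) v q g hv = θ i := by
  have hsup : ⨆ i, g ⁻¹ᵁ U i = ⊤ := by
    rw [← Scheme.Hom.preimage_iSup, hU]; rfl
  obtain ⟨v, hv⟩ := exists_glue_opens (fun i => g ⁻¹ᵁ U i) hsup (fun i => chartHom q g (hA i) (θ i)) (by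
    intro i j
    obtain ⟨hij, θ', h1, h2⟩ := hcomp i j
    have e1 := homOfLE_chartHom q g inf_le_left (hA i) hij (θ i) θ' h1
    have e2 := homOfLE_chartHom q g inf_le_right (hA j) hij (θ j) θ' h2
    exact e1.trans e2.symm)
  have hvq : v ≫ q = g := by
    refine hom_ext_opens (fun i => g ⁻¹ᵁ U i) hsup _ _ fun i => ?_
    rw [← Category.assoc, hv i, chartHom_comp q g (hA i) (θ i) (hθ i)]
  refine ⟨v, hvq, fun i => ?_⟩
  exact appLE_eq_of_ι_comp q g (hA i) (θ i) v (hv i) _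

end glue

end Groth.Agent.Pi1C.ChartGlue
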