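import Mathlib.AlgebraicGeometry.Morphisms.QuasiCompact
import Mathlib.AlgebraicGeometry.Morphisms.OpenImmersion
import Mathlib.Topology.Connected.Clopen

/-!
# Extending clopen subsets from a retrocompact open subscheme

* `exists_specializes_of_mem_closure` : in `Spec R`, a point in the closure of a compact open set is a
  specialization of a point of that set.
* `exists_specializes_of_mem_closure_scheme`: the same on schemes.
* `existsUnique_clopen_of_isOpenImmersion`: if `f : V ⟶ T` is a quasi-compact open immersion and for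
  every `y` outside of the image the set of generizations of `y` in the image is connected (in particular
  nonempty), then every clopen of `V` is the preimage of a unique clopen of `T`.
-/

set_option autoImplicit false

universe u

open AlgebraicGeometry CategoryTheory TopologicalSpace

namespace Groth.Agent.Pi1C.ClopenExtend

theorem exists_specializes_of_mem_closure {R : Type u} [CommRing R] {W : Set (PrimeSpectrum R)}
    (hW : IsOpen W) (hc : IsCompact W) {y : PrimeSpectrum R} (hy : y ∈ closure W) :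
    ∃ w ∈ W, w ⤳ y := by
  by_contra hcon
  push Not at hcon
  obtain ⟨s, hs⟩ := (PrimeSpectrum.isCompact_isOpen_iff.mp ⟨hc, hW⟩)
  -- `W = (zeroLocus s)ᶜ`
  have key : ∀ h ∈ s, ∃ g : R, g ∉ y.asIdeal ∧ ∃ n : ℕ, g * h ^ n = 0 := by
    intro h hh
    have hnil : IsNilpotent (algebraMap R (Localization.AtPrime y.asIdeal) h) := by
      rw [nilpotent_iff_mem_prime]
      intro J hJ
      by_contra hJh
      have h1 : (PrimeSpectrum.comap (algebraMap R (Localization.AtPrime y.asIdeal)) ⟨J, hJ⟩) ∈ W := by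
        rw [← hs]
        simp only [Set.mem_compl_iff, PrimeSpectrum.mem_zeroLocus]
        intro hsub
        exact hJh (hsub hh)
      apply hcon _ h1
      rw [← PrimeSpectrum.le_iff_specializes]
      intro a ha
      by_contra hay
      have hu : IsUnit (algebraMap R (Localization.AtPrime y.asIdeal) a) :=
        IsLocalization.map_units (Localization.AtPrime y.asIdeal) (⟨a, hay⟩ : y.asIdeal.primeCompl)
      exact hJ.ne_top (Ideal.eq_top_of_isUnit_mem _ ha hu)
    obtain ⟨n, hn⟩ := hnil
    rw [← map_pow, IsLocalization.map_eq_zero_iff y.asIdeal.primeCompl] at hn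
    obtain ⟨g, hg⟩ := hn
    exact ⟨g, g.2, n, hg⟩
  choose! g hg n hn using key
  have hmem : y ∈ (PrimeSpectrum.basicOpen (∏ h ∈ s, g h) : Set (PrimeSpectrum R)) := by
    simp only [SetLike.mem_coe, PrimeSpectrum.mem_basicOpen]
    rw [Ideal.IsPrime.prod_mem_iff]
    push Not
    exact hg
  obtain ⟨z, hz1, hz2⟩ := mem_closure_iff.mp hy _ (PrimeSpectrum.basicOpen _).isOpen hmem
  rw [← hs] at hz2
  apply hz2
  rw [PrimeSpectrum.mem_zeroLocus]
  intro h hh
  simp only [SetLike.mem_coe, PrimeSpectrum.mem_basicOpen] at hz1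
  have h0 : g h * h ^ n h ∈ z.asIdeal := by rw [hn h hh]; exact z.asIdeal.zero_mem
  rcases z.isPrime.mem_or_mem h0 with h1 | h1
  · exact absurd (z.asIdeal.mem_of_dvd (Finset.dvd_prod_of_mem _ hh) h1) hz1
  · exact z.isPrime.mem_of_pow_mem _ h1

/-- A set-theoretic version for schemes. -/
theorem exists_specializes_of_mem_closure_scheme {X : Scheme.{u}} {W : Set X} (hW : IsOpen W)
    (hc : ∀ N : X.Opens, IsAffineOpen N → IsCompact (W ∩ N)) {y : X} (hy : y ∈ closure W) :
    ∃ w ∈ W, w ⤳ y := by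
  obtain ⟨N, hN, hyN, -⟩ := exists_isAffineOpen_mem_and_subset (X := X) (U := ⊤) (x := y) trivial
  have hemb : Topology.IsOpenEmbedding hN.fromSpec := hN.fromSpec.isOpenEmbedding
  obtain ⟨y', rfl⟩ : y ∈ Set.range hN.fromSpec := by rw [hN.range_fromSpec]; exact hyN
  have hWo : IsOpen (hN.fromSpec ⁻¹' W) := hW.preimage hemb.continuous
  have hWc : IsCompact (hN.fromSpec ⁻¹' W) := by
    rw [hemb.isInducing.isCompact_iff, Set.image_preimage_eq_inter_range, hN.range_fromSpec]
    exact hc N hN
  have hcl : y' ∈ closure (hN.fromSpec ⁻¹' W) := by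
    rw [← hemb.isOpenMap.preimage_closure_eq_closure_preimage hemb.continuous]
    exact hy
  obtain ⟨w, hw, hwy⟩ := exists_specializes_of_mem_closure hWo hWc hcl
  exact ⟨hN.fromSpec w, hw, hwy.map hemb.continuous⟩

theorem existsUnique_clopen_of_isOpenImmersion {V T : Scheme.{u}} (f : V ⟶ T) [IsOpenImmersion f]
    [QuasiCompact f] (h : ∀ y : T, y ∉ Set.range f → _root_.IsConnected {z : T | z ∈ Set.range f ∧ z ⤳ y})
    (W : Set V) (hW : IsClopen W) : ∃! W' : Set T, IsClopen W' ∧ f ⁻¹' W' = W := by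
  have hemb : Topology.IsOpenEmbedding f := f.isOpenEmbedding
  -- closure condition
  have hcl : ∀ (A : Set V), IsClopen A → ∀ y : T, y ∈ closure (f '' A) → ∃ w ∈ f '' A, w ⤳ y := by
    intro A hA y hy
    refine exists_specializes_of_mem_closure_scheme (hemb.isOpenMap _ hA.isOpen) (fun N hN => ?_) hy
    have h1 : IsCompact (f ⁻¹' N) := QuasiCompact.isCompact_preimage _ N.isOpen hN.isCompact
    have h2 : IsCompact (A ∩ f ⁻¹' N) := h1.inter_left hA.isClosed
    rw [← Set.image_inter_preimage]
    exact h2.image hemb.continuous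
  have hsep : ∀ y : T, ¬ (y ∈ closure (f '' W) ∧ y ∈ closure (f '' Wᶜ)) := by
    rintro y ⟨h1, h2⟩
    obtain ⟨a, ⟨a', ha', rfl⟩, hay⟩ := hcl W hW y h1
    obtain ⟨b, ⟨b', hb', rfl⟩, hby⟩ := hcl Wᶜ hW.compl y h2
    by_cases hyr : y ∈ Set.range f
    · obtain ⟨y', rfl⟩ := hyr
      rw [hemb.isInducing.specializes_iff] at hay hby
      by_cases hyW : y' ∈ W
      · exact hb' (hby.mem_open hW.isOpen hyW)
      · exact (hay.mem_open hW.compl.isOpen hyW) ha'
    · have hconn := (h y hyr).isPreconnected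
      have h3 := hconn (f '' W) (f '' Wᶜ) (hemb.isOpenMap _ hW.isOpen)
        (hemb.isOpenMap _ hW.compl.isOpen) (by
          rintro z ⟨⟨z', rfl⟩, -⟩
          by_cases hz : z' ∈ W
          · exact Or.inl ⟨z', hz, rfl⟩
          · exact Or.inr ⟨z', hz, rfl⟩) ⟨f a', ⟨⟨a', rfl⟩, hay⟩, ⟨a', ha', rfl⟩⟩
          ⟨f b', ⟨⟨b', rfl⟩, hby⟩, ⟨b', hb', rfl⟩⟩
      obtain ⟨z, -, ⟨z1, hz1, rfl⟩, ⟨z2, hz2, hz⟩⟩ := h3
      rw [hemb.injective hz] at hz2
      exact hz2 hz1
  have hdense : ∀ y : T, y ∈ closure (Set.range f) := by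
    intro y
    by_cases hyr : y ∈ Set.range f
    · exact subset_closure hyr
    · obtain ⟨z, hz, hzy⟩ := (h y hyr).nonempty
      exact hzy.mem_closed isClosed_closure (subset_closure hz)
  refine ⟨(closure (f '' Wᶜ))ᶜ, ⟨⟨?_, isClosed_closure.isOpen_compl⟩, ?_⟩, ?_⟩
  · have : (closure (f '' Wᶜ))ᶜ = closure (f '' W) := by
      ext y
      constructor
      · intro hy
        have h1 := hdense y
        rw [← Set.image_univ, ← Set.union_compl_self W, Set.image_union, closure_union] at h1
        exact h1.resolve_right hy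
      · intro hy hy'
        exact hsep y ⟨hy, hy'⟩
    rw [this]
    exact isClosed_closure
  · ext v
    simp only [Set.preimage_compl, Set.mem_compl_iff, Set.mem_preimage]
    constructor
    · intro hv
      by_contra hvW
      exact hv (subset_closure ⟨v, hvW, rfl⟩)
    · intro hv hv'
      exact hsep (f v) ⟨subset_closure ⟨v, hv, rfl⟩, hv'⟩
  · rintro W' ⟨hW', hfW'⟩
    ext y
    constructor
    · intro hy hy'
      obtain ⟨z, hz1, ⟨z', hz', rfl⟩⟩ := mem_closure_iff.mp hy' W' hW'.isOpen hy
      have : z' ∈ f ⁻¹' W' := hz1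
      rw [hfW'] at this
      exact hz' this
    · intro hy
      by_contra hyW'
      have h1 := hdense y
      obtain ⟨z, hz1, ⟨z', rfl⟩⟩ := mem_closure_iff.mp h1 (W'ᶜ ∩ (closure (f '' Wᶜ))ᶜ)
        (hW'.compl.isOpen.inter isClosed_closure.isOpen_compl) ⟨hyW', hy⟩
      have h2 : z' ∉ W := by
        rw [← hfW']
        exact hz1.1
      exact hz1.2 (subset_closure ⟨z', h2, rfl⟩)

end Groth.Agent.Pi1C.ClopenExtend
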