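import Mathlib.RingTheory.AdicCompletion.AsTensorProduct
import Mathlib.RingTheory.AdicCompletion.Completeness
import Mathlib.RingTheory.AdicCompletion.LocalRing
import Mathlib.RingTheory.Flat.FaithfullyFlat.Algebra
import Mathlib.RingTheory.Finiteness.Descent
import Mathlib.RingTheory.IsTensorProduct

/-!
Algebra for gluing finite algebras along the completion of a Noetherian local ring (Stacks 0BLH).
-/

set_option autoImplicit false

namespace Groth.Agent.Pi1C.CompletionGlue

open TensorProduct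

universe u

section PowTorsion

variable {A A' : Type*} [CommRing A] [CommRing A'] [Algebra A A'] (I : Ideal A)

/-- For an `A'`-module `T` all of whose elements are killed by a power of `I`, the multiplication
`A' ⊗[A] T → T` is bijective, provided that `A → A'/I^n A'` is surjective for every `n`. -/
lemma bijective_mul_of_powTorsion
    (hI : ∀ (n : ℕ) (x : A'), ∃ a : A, x - algebraMap A A' a ∈ (I ^ n).map (algebraMap A A'))
    (T : Type*) [AddCommGroup T] [Module A T] [Module A' T] [IsScalarTower A A' T]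
    (hT : ∀ t : T, ∃ n : ℕ, ∀ a ∈ I ^ n, a • t = 0)
    (z : A' ⊗[A] T) : ∃ t : T, z = 1 ⊗ₜ t := by
  induction z with
  | zero => exact ⟨0, by simp⟩
  | tmul x t =>
    obtain ⟨n, hn⟩ := hT t
    obtain ⟨a, ha⟩ := hI n x
    refine ⟨a • t, ?_⟩
    have key : ∀ y ∈ (I ^ n).map (algebraMap A A'), (y ⊗ₜ[A] t : A' ⊗[A] T) = 0 := by
      intro y hy
      refine Submodule.span_induction (p := fun y _ => (y ⊗ₜ[A] t : A' ⊗[A] T) = 0) ?_ ?_ ?_ ?_ hy
      · rintro _ ⟨b, hb, rfl⟩
        rw [Algebra.algebraMap_eq_smul_one, TensorProduct.smul_tmul, hn b hb, tmul_zero]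
      · simp
      · intro p q _ _ hp hq
        rw [add_tmul, hp, hq, add_zero]
      · intro c p _ hp
        have : (c • p) ⊗ₜ[A] t = c • (p ⊗ₜ[A] t) := rfl
        rw [this, hp, smul_zero]
    have h2 := key _ ha
    rw [sub_tmul, sub_eq_zero] at h2
    rw [h2, Algebra.algebraMap_eq_smul_one, TensorProduct.smul_tmul]
  | add p q hp hq =>
    obtain ⟨t, rfl⟩ := hp
    obtain ⟨s, rfl⟩ := hq
    exact ⟨t + s, by rw [tmul_add]⟩

end PowTorsion

section Core

variable {A A' B' C C' : Type*} [CommRing A] [CommRing A'] [CommRing B'] [CommRing C] [CommRing C']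
  [Algebra A A'] [Algebra A B'] [Algebra A C] [Algebra A C']
  [Algebra A' B'] [Algebra A' C'] [Algebra C C']
  [IsScalarTower A A' B'] [IsScalarTower A A' C'] [IsScalarTower A C C']

/-- The fibre product `B' ×_{C'} C`. -/
def glued (φ : B' →ₐ[A'] C') : Subalgebra A (B' × C) :=
  AlgHom.equalizer ((φ.restrictScalars A).comp (AlgHom.fst A B' C))
    ((IsScalarTower.toAlgHom A C C').comp (AlgHom.snd A B' C))

lemma mem_glued (φ : B' →ₐ[A'] C') (x : B' × C) :
    x ∈ glued (A := A) φ ↔ φ x.1 = algebraMap C C' x.2 := Iff.rfl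

/-- First projection. -/
def gluedFst (φ : B' →ₐ[A'] C') : glued (A := A) (C := C) φ →ₐ[A] B' :=
  (AlgHom.fst A B' C).comp (Subalgebra.val _)

/-- Second projection. -/
def gluedSnd (φ : B' →ₐ[A'] C') : glued (A := A) (C := C) φ →ₐ[A] C :=
  (AlgHom.snd A B' C).comp (Subalgebra.val _)

/-- Comparison map `A' ⊗ B → B'`. -/
def gluedComparison (φ : B' →ₐ[A'] C') : A' ⊗[A] glued (A := A) (C := C) φ →ₐ[A'] B' :=
  Algebra.TensorProduct.lift (Algebra.ofId A' B') (gluedFst φ) (fun _ _ => Commute.all _ _)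

variable [Module.Flat A A'] [Algebra.IsPushout A A' C C']

omit [Module.Flat A A'] in
theorem gluedComparison_surjective (I : Ideal A)
    (hI : ∀ (n : ℕ) (x : A'), ∃ a : A, x - algebraMap A A' a ∈ (I ^ n).map (algebraMap A A'))
    (φ : B' →ₐ[A'] C')
    (hT : ∀ y : C', ∃ n : ℕ, ∀ a ∈ I ^ n, ∃ x : B', φ x = a • y) :
    Function.Surjective (gluedComparison (A := A) (C := C) φ) := by
  intro b'
  -- elements of `C'` are in `ι(C) + A' · ι(B₁)`
  have hrange : ∀ y : C', ∃ c : C, ∃ z : A' ⊗[A] glued (A := A) (C := C) φ,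
      y = algebraMap C C' c + φ (gluedComparison (A := A) (C := C) φ z) := by
    intro y
    obtain ⟨w, rfl⟩ := (Algebra.IsPushout.equiv A A' C C').surjective y
    induction w with
    | zero => exact ⟨0, 0, by simp⟩
    | tmul x c =>
      rw [Algebra.IsPushout.equiv_tmul]
      obtain ⟨n, hn⟩ := hT (algebraMap C C' c)
      obtain ⟨a, ha⟩ := hI n x
      -- key: for `y ∈ I^n A'`, `y • ι c ∈ φ (image)`
      have key : ∀ y ∈ (I ^ n).map (algebraMap A A'),
          ∃ z : A' ⊗[A] glued (A := A) (C := C) φ,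
            y • algebraMap C C' c = φ (gluedComparison (A := A) (C := C) φ z) := by
        intro y hy
        refine Submodule.span_induction (p := fun y _ => ∃ z : A' ⊗[A] glued (A := A) (C := C) φ,
            y • algebraMap C C' c = φ (gluedComparison (A := A) (C := C) φ z)) ?_ ?_ ?_ ?_ hy
        · rintro _ ⟨b, hb, rfl⟩
          obtain ⟨x, hx⟩ := hn b hb
          have hmem : ((x, b • c) : B' × C) ∈ glued (A := A) (C := C) φ := by
            rw [mem_glued]
            simp only [hx, Algebra.smul_def, map_mul, ← IsScalarTower.algebraMap_apply]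
          refine ⟨1 ⊗ₜ ⟨_, hmem⟩, ?_⟩
          simp [gluedComparison, gluedFst, hx]
        · exact ⟨0, by simp⟩
        · rintro p q _ _ ⟨z, hz⟩ ⟨w, hw⟩
          exact ⟨z + w, by rw [add_smul, hz, hw, map_add, map_add]⟩
        · rintro r p _ ⟨z, hz⟩
          exact ⟨r • z, by rw [smul_eq_mul, mul_smul, hz, map_smul, map_smul]⟩
      obtain ⟨z, hz⟩ := key _ ha
      refine ⟨a • c, z, ?_⟩
      rw [← hz, sub_smul]
      simp [Algebra.smul_def, ← IsScalarTower.algebraMap_apply]
    | add p q hp hq =>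
      obtain ⟨c, z, h⟩ := hp
      obtain ⟨d, w, h'⟩ := hq
      exact ⟨c + d, z + w, by rw [map_add, h, h', map_add, map_add, map_add]; ring⟩
  obtain ⟨c, z, h⟩ := hrange (φ b')
  have hmem : ((b' - gluedComparison (A := A) (C := C) φ z, c) : B' × C) ∈
      glued (A := A) (C := C) φ := by
    rw [mem_glued]
    simp [h]
  refine ⟨1 ⊗ₜ ⟨_, hmem⟩ + z, ?_⟩
  rw [map_add]
  simp [gluedComparison, gluedFst]

theorem gluedComparison_injective (I : Ideal A)
    (hI : ∀ (n : ℕ) (x : A'), ∃ a : A, x - algebraMap A A' a ∈ (I ^ n).map (algebraMap A A'))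
    (φ : B' →ₐ[A'] C')
    (hK : ∀ x : B', φ x = 0 → ∃ n : ℕ, ∀ a ∈ I ^ n, a • x = 0) :
    Function.Injective (gluedComparison (A := A) (C := C) φ) := by
  rw [injective_iff_map_eq_zero]
  intro z hz
  let K : Submodule A' B' := LinearMap.ker φ.toLinearMap
  let κ : K →ₗ[A] glued (A := A) (C := C) φ :=
    { toFun := fun k => ⟨((k : B'), 0), by rw [mem_glued, map_zero]; exact k.2⟩
      map_add' := fun x y => by ext <;> simp
      map_smul' := fun r x => by ext <;> simp }
  have hex : Function.Exact κ (gluedSnd (A := A) (C := C) φ).toLinearMap := by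
    intro x
    constructor
    · intro hx
      have hx2 : x.1.2 = 0 := hx
      have hx1 : φ x.1.1 = 0 := by
        have := (mem_glued φ x.1).1 x.2
        rw [this, hx2, map_zero]
      exact ⟨⟨x.1.1, hx1⟩, by ext <;> simp [κ, hx2]⟩
    · rintro ⟨k, rfl⟩
      rfl
  have hex' := Module.Flat.lTensor_exact A' hex
  have h2 : (LinearMap.lTensor A' (gluedSnd (A := A) (C := C) φ).toLinearMap) z = 0 := by
    apply (Algebra.IsPushout.equiv A A' C C').injective
    rw [map_zero]
    have : ∀ z : A' ⊗[A] glued (A := A) (C := C) φ,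
        (Algebra.IsPushout.equiv A A' C C')
          ((LinearMap.lTensor A' (gluedSnd (A := A) (C := C) φ).toLinearMap) z) =
        φ (gluedComparison (A := A) (C := C) φ z) := by
      intro z
      induction z with
      | zero => simp
      | tmul x b =>
        have hb := (mem_glued φ b.1).1 b.2
        rw [LinearMap.lTensor_tmul, Algebra.IsPushout.equiv_tmul]
        simp only [gluedComparison, Algebra.TensorProduct.lift_tmul, map_mul]
        change _ = φ (algebraMap A' B' x) * φ b.1.1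
        rw [hb, AlgHom.commutes]
        rfl
      | add p q hp hq => rw [map_add, map_add, map_add, map_add, hp, hq]
    rw [this, hz, map_zero]
  obtain ⟨w, rfl⟩ := (hex' z).1 h2
  obtain ⟨k, rfl⟩ := bijective_mul_of_powTorsion I hI K (fun t => by
    obtain ⟨n, hn⟩ := hK t t.2
    exact ⟨n, fun a ha => by ext; simpa using hn a ha⟩) w
  have : (k : B') = 0 := by
    simpa [gluedComparison, gluedFst, κ] using hz
  have hk : k = 0 := by ext; exact this
  rw [hk]; simp

theorem gluedComparison_bijective (I : Ideal A)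
    (hI : ∀ (n : ℕ) (x : A'), ∃ a : A, x - algebraMap A A' a ∈ (I ^ n).map (algebraMap A A'))
    (φ : B' →ₐ[A'] C')
    (hK : ∀ x : B', φ x = 0 → ∃ n : ℕ, ∀ a ∈ I ^ n, a • x = 0)
    (hT : ∀ y : C', ∃ n : ℕ, ∀ a ∈ I ^ n, ∃ x : B', φ x = a • y) :
    Function.Bijective (gluedComparison (A := A) (C := C) φ) :=
  ⟨gluedComparison_injective I hI φ hK, gluedComparison_surjective I hI φ hT⟩

omit [Module.Flat A A'] in
lemma finite_glued [Module.FaithfullyFlat A A'] [Module.Finite A' B'] (I : Ideal A)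
    (hI : ∀ (n : ℕ) (x : A'), ∃ a : A, x - algebraMap A A' a ∈ (I ^ n).map (algebraMap A A'))
    (φ : B' →ₐ[A'] C')
    (hK : ∀ x : B', φ x = 0 → ∃ n : ℕ, ∀ a ∈ I ^ n, a • x = 0)
    (hT : ∀ y : C', ∃ n : ℕ, ∀ a ∈ I ^ n, ∃ x : B', φ x = a • y) :
    Module.Finite A (glued (A := A) (C := C) φ) := by
  have : Module.Finite A' (A' ⊗[A] glued (A := A) (C := C) φ) :=
    Module.Finite.equiv (AlgEquiv.ofBijective _
      (gluedComparison_bijective (A := A) (C := C) I hI φ hK hT)).symm.toLinearEquiv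
  exact Module.Finite.of_finite_tensorProduct_of_faithfullyFlat A'

omit [Module.Flat A A'] [Algebra.IsPushout A A' C C'] in
lemma gluedSnd_ker (I : Ideal A) (φ : B' →ₐ[A'] C')
    (hK : ∀ x : B', φ x = 0 → ∃ n : ℕ, ∀ a ∈ I ^ n, a • x = 0)
    (x : glued (A := A) (C := C) φ) (hx : gluedSnd φ x = 0) :
    ∃ n : ℕ, ∀ a ∈ I ^ n, a • x = 0 := by
  have hx2 : x.1.2 = 0 := hx
  have hx1 : φ x.1.1 = 0 := by
    have := (mem_glued φ x.1).1 x.2
    rw [this, hx2, map_zero]
  obtain ⟨n, hn⟩ := hK _ hx1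
  refine ⟨n, fun a ha => ?_⟩
  ext
  · exact hn a ha
  · simp [hx2]

omit [Module.Flat A A'] [Algebra.IsPushout A A' C C'] in
lemma gluedSnd_coker (I : Ideal A) (φ : B' →ₐ[A'] C')
    (hT : ∀ y : C', ∃ n : ℕ, ∀ a ∈ I ^ n, ∃ x : B', φ x = a • y)
    (c : C) : ∃ n : ℕ, ∀ a ∈ I ^ n, ∃ x : glued (A := A) (C := C) φ, gluedSnd φ x = a • c := by
  obtain ⟨n, hn⟩ := hT (algebraMap C C' c)
  refine ⟨n, fun a ha => ?_⟩
  obtain ⟨x, hx⟩ := hn a ha
  refine ⟨⟨(x, a • c), ?_⟩, rfl⟩
  rw [mem_glued]
  simp only [hx, Algebra.smul_def, map_mul, ← IsScalarTower.algebraMap_apply]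

end Core

section Completion

variable (A : Type*) [CommRing A] [IsNoetherianRing A] [IsLocalRing A]

lemma exists_sub_algebraMap_mem (n : ℕ)
    (x : AdicCompletion (IsLocalRing.maximalIdeal A) A) :
    ∃ a : A, x - algebraMap A _ a ∈ ((IsLocalRing.maximalIdeal A) ^ n).map
      (algebraMap A (AdicCompletion (IsLocalRing.maximalIdeal A) A)) := by
  have hfg : (IsLocalRing.maximalIdeal A).FG := IsNoetherian.noetherian _
  obtain ⟨a, ha⟩ := Submodule.Quotient.mk_surjective _
    (AdicCompletion.eval (IsLocalRing.maximalIdeal A) A n x)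
  refine ⟨a, ?_⟩
  have h1 : x - algebraMap A _ a ∈
      LinearMap.ker (AdicCompletion.eval (IsLocalRing.maximalIdeal A) A n) := by
    rw [LinearMap.mem_ker, map_sub, ← ha, sub_eq_zero]
    rfl
  rw [← AdicCompletion.pow_smul_top_eq_ker_eval hfg] at h1
  rw [Ideal.smul_top_eq_map] at h1
  exact h1

instance faithfullyFlat : Module.FaithfullyFlat A
    (AdicCompletion (IsLocalRing.maximalIdeal A) A) :=
  Module.FaithfullyFlat.of_flat_of_isLocalHom

end Completion

end Groth.Agent.Pi1C.CompletionGlue
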