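import Groth.Agent.VarietyB.ProjGlue
import Mathlib.Algebra.Polynomial.Laurent
import Mathlib.RingTheory.Localization.Away.Basic
import Mathlib.RingTheory.Polynomial.Basic
import Groth.Agent.FlatB.PushRing

/-!
# The homogeneous coordinate ring of a scheme with coordinate data

For `D : CoordData X (Fin (r+1))` over `p : X ⟶ Spec k` with affine opens `D.U i`, basic opens
`D.U i ⊓ D.U j` of `f i j` and surjective `k[x] → Γ(X, U i)`, the ring `R = k[x]/J`, where `J` is
the common kernel of the maps `rho i : k[x] → Γ(X, U i)[T;T⁻¹]`, `x_j ↦ f i j * T`, satisfies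
`R[1/x_i] = Γ(X, U i)[T;T⁻¹]`.
-/

set_option autoImplicit false
universe u
open AlgebraicGeometry CategoryTheory
open Groth.Agent.VarietyB.ProjGlue

namespace Groth.Agent.Pi1C.Cone

variable {X : Scheme.{u}} {r : ℕ} (D : CoordData X (Fin (r + 1))) {k : Type u} [Field k]
  (p : X ⟶ Spec (CommRingCat.of k))

/-- `x_j ↦ f i j * T`. -/
noncomputable def rho (i : Fin (r + 1)) :
    MvPolynomial (Fin (r + 1)) k →+* LaurentPolynomial Γ(X, D.U i) :=
  MvPolynomial.eval₂Hom (LaurentPolynomial.C.comp (CoordData.baseHom p (D.U i)))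
    (fun j => LaurentPolynomial.T 1 * LaurentPolynomial.C (D.f i j))

theorem rho_X (i j : Fin (r + 1)) :
    rho D p i (MvPolynomial.X j) = LaurentPolynomial.T 1 * LaurentPolynomial.C (D.f i j) := by
  simp [rho]

theorem rho_X_self (i : Fin (r + 1)) :
    rho D p i (MvPolynomial.X i) = LaurentPolynomial.T 1 := by
  rw [rho_X, D.f_self, map_one, mul_one]

theorem rho_of_isHomogeneous (i : Fin (r + 1)) {F : MvPolynomial (Fin (r + 1)) k} {n : ℕ}
    (hF : F.IsHomogeneous n) :
    rho D p i F = LaurentPolynomial.C (D.hom p i F) * LaurentPolynomial.T n := by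
  rw [rho, eval₂Hom_smul_of_isHomogeneous _ _ _ hF, LaurentPolynomial.T_pow, mul_one, mul_comm]
  congr 1
  have h : MvPolynomial.eval₂Hom (LaurentPolynomial.C.comp (CoordData.baseHom p (D.U i)))
      (fun j => LaurentPolynomial.C (D.f i j)) =
      (LaurentPolynomial.C : Γ(X, D.U i) →+* LaurentPolynomial Γ(X, D.U i)).comp (D.hom p i) := by
    apply MvPolynomial.ringHom_ext
    · intro c
      simp [CoordData.hom]
    · intro j
      simp [CoordData.hom]
  rw [h]
  rfl

/-- The coefficient of a Laurent polynomial as an additive map. -/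
noncomputable def lcoeff (A : Type u) [CommRing A] (d : ℤ) : LaurentPolynomial A →+ A where
  toFun z := z.coeff d
  map_zero' := rfl
  map_add' _ _ := rfl

theorem lcoeff_C_mul_T {A : Type u} [CommRing A] (a : A) (n d : ℤ) :
    lcoeff A d (LaurentPolynomial.C a * LaurentPolynomial.T n) = if n = d then a else 0 := by
  rw [← LaurentPolynomial.single_eq_C_mul_T]
  change (AddMonoidAlgebra.single n a : LaurentPolynomial A).coeff d = _
  rw [AddMonoidAlgebra.coeff_single, Finsupp.single_apply]

/-- The coefficients of `rho i F`. -/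
theorem coeff_rho (i : Fin (r + 1)) (F : MvPolynomial (Fin (r + 1)) k) (d : ℕ) :
    lcoeff _ (d : ℤ) (rho D p i F) = D.hom p i (MvPolynomial.homogeneousComponent d F) := by
  conv_lhs => rw [← MvPolynomial.sum_homogeneousComponent F, map_sum, map_sum]
  have h : ∀ m ∈ Finset.range (F.totalDegree + 1),
      lcoeff _ (d : ℤ) (rho D p i (MvPolynomial.homogeneousComponent m F)) =
        if m = d then D.hom p i (MvPolynomial.homogeneousComponent m F) else 0 := by
    intro m _
    rw [rho_of_isHomogeneous D p i (MvPolynomial.homogeneousComponent_isHomogeneous m F),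
      lcoeff_C_mul_T]
    simp only [Nat.cast_inj]
  rw [Finset.sum_congr rfl h, Finset.sum_ite_eq']
  split_ifs with h1
  · rfl
  · rw [Finset.mem_range, not_lt] at h1
    rw [MvPolynomial.homogeneousComponent_eq_zero _ _ (by omega), map_zero]

theorem coeff_rho_neg (i : Fin (r + 1)) (F : MvPolynomial (Fin (r + 1)) k) (d : ℤ) (hd : d < 0) :
    lcoeff _ d (rho D p i F) = 0 := by
  conv_lhs => rw [← MvPolynomial.sum_homogeneousComponent F, map_sum, map_sum]
  refine Finset.sum_eq_zero fun m _ => ?_
  rw [rho_of_isHomogeneous D p i (MvPolynomial.homogeneousComponent_isHomogeneous m F),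
    lcoeff_C_mul_T, if_neg (by omega)]

theorem rho_eq_zero_iff (i : Fin (r + 1)) (F : MvPolynomial (Fin (r + 1)) k) :
    rho D p i F = 0 ↔ ∀ d, D.hom p i (MvPolynomial.homogeneousComponent d F) = 0 := by
  constructor
  · intro h d
    rw [← coeff_rho, h, map_zero]
  · intro h
    apply LaurentPolynomial.ext
    intro d
    change lcoeff _ d (rho D p i F) = 0
    rcases lt_or_ge d 0 with hd | hd
    · exact coeff_rho_neg D p i F d hd
    · obtain ⟨n, rfl⟩ := Int.eq_ofNat_of_zero_le hd
      rw [coeff_rho, h]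

/-- The ideal of the cone. -/
noncomputable def J : Ideal (MvPolynomial (Fin (r + 1)) k) :=
  ⨅ i, RingHom.ker (rho D p i)

theorem mem_J (F : MvPolynomial (Fin (r + 1)) k) : F ∈ J D p ↔ ∀ i, rho D p i F = 0 := by
  simp [J, RingHom.mem_ker]

theorem mem_J' (F : MvPolynomial (Fin (r + 1)) k) :
    F ∈ J D p ↔ ∀ i d, D.hom p i (MvPolynomial.homogeneousComponent d F) = 0 := by
  rw [mem_J]
  exact forall_congr' fun i => rho_eq_zero_iff D p i F

/-- The ring of the cone. -/
abbrev R : Type u := MvPolynomial (Fin (r + 1)) k ⧸ J D p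

/-- The coordinates on the cone. -/
noncomputable def x (i : Fin (r + 1)) : R D p := Ideal.Quotient.mk (J D p) (MvPolynomial.X i)

/-- The chart map. -/
noncomputable def chart (i : Fin (r + 1)) : R D p →+* LaurentPolynomial Γ(X, D.U i) :=
  Ideal.Quotient.lift (J D p) (rho D p i) (fun F hF => (mem_J D p F).mp hF i)

theorem chart_mk (i : Fin (r + 1)) (F : MvPolynomial (Fin (r + 1)) k) :
    chart D p i (Ideal.Quotient.mk (J D p) F) = rho D p i F := rfl

theorem chart_x (i j : Fin (r + 1)) :
    chart D p i (x D p j) = LaurentPolynomial.T 1 * LaurentPolynomial.C (D.f i j) :=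
  rho_X D p i j

theorem chart_x_self (i : Fin (r + 1)) : chart D p i (x D p i) = LaurentPolynomial.T 1 :=
  rho_X_self D p i

/-- An element of the cone ring is determined by its charts. -/
theorem ext_chart {a b : R D p} (h : ∀ i, chart D p i a = chart D p i b) : a = b := by
  obtain ⟨F, rfl⟩ := Ideal.Quotient.mk_surjective a
  obtain ⟨G, rfl⟩ := Ideal.Quotient.mk_surjective b
  rw [Ideal.Quotient.eq, mem_J]
  intro i
  rw [map_sub, sub_eq_zero]
  exact h i

/-- Change of chart for homogeneous polynomials. -/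
theorem res_hom_of_isHomogeneous (i j : Fin (r + 1)) {F : MvPolynomial (Fin (r + 1)) k} {n : ℕ}
    (hF : F.IsHomogeneous n) :
    X.presheaf.map (homOfLE (inf_le_left : D.U i ⊓ D.U j ≤ D.U i)).op (D.hom p i F) =
      X.presheaf.map (homOfLE (inf_le_left : D.U i ⊓ D.U j ≤ D.U i)).op (D.f i j) ^ n *
        X.presheaf.map (homOfLE (inf_le_right : D.U i ⊓ D.U j ≤ D.U j)).op (D.hom p j F) := by
  have h1 := congrArg (fun φ : MvPolynomial (Fin (r + 1)) k →+* _ => φ F)
    (D.map_hom p i (inf_le_left : D.U i ⊓ D.U j ≤ D.U i))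
  have h2 := congrArg (fun φ : MvPolynomial (Fin (r + 1)) k →+* _ => φ F)
    (D.map_hom p j (inf_le_right : D.U i ⊓ D.U j ≤ D.U j))
  simp only [RingHom.comp_apply] at h1 h2
  have h3 : (fun l => X.presheaf.map (homOfLE (inf_le_left : D.U i ⊓ D.U j ≤ D.U i)).op (D.f i l)) =
      fun l => X.presheaf.map (homOfLE (inf_le_left : D.U i ⊓ D.U j ≤ D.U i)).op (D.f i j) *
        X.presheaf.map (homOfLE (inf_le_right : D.U i ⊓ D.U j ≤ D.U j)).op (D.f j l) := by
    funext l
    exact D.f_mul i j l
  rw [h3, eval₂Hom_smul_of_isHomogeneous _ _ _ hF] at h1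
  rw [← h2] at h1
  exact h1

section local_

variable (hU : ∀ i, IsAffineOpen (D.U i)) (hb : ∀ i j, X.basicOpen (D.f i j) = D.U i ⊓ D.U j)

include hU hb in
/-- If `F` vanishes on the chart `i` then `x_i^N F` vanishes on the chart `j`. -/
theorem exists_pow_mul_eq_zero (i j : Fin (r + 1)) {F : MvPolynomial (Fin (r + 1)) k} {n : ℕ}
    (hF : F.IsHomogeneous n) (h : D.hom p i F = 0) : ∃ N : ℕ, D.f j i ^ N * D.hom p j F = 0 := by
  have h1 := res_hom_of_isHomogeneous D p j i hF
  have h2 : X.presheaf.map (homOfLE (inf_le_left : D.U j ⊓ D.U i ≤ D.U j)).op (D.hom p j F) = 0 := by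
    rw [h1, h, map_zero, mul_zero]
  have h3 := (hU j).isLocalization_basicOpen (D.f j i)
  have h4 : algebraMap Γ(X, D.U j) Γ(X, X.basicOpen (D.f j i)) (D.hom p j F) = 0 := by
    change X.presheaf.map (homOfLE (X.basicOpen_le (D.f j i))).op (D.hom p j F) = 0
    have h5 : homOfLE (X.basicOpen_le (D.f j i)) =
        homOfLE (hb j i).le ≫ homOfLE (inf_le_left : D.U j ⊓ D.U i ≤ D.U j) := rfl
    rw [h5, op_comp, Functor.map_comp, CommRingCat.comp_apply, h2, map_zero]
  obtain ⟨N, hN⟩ := (IsLocalization.Away.exists_of_eq (S := Γ(X, X.basicOpen (D.f j i)))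
    (D.f j i) (h4.trans (map_zero _).symm))
  exact ⟨N, by rw [hN, mul_zero]⟩

omit hU hb in
theorem rho_eq_sum (i : Fin (r + 1)) (F : MvPolynomial (Fin (r + 1)) k) :
    rho D p i F = ∑ d ∈ Finset.range (F.totalDegree + 1),
      LaurentPolynomial.C (D.hom p i (MvPolynomial.homogeneousComponent d F)) *
        LaurentPolynomial.T d := by
  conv_lhs => rw [← MvPolynomial.sum_homogeneousComponent F, map_sum]
  exact Finset.sum_congr rfl fun d _ => rho_of_isHomogeneous D p i
    (MvPolynomial.homogeneousComponent_isHomogeneous d F)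

include hU hb in
theorem exists_pow_mul_mem_J (i : Fin (r + 1)) (F : MvPolynomial (Fin (r + 1)) k)
    (h : rho D p i F = 0) : ∃ N : ℕ, MvPolynomial.X i ^ N * F ∈ J D p := by
  rw [rho_eq_zero_iff] at h
  have h1 : ∀ (j : Fin (r + 1)) (d : ℕ), ∃ N : ℕ,
      D.f j i ^ N * D.hom p j (MvPolynomial.homogeneousComponent d F) = 0 := fun j d =>
    exists_pow_mul_eq_zero D p hU hb i j (MvPolynomial.homogeneousComponent_isHomogeneous d F) (h d)
  choose N hN using h1
  let M : ℕ := ∑ j, ∑ d ∈ Finset.range (F.totalDegree + 1), N j d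
  refine ⟨M, ?_⟩
  rw [mem_J]
  intro j
  rw [map_mul, map_pow, rho_X, rho_eq_sum, Finset.mul_sum]
  refine Finset.sum_eq_zero fun d hd => ?_
  have hle : N j d ≤ M :=
    (Finset.single_le_sum (f := fun d => N j d) (fun _ _ => Nat.zero_le _) hd).trans
      (Finset.single_le_sum (f := fun j => ∑ d ∈ Finset.range (F.totalDegree + 1), N j d)
        (fun _ _ => Nat.zero_le _) (Finset.mem_univ j))
  have h0 : D.f j i ^ M * D.hom p j (MvPolynomial.homogeneousComponent d F) = 0 := by
    rw [← Nat.sub_add_cancel hle, pow_add, mul_assoc, hN, mul_zero]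
  rw [mul_pow, ← map_pow, mul_assoc, ← mul_assoc (LaurentPolynomial.C _), ← map_mul, h0, map_zero,
    zero_mul, mul_zero]

include hU hb in
theorem chart_eq_zero (i : Fin (r + 1)) (a : R D p) (h : chart D p i a = 0) :
    ∃ N : ℕ, x D p i ^ N * a = 0 := by
  obtain ⟨F, rfl⟩ := Ideal.Quotient.mk_surjective a
  obtain ⟨N, hN⟩ := exists_pow_mul_mem_J D p hU hb i F h
  refine ⟨N, ?_⟩
  rw [x, ← map_pow, ← map_mul, Ideal.Quotient.eq_zero_iff_mem]
  exact hN

omit hU hb in
theorem chart_surj (hs : ∀ i, Function.Surjective (D.hom p i)) (i : Fin (r + 1))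
    (z : LaurentPolynomial Γ(X, D.U i)) :
    ∃ (N : ℕ) (a : R D p), z * LaurentPolynomial.T N = chart D p i a := by
  have hadd : ∀ z₁ z₂ : LaurentPolynomial Γ(X, D.U i),
      (∃ (N : ℕ) (a : R D p), z₁ * LaurentPolynomial.T N = chart D p i a) →
      (∃ (N : ℕ) (a : R D p), z₂ * LaurentPolynomial.T N = chart D p i a) →
      ∃ (N : ℕ) (a : R D p), (z₁ + z₂) * LaurentPolynomial.T N = chart D p i a := by
    rintro z₁ z₂ ⟨N₁, a₁, h₁⟩ ⟨N₂, a₂, h₂⟩
    refine ⟨N₁ + N₂, x D p i ^ N₂ * a₁ + x D p i ^ N₁ * a₂, ?_⟩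
    rw [map_add, map_mul, map_mul, map_pow, map_pow, chart_x_self, ← h₁, ← h₂,
      LaurentPolynomial.T_pow, LaurentPolynomial.T_pow, mul_one, mul_one, Nat.cast_add,
      LaurentPolynomial.T_add]
    ring
  induction z using LaurentPolynomial.induction_on' with
  | add z₁ z₂ h₁ h₂ => exact hadd z₁ z₂ h₁ h₂
  | C_mul_T d c =>
    obtain ⟨F, rfl⟩ := hs i c
    have key : ∀ s : Finset ℕ, ∃ (N : ℕ) (a : R D p),
        (LaurentPolynomial.C (D.hom p i (∑ m ∈ s, MvPolynomial.homogeneousComponent m F)) *
          LaurentPolynomial.T d) * LaurentPolynomial.T N = chart D p i a := by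
      intro s
      induction s using Finset.induction_on with
      | empty => exact ⟨0, 0, by simp⟩
      | insert m s hm ih =>
        rw [Finset.sum_insert hm, map_add, map_add, add_mul]
        refine hadd _ _ ?_ ih
        refine ⟨m + d.natAbs, Ideal.Quotient.mk (J D p)
          (MvPolynomial.homogeneousComponent m F * MvPolynomial.X i ^ (d + d.natAbs).toNat), ?_⟩
        rw [chart_mk, map_mul, map_pow, rho_X_self,
          rho_of_isHomogeneous D p i (MvPolynomial.homogeneousComponent_isHomogeneous m F),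
          LaurentPolynomial.T_pow, mul_one, mul_assoc, mul_assoc, ← LaurentPolynomial.T_add,
          ← LaurentPolynomial.T_add]
        congr 2
        have : ((d + d.natAbs).toNat : ℤ) = d + d.natAbs := Int.toNat_of_nonneg (by omega)
        rw [this]
        push_cast
        ring
    have h := key (Finset.range (F.totalDegree + 1))
    rwa [MvPolynomial.sum_homogeneousComponent] at h

include hU hb in
theorem isLocAway_chart (hs : ∀ i, Function.Surjective (D.hom p i)) (i : Fin (r + 1)) :
    FlatB.PushRing.IsLocAway (chart D p i) (x D p i) where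
  unit := by
    rw [chart_x_self]
    exact LaurentPolynomial.isUnit_T 1
  surj z := by
    obtain ⟨N, a, h⟩ := chart_surj D p hs i z
    exact ⟨N, a, by rw [chart_x_self, LaurentPolynomial.T_pow, mul_one, h]⟩
  eq a b h := by
    obtain ⟨N, hN⟩ := chart_eq_zero D p hU hb i (a - b) (by rw [map_sub, h, sub_self])
    exact ⟨N, by rwa [mul_sub, sub_eq_zero] at hN⟩

end local_

/-- The irrelevant ideal of the cone ring. -/
noncomputable def m : Ideal (R D p) := Ideal.span (Set.range (x D p))

theorem x_mem_m (i : Fin (r + 1)) : x D p i ∈ m D p := Ideal.subset_span ⟨i, rfl⟩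

/-- The complement of the vertex is covered by the charts. -/
theorem exists_x_notMem (P : PrimeSpectrum (R D p)) (h : ¬ m D p ≤ P.asIdeal) :
    ∃ i, x D p i ∉ P.asIdeal := by
  by_contra! h1
  apply h
  rw [m, Ideal.span_le]
  rintro _ ⟨i, rfl⟩
  exact h1 i

theorem J_le [Nonempty X] : J D p ≤ RingHom.ker (MvPolynomial.constantCoeff) := by
  intro F hF
  rw [mem_J'] at hF
  rw [RingHom.mem_ker]
  by_contra hne
  change MvPolynomial.coeff 0 F ≠ 0 at hne
  obtain ⟨y⟩ := ‹Nonempty X›
  obtain ⟨i, hi⟩ : ∃ i, y ∈ D.U i := by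
    have : y ∈ (⊤ : X.Opens) := trivial
    rw [← D.iSup_U] at this
    simpa using this
  have h := hF i 0
  rw [MvPolynomial.homogeneousComponent_zero] at h
  have h1 : D.hom p i (MvPolynomial.C (MvPolynomial.coeff 0 F)) *
      D.hom p i (MvPolynomial.C (MvPolynomial.coeff 0 F)⁻¹) = 1 := by
    rw [← map_mul, ← map_mul, mul_inv_cancel₀ hne, map_one, map_one]
  rw [h, zero_mul] at h1
  have h2 : D.U i = ⊥ := by
    have := X.basicOpen_of_isUnit (isUnit_one : IsUnit (1 : Γ(X, D.U i)))
    rw [← h1, Scheme.basicOpen_zero] at this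
    exact this.symm
  rw [h2] at hi
  exact hi

/-- Evaluation at the vertex. -/
noncomputable def vertex [Nonempty X] : R D p →+* k :=
  Ideal.Quotient.lift (J D p) MvPolynomial.constantCoeff (fun F hF => J_le D p hF)

theorem ker_vertex [Nonempty X] : RingHom.ker (vertex D p) = m D p := by
  apply le_antisymm
  · intro a ha
    obtain ⟨F, rfl⟩ := Ideal.Quotient.mk_surjective a
    have h0 : MvPolynomial.constantCoeff F = 0 := ha
    have key : ∀ F : MvPolynomial (Fin (r + 1)) k, Ideal.Quotient.mk (J D p)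
        (F - MvPolynomial.C (MvPolynomial.constantCoeff F)) ∈ m D p := by
      intro F
      induction F using MvPolynomial.induction_on with
      | C c => simp
      | add F G hF hG =>
        have h := add_mem hF hG
        rw [← map_add] at h
        convert h using 2
        rw [map_add, map_add]
        ring
      | mul_X F i hF =>
        rw [map_mul, MvPolynomial.constantCoeff_X, mul_zero, map_zero, sub_zero, map_mul]
        exact Ideal.mul_mem_left _ _ (x_mem_m D p i)
    have h1 := key F
    rwa [h0, map_zero, sub_zero] at h1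
  · rw [m, Ideal.span_le]
    rintro _ ⟨i, rfl⟩
    change MvPolynomial.constantCoeff (MvPolynomial.X i) = 0
    exact MvPolynomial.constantCoeff_X _ i

theorem vertex_surjective [Nonempty X] : Function.Surjective (vertex D p) := fun c =>
  ⟨Ideal.Quotient.mk (J D p) (MvPolynomial.C c), MvPolynomial.constantCoeff_C _ c⟩

theorem isMaximal_m [Nonempty X] : (m D p).IsMaximal := by
  rw [← ker_vertex]
  exact RingHom.ker_isMaximal_of_surjective _ (vertex_surjective D p)

end Groth.Agent.Pi1C.Cone
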