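import Groth.Agent.CalgA.RegAB
import Groth.Agent.Ega4B.DepthTransfer
import Mathlib.RingTheory.RegularLocalRing.Polynomial
import Mathlib.RingTheory.LocalProperties.ProjectiveDimension
import Mathlib.RingTheory.KrullDimension.Polynomial
import Mathlib.RingTheory.KrullDimension.Field

/-!
# Projective dimension over a polynomial ring from depth at the maximal ideals
-/

set_option autoImplicit false

universe u

open TensorProduct

namespace Groth.Agent.Pi1C.ConeDepth

open CategoryTheory Groth.Agent.CalgA.RegProjDim Groth.Agent.CalgA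

/-- Over a regular local ring of dimension `≤ δ + c`, a finite module of depth `≥ δ` has projective
dimension `≤ c`. -/
theorem PD_of_depth (R : Type u) [CommRing R] [IsRegularLocalRing R] (δ c : ℕ)
    (hdim : ringKrullDim R ≤ (δ + c : ℕ)) (M : Type u) [AddCommGroup M] [Module R M]
    [Module.Finite R M] (hd : (δ : ℕ∞) ≤ LocCoh.depth R M) : PD R M (c + 1) := by
  classical
  rcases subsingleton_or_nontrivial M with hM | hM
  · exact PD.of_subsingleton
  obtain ⟨d, hd'⟩ := RegBasic.ringKrullDim_eq_natCast R
  have hex : ∃ n : ℕ, PD R M (n + 1) := ⟨d, RegSerre.PD_of_isRegularLocalRing R d hd' M⟩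
  let e := Nat.find hex
  have he : RegAB.PDeq (R := R) M e := by
    refine ⟨Nat.find_spec hex, ?_⟩
    intro hcon
    rcases Nat.eq_zero_or_pos e with h0 | h0
    · rw [h0] at hcon
      have := PD.zero_iff.mp hcon
      exact not_subsingleton M this
    · have := Nat.find_min hex (m := e - 1) (by omega)
      apply this
      rwa [Nat.sub_add_cancel h0]
  have hAB := RegAB.depth_eq M e he
  have h1 : ((LocCoh.depth R R : ℕ∞) : WithBot ℕ∞) ≤ ringKrullDim R := by
    have := Localalg.Depth2.depth_le_supportDim (R := R) R
    exact this.trans (Module.supportDim_le_ringKrullDim R R)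
  have h2 : LocCoh.depth R R ≤ (δ + c : ℕ) := by
    have := h1.trans hdim
    exact WithBot.coe_le_coe.mp this
  rw [hAB] at h2
  have h3 : ((e + δ : ℕ) : ℕ∞) ≤ ((δ + c : ℕ) : ℕ∞) := by
    refine le_trans ?_ h2
    push_cast
    gcongr
  have h4 : e + δ ≤ δ + c := by exact_mod_cast h3
  exact PD.mono (by omega) he.1

/-- local-global principle -/
theorem PD_of_localized (R : Type u) [CommRing R] [IsNoetherianRing R] (M : Type u) [AddCommGroup M]
    [Module R M] [Module.Finite R M] (n : ℕ)
    (h : ∀ (p : Ideal R) [p.IsMaximal], PD (Localization.AtPrime p)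
      (LocalizedModule p.primeCompl M) (n + 1)) : PD R M (n + 1) := by
  have h1 := (ModuleCat.hasProjectiveDimensionLE_iff_forall_maximalSpectrum n (ModuleCat.of R M)).mpr ?_
  · exact h1
  · intro m
    have := h m.1
    have e : (ModuleCat.of R M).localizedModule m.1.primeCompl ≃ₗ[Localization m.1.primeCompl]
      LocalizedModule m.1.primeCompl M := Shrink.linearEquiv _ _
    exact PD.of_linearEquiv e.symm this

variable {k : Type u} [Field k] (r : ℕ)

/-- A quotient ring `C` of `k[y_1..y_r]` whose local rings at the maximal ideals have depth `≥ δ` has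
projective dimension `≤ c` over `k[y_1..y_r]` as soon as `r ≤ δ + c`. -/
theorem PD_of_depth_polynomial (δ c : ℕ) (hr : r ≤ δ + c) {C : Type u} [CommRing C]
    [Algebra (MvPolynomial (Fin r) k) C]
    (hs : Function.Surjective (algebraMap (MvPolynomial (Fin r) k) C))
    (h : ∀ (m : Ideal C) [m.IsMaximal],
      (δ : ℕ∞) ≤ LocCoh.depth (Localization.AtPrime m) (Localization.AtPrime m)) :
    PD (MvPolynomial (Fin r) k) C (c + 1) := by
  have hfin : Module.Finite (MvPolynomial (Fin r) k) C :=
    Module.Finite.of_surjective (Algebra.linearMap _ C) hs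
  refine PD_of_localized _ C c fun Q hQ => ?_
  rcases subsingleton_or_nontrivial (LocalizedModule Q.primeCompl C) with hM | hM
  · exact PD.of_subsingleton
  have hker : RingHom.ker (algebraMap (MvPolynomial (Fin r) k) C) ≤ Q := by
    intro a ha
    by_contra haQ
    refine not_subsingleton (LocalizedModule Q.primeCompl C) ?_
    rw [LocalizedModule.subsingleton_iff]
    intro x
    refine ⟨a, haQ, ?_⟩
    rw [Algebra.smul_def, (RingHom.mem_ker).mp ha, zero_mul]
  let m : Ideal C := Q.map (algebraMap (MvPolynomial (Fin r) k) C)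
  have hcomap : m.comap (algebraMap (MvPolynomial (Fin r) k) C) = Q := by
    rw [Ideal.comap_map_of_surjective _ hs]
    exact sup_eq_left.mpr hker
  have hm : m.IsMaximal := by
    rcases Ideal.map_eq_top_or_isMaximal_of_surjective _ hs hQ with h1 | h1
    · exfalso
      apply hQ.ne_top
      rw [← hcomap]
      change Ideal.comap _ (Q.map _) = ⊤
      rw [h1, Ideal.comap_top]
    · exact h1
  have hmem : ∀ a, algebraMap (MvPolynomial (Fin r) k) C a ∈ m ↔ a ∈ Q := fun a => by
    conv_rhs => rw [← hcomap]
    rfl
  -- `C_m` is the localization of the module `C` at `Q`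
  have hsub : Algebra.algebraMapSubmonoid C Q.primeCompl = m.primeCompl := by
    ext x
    constructor
    · rintro ⟨a, ha, rfl⟩
      exact fun hx => ha ((hmem a).mp hx)
    · intro hx
      obtain ⟨a, rfl⟩ := hs x
      exact ⟨a, fun ha => hx ((hmem a).mpr ha), rfl⟩
  have hl : IsLocalization (Algebra.algebraMapSubmonoid C Q.primeCompl) (Localization.AtPrime m) := by
    rw [hsub]
    infer_instance
  have hlm : IsLocalizedModule Q.primeCompl
      (IsScalarTower.toAlgHom (MvPolynomial (Fin r) k) C (Localization.AtPrime m)).toLinearMap :=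
    isLocalizedModule_iff_isLocalization.mpr hl
  let _ : Algebra (Localization.AtPrime Q) (Localization.AtPrime m) :=
    (Localization.localRingHom Q m (algebraMap _ C) hcomap.symm).toAlgebra
  have htow : IsScalarTower (MvPolynomial (Fin r) k) (Localization.AtPrime Q)
      (Localization.AtPrime m) := by
    refine IsScalarTower.of_algebraMap_eq fun a => ?_
    change _ = Localization.localRingHom Q m (algebraMap _ C) hcomap.symm (algebraMap _ _ a)
    rw [Localization.localRingHom_to_map]
    rfl
  have hsurj : Function.Surjective (algebraMap (Localization.AtPrime Q) (Localization.AtPrime m)) := by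
    intro z
    obtain ⟨c, s, rfl⟩ := IsLocalization.exists_mk'_eq m.primeCompl z
    obtain ⟨a, rfl⟩ := hs c
    obtain ⟨b, hb⟩ := hs s
    have hbQ : b ∈ Q.primeCompl := fun hbQ => s.2 (by rw [← hb]; exact (hmem b).mpr hbQ)
    refine ⟨IsLocalization.mk' _ a ⟨b, hbQ⟩, ?_⟩
    change Localization.localRingHom Q m (algebraMap _ C) hcomap.symm _ = _
    rw [Localization.localRingHom_mk']
    congr 1
    exact Subtype.ext hb
  let e : LocalizedModule Q.primeCompl C ≃ₗ[Localization.AtPrime Q] Localization.AtPrime m :=
    LinearEquiv.extendScalarsOfIsLocalization Q.primeCompl (Localization.AtPrime Q)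
      (IsLocalizedModule.linearEquiv Q.primeCompl (LocalizedModule.mkLinearMap Q.primeCompl C)
        (IsScalarTower.toAlgHom (MvPolynomial (Fin r) k) C (Localization.AtPrime m)).toLinearMap)
  have hdep : LocCoh.depth (Localization.AtPrime m) (Localization.AtPrime m) =
      LocCoh.depth (Localization.AtPrime Q) (LocalizedModule Q.primeCompl C) :=
    Groth.Agent.Ega4B.DepthTransfer.depth_eq (algebraMap _ _) e.toAddEquiv (fun b x => by
      exact (map_smul e b x).trans (Algebra.smul_def b (e x))) hsurj
  have hfin' : Module.Finite (Localization.AtPrime Q) (LocalizedModule Q.primeCompl C) :=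
    inferInstance
  refine PD_of_depth _ δ c ?_ _ ?_
  · rw [IsLocalization.AtPrime.ringKrullDim_eq_height Q]
    refine (Ideal.height_le_ringKrullDim_of_ne_top hQ.ne_top).trans ?_
    rw [MvPolynomial.ringKrullDim_of_isNoetherianRing]
    simp
    exact_mod_cast hr
  · rw [← hdep]
    exact h m

end Groth.Agent.Pi1C.ConeDepth
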