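import Groth.Agent.CalgA.RegLoc
import Mathlib.RingTheory.Localization.BaseChange
import Mathlib.RingTheory.Localization.LocalizationLocalization
import Mathlib.Algebra.Module.LocalizedModule.IsLocalization

/-!
# Projective dimension of the localizations of the cone
-/

set_option autoImplicit false

universe u

open TensorProduct

namespace Groth.Agent.Pi1C.ConePd

open Groth.Agent.CalgA.RegProjDim Groth.Agent.CalgA.RegLoc

/-- Projective dimension of a module along a chain `P' → L ← S`, `L = S_f`. -/
theorem pd_localized {S P' L C N R : Type u} [CommRing S] [CommRing P'] [CommRing L] [CommRing C]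
    [CommRing N] [CommRing R] [Algebra S L] (f : S) [IsLocalization.Away f L]
    [Algebra P' L] [Module.Flat P' L] [Algebra P' C] [Algebra C N] [Algebra L N] [Algebra P' N]
    [IsScalarTower P' C N] [IsScalarTower P' L N] [Algebra.IsPushout P' L C N]
    [Algebra S R] [Algebra R N] [Algebra S N] [IsScalarTower S R N] [IsScalarTower S L N]
    [IsLocalization.Away (algebraMap S R f) N] (n : ℕ) (h : PD P' C n)
    (p : Ideal S) [p.IsPrime] (hp : f ∉ p) :
    PD (Localization.AtPrime p) (LocalizedModule p.primeCompl R) n := by
  -- `N` has projective dimension `< n` over `L`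
  have h1 : PD L N n := by
    have h2 := PD.baseChange L n C h
    have hbc : IsBaseChange L (IsScalarTower.toAlgHom P' C N).toLinearMap :=
      Algebra.IsPushout.out
    exact PD.of_linearEquiv hbc.equiv h2
  -- `R → N` is a base change to `L`
  have hbc1 : IsBaseChange L (IsScalarTower.toAlgHom S R N).toLinearMap := by
    have : IsLocalization (Algebra.algebraMapSubmonoid R (Submonoid.powers f)) N := by
      rw [Algebra.algebraMapSubmonoid_powers]
      infer_instance
    have : IsLocalizedModule (Submonoid.powers f) (IsScalarTower.toAlgHom S R N).toLinearMap :=
      isLocalizedModule_iff_isLocalization.mpr this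
    exact IsLocalizedModule.isBaseChange (Submonoid.powers f) L _
  -- the structure of `L`-algebra on `S_p`
  have hunit : IsUnit (algebraMap S (Localization.AtPrime p) f) :=
    IsLocalization.map_units (M := p.primeCompl) (Localization.AtPrime p) ⟨f, hp⟩
  let φ : L →+* Localization.AtPrime p := IsLocalization.Away.lift (S := L) f hunit
  let _ : Algebra L (Localization.AtPrime p) := φ.toAlgebra
  have htow : IsScalarTower S L (Localization.AtPrime p) :=
    IsScalarTower.of_algebraMap_eq fun a => (IsLocalization.Away.lift_eq (S := L) f hunit a).symm
  have hle : Submonoid.powers f ≤ p.primeCompl := by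
    rw [Submonoid.powers_le]
    exact hp
  have hloc : IsLocalization (p.primeCompl.map (algebraMap S L)) (Localization.AtPrime p) :=
    IsLocalization.isLocalization_of_submonoid_le L (Localization.AtPrime p)
      (Submonoid.powers f) p.primeCompl hle
  have hflat : Module.Flat L (Localization.AtPrime p) := IsLocalization.flat _ (p.primeCompl.map (algebraMap S L))
  have h3 := PD.baseChange (Localization.AtPrime p) n N h1
  -- comparison
  have hbc2 : IsBaseChange (Localization.AtPrime p)
      (((TensorProduct.mk L (Localization.AtPrime p) N 1).restrictScalars S).comp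
        (IsScalarTower.toAlgHom S R N).toLinearMap) :=
    IsBaseChange.comp hbc1 (TensorProduct.isBaseChange L N (Localization.AtPrime p))
  have hbc3 : IsBaseChange (Localization.AtPrime p) (LocalizedModule.mkLinearMap p.primeCompl R) :=
    IsLocalizedModule.isBaseChange p.primeCompl (Localization.AtPrime p) _
  exact PD.of_linearEquiv (hbc2.equiv.symm.trans hbc3.equiv) h3

end Groth.Agent.Pi1C.ConePd
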