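import Groth.Agent.Pi1C.ConeLoc
import Groth.Agent.Pi1C.ConePd
import Groth.Agent.Pi1C.ConeDepth
import Groth.Agent.Sga2.LefExtAnn
import Groth.Agent.Flat2H.SmoothSection
import Groth.Agent.Localalg.LCRows
import Groth.Agent.Localalg.DepthLC
import Groth.Agent.LoccohA.LES

/-!
# A power of `x_0` annihilates the local cohomology of the cone (blueprint S1151, (B))

* `ConeAnn.exists_pow_smul_H_eq_zero` : over `S = k[x_0..x_r]`, if `pd M_p ≤ c` for all primes `p ∌ t` then a power of
  `t` kills `H^j_m(M)` for `j + c ≤ r`.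
* `ConeAnn.main` : the cone over an affine scheme with coordinates.
-/

set_option autoImplicit false

universe u

open CategoryTheory Abelian LaurentPolynomial

namespace Groth.Agent.Pi1C.ConeAnn

/-- the ideal `(x_0, ..., x_r)` of the polynomial ring. -/
noncomputable abbrev mS (k : Type u) [CommRing k] (r : ℕ) : Ideal (MvPolynomial (Fin (r + 1)) k) :=
  Ideal.span (Set.range MvPolynomial.X)

theorem mS_ne_top (k : Type u) [Field k] (r : ℕ) : mS k r ≠ ⊤ := by
  intro h
  have h1 : (1 : MvPolynomial (Fin (r + 1)) k) ∈ mS k r := h ▸ Submodule.mem_top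
  have h2 : mS k r ≤ RingHom.ker (MvPolynomial.constantCoeff (R := k) (σ := Fin (r + 1))) := by
    rw [mS, Ideal.span_le]
    rintro _ ⟨j, rfl⟩
    simp
  have h3 := h2 h1
  rw [RingHom.mem_ker, map_one] at h3
  exact one_ne_zero h3

theorem le_idealDepth (k : Type u) [Field k] (r : ℕ) :
    ((r + 1 : ℕ) : ℕ∞) ≤ LocCoh.idealDepth (mS k r) (MvPolynomial (Fin (r + 1)) k) := by
  rw [Groth.Agent.Localalg.Depth.natCast_le_idealDepth_iff]
  · refine ⟨List.ofFn MvPolynomial.X, by simp, ?_, ?_⟩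
    · intro x hx
      rw [List.mem_ofFn] at hx
      exact Ideal.subset_span hx
    · refine ⟨Groth.Agent.Flat2H.SmoothSection.isWeaklyRegular_X k (r + 1), ?_⟩
      have hspan : Ideal.ofList (List.ofFn (MvPolynomial.X : Fin (r + 1) → MvPolynomial (Fin (r + 1)) k))
          = mS k r := by
        unfold Ideal.ofList
        congr 1
        ext x
        change x ∈ List.ofFn _ ↔ _
        rw [List.mem_ofFn]
        rfl
      rw [hspan, Ideal.smul_eq_mul, Ideal.mul_top]
      exact (mS_ne_top k r).symm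
  · rw [Ideal.smul_eq_mul, Ideal.mul_top]
    exact mS_ne_top k r

/-- general form over the polynomial ring. -/
theorem exists_pow_smul_H_eq_zero (k : Type u) [Field k] (r c : ℕ)
    (M : Type u) [AddCommGroup M] [Module (MvPolynomial (Fin (r + 1)) k) M]
    [Module.Finite (MvPolynomial (Fin (r + 1)) k) M] (t : MvPolynomial (Fin (r + 1)) k)
    (h : ∀ (p : Ideal (MvPolynomial (Fin (r + 1)) k)) [p.IsPrime], t ∉ p →
      HasProjectiveDimensionLT (ModuleCat.of (Localization.AtPrime p)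
        (LocalizedModule p.primeCompl M)) (c + 1)) :
    ∃ s : ℕ, ∀ (j : ℕ), j + c ≤ r → ∀ x : LocCoh.H (mS k r) j M, t ^ s • x = 0 := by
  obtain ⟨s, hs⟩ := Groth.Agent.Sga2.LefExtAnn.exists_pow_smul_ext_eq_zero t c M
    (fun p hp htp => ⟨p, hp, le_rfl, h p htp⟩)
  refine ⟨s, fun j hj x => ?_⟩
  obtain ⟨κ, y, rfl⟩ := Groth.Agent.LoccohA.LES.toH_surj (mS k r) j M x
  have h1 : t ^ s • y = 0 := by
    refine hs _ (r + 1) j (fun i hi => ?_) (by omega) y
    refine Groth.Agent.Localalg.Depth.ext_subsingleton_of_lt_idealDepth (mS k r) _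
      (Groth.Agent.Localalg.DepthLC.support_quotient_pow (mS k r) _) _ i ?_
    exact lt_of_lt_of_le (by exact_mod_cast hi) (le_idealDepth k r)
  rw [← map_smul, h1, map_zero]

open Classical AlgebraMonoidAlgebra in
/-- **Annihilation of the local cohomology of the cone.**  `R` is a quotient `π` of `k[x_0..x_r]`, `C` is a
quotient `ψ` of `k[x_0..x_r]` with `ψ x_0 = 1`, and `ρ : R → C[T,T⁻¹]`, `x_j ↦ ψ(x_j) T` is a localization at
`x_0`.  If the local rings of `C` at its maximal ideals have depth `≥ i + 1`, then a power of `x_0` kills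
`H^j_m(R)` for `j ≤ i + 1`. -/
theorem main {k : Type u} [Field k] (r i : ℕ) {R C₀ : Type u} [CommRing R] [CommRing C₀]
    (π : MvPolynomial (Fin (r + 1)) k →+* R) (hπ : Function.Surjective π)
    (ψ : MvPolynomial (Fin (r + 1)) k →+* C₀) (hψ : Function.Surjective ψ)
    (hψ0 : ψ (MvPolynomial.X 0) = 1)
    (ρ : R →+* C₀[T;T⁻¹])
    (hρC : ∀ a : k, ρ (π (MvPolynomial.C a)) = C (ψ (MvPolynomial.C a)))
    (hρX : ∀ j, ρ (π (MvPolynomial.X j)) = C (ψ (MvPolynomial.X j)) * T 1)
    (hloc : @IsLocalization.Away R _ (π (MvPolynomial.X 0)) C₀[T;T⁻¹] _ ρ.toAlgebra)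
    (hd : ∀ (m : Ideal C₀) [m.IsMaximal],
      ((i + 1 : ℕ) : ℕ∞) ≤ LocCoh.depth (Localization.AtPrime m) (Localization.AtPrime m)) :
    ∃ s : ℕ, ∀ j ≤ i + 1, ∀ x : LocCoh.H ((mS k r).map π) j R,
      (π (MvPolynomial.X 0)) ^ s • x = 0 := by
  let _ : Algebra R C₀[T;T⁻¹] := ρ.toAlgebra
  -- the quotient map from the polynomial ring in the last `r` variables
  let φ : MvPolynomial (Fin r) k →+* C₀ := ψ.comp (MvPolynomial.rename Fin.succ).toRingHom
  have hφC : ∀ a : k, φ (MvPolynomial.C a) = ψ (MvPolynomial.C a) := fun a => by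
    change ψ ((MvPolynomial.rename Fin.succ) (MvPolynomial.C a)) = _
    rw [MvPolynomial.rename_C]
  have hφX : ∀ j, φ (MvPolynomial.X j) = ψ (MvPolynomial.X j.succ) := fun j => by
    change ψ ((MvPolynomial.rename Fin.succ) (MvPolynomial.X j)) = _
    rw [MvPolynomial.rename_X]
  have hφ : Function.Surjective φ := by
    let σ : MvPolynomial (Fin (r + 1)) k →ₐ[k] MvPolynomial (Fin r) k :=
      MvPolynomial.aeval (Fin.cons 1 MvPolynomial.X)
    have h1 : φ.comp σ.toRingHom = ψ := by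
      refine MvPolynomial.ringHom_ext (fun a => ?_) (fun j => ?_)
      · have : σ.toRingHom (MvPolynomial.C a) = MvPolynomial.C a := σ.commutes a
        rw [RingHom.comp_apply, this, hφC]
      · rw [RingHom.comp_apply]
        change φ (σ (MvPolynomial.X j)) = _
        rw [MvPolynomial.aeval_X]
        refine Fin.cases ?_ (fun j => ?_) j
        · rw [Fin.cons_zero, map_one, hψ0]
        · rw [Fin.cons_succ, hφX]
    intro c
    obtain ⟨F, rfl⟩ := hψ c
    exact ⟨σ F, RingHom.congr_fun h1 F⟩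
  let _ : Algebra (MvPolynomial (Fin r) k) C₀ := φ.toAlgebra
  have hfin0 : Module.Finite (MvPolynomial (Fin r) k) C₀ :=
    Module.Finite.of_surjective (Algebra.linearMap _ C₀) hφ
  rcases subsingleton_or_nontrivial C₀ with hC | hC
  · -- `x_0` is nilpotent
    have h1 : ρ 1 = 0 := Subsingleton.elim _ _
    obtain ⟨⟨_, s, rfl⟩, hs⟩ := (IsLocalization.eq_iff_exists (Submonoid.powers (π (MvPolynomial.X 0)))
      C₀[T;T⁻¹]).mp (show algebraMap R C₀[T;T⁻¹] 1 = algebraMap R C₀[T;T⁻¹] 0 from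
        Subsingleton.elim _ _)
    refine ⟨s, fun j _ x => ?_⟩
    have h2 : (π (MvPolynomial.X 0)) ^ s = 0 := by simpa using hs
    rw [h2, zero_smul]
  -- `i + 1 ≤ r`
  have hir : i + 1 ≤ r := by
    obtain ⟨m, hm⟩ := Ideal.exists_maximal C₀
    have hN : IsNoetherianRing C₀ := isNoetherianRing_of_surjective _ _ φ hφ
    have h1 := hd m
    have h2 : ((LocCoh.depth (Localization.AtPrime m) (Localization.AtPrime m) : ℕ∞) : WithBot ℕ∞) ≤
        ringKrullDim (Localization.AtPrime m) := by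
      have := Groth.Agent.Localalg.Depth2.depth_le_supportDim (R := Localization.AtPrime m)
        (Localization.AtPrime m)
      exact this.trans (Module.supportDim_le_ringKrullDim _ _)
    have h3 : ringKrullDim (Localization.AtPrime m) ≤ ringKrullDim C₀ := by
      rw [IsLocalization.AtPrime.ringKrullDim_eq_height m]
      exact Ideal.height_le_ringKrullDim_of_ne_top hm.ne_top
    have h4 : ringKrullDim C₀ ≤ ringKrullDim (MvPolynomial (Fin r) k) :=
      ringKrullDim_le_of_surjective φ hφ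
    have h5 : ringKrullDim (MvPolynomial (Fin r) k) = r := by
      rw [MvPolynomial.ringKrullDim_of_isNoetherianRing]
      simp
    have h6 : (((i + 1 : ℕ) : ℕ∞) : WithBot ℕ∞) ≤ (r : WithBot ℕ∞) := by
      refine le_trans (WithBot.coe_le_coe.mpr h1) ((h2.trans (h3.trans h4)).trans (le_of_eq h5))
    exact_mod_cast h6
  have hPD : Groth.Agent.CalgA.RegProjDim.PD (MvPolynomial (Fin r) k) C₀ (r - (i + 1) + 1) :=
    Groth.Agent.Pi1C.ConeDepth.PD_of_depth_polynomial r (i + 1) (r - (i + 1)) (by omega) hφ hd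
  -- algebra structures
  let _ : Algebra (MvPolynomial (Fin (r + 1)) k) R := π.toAlgebra
  let _ : Algebra (MvPolynomial (Fin (r + 1)) k) ((MvPolynomial (Fin r) k)[T;T⁻¹]) :=
    (ConeLoc.toL k r).toRingHom.toAlgebra
  let _ : Algebra (MvPolynomial (Fin (r + 1)) k) (C₀[T;T⁻¹]) := (ρ.comp π).toAlgebra
  have htow1 : IsScalarTower (MvPolynomial (Fin (r + 1)) k) R (C₀[T;T⁻¹]) :=
    IsScalarTower.of_algebraMap_eq fun _ => rfl
  have hCC : ∀ q : MvPolynomial (Fin r) k,
      algebraMap ((MvPolynomial (Fin r) k)[T;T⁻¹]) (C₀[T;T⁻¹]) (C q) = C (φ q) := fun q => by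
    rw [AddMonoidAlgebra.algebraMap_def, ← LaurentPolynomial.single_eq_C,
      AddMonoidAlgebra.mapRingHom_single, LaurentPolynomial.single_eq_C]
    rfl
  have hTT : algebraMap ((MvPolynomial (Fin r) k)[T;T⁻¹]) (C₀[T;T⁻¹]) (T 1) = T 1 := by
    rw [AddMonoidAlgebra.algebraMap_def]
    change AddMonoidAlgebra.mapRingHom _ _ (AddMonoidAlgebra.single 1 1) = _
    rw [AddMonoidAlgebra.mapRingHom_single, map_one]
    rfl
  have htow2 : IsScalarTower (MvPolynomial (Fin (r + 1)) k) ((MvPolynomial (Fin r) k)[T;T⁻¹])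
      (C₀[T;T⁻¹]) := by
    refine IsScalarTower.of_algebraMap_eq' (MvPolynomial.ringHom_ext (fun a => ?_) (fun j => ?_))
    · have h1 : algebraMap (MvPolynomial (Fin (r + 1)) k) ((MvPolynomial (Fin r) k)[T;T⁻¹])
          (MvPolynomial.C a) = C (MvPolynomial.C a) := (ConeLoc.toL k r).commutes a
      rw [RingHom.comp_apply, h1, hCC, hφC]
      exact hρC a
    · rw [RingHom.comp_apply]
      refine Eq.trans (hρX j) ?_
      refine Fin.cases ?_ (fun j => ?_) j
      · have h1 : algebraMap (MvPolynomial (Fin (r + 1)) k) ((MvPolynomial (Fin r) k)[T;T⁻¹])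
          (MvPolynomial.X 0) = T 1 := ConeLoc.toL_zero k r
        rw [h1, hTT, hψ0, map_one, one_mul]
      · have h1 : algebraMap (MvPolynomial (Fin (r + 1)) k) ((MvPolynomial (Fin r) k)[T;T⁻¹])
          (MvPolynomial.X j.succ) = C (MvPolynomial.X j) * T 1 := ConeLoc.toL_succ k r j
        rw [h1, map_mul, hTT, hCC, hφX]
  have hL : IsLocalization.Away (MvPolynomial.X 0 : MvPolynomial (Fin (r + 1)) k)
      ((MvPolynomial (Fin r) k)[T;T⁻¹]) := ConeLoc.isLocalization_toL k r
  have hfin : Module.Finite (MvPolynomial (Fin (r + 1)) k) R :=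
    Module.Finite.of_surjective (Algebra.linearMap _ R) hπ
  obtain ⟨s, hs⟩ := exists_pow_smul_H_eq_zero k r (r - (i + 1)) R (MvPolynomial.X 0)
    (fun p hp htp => ConePd.pd_localized (S := MvPolynomial (Fin (r + 1)) k)
      (P' := MvPolynomial (Fin r) k) (L := (MvPolynomial (Fin r) k)[T;T⁻¹]) (C := C₀)
      (N := C₀[T;T⁻¹]) (R := R) (MvPolynomial.X 0) _ hPD p htp)
  have hNoeth : IsNoetherianRing R := isNoetherianRing_of_surjective _ _ π hπ
  refine ⟨s, fun j hj x => ?_⟩
  obtain ⟨e, he⟩ := Groth.Agent.Localalg.LCRows.nonempty_resEquiv (A := MvPolynomial (Fin (r + 1)) k)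
    (B := R) (mS k r) j R
  apply e.injective
  rw [map_zero, ← map_pow]
  refine (he (MvPolynomial.X 0 ^ s) x).trans ?_
  exact hs j (by omega) (e x)

end Groth.Agent.Pi1C.ConeAnn
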