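import Groth.Agent.Pi1C.ConeAnn
import Groth.Agent.VarietyB.ProjGlue
import Mathlib.AlgebraicGeometry.Morphisms.FiniteType
import Mathlib.Topology.KrullDimension
import Mathlib.Topology.JacobsonSpace
import Mathlib.AlgebraicGeometry.AffineScheme

/-!
# A power of `x_0` annihilates the local cohomology of the cone, geometric form (blueprint S1151, (B))
-/

set_option autoImplicit false

universe u

open CategoryTheory AlgebraicGeometry LaurentPolynomial

namespace Groth.Agent.Pi1C.ConeAnnX

theorem topologicalKrullDim_closure_of_isClosed {X : Type*} [TopologicalSpace X] (x : X)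
    (hx : IsClosed ({x} : Set X)) : topologicalKrullDim (closure ({x} : Set X)) ≤ 0 := by
  rw [hx.closure_eq]
  have : DiscreteTopology ({x} : Set X) := inferInstance
  exact topologicalKrullDim_zero_of_discreteTopology ({x} : Set X)

/-- the local rings at closed points of an affine open `U` have depth `≥ i + 1` if
`depth(O_x) + dim cl{x} > i` for all `x ∈ U`. -/
theorem depth_of_isMaximal {k : Type u} [Field k] {X : Scheme.{u}} (p : X ⟶ Spec (CommRingCat.of k))
    [LocallyOfFiniteType p] (U : X.Opens) (hU : IsAffineOpen U) (i : ℕ)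
    (hd : ∀ x ∈ U, (i : WithBot ℕ∞) < (LocCoh.depth (X.presheaf.stalk x) (X.presheaf.stalk x) : WithBot ℕ∞) +
        topologicalKrullDim (closure ({x} : Set X)))
    (m : Ideal Γ(X, U)) [hm : m.IsMaximal] :
    ((i + 1 : ℕ) : ℕ∞) ≤ LocCoh.depth (Localization.AtPrime m) (Localization.AtPrime m) := by
  have hJ : JacobsonSpace X := LocallyOfFiniteType.jacobsonSpace p
  let y : PrimeSpectrum Γ(X, U) := ⟨m, hm.isPrime⟩
  let x : X := hU.fromSpec y
  have hxU : x ∈ U := by
    have : x ∈ Set.range hU.fromSpec := ⟨y, rfl⟩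
    rw [hU.range_fromSpec] at this
    exact this
  have hxc : IsClosed ({x} : Set X) := by
    have h1 : y ∈ closedPoints (PrimeSpectrum Γ(X, U)) := by
      rw [mem_closedPoints_iff, PrimeSpectrum.isClosed_singleton_iff_isMaximal]
      exact hm
    have h2 := (hU.fromSpec.isOpenEmbedding).preimage_closedPoints
    have h3 : y ∈ hU.fromSpec ⁻¹' closedPoints X := by
      rw [h2]
      exact h1
    exact h3
  have h1 : (i : WithBot ℕ∞) < (LocCoh.depth (X.presheaf.stalk x) (X.presheaf.stalk x) : WithBot ℕ∞) := by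
    refine (hd x hxU).trans_le ?_
    refine (add_le_add le_rfl (topologicalKrullDim_closure_of_isClosed x hxc)).trans ?_
    rw [add_zero]
  have h2 : ((i + 1 : ℕ) : ℕ∞) ≤ LocCoh.depth (X.presheaf.stalk x) (X.presheaf.stalk x) := by
    have h3 : ((i : ℕ) : ℕ∞) < LocCoh.depth (X.presheaf.stalk x) (X.presheaf.stalk x) := by
      exact_mod_cast h1
    push_cast
    exact Order.add_one_le_of_lt h3
  let _ : Algebra Γ(X, U) (X.presheaf.stalk x) := TopCat.Presheaf.algebra_section_stalk X.presheaf ⟨x, hxU⟩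
  have hl : IsLocalization.AtPrime (X.presheaf.stalk x) m := hU.isLocalization_stalk' y hxU
  let e : Localization.AtPrime m ≃ₐ[Γ(X, U)] X.presheaf.stalk x :=
    IsLocalization.algEquiv m.primeCompl _ _
  have hdep : LocCoh.depth (X.presheaf.stalk x) (X.presheaf.stalk x) =
      LocCoh.depth (Localization.AtPrime m) (Localization.AtPrime m) :=
    Groth.Agent.Ega4B.DepthTransfer.depth_eq e.toRingHom e.toRingEquiv.toAddEquiv
      (fun b x => map_mul e b x) e.surjective
  rw [← hdep]
  exact h2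

/-- **Annihilation of the local cohomology of the cone**, geometric form.  `D` is coordinate data on `X`
(`D.hom p 0 : k[x_0..x_r] → Γ(X, U_0)` surjective, `U_0` affine), `R` is a quotient `π` of `k[x_0..x_r]` and
`ρ : R → Γ(X, U_0)[T,T⁻¹]`, `x_j ↦ (x_j/x_0) T`, is a localization at `x_0`.  If
`depth(O_x) + dim cl{x} > i` for all `x ∈ U_0` then a power of `x_0` kills `H^j_m(R)` for `j ≤ i + 1`. -/
theorem exists_pow_smul_H_eq_zero {k : Type u} [Field k] {X : Scheme.{u}}
    (p : X ⟶ Spec (CommRingCat.of k)) [LocallyOfFiniteType p] (r i : ℕ)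
    (D : Groth.Agent.VarietyB.ProjGlue.CoordData X (Fin (r + 1)))
    (hU : IsAffineOpen (D.U 0)) (hs : Function.Surjective (D.hom p 0))
    {R : Type u} [CommRing R] (π : MvPolynomial (Fin (r + 1)) k →+* R) (hπ : Function.Surjective π)
    (ρ : R →+* Γ(X, D.U 0)[T;T⁻¹])
    (hρC : ∀ a : k, ρ (π (MvPolynomial.C a)) = C (D.hom p 0 (MvPolynomial.C a)))
    (hρX : ∀ j, ρ (π (MvPolynomial.X j)) = C (D.f 0 j) * T 1)
    (hloc : @IsLocalization.Away R _ (π (MvPolynomial.X 0)) Γ(X, D.U 0)[T;T⁻¹] _ ρ.toAlgebra)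
    (hd : ∀ x ∈ D.U 0, (i : WithBot ℕ∞) <
      (LocCoh.depth (X.presheaf.stalk x) (X.presheaf.stalk x) : WithBot ℕ∞) +
        topologicalKrullDim (closure ({x} : Set X))) :
    ∃ s : ℕ, ∀ j ≤ i + 1, ∀ x : LocCoh.H ((ConeAnn.mS k r).map π) j R,
      (π (MvPolynomial.X 0)) ^ s • x = 0 :=
  ConeAnn.main r i π hπ (D.hom p 0) hs (by rw [D.hom_X, D.f_self]) ρ hρC
    (fun j => by rw [hρX, D.hom_X]) hloc (fun m _ => depth_of_isMaximal p _ hU i hd m)

end Groth.Agent.Pi1C.ConeAnnX
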