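import Groth.Agent.Pi1C.Cone
import Groth.Agent.Pi1C.ConeAnnX

/-!
# A power of `x_0` annihilates the local cohomology of the cone ring `Cone.R D p`
-/

set_option autoImplicit false

universe u

open CategoryTheory AlgebraicGeometry LaurentPolynomial

namespace Groth.Agent.Pi1C.ConeAnnR

open Groth.Agent.VarietyB.ProjGlue Groth.Agent.Pi1C.Cone

variable {k : Type u} [Field k] {X : Scheme.{u}} {r : ℕ} (D : CoordData X (Fin (r + 1)))
    (p : X ⟶ Spec (CommRingCat.of k))

/-- If `depth(O_x) + dim cl{x} > i` for all `x ∈ U_0` then a power of `x_0` kills `H^j_m(R)` for `j ≤ i + 1`,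
`R = Cone.R D p`. -/
theorem exists_pow_smul_H_eq_zero [LocallyOfFiniteType p]
    (hU : ∀ i, IsAffineOpen (D.U i)) (hb : ∀ i j, X.basicOpen (D.f i j) = D.U i ⊓ D.U j)
    (hs : ∀ i, Function.Surjective (D.hom p i)) (i : ℕ)
    (hd : ∀ x ∈ D.U 0, (i : WithBot ℕ∞) <
      (LocCoh.depth (X.presheaf.stalk x) (X.presheaf.stalk x) : WithBot ℕ∞) +
        topologicalKrullDim (closure ({x} : Set X))) :
    ∃ s : ℕ, ∀ j ≤ i + 1, ∀ z : LocCoh.H (m D p) j (R D p), (x D p 0) ^ s • z = 0 := by
  have h := ConeAnnX.exists_pow_smul_H_eq_zero p r i D (hU 0) (hs 0)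
    (Ideal.Quotient.mk (J D p)) Ideal.Quotient.mk_surjective (chart D p 0)
    (fun a => by
      rw [chart_mk]
      simp [rho, CoordData.hom])
    (fun j => by
      have := chart_x D p 0 j
      rw [mul_comm]
      exact this)
    (isLocAway_chart D p hU hb hs 0).isLocalization hd
  have hm : (ConeAnn.mS k r).map (Ideal.Quotient.mk (J D p)) = m D p := by
    rw [ConeAnn.mS, Ideal.map_span, ← Set.range_comp]
    rfl
  rw [hm] at h
  exact h

end Groth.Agent.Pi1C.ConeAnnR
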