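import Groth.Agent.VarietyB.ProjGlue
import Mathlib.RingTheory.Spectrum.Prime.Topology
import Mathlib.RingTheory.Noetherian.Basic
import Mathlib.AlgebraicGeometry.Noetherian

/-!
# Clopen subsets near an ample divisor (core of Stacks 0ELC)
-/

set_option autoImplicit false

universe u

open CategoryTheory CategoryTheory.Limits AlgebraicGeometry TopologicalSpace PrimeSpectrum

namespace Groth.Agent.Pi1C.LefClopen

section Ring

variable {C : Type u} [CommRing C]

/-- A decomposition of `V(t)` into closed sets is given by an element which is idempotent modulo `t ^ n`. -/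
theorem exists_idem_mod_pow (t : C) (A B : Set (PrimeSpectrum C)) (hA : IsClosed A) (hB : IsClosed B)
    (hAB : A ∪ B = zeroLocus {t}) (hd : Disjoint A B) (n : ℕ) :
    ∃ e : C, t ^ n ∣ e * e - e ∧ ∀ x ∈ zeroLocus {t}, (x ∈ basicOpen e ↔ x ∈ A) := by
  obtain ⟨I, rfl⟩ := (isClosed_iff_zeroLocus_ideal _).1 hA
  obtain ⟨J, rfl⟩ := (isClosed_iff_zeroLocus_ideal _).1 hB
  have h1 : I ⊔ J = ⊤ := by
    rw [← zeroLocus_empty_iff_eq_top, zeroLocus_sup]
    exact Set.disjoint_iff_inter_eq_empty.1 hd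
  obtain ⟨a, ha, b, hb, hab⟩ := Submodule.mem_sup.1 ((Ideal.eq_top_iff_one _).1 h1)
  have h2 : ∃ m : ℕ, t ∣ (a * b) ^ m := by
    have : a * b ∈ (Ideal.span {t}).radical := by
      rw [← vanishingIdeal_zeroLocus_eq_radical, mem_vanishingIdeal]
      intro x hx
      rw [zeroLocus_span, ← hAB] at hx
      rcases hx with hx | hx
      · exact x.asIdeal.mul_mem_right _ (hx ha)
      · exact x.asIdeal.mul_mem_left _ (hx hb)
    obtain ⟨m, hm⟩ := this
    exact ⟨m, Ideal.mem_span_singleton.1 hm⟩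
  obtain ⟨m, hm⟩ := h2
  have hco : IsCoprime (a ^ (m * n + 1)) (b ^ (m * n + 1)) := IsCoprime.pow ⟨1, 1, by rw [one_mul, one_mul, hab]⟩
  obtain ⟨u, v, huv⟩ := hco
  refine ⟨v * b ^ (m * n + 1), ?_, ?_⟩
  · have h3 : v * b ^ (m * n + 1) * (v * b ^ (m * n + 1)) - v * b ^ (m * n + 1) =
        - (u * v * (a * b)) * ((a * b) ^ m) ^ n := by
      have : v * b ^ (m * n + 1) = 1 - u * a ^ (m * n + 1) := by rw [← huv]; ring
      calc _ = v * b ^ (m * n + 1) * (v * b ^ (m * n + 1) - 1) := by ring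
        _ = v * b ^ (m * n + 1) * (- (u * a ^ (m * n + 1))) := by rw [this]; ring
        _ = _ := by rw [← pow_mul, mul_pow]; ring
    rw [h3]
    exact (pow_dvd_pow_of_dvd hm n).mul_left _
  · intro x hx
    constructor
    · intro hxe
      rw [← hAB] at hx
      rcases hx with hx | hx
      · exact hx
      · exact absurd (x.asIdeal.mul_mem_left v (x.asIdeal.pow_mem_of_mem (hx hb) _ (Nat.succ_pos _))) hxe
    · intro hxA hxe
      apply x.2.ne_top
      rw [Ideal.eq_top_iff_one, ← huv]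
      exact x.asIdeal.add_mem (x.asIdeal.mul_mem_left _ (x.asIdeal.pow_mem_of_mem (hxA ha) _ (Nat.succ_pos _))) hxe

/-- idempotents modulo `t ^ n` cutting out the same subset of `V(t)` agree modulo `t ^ n`. -/
theorem dvd_sub_of_idem (t e e' : C) (n : ℕ) (he : t ^ n ∣ e * e - e) (he' : t ^ n ∣ e' * e' - e')
    (h : ∀ x ∈ zeroLocus {t}, (x ∈ basicOpen e ↔ x ∈ basicOpen e')) : t ^ n ∣ e - e' := by
  rw [← Ideal.mem_span_singleton, ← Ideal.Quotient.eq] 
  set π := Ideal.Quotient.mk (Ideal.span {t ^ n}) with hπ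
  have h1 : IsIdempotentElem (π e) := by
    rw [IsIdempotentElem, ← map_mul, Ideal.Quotient.eq]; exact Ideal.mem_span_singleton.2 he
  have h2 : IsIdempotentElem (π e') := by
    rw [IsIdempotentElem, ← map_mul, Ideal.Quotient.eq]; exact Ideal.mem_span_singleton.2 he'
  rcases Nat.eq_zero_or_pos n with rfl | hn
  · have : Subsingleton (C ⧸ Ideal.span {t ^ 0}) := by
      rw [Ideal.Quotient.subsingleton_iff]; simp
    exact Subsingleton.elim _ _
  refine basicOpen_injOn_isIdempotentElem h1 h2 ?_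
  ext y
  have hy : PrimeSpectrum.comap π y ∈ zeroLocus {t} := by
    rw [mem_zeroLocus, Set.singleton_subset_iff]
    change t ∈ (PrimeSpectrum.comap π y).asIdeal
    rw [comap_asIdeal, Ideal.mem_comap]
    apply y.2.mem_of_pow_mem n
    rw [← map_pow]
    have : π (t ^ n) = 0 := Ideal.Quotient.eq_zero_iff_mem.2 (Ideal.mem_span_singleton_self _)
    rw [this]; exact y.asIdeal.zero_mem
  exact h _ hy

/-- power torsion in a Noetherian ring is bounded -/
theorem exists_torsion_bound [IsNoetherianRing C] (t : C) :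
    ∃ b : ℕ, ∀ b', b ≤ b' → ∀ (m : ℕ) (x : C), t ^ m * x = 0 → t ^ b' * x = 0 := by
  let F : ℕ →o Ideal C := ⟨fun n => LinearMap.ker (LinearMap.mulLeft C (t ^ n)), by
    intro n m hnm x hx
    obtain ⟨k, rfl⟩ := Nat.exists_eq_add_of_le hnm
    simp only [LinearMap.mem_ker, LinearMap.mulLeft_apply] at hx ⊢
    rw [pow_add, mul_right_comm, hx, zero_mul]⟩
  obtain ⟨b, hb⟩ := monotone_stabilizes_iff_noetherian.2 (inferInstanceAs (IsNoetherian C C)) F
  refine ⟨b, fun b' hb' m x hx => ?_⟩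
  have h1 : x ∈ F b := by
    rw [hb (max b m) (le_max_left _ _)]
    exact F.mono (le_max_right b m) hx
  exact F.mono hb' h1

/-- pure algebra: the glued sections `u_i` -/
theorem alg_u {ti tj fij fji ei ej h gi gj : C} {a b c m : ℕ} (r1 : ti = fij * tj) (r2 : tj = fji * ti)
    (ha : a = c + b) (hh : ei - ej = ti ^ (a + m) * h) (hg : ti ^ c * (ti ^ b * h) = gi - fji ^ m * gj) :
    ti ^ a * ei - ti ^ (a + m) * gi = fij ^ a * (tj ^ a * ej - tj ^ (a + m) * gj) := by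
  have e1 : fij ^ a * tj ^ a = ti ^ a := by rw [← mul_pow, ← r1]
  have e2 : tj ^ m = fji ^ m * ti ^ m := by rw [← mul_pow, ← r2]
  have e3 : fij ^ a * (tj ^ a * ej - tj ^ (a + m) * gj) = ti ^ a * ej - ti ^ (a + m) * (fji ^ m * gj) := by
    rw [pow_add, e2, mul_sub, ← mul_assoc, e1]
    calc _ = ti ^ a * ej - (fij ^ a * tj ^ a) * (fji ^ m * ti ^ m) * gj := by ring
      _ = _ := by rw [e1]; ring
  rw [e3]
  have e4 : gi = ti ^ c * (ti ^ b * h) + fji ^ m * gj := by rw [hg]; ring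
  have e5 : ei = ti ^ (a + m) * h + ej := by rw [← hh]; ring
  rw [e4, e5, ha]
  ring

/-- pure algebra: the defect of idempotency -/
theorem alg_w {t e q g : C} {a m : ℕ} (he : e * e - e = t ^ (a + m) * q) :
    (t ^ a * e - t ^ (a + m) * g) ^ 2 - t ^ a * (t ^ a * e - t ^ (a + m) * g) =
      t ^ (a + m) * (t ^ (2 * a) * q - 2 * t ^ a * e * g + t ^ (a + m) * g ^ 2 + t ^ a * g) := by
  have : e ^ 2 = t ^ (a + m) * q + e := by rw [← he]; ring
  calc _ = t ^ a * t ^ a * e ^ 2 - 2 * t ^ a * e * (t ^ (a + m) * g) + (t ^ (a + m) * g) ^ 2 -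
      t ^ a * (t ^ a * e - t ^ (a + m) * g) := by ring
    _ = _ := by rw [this]; ring

/-- pure algebra: compatibility of the defects -/
theorem alg_v {ti tj fij fji ui uj vi vj : C} {a b k : ℕ} (r1 : ti = fij * tj) (r2 : tj = fji * ti)
    (hu : ui = fij ^ a * uj) (hi : ui ^ 2 - ti ^ a * ui = ti ^ (a + a + (k + b)) * vi)
    (hj : uj ^ 2 - tj ^ a * uj = tj ^ (a + a + (k + b)) * vj)
    (htors : ∀ x, ti ^ (a + a + (k + b)) * x = 0 → ti ^ b * x = 0) :
    ti ^ b * vi = fji ^ k * (tj ^ b * vj) := by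
  have e1 : fij ^ a * tj ^ a = ti ^ a := by rw [← mul_pow, ← r1]
  have e2 : ∀ m, tj ^ m = fji ^ m * ti ^ m := fun m => by rw [← mul_pow, ← r2]
  have e3 : ui ^ 2 - ti ^ a * ui = (fij ^ a) ^ 2 * (uj ^ 2 - tj ^ a * uj) := by
    rw [hu, ← e1]; ring
  have e4 : ti ^ (a + a + (k + b)) * (vi - fji ^ (k + b) * vj) = 0 := by
    rw [mul_sub, ← hi, e3, hj, pow_add tj, e2 (k + b), pow_add tj]
    calc _ = (fij ^ a * tj ^ a) ^ 2 * (fji ^ (k + b) * ti ^ (k + b)) * vj - ti ^ (a + a + (k + b)) * (fji ^ (k + b) * vj) := by ring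
      _ = _ := by rw [e1]; ring
  have e5 := htors _ e4
  rw [e2 b, ← sub_eq_zero, ← e5]
  ring

/-- pure algebra: the final idempotents -/
theorem alg_idem {t e q g : C} {a m : ℕ} (he : e * e - e = t ^ (a + (a + a + m)) * q)
    (hu : (t ^ a * e - t ^ (a + (a + a + m)) * g) ^ 2 - t ^ a * (t ^ a * e - t ^ (a + (a + a + m)) * g) = 0) :
    ((e - t ^ (a + a + m) * g) * (e - t ^ (a + a + m) * g) - (e - t ^ (a + a + m) * g)) ^ 2 = 0 := by
  set y := e - t ^ (a + a + m) * g with hy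
  have e1 : t ^ a * e - t ^ (a + (a + a + m)) * g = t ^ a * y := by rw [hy]; ring
  rw [e1] at hu
  have e2 : t ^ (a + a) * (y * y - y) = 0 := by rw [← hu]; ring
  have e3 : y * y - y = t ^ (a + a + m) * (t ^ a * q - 2 * e * g + t ^ (a + a + m) * g ^ 2 + g) := by
    have : e ^ 2 = t ^ (a + (a + a + m)) * q + e := by rw [← he]; ring
    calc y * y - y = e ^ 2 - 2 * e * (t ^ (a + a + m) * g) + (t ^ (a + a + m) * g) ^ 2 - (e - t ^ (a + a + m) * g) := by
          rw [hy]; ring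
      _ = _ := by rw [this]; ring
  rw [pow_two]
  nth_rw 1 [e3]
  calc _ = (t ^ m * (t ^ a * q - 2 * e * g + t ^ (a + a + m) * g ^ 2 + g)) * (t ^ (a + a) * (y * y - y)) := by ring
    _ = 0 := by rw [e2, mul_zero]

/-- pure algebra: the final idempotents are compatible -/
theorem alg_compat {ti tj fij fji ei ej h gi gj : C} {a m : ℕ} (r1 : ti = fij * tj) (r2 : tj = fji * ti)
    (hh : ei - ej = ti ^ (a + (a + a + m)) * h)
    (hu : ti ^ a * ei - ti ^ (a + (a + a + m)) * gi = fij ^ a * (tj ^ a * ej - tj ^ (a + (a + a + m)) * gj)) :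
    ((ei - ti ^ (a + a + m) * gi) - (ej - tj ^ (a + a + m) * gj)) ^ 2 = 0 := by
  have e1 : fij ^ a * tj ^ a = ti ^ a := by rw [← mul_pow, ← r1]
  have e2 : ∀ m, tj ^ m = fji ^ m * ti ^ m := fun m => by rw [← mul_pow, ← r2]
  set yi := ei - ti ^ (a + a + m) * gi with hyi
  set yj := ej - tj ^ (a + a + m) * gj with hyj
  have e3 : ti ^ a * (yi - yj) = 0 := by
    have h1 : ti ^ a * yi = ti ^ a * ei - ti ^ (a + (a + a + m)) * gi := by rw [hyi]; ring
    have h2 : ti ^ a * yj = fij ^ a * (tj ^ a * ej - tj ^ (a + (a + a + m)) * gj) := by rw [← e1, hyj]; ring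
    rw [mul_sub, h1, h2, hu, sub_self]
  have e4 : yi - yj = ti ^ (a + a + m) * (ti ^ a * h - gi + fji ^ (a + a + m) * gj) := by
    have : ei = ti ^ (a + (a + a + m)) * h + ej := by rw [← hh]; ring
    rw [hyi, hyj, this, e2]; ring
  rw [pow_two]
  nth_rw 1 [e4]
  calc _ = (ti ^ (a + m) * (ti ^ a * h - gi + fji ^ (a + a + m) * gj)) * (ti ^ a * (yi - yj)) := by ring
    _ = 0 := by rw [e3, mul_zero]

end Ring

section Scheme

open Groth.Agent.VarietyB.ProjGlue

/-- restriction of sections -/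
noncomputable abbrev rs {X : Scheme.{u}} {V W : X.Opens} (h : V ≤ W) : Γ(X, W) →+* Γ(X, V) :=
  (X.presheaf.map (homOfLE h).op).hom

variable {X : Scheme.{u}}

@[simp] theorem rs_rs {U V W : X.Opens} (h : U ≤ V) (h' : V ≤ W) (x : Γ(X, W)) :
    rs h (rs h' x) = rs (h.trans h') x := by
  change (X.presheaf.map _ ≫ X.presheaf.map _) x = _
  rw [← Functor.map_comp]
  rfl

@[simp] theorem rs_self {U : X.Opens} (h : U ≤ U) (x : Γ(X, U)) : rs h x = x := by
  change (X.presheaf.map (𝟙 (Opposite.op U))) x = _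
  rw [CategoryTheory.Functor.map_id]
  rfl

theorem mem_basicOpen_rs {U V : X.Opens} (h : U ≤ V) (x : Γ(X, V)) (p : X) (hp : p ∈ U) :
    p ∈ X.basicOpen (rs h x) ↔ p ∈ X.basicOpen x := by
  have : X.basicOpen (rs h x) = U ⊓ X.basicOpen x := X.basicOpen_res x (homOfLE h).op
  rw [this]
  exact ⟨fun hh => hh.2, fun hh => ⟨hp, hh⟩⟩

theorem exists_point {U : X.Opens} (hU : IsAffineOpen U) {x : X} (hx : x ∈ U) :
    ∃ y : PrimeSpectrum Γ(X, U), hU.fromSpec y = x ∧ ∀ e : Γ(X, U), (y ∈ PrimeSpectrum.basicOpen e ↔ x ∈ X.basicOpen e) := by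
  have h1 : x ∈ Set.range hU.fromSpec := by rw [hU.range_fromSpec]; exact hx
  obtain ⟨y, rfl⟩ := h1
  refine ⟨y, rfl, fun e => ?_⟩
  rw [← hU.fromSpec_preimage_basicOpen]
  rfl

theorem fromSpec_mem {U : X.Opens} (hU : IsAffineOpen U) (y : PrimeSpectrum Γ(X, U)) : hU.fromSpec y ∈ U := by
  have h1 : hU.fromSpec y ∈ Set.range hU.fromSpec := ⟨y, rfl⟩
  rw [hU.range_fromSpec] at h1
  exact h1

theorem mem_iff_fromSpec {U : X.Opens} (hU : IsAffineOpen U) (y : PrimeSpectrum Γ(X, U)) (e : Γ(X, U)) :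
    y ∈ PrimeSpectrum.basicOpen e ↔ hU.fromSpec y ∈ X.basicOpen e := by
  rw [← hU.fromSpec_preimage_basicOpen]
  rfl

/-- scheme version of `exists_idem_mod_pow` -/
theorem exists_idem_mod_pow' {U : X.Opens} (hU : IsAffineOpen U) (t : Γ(X, U)) (A B : Set X)
    (hA : IsClosed A) (hB : IsClosed B) (hAB : ∀ x ∈ U, x ∉ X.basicOpen t ↔ x ∈ A ∨ x ∈ B)
    (hd : Disjoint A B) (n : ℕ) :
    ∃ e : Γ(X, U), t ^ n ∣ e * e - e ∧ ∀ x ∈ U, x ∉ X.basicOpen t → (x ∈ X.basicOpen e ↔ x ∈ A) := by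
  have hc : Continuous hU.fromSpec := hU.fromSpec.continuous
  obtain ⟨e, he, h2⟩ := exists_idem_mod_pow t (hU.fromSpec ⁻¹' A) (hU.fromSpec ⁻¹' B) (hA.preimage hc) (hB.preimage hc)
    (by
      ext y
      rw [Set.mem_union, Set.mem_preimage, Set.mem_preimage, ← hAB _ (fromSpec_mem hU y), ← mem_iff_fromSpec,
        mem_zeroLocus, Set.singleton_subset_iff]
      exact not_not) (hd.preimage _) n
  refine ⟨e, he, fun x hx hxt => ?_⟩
  obtain ⟨y, rfl, hy⟩ := exists_point hU hx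
  rw [← hy] at hxt
  rw [← hy]
  refine h2 y ?_
  rw [mem_zeroLocus, Set.singleton_subset_iff]
  exact not_not.1 hxt

/-- scheme version of `dvd_sub_of_idem` -/
theorem dvd_sub_of_idem' {U : X.Opens} (hU : IsAffineOpen U) (t e e' : Γ(X, U)) (n : ℕ)
    (he : t ^ n ∣ e * e - e) (he' : t ^ n ∣ e' * e' - e')
    (h : ∀ x ∈ U, x ∉ X.basicOpen t → (x ∈ X.basicOpen e ↔ x ∈ X.basicOpen e')) : t ^ n ∣ e - e' := by
  refine dvd_sub_of_idem t e e' n he he' fun y hy => ?_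
  rw [mem_iff_fromSpec hU, mem_iff_fromSpec hU]
  refine h _ (fromSpec_mem hU y) ?_
  rw [← mem_iff_fromSpec hU]
  rw [mem_zeroLocus, Set.singleton_subset_iff] at hy
  exact not_not.2 hy

variable {I : Type} (D : CoordData X I) (o : I) (c : ℕ)

/-- sections of very negative twists are killed by `x_o ^ c` -/
def H0 : Prop :=
  ∀ N : ℕ, c < N → ∀ v : ∀ i, Γ(X, D.U i),
    (∀ i j, rs (inf_le_left : D.U i ⊓ D.U j ≤ D.U i) (v i) =
      rs (inf_le_right : D.U i ⊓ D.U j ≤ D.U j) (D.f j i) ^ N *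
        rs (inf_le_right : D.U i ⊓ D.U j ≤ D.U j) (v j)) →
    ∀ i, D.f i o ^ c * v i = 0

/-- `x_o ^ c` kills `H^1` of negative twists -/
def H1 : Prop :=
  ∀ N : ℕ, c ≤ N → ∀ h : ∀ i j, Γ(X, D.U i ⊓ D.U j),
    (∀ i j k, rs (inf_le_left : D.U i ⊓ D.U j ⊓ D.U k ≤ D.U i ⊓ D.U j) (h i j) +
      rs (inf_le_left.trans inf_le_right : D.U i ⊓ D.U j ⊓ D.U k ≤ D.U j) (D.f j i) ^ N *
        rs (inf_le_inf_right _ inf_le_right : D.U i ⊓ D.U j ⊓ D.U k ≤ D.U j ⊓ D.U k) (h j k) =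
      rs (inf_le_inf_right _ inf_le_left : D.U i ⊓ D.U j ⊓ D.U k ≤ D.U i ⊓ D.U k) (h i k)) →
    ∃ g : ∀ i, Γ(X, D.U i), ∀ i j,
      rs (inf_le_left : D.U i ⊓ D.U j ≤ D.U i) (D.f i o) ^ c * h i j =
        rs (inf_le_left : D.U i ⊓ D.U j ≤ D.U i) (g i) -
          rs (inf_le_right : D.U i ⊓ D.U j ≤ D.U j) (D.f j i) ^ (N - c) *
            rs (inf_le_right : D.U i ⊓ D.U j ≤ D.U j) (g j)

theorem mem_basicOpen_iff_of_sq {U : X.Opens} (x y : Γ(X, U)) (h : (x - y) ^ 2 = 0) {p : X} (hp : p ∈ U) :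
    p ∈ X.basicOpen x ↔ p ∈ X.basicOpen y := by
  rw [X.mem_basicOpen _ _ hp, X.mem_basicOpen _ _ hp]
  have h1 : IsNilpotent (X.presheaf.germ U p hp x - X.presheaf.germ U p hp y) :=
    ⟨2, by rw [← map_sub, ← map_pow, h, map_zero]⟩
  have h2 : X.presheaf.germ U p hp x = X.presheaf.germ U p hp y + (X.presheaf.germ U p hp x - X.presheaf.germ U p hp y) := by
    ring
  constructor
  · intro hx
    have h3 : X.presheaf.germ U p hp y = X.presheaf.germ U p hp x + (- (X.presheaf.germ U p hp x - X.presheaf.germ U p hp y)) := by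
      ring
    rw [h3]
    exact h1.neg.isUnit_add_left_of_commute hx (Commute.all _ _)
  · intro hy
    rw [h2]
    exact h1.isUnit_add_left_of_commute hy (Commute.all _ _)

theorem mem_basicOpen_sub_iff {U : X.Opens} (e t z : Γ(X, U)) {p : X} (hp : p ∈ U) (ht : p ∉ X.basicOpen t) :
    p ∈ X.basicOpen (e - t * z) ↔ p ∈ X.basicOpen e := by
  rw [X.mem_basicOpen _ _ hp] at ht
  rw [X.mem_basicOpen _ _ hp, X.mem_basicOpen _ _ hp, map_sub, map_mul]
  have h1 : X.presheaf.germ U p hp t * X.presheaf.germ U p hp z ∈ nonunits _ := fun h => ht (isUnit_of_mul_isUnit_left h)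
  constructor
  · intro h
    by_contra h2
    have := IsLocalRing.nonunits_add h2 (a := X.presheaf.germ U p hp e) (b := - (X.presheaf.germ U p hp t * X.presheaf.germ U p hp z))
      (fun h3 => h1 ((IsUnit.neg_iff _).1 h3))
    rw [← sub_eq_add_neg] at this
    exact this h
  · intro h
    by_contra h2
    have := IsLocalRing.nonunits_add (a := X.presheaf.germ U p hp e - X.presheaf.germ U p hp t * X.presheaf.germ U p hp z)
      (b := X.presheaf.germ U p hp t * X.presheaf.germ U p hp z) h2 h1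
    rw [sub_add_cancel] at this
    exact this h

theorem notMem_basicOpen_iff_of_sq {U : X.Opens} (x : Γ(X, U)) (h : (x * x - x) ^ 2 = 0) {p : X} (hp : p ∈ U) :
    p ∉ X.basicOpen x ↔ p ∈ X.basicOpen (1 - x) := by
  rw [X.mem_basicOpen _ _ hp, X.mem_basicOpen _ _ hp]
  set y := X.presheaf.germ U p hp x with hy
  have h1 : X.presheaf.germ U p hp (1 - x) = 1 - y := by rw [map_sub, map_one]
  rw [h1]
  have h2 : (y * y - y) ^ 2 = 0 := by
    rw [hy, ← map_mul, ← map_sub, ← map_pow, h, map_zero]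
  constructor
  · intro h3
    rcases IsLocalRing.isUnit_or_isUnit_one_sub_self y with h4 | h4
    · exact absurd h4 h3
    · exact h4
  · intro h3 h4
    have h5 : IsUnit ((y * y - y) ^ 2) := by
      have : y * y - y = - (y * (1 - y)) := by ring
      rw [this]
      exact ((h4.mul h3).neg).pow 2
    rw [h2] at h5
    exact not_isUnit_zero h5

section rel

variable {D}

theorem rel1 (i j : I) : rs (inf_le_left : D.U i ⊓ D.U j ≤ D.U i) (D.f i o) =
    rs (inf_le_left : D.U i ⊓ D.U j ≤ D.U i) (D.f i j) * rs (inf_le_right : D.U i ⊓ D.U j ≤ D.U j) (D.f j o) :=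
  D.f_mul i j o

theorem rel2 (i j : I) : rs (inf_le_right : D.U i ⊓ D.U j ≤ D.U j) (D.f j o) =
    rs (inf_le_right : D.U i ⊓ D.U j ≤ D.U j) (D.f j i) * rs (inf_le_left : D.U i ⊓ D.U j ≤ D.U i) (D.f i o) := by
  have h := congr(rs (le_of_eq (inf_comm _ _) : D.U i ⊓ D.U j ≤ D.U j ⊓ D.U i) $(rel1 (D := D) o j i))
  rw [map_mul, rs_rs, rs_rs, rs_rs] at h
  exact h

theorem rel3 (i j : I) : rs (inf_le_left : D.U i ⊓ D.U j ≤ D.U i) (D.f i j) *
    rs (inf_le_right : D.U i ⊓ D.U j ≤ D.U j) (D.f j i) = 1 := by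
  have h : rs (inf_le_left : D.U i ⊓ D.U j ≤ D.U i) (D.f i i) = _ := D.f_mul i j i
  rw [D.f_self, map_one] at h
  exact h.symm

end rel

variable {D o c} in
/-- **Main step**: under annihilation hypotheses closed decompositions of the divisor extend. -/
theorem exists_isClopen [IsLocallyNoetherian X] [Finite I] (hU : ∀ i, IsAffineOpen (D.U i))
    (hb : ∀ i k, X.basicOpen (D.f i k) = D.U i ⊓ D.U k) (h0 : H0 D o c) (h1 : H1 D o c) (A B : Set X)
    (hA : IsClosed A) (hB : IsClosed B) (hAB : A ∪ B = (D.U o : Set X)ᶜ) (hd : Disjoint A B) :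
    ∃ Z : Set X, IsClopen Z ∧ Z ∩ (D.U o : Set X)ᶜ = A := by
  have hU2 : ∀ i j, IsAffineOpen (D.U i ⊓ D.U j) := fun i j => by
    rw [← hb]; exact (hU i).basicOpen _
  have hU3 : ∀ i j k, IsAffineOpen (D.U i ⊓ D.U j ⊓ D.U k) := fun i j k => by
    have : D.U i ⊓ D.U j ⊓ D.U k = X.basicOpen (D.f i j * D.f i k) := by
      rw [Scheme.basicOpen_mul, hb, hb]
      apply le_antisymm
      · exact le_inf inf_le_left (le_inf (inf_le_left.trans inf_le_left) inf_le_right)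
      · exact le_inf inf_le_left (inf_le_right.trans inf_le_right)
    rw [this]; exact (hU i).basicOpen _
  -- torsion bounds
  have hnoeth : ∀ {U : X.Opens}, IsAffineOpen U → IsNoetherianRing Γ(X, U) := fun {U} h =>
    IsLocallyNoetherian.component_noetherian ⟨U, h⟩
  obtain ⟨b, hb2, hb3⟩ : ∃ b : ℕ,
      (∀ i j (m : ℕ) (x : Γ(X, D.U i ⊓ D.U j)), rs (inf_le_left : D.U i ⊓ D.U j ≤ D.U i) (D.f i o) ^ m * x = 0 →
        rs (inf_le_left : D.U i ⊓ D.U j ≤ D.U i) (D.f i o) ^ b * x = 0) ∧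
      (∀ i j k (m : ℕ) (x : Γ(X, D.U i ⊓ D.U j ⊓ D.U k)),
        rs (inf_le_left.trans inf_le_left : D.U i ⊓ D.U j ⊓ D.U k ≤ D.U i) (D.f i o) ^ m * x = 0 →
        rs (inf_le_left.trans inf_le_left : D.U i ⊓ D.U j ⊓ D.U k ≤ D.U i) (D.f i o) ^ b * x = 0) := by
    have e2 := fun i j => @exists_torsion_bound _ _ (hnoeth (hU2 i j))
      (rs (inf_le_left : D.U i ⊓ D.U j ≤ D.U i) (D.f i o))
    have e3 := fun i j k => @exists_torsion_bound _ _ (hnoeth (hU3 i j k))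
      (rs (inf_le_left.trans inf_le_left : D.U i ⊓ D.U j ⊓ D.U k ≤ D.U i) (D.f i o))
    choose b2 hb2 using e2
    choose b3 hb3 using e3
    obtain ⟨M2, hM2⟩ := (Set.finite_range fun q : I × I => b2 q.1 q.2).bddAbove
    obtain ⟨M3, hM3⟩ := (Set.finite_range fun q : I × I × I => b3 q.1 q.2.1 q.2.2).bddAbove
    refine ⟨max M2 M3, fun i j m x hx => ?_, fun i j k m x hx => ?_⟩
    · exact hb2 i j _ ((hM2 ⟨(i, j), rfl⟩).trans (le_max_left _ _)) m x hx
    · exact hb3 i j k _ ((hM3 ⟨(i, j, k), rfl⟩).trans (le_max_right _ _)) m x hx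
  obtain ⟨a, ha⟩ : ∃ a, a = c + b := ⟨_, rfl⟩
  obtain ⟨n, hn⟩ : ∃ n, n = a + a + a + 1 := ⟨_, rfl⟩
  -- approximate idempotents
  have hch : ∀ i, ∀ x ∈ D.U i, x ∉ X.basicOpen (D.f i o) ↔ x ∈ A ∨ x ∈ B := by
    intro i x hx
    rw [hb]
    have : (x ∈ A ∨ x ∈ B) ↔ x ∈ A ∪ B := Iff.rfl
    rw [this, hAB]
    constructor
    · intro h hx'
      exact h ⟨hx, hx'⟩
    · intro h hx'
      exact h hx'.2
  choose e he hemem using fun i => exists_idem_mod_pow' (hU i) (D.f i o) A B hA hB (hch i) hd n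
  -- differences
  have hdiff : ∀ i j, rs (inf_le_left : D.U i ⊓ D.U j ≤ D.U i) (D.f i o) ^ n ∣
      rs (inf_le_left : D.U i ⊓ D.U j ≤ D.U i) (e i) - rs (inf_le_right : D.U i ⊓ D.U j ≤ D.U j) (e j) := by
    intro i j
    refine dvd_sub_of_idem' (hU2 i j) _ _ _ n ?_ ?_ ?_
    · rw [← map_mul, ← map_sub, ← map_pow]
      exact map_dvd _ (he i)
    · have h2 : rs (inf_le_right : D.U i ⊓ D.U j ≤ D.U j) (D.f j o) ^ n ∣
          rs (inf_le_right : D.U i ⊓ D.U j ≤ D.U j) (e j) * rs (inf_le_right : D.U i ⊓ D.U j ≤ D.U j) (e j) -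
            rs (inf_le_right : D.U i ⊓ D.U j ≤ D.U j) (e j) := by
        rw [← map_mul, ← map_sub, ← map_pow]
        exact map_dvd _ (he j)
      refine dvd_trans (pow_dvd_pow_of_dvd ?_ n) h2
      exact ⟨_, (rel2 o i j).trans (mul_comm _ _)⟩
    · intro x hx hxt
      rw [mem_basicOpen_rs _ _ _ hx] at hxt
      rw [mem_basicOpen_rs _ _ _ hx, mem_basicOpen_rs _ _ _ hx, hemem i x hx.1 hxt]
      rw [hemem j x hx.2]
      rw [hb] at hxt ⊢
      exact fun h => hxt ⟨hx.1, h.2⟩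
  choose h hh using hdiff
  -- the cocycle
  obtain ⟨g, hg⟩ := h1 (n - b) (by omega)
    (fun i j => rs (inf_le_left : D.U i ⊓ D.U j ≤ D.U i) (D.f i o) ^ b * h i j) (by
      intro i j k
      have r1 := congr(rs (inf_le_left : D.U i ⊓ D.U j ⊓ D.U k ≤ D.U i ⊓ D.U j) $(hh i j))
      have r2 := congr(rs (inf_le_inf_right _ inf_le_right : D.U i ⊓ D.U j ⊓ D.U k ≤ D.U j ⊓ D.U k) $(hh j k))
      have r3 := congr(rs (inf_le_inf_right _ inf_le_left : D.U i ⊓ D.U j ⊓ D.U k ≤ D.U i ⊓ D.U k) $(hh i k))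
      have r4 := congr(rs (inf_le_left : D.U i ⊓ D.U j ⊓ D.U k ≤ D.U i ⊓ D.U j) $(rel2 o i j))
      simp only [map_mul, map_sub, map_pow, rs_rs] at r1 r2 r3 r4 ⊢
      have r5 : rs (inf_le_left.trans inf_le_left : D.U i ⊓ D.U j ⊓ D.U k ≤ D.U i) (D.f i o) ^ n *
          (rs (inf_le_left : D.U i ⊓ D.U j ⊓ D.U k ≤ D.U i ⊓ D.U j) (h i j) +
            rs (inf_le_left.trans inf_le_right : D.U i ⊓ D.U j ⊓ D.U k ≤ D.U j) (D.f j i) ^ n *
              rs (inf_le_inf_right _ inf_le_right : D.U i ⊓ D.U j ⊓ D.U k ≤ D.U j ⊓ D.U k) (h j k) -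
            rs (inf_le_inf_right _ inf_le_left : D.U i ⊓ D.U j ⊓ D.U k ≤ D.U i ⊓ D.U k) (h i k)) = 0 := by
        rw [mul_sub, mul_add, ← mul_assoc, ← mul_pow]
        rw [mul_comm (rs _ (D.f i o)) (rs _ (D.f j i)), ← r4, ← r1, ← r2, ← r3]
        ring
      have r6 := hb3 i j k _ _ r5
      rw [r4]
      have r7 : n - b + b = n := by omega
      have r8 : (rs (inf_le_left.trans inf_le_right : D.U i ⊓ D.U j ⊓ D.U k ≤ D.U j) (D.f j i)) ^ n =
        (rs (inf_le_left.trans inf_le_right : D.U i ⊓ D.U j ⊓ D.U k ≤ D.U j) (D.f j i)) ^ (n - b) *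
        (rs (inf_le_left.trans inf_le_right : D.U i ⊓ D.U j ⊓ D.U k ≤ D.U j) (D.f j i)) ^ b := by
        rw [← pow_add, r7]
      rw [r8] at r6
      rw [← sub_eq_zero, ← r6]
      ring)
  -- the elements u_i
  choose q hq using he
  obtain ⟨k, hk, hk0⟩ : ∃ k, n = a + a + (k + b) ∧ c < k := ⟨a + 1 - b, by omega, by omega⟩
  obtain ⟨m, hm⟩ : ∃ m, n = a + (a + a + m) := ⟨1, by omega⟩
  have hm' : m = 1 := by omega
  have hnbc : n - b - c = a + a + m := by omega
  have hgu : ∀ i j, rs (inf_le_left : D.U i ⊓ D.U j ≤ D.U i) (D.f i o ^ a * e i - D.f i o ^ n * g i) =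
      rs (inf_le_left : D.U i ⊓ D.U j ≤ D.U i) (D.f i j) ^ a *
      rs (inf_le_right : D.U i ⊓ D.U j ≤ D.U j) (D.f j o ^ a * e j - D.f j o ^ n * g j) := by
    intro i j
    rw [map_sub, map_sub, map_mul, map_mul, map_mul, map_mul, map_pow, map_pow, map_pow, map_pow, hm]
    refine alg_u (rel1 o i j) (rel2 o i j) ha ?_ ?_ (h := h i j) (b := b)
    · rw [hh, hm]
    · rw [hg i j, hnbc]
  have hv := fun i => alg_w (a := a) (m := a + a + m) (g := g i) (e := e i) (t := D.f i o) (q := q i)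
    (by rw [hq, hm])
  have hvex : ∀ i, ∃ v : Γ(X, D.U i), (D.f i o ^ a * e i - D.f i o ^ n * g i) ^ 2 -
      D.f i o ^ a * (D.f i o ^ a * e i - D.f i o ^ n * g i) = D.f i o ^ n * v := by
    intro i
    rw [hm]; exact ⟨_, hv i⟩
  choose v hv' using hvex
  have hvc : ∀ i, D.f i o ^ c * (D.f i o ^ b * v i) = 0 := by
    refine h0 k hk0 (fun i => D.f i o ^ b * v i) fun i j => ?_
    simp only [map_mul, map_pow]
    refine alg_v (ui := rs (inf_le_left : D.U i ⊓ D.U j ≤ D.U i) (D.f i o ^ a * e i - D.f i o ^ n * g i))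
      (uj := rs (inf_le_right : D.U i ⊓ D.U j ≤ D.U j) (D.f j o ^ a * e j - D.f j o ^ n * g j))
      (rel1 o i j) (rel2 o i j) (hgu i j) ?_ ?_ fun x hx => hb2 i j _ x hx
    · rw [← hk, ← map_pow, ← map_pow, ← map_mul, ← map_sub, hv', map_mul, map_pow]
    · rw [← hk, ← map_pow, ← map_pow, ← map_mul, ← map_sub, hv', map_mul, map_pow]
  have hu0 : ∀ i, (D.f i o ^ a * e i - D.f i o ^ n * g i) ^ 2 -
      D.f i o ^ a * (D.f i o ^ a * e i - D.f i o ^ n * g i) = 0 := by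
    intro i
    rw [hv', show n = (n - a) + c + b by omega, pow_add, pow_add]
    calc _ = D.f i o ^ (n - a) * (D.f i o ^ c * (D.f i o ^ b * v i)) := by ring
      _ = 0 := by rw [hvc, mul_zero]
  -- the idempotents
  let y : ∀ i, Γ(X, D.U i) := fun i => e i - D.f i o ^ (a + a + m) * g i
  have hy1 : ∀ i, (y i * y i - y i) ^ 2 = 0 := fun i =>
    alg_idem (q := q i) (by rw [hq, hm]) (by rw [← hm]; exact hu0 i)
  have hy2 : ∀ i j, (rs (inf_le_left : D.U i ⊓ D.U j ≤ D.U i) (y i) -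
      rs (inf_le_right : D.U i ⊓ D.U j ≤ D.U j) (y j)) ^ 2 = 0 := by
    intro i j
    simp only [y, map_sub, map_mul, map_pow]
    refine alg_compat (rel1 o i j) (rel2 o i j) (h := h i j) ?_ ?_
    · rw [hh, hm]
    · have := hgu i j
      simp only [map_sub, map_mul, map_pow] at this
      rw [← hm]; exact this
  have hy3 : ∀ i j (p : X), p ∈ D.U i → p ∈ D.U j → (p ∈ X.basicOpen (y i) ↔ p ∈ X.basicOpen (y j)) := by
    intro i j p hi hj
    rw [← mem_basicOpen_rs (inf_le_left : D.U i ⊓ D.U j ≤ D.U i) _ _ ⟨hi, hj⟩,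
      ← mem_basicOpen_rs (inf_le_right : D.U i ⊓ D.U j ≤ D.U j) _ _ ⟨hi, hj⟩]
    exact mem_basicOpen_iff_of_sq _ _ (hy2 i j) ⟨hi, hj⟩
  have hy4 : ∀ i (p : X), p ∈ D.U i → p ∉ X.basicOpen (D.f i o) → (p ∈ X.basicOpen (y i) ↔ p ∈ X.basicOpen (e i)) := by
    intro i p hi hpt
    have : y i = e i - D.f i o * (D.f i o ^ (a + a) * g i) := by
      simp only [y, hm']; ring
    rw [this]
    exact mem_basicOpen_sub_iff _ _ _ hi hpt
  have hcov : ∀ p : X, ∃ i, p ∈ D.U i := by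
    intro p
    have : p ∈ ⨆ i, D.U i := by rw [D.iSup_U]; trivial
    exact Opens.mem_iSup.1 this
  refine ⟨⋃ i, (X.basicOpen (y i) : Set X), ⟨?_, isOpen_iUnion fun i => (X.basicOpen (y i)).isOpen⟩, ?_⟩
  · rw [← isOpen_compl_iff]
    have : (⋃ i, (X.basicOpen (y i) : Set X))ᶜ = ⋃ i, (X.basicOpen (1 - y i) : Set X) := by
      ext p
      simp only [Set.mem_compl_iff, Set.mem_iUnion, not_exists]
      constructor
      · intro hp
        obtain ⟨i, hi⟩ := hcov p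
        exact ⟨i, (notMem_basicOpen_iff_of_sq _ (hy1 i) hi).1 (hp i)⟩
      · rintro ⟨i, hi⟩ j hj
        have hi' : p ∈ D.U i := X.basicOpen_le _ hi
        have hj' : p ∈ D.U j := X.basicOpen_le _ hj
        exact (notMem_basicOpen_iff_of_sq _ (hy1 i) hi').2 hi ((hy3 i j p hi' hj').2 hj)
    rw [this]
    exact isOpen_iUnion fun i => (X.basicOpen _).isOpen
  · ext p
    constructor
    · rintro ⟨hp1, hp2⟩
      obtain ⟨i, hi⟩ := Set.mem_iUnion.1 hp1
      have hi' : p ∈ D.U i := X.basicOpen_le _ hi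
      have hpt : p ∉ X.basicOpen (D.f i o) := by rw [hb]; exact fun hh => hp2 hh.2
      rw [← hemem i p hi' hpt]
      exact (hy4 i p hi' hpt).1 hi
    · intro hpA
      have hp2 : p ∈ (D.U o : Set X)ᶜ := by rw [← hAB]; exact Or.inl hpA
      refine ⟨?_, hp2⟩
      obtain ⟨i, hi⟩ := hcov p
      refine Set.mem_iUnion.2 ⟨i, ?_⟩
      have hpt : p ∉ X.basicOpen (D.f i o) := by rw [hb]; exact fun hh => hp2 hh.2
      rw [← hemem i p hi hpt] at hpA
      exact (hy4 i p hi hpt).2 hpA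

variable {D o c} in
/-- **Injectivity**: a clopen set missing the divisor is empty. -/
theorem eq_empty_of_isClopen [IsLocallyNoetherian X] [Finite I] (hU : ∀ i, IsAffineOpen (D.U i))
    (hb : ∀ i k, X.basicOpen (D.f i k) = D.U i ⊓ D.U k) (h0 : H0 D o c) (Z : Set X) (hZ : IsClopen Z)
    (hZo : Z ⊆ D.U o) : Z = ∅ := by
  have hU2 : ∀ i j, IsAffineOpen (D.U i ⊓ D.U j) := fun i j => by
    rw [← hb]; exact (hU i).basicOpen _
  have hnoeth : ∀ {U : X.Opens}, IsAffineOpen U → IsNoetherianRing Γ(X, U) := fun {U} h =>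
    IsLocallyNoetherian.component_noetherian ⟨U, h⟩
  obtain ⟨b, hb2⟩ : ∃ b : ℕ,
      (∀ i j (m : ℕ) (x : Γ(X, D.U i ⊓ D.U j)), rs (inf_le_left : D.U i ⊓ D.U j ≤ D.U i) (D.f i o) ^ m * x = 0 →
        rs (inf_le_left : D.U i ⊓ D.U j ≤ D.U i) (D.f i o) ^ b * x = 0) := by
    have e2 := fun i j => @exists_torsion_bound _ _ (hnoeth (hU2 i j))
      (rs (inf_le_left : D.U i ⊓ D.U j ≤ D.U i) (D.f i o))
    choose b2 hb2 using e2
    obtain ⟨M2, hM2⟩ := (Set.finite_range fun q : I × I => b2 q.1 q.2).bddAbove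
    exact ⟨M2, fun i j m x hx => hb2 i j _ (hM2 ⟨(i, j), rfl⟩) m x hx⟩
  have h00 : ∀ (U : X.Opens) (x : X), x ∉ X.basicOpen (0 : Γ(X, U)) := by
    intro U x hx
    have hx' := X.basicOpen_le _ hx
    rw [X.mem_basicOpen _ _ hx', map_zero] at hx
    exact not_isUnit_zero hx
  choose e he hemem using fun i => exists_idem_mod_pow' (hU i) 0 Z Zᶜ hZ.1 hZ.compl.1
    (fun x _ => ⟨fun _ => (em (x ∈ Z)), fun _ => h00 _ x⟩) disjoint_compl_right 1
  simp only [pow_one, zero_dvd_iff] at he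
  have h1 : ∀ i, D.f i o ^ (b + c + 1) ∣ e i - 0 := by
    intro i
    refine dvd_sub_of_idem' (hU i) _ _ _ _ ?_ ?_ ?_
    · rw [he]; exact dvd_zero _
    · simp
    · intro x hx hxt
      rw [hemem i x hx (h00 _ x)]
      refine ⟨fun hxZ => ?_, fun h => absurd h (h00 _ x)⟩
      exfalso
      apply hxt
      rw [hb]
      exact ⟨hx, hZo hxZ⟩
  simp only [sub_zero] at h1
  choose v hv using h1
  have h2 : ∀ i j, rs (inf_le_left : D.U i ⊓ D.U j ≤ D.U i) (e i) = rs (inf_le_right : D.U i ⊓ D.U j ≤ D.U j) (e j) := by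
    intro i j
    have := dvd_sub_of_idem' (hU2 i j) 0 (rs (inf_le_left : D.U i ⊓ D.U j ≤ D.U i) (e i))
      (rs (inf_le_right : D.U i ⊓ D.U j ≤ D.U j) (e j)) 1 (by rw [← map_mul, ← map_sub, he, map_zero]; exact dvd_zero _)
      (by rw [← map_mul, ← map_sub, he, map_zero]; exact dvd_zero _)
      (fun x hx _ => by
        rw [mem_basicOpen_rs _ _ _ hx, mem_basicOpen_rs _ _ _ hx, hemem i x hx.1 (h00 _ x), hemem j x hx.2 (h00 _ x)])
    rw [pow_one, zero_dvd_iff] at this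
    exact sub_eq_zero.1 this
  have h3 : ∀ i, D.f i o ^ c * (D.f i o ^ b * v i) = 0 := by
    refine h0 (c + 1) (Nat.lt_succ_self c) (fun i => D.f i o ^ b * v i) fun i j => ?_
    have h4 := h2 i j
    rw [hv i, hv j, map_mul, map_mul, map_pow, map_pow, rel2 o i j] at h4
    have h5 : rs (inf_le_left : D.U i ⊓ D.U j ≤ D.U i) (D.f i o) ^ (b + c + 1) *
        (rs (inf_le_left : D.U i ⊓ D.U j ≤ D.U i) (v i) -
          rs (inf_le_right : D.U i ⊓ D.U j ≤ D.U j) (D.f j i) ^ (b + c + 1) *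
            rs (inf_le_right : D.U i ⊓ D.U j ≤ D.U j) (v j)) = 0 := by
      rw [mul_sub, h4]; ring
    have h6 := hb2 i j _ _ h5
    simp only [map_mul, map_pow]
    rw [rel2 o i j, ← sub_eq_zero, ← h6]
    ring
  have h4 : ∀ i, e i = 0 := by
    intro i
    rw [hv i, pow_succ, pow_add]
    calc _ = D.f i o * (D.f i o ^ c * (D.f i o ^ b * v i)) := by ring
      _ = 0 := by rw [h3, mul_zero]
  rw [Set.eq_empty_iff_forall_notMem]
  intro p hp
  have : p ∈ ⨆ i, D.U i := by rw [D.iSup_U]; trivial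
  obtain ⟨i, hi⟩ := Opens.mem_iSup.1 this
  rw [← hemem i p hi (h00 _ p), h4] at hp
  exact h00 _ p hp

end Scheme

end Groth.Agent.Pi1C.LefClopen
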