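import Groth.Agent.Pi1C.Cone
import Groth.Agent.Pi1C.CechLow
import Groth.Agent.Pi1C.LefClopen

/-!
# From annihilators of local cohomology of the cone ring to annihilators of negative twists
-/

set_option autoImplicit false

universe u

open CategoryTheory AlgebraicGeometry LaurentPolynomial TopologicalSpace

namespace Groth.Agent.Pi1C.ConeCech

open Groth.Agent.VarietyB.ProjGlue Groth.Agent.Pi1C.Cone Groth.Agent.Pi1C.LefClopen

section Twist

variable {A B : Type u} [CommRing A] [CommRing B]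

/-- `T` as a unit -/
noncomputable def unitT : (LaurentPolynomial B)ˣ where
  val := T 1
  inv := T (-1)
  val_inv := by rw [← T_add]; simp
  inv_val := by rw [← T_add]; simp

theorem unitT_zpow (n : ℤ) : ((unitT ^ n : (LaurentPolynomial B)ˣ) : LaurentPolynomial B) = T n := by
  cases n with
  | ofNat n =>
    simp only [Int.ofNat_eq_natCast, zpow_natCast, Units.val_pow_eq_pow_val]
    change (T 1) ^ n = _
    rw [T_pow, mul_one]
  | negSucc n =>
    rw [zpow_negSucc, ← inv_pow, Units.val_pow_eq_pow_val]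
    change (T (-1)) ^ (n + 1) = _
    rw [T_pow]
    congr 1
    rw [Int.negSucc_eq]
    push_cast
    ring

/-- The ring homomorphism `a ↦ φ a`, `T ↦ u T`. -/
noncomputable def tw (φ : A →+* B) (v : Bˣ) : LaurentPolynomial A →+* LaurentPolynomial B :=
  LaurentPolynomial.eval₂ (C.comp φ) (Units.map (C : B →+* LaurentPolynomial B).toMonoidHom v * unitT)

theorem tw_C_mul_T (φ : A →+* B) (v : Bˣ) (a : A) (n : ℤ) :
    tw φ v (C a * T n) = C (φ a * ((v ^ n : Bˣ) : B)) * T n := by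
  rw [tw, eval₂_C_mul_T, mul_zpow, Units.val_mul, unitT_zpow, ← map_zpow, Units.coe_map, map_mul]
  rw [RingHom.comp_apply]
  exact (mul_assoc _ _ _).symm

theorem tw_C (φ : A →+* B) (v : Bˣ) (a : A) : tw φ v (C a) = C (φ a) := by
  have := tw_C_mul_T φ v a 0
  simpa using this

theorem tw_T (φ : A →+* B) (v : Bˣ) (n : ℤ) : tw φ v (T n) = C ((v ^ n : Bˣ) : B) * T n := by
  have := tw_C_mul_T φ v 1 n
  simpa using this

theorem lcoeff_tw (φ : A →+* B) (v : Bˣ) (z : LaurentPolynomial A) (d : ℤ) :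
    lcoeff B d (tw φ v z) = φ (lcoeff A d z) * ((v ^ d : Bˣ) : B) := by
  induction z using LaurentPolynomial.induction_on' with
  | add z₁ z₂ h₁ h₂ => rw [map_add, map_add, h₁, h₂, map_add, map_add, add_mul]
  | C_mul_T n a =>
    rw [tw_C_mul_T, lcoeff_C_mul_T, lcoeff_C_mul_T]
    split_ifs with h
    · rw [h]
    · rw [map_zero, zero_mul]

theorem lcoeff_C_mul (a : A) (z : LaurentPolynomial A) (d : ℤ) :
    lcoeff A d (C a * z) = a * lcoeff A d z := by
  induction z using LaurentPolynomial.induction_on' with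
  | add z₁ z₂ h₁ h₂ => rw [mul_add, map_add, h₁, h₂, map_add, mul_add]
  | C_mul_T n b =>
    rw [← mul_assoc, ← map_mul, lcoeff_C_mul_T, lcoeff_C_mul_T]
    split_ifs with h
    · rfl
    · rw [mul_zero]

theorem lcoeff_T_mul (z : LaurentPolynomial A) (m d : ℤ) :
    lcoeff A (m + d) (T m * z) = lcoeff A d z := by
  induction z using LaurentPolynomial.induction_on' with
  | add z₁ z₂ h₁ h₂ => rw [mul_add, map_add, h₁, h₂, map_add]
  | C_mul_T n b =>
    rw [mul_left_comm, ← T_add, lcoeff_C_mul_T, lcoeff_C_mul_T]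
    simp only [add_right_inj]

theorem lext {z w : LaurentPolynomial A} (h : ∀ d, lcoeff A d z = lcoeff A d w) : z = w :=
  LaurentPolynomial.ext h

/-- If every coefficient is killed by a power of `f` then so is the Laurent polynomial. -/
theorem exists_pow_mul_eq_zero_of_coeff (f : A) (z : LaurentPolynomial A)
    (h : ∀ d, ∃ n : ℕ, f ^ n * lcoeff A d z = 0) : ∃ n : ℕ, C f ^ n * z = 0 := by
  choose n hn using h
  let s : Finset ℤ := z.coeff.support
  refine ⟨s.sup n, lext fun d => ?_⟩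
  rw [← map_pow, lcoeff_C_mul, map_zero]
  by_cases hd : d ∈ s
  · obtain ⟨m, hm⟩ := Nat.exists_eq_add_of_le (Finset.le_sup (f := n) hd)
    rw [hm, pow_add, mul_right_comm, hn, zero_mul]
  · have : lcoeff A d z = 0 := Finsupp.notMem_support_iff.1 hd
    rw [this, mul_zero]

end Twist

variable {k : Type u} [Field k] {X : Scheme.{u}} {r : ℕ} (D : CoordData X (Fin (r + 1)))
    (p : X ⟶ Spec (CommRingCat.of k))

/-- the transition unit on `U i ⊓ U j` -/
noncomputable def uf (i j : Fin (r + 1)) : Γ(X, D.U i ⊓ D.U j)ˣ where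
  val := rs (inf_le_left : D.U i ⊓ D.U j ≤ D.U i) (D.f i j)
  inv := rs (inf_le_right : D.U i ⊓ D.U j ≤ D.U j) (D.f j i)
  val_inv := rel3 i j
  inv_val := (mul_comm _ _).trans (rel3 i j)

theorem uf_zpow (i j : Fin (r + 1)) (M N : ℕ) :
    ((uf D i j ^ ((M : ℤ) + -(N : ℤ)) : Γ(X, D.U i ⊓ D.U j)ˣ) : Γ(X, D.U i ⊓ D.U j)) =
      rs (inf_le_left : D.U i ⊓ D.U j ≤ D.U i) (D.f i j) ^ M * rs (inf_le_right : D.U i ⊓ D.U j ≤ D.U j) (D.f j i) ^ N := by
  rw [zpow_add, zpow_neg, zpow_natCast, zpow_natCast, ← inv_pow, Units.val_mul, Units.val_pow_eq_pow_val,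
    Units.val_pow_eq_pow_val]
  rfl

/-- left restriction -/
noncomputable def lam (i j : Fin (r + 1)) :
    LaurentPolynomial Γ(X, D.U i) →+* LaurentPolynomial Γ(X, D.U i ⊓ D.U j) :=
  tw (rs inf_le_left) 1

/-- right restriction -/
noncomputable def mu (i j : Fin (r + 1)) :
    LaurentPolynomial Γ(X, D.U j) →+* LaurentPolynomial Γ(X, D.U i ⊓ D.U j) :=
  tw (rs inf_le_right) (uf D i j)

theorem lam_chart (i j : Fin (r + 1)) (a : R D p) : lam D i j (chart D p i a) = mu D i j (chart D p j a) := by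
  have h : (lam D i j).comp (chart D p i) = (mu D i j).comp (chart D p j) := by
    apply Ideal.Quotient.ringHom_ext
    apply MvPolynomial.ringHom_ext
    · intro c
      simp only [RingHom.comp_apply, chart_mk, rho, MvPolynomial.eval₂Hom_C, lam, mu, tw_C]
      have h1 := CoordData.baseHom_map p (inf_le_left : D.U i ⊓ D.U j ≤ D.U i)
      have h2 := CoordData.baseHom_map p (inf_le_right : D.U i ⊓ D.U j ≤ D.U j)
      have h1' := congr($h1 c)
      have h2' := congr($h2 c)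
      rw [RingHom.comp_apply] at h1' h2'
      exact congrArg C (h1'.trans h2'.symm)
    · intro l
      simp only [RingHom.comp_apply, chart_mk, rho_X, lam, mu, map_mul, tw_C, tw_T, zpow_one]
      have h3 : rs (inf_le_left : D.U i ⊓ D.U j ≤ D.U i) (D.f i l) =
          rs (inf_le_left : D.U i ⊓ D.U j ≤ D.U i) (D.f i j) *
            rs (inf_le_right : D.U i ⊓ D.U j ≤ D.U j) (D.f j l) := D.f_mul i j l
      rw [h3]
      have h4 : ((uf D i j : Γ(X, D.U i ⊓ D.U j)ˣ) : Γ(X, D.U i ⊓ D.U j)) =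
        rs (inf_le_left : D.U i ⊓ D.U j ≤ D.U i) (D.f i j) := rfl
      rw [h4, Units.val_one, map_one, one_mul, map_mul]
      ring
  exact congr($h a)

theorem mu_C_mul_T (i j : Fin (r + 1)) (a : Γ(X, D.U j)) (n : ℤ) :
    mu D i j (C a * T n) = C (rs inf_le_right a * ((uf D i j ^ n : Γ(X, D.U i ⊓ D.U j)ˣ) : Γ(X, D.U i ⊓ D.U j))) * T n :=
  tw_C_mul_T _ _ _ _

theorem lam_C_mul_T (i j : Fin (r + 1)) (a : Γ(X, D.U i)) (n : ℤ) :
    lam D i j (C a * T n) = C (rs inf_le_left a) * T n := by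
  rw [lam, tw_C_mul_T, one_zpow, Units.val_one, mul_one]

/-- module structure on the chart `i` -/
noncomputable instance modL (i : Fin (r + 1)) : Module (R D p) (LaurentPolynomial Γ(X, D.U i)) :=
  Module.compHom _ (chart D p i)

/-- module structure on the chart `(i, j)` -/
noncomputable instance modL2 (ij : Fin (r + 1) × Fin (r + 1)) :
    Module (R D p) (LaurentPolynomial Γ(X, D.U ij.1 ⊓ D.U ij.2)) :=
  Module.compHom _ ((lam D ij.1 ij.2).comp (chart D p ij.1))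

theorem smul_def₁ (i : Fin (r + 1)) (a : R D p) (z : LaurentPolynomial Γ(X, D.U i)) :
    a • z = chart D p i a * z := rfl

theorem smul_def₂ (ij : Fin (r + 1) × Fin (r + 1)) (a : R D p)
    (z : LaurentPolynomial Γ(X, D.U ij.1 ⊓ D.U ij.2)) :
    a • z = lam D ij.1 ij.2 (chart D p ij.1 a) * z := rfl

/-- the map to the product of the charts -/
noncomputable def d0 : R D p →ₗ[R D p] (∀ i, LaurentPolynomial Γ(X, D.U i)) :=
  LinearMap.pi fun i =>
    { toFun := chart D p i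
      map_add' := map_add _
      map_smul' := fun a b => by rw [smul_eq_mul, map_mul]; rfl }

theorem d0_apply (a : R D p) (i : Fin (r + 1)) : d0 D p a i = chart D p i a := rfl

/-- the Cech differential -/
noncomputable def d1 : (∀ i, LaurentPolynomial Γ(X, D.U i)) →ₗ[R D p]
    (∀ ij : Fin (r + 1) × Fin (r + 1), LaurentPolynomial Γ(X, D.U ij.1 ⊓ D.U ij.2)) :=
  LinearMap.pi fun ij =>
    { toFun := fun z => lam D ij.1 ij.2 (z ij.1) - mu D ij.1 ij.2 (z ij.2)
      map_add' := fun z w => by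
        rw [Pi.add_apply, Pi.add_apply, map_add, map_add]; ring
      map_smul' := fun a z => by
        rw [Pi.smul_apply, Pi.smul_apply, smul_def₁, smul_def₁, map_mul, map_mul, ← lam_chart, RingHom.id_apply,
          smul_def₂, mul_sub] }

theorem d1_apply (z : ∀ i, LaurentPolynomial Γ(X, D.U i)) (ij : Fin (r + 1) × Fin (r + 1)) :
    d1 D p z ij = lam D ij.1 ij.2 (z ij.1) - mu D ij.1 ij.2 (z ij.2) := rfl

theorem d1_d0 : d1 D p ∘ₗ d0 D p = 0 := by
  refine LinearMap.ext fun a => funext fun ij => ?_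
  rw [LinearMap.comp_apply, d1_apply, d0_apply, d0_apply, lam_chart, sub_self]
  rfl

theorem chart_x_pow (i l : Fin (r + 1)) (n : ℕ) :
    chart D p i (x D p l ^ n) = C (D.f i l ^ n) * T n := by
  rw [map_pow, chart_x, mul_pow, T_pow, mul_one, ← map_pow, mul_comm]

theorem chart_x_pow_self (i : Fin (r + 1)) (n : ℕ) :
    chart D p i (x D p i ^ n) = T n := by
  rw [chart_x_pow, D.f_self, one_pow, map_one, one_mul]

section local_

variable (hU : ∀ i, IsAffineOpen (D.U i)) (hb : ∀ i j, X.basicOpen (D.f i j) = D.U i ⊓ D.U j)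

include hU hb in
theorem exists_pow_mul_eq_zero_of_rs (i l : Fin (r + 1)) (a : Γ(X, D.U i))
    (h : rs (inf_le_left : D.U i ⊓ D.U l ≤ D.U i) a = 0) : ∃ n : ℕ, D.f i l ^ n * a = 0 := by
  have h3 := (hU i).isLocalization_basicOpen (D.f i l)
  have h4 : algebraMap Γ(X, D.U i) Γ(X, X.basicOpen (D.f i l)) a =
      algebraMap Γ(X, D.U i) Γ(X, X.basicOpen (D.f i l)) 0 := by
    rw [map_zero]
    change rs (X.basicOpen_le (D.f i l)) a = 0
    rw [← rs_rs (hb i l).le inf_le_left a, h, map_zero]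
  obtain ⟨N, hN⟩ := IsLocalization.Away.exists_of_eq (S := Γ(X, X.basicOpen (D.f i l))) (D.f i l) h4
  exact ⟨N, by rw [hN, mul_zero]⟩

include hU hb in
theorem exists_rs_eq (i l : Fin (r + 1)) (h : Γ(X, D.U i ⊓ D.U l)) :
    ∃ (n : ℕ), ∀ n' : ℕ, n ≤ n' → ∃ a : Γ(X, D.U i), rs (inf_le_left : D.U i ⊓ D.U l ≤ D.U i) a =
      rs (inf_le_left : D.U i ⊓ D.U l ≤ D.U i) (D.f i l) ^ n' * h := by
  have h3 := (hU i).isLocalization_basicOpen (D.f i l)
  obtain ⟨n, a, ha⟩ := IsLocalization.Away.surj (D.f i l) (rs (hb i l).le h : Γ(X, X.basicOpen (D.f i l)))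
  have ha' : rs (hb i l).le h * rs (X.basicOpen_le (D.f i l)) (D.f i l) ^ n = rs (X.basicOpen_le (D.f i l)) a := ha
  have h5 := congr(rs (hb i l).ge $ha')
  rw [map_mul, map_pow, rs_rs, rs_rs, rs_rs, rs_self] at h5
  refine ⟨n, fun n' hn' => ⟨D.f i l ^ (n' - n) * a, ?_⟩⟩
  rw [map_mul, map_pow, ← h5, show n' = (n' - n) + n by omega, pow_add]
  simp only [Nat.add_sub_cancel]
  ring

include hU hb in
/-- vanishing on triple overlaps -/
theorem exists_pow_mul_eq_zero_of_rs₂ (i j l : Fin (r + 1)) (a : Γ(X, D.U i ⊓ D.U j))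
    (h : rs (inf_le_left : D.U i ⊓ D.U j ⊓ D.U l ≤ D.U i ⊓ D.U j) a = 0) :
    ∃ n : ℕ, rs (inf_le_left : D.U i ⊓ D.U j ≤ D.U i) (D.f i l) ^ n * a = 0 := by
  have hU2 : IsAffineOpen (D.U i ⊓ D.U j) := by
    rw [← hb]; exact (hU i).basicOpen _
  have hbl : X.basicOpen (rs (inf_le_left : D.U i ⊓ D.U j ≤ D.U i) (D.f i l)) = D.U i ⊓ D.U j ⊓ D.U l := by
    have : X.basicOpen (rs (inf_le_left : D.U i ⊓ D.U j ≤ D.U i) (D.f i l)) = (D.U i ⊓ D.U j) ⊓ X.basicOpen (D.f i l) :=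
      X.basicOpen_res (D.f i l) (homOfLE inf_le_left).op
    rw [this, hb]
    apply le_antisymm
    · exact le_inf inf_le_left (inf_le_right.trans inf_le_right)
    · exact le_inf inf_le_left (le_inf (inf_le_left.trans inf_le_left) inf_le_right)
  have h3 := hU2.isLocalization_basicOpen (rs (inf_le_left : D.U i ⊓ D.U j ≤ D.U i) (D.f i l))
  have h4 : algebraMap Γ(X, D.U i ⊓ D.U j) Γ(X, X.basicOpen (rs (inf_le_left : D.U i ⊓ D.U j ≤ D.U i) (D.f i l))) a =
      algebraMap Γ(X, D.U i ⊓ D.U j) Γ(X, X.basicOpen (rs (inf_le_left : D.U i ⊓ D.U j ≤ D.U i) (D.f i l))) 0 := by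
    rw [map_zero]
    change rs (X.basicOpen_le _) a = 0
    rw [← rs_rs hbl.le inf_le_left a, h, map_zero]
  obtain ⟨N, hN⟩ := IsLocalization.Away.exists_of_eq
    (S := Γ(X, X.basicOpen (rs (inf_le_left : D.U i ⊓ D.U j ≤ D.U i) (D.f i l))))
    (rs (inf_le_left : D.U i ⊓ D.U j ≤ D.U i) (D.f i l)) h4
  exact ⟨N, by rw [hN, mul_zero]⟩

include hU hb in
theorem exists_pow_mul_eq_zero_of_lam (i l : Fin (r + 1)) (z : LaurentPolynomial Γ(X, D.U i))
    (h : lam D i l z = 0) : ∃ n : ℕ, C (D.f i l) ^ n * z = 0 := by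
  refine exists_pow_mul_eq_zero_of_coeff _ _ fun d => exists_pow_mul_eq_zero_of_rs D hU hb i l _ ?_
  have := lcoeff_tw (rs (inf_le_left : D.U i ⊓ D.U l ≤ D.U i)) 1 z d
  rw [one_zpow, Units.val_one, mul_one] at this
  rw [← this]
  change lcoeff _ d (lam D i l z) = 0
  rw [h, map_zero]

end local_

section main

variable (hU : ∀ i, IsAffineOpen (D.U i)) (hb : ∀ i j, X.basicOpen (D.f i j) = D.U i ⊓ D.U j)
  (hs : ∀ i, Function.Surjective (D.hom p i))

instance : IsNoetherianRing (R D p) := by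
  unfold R
  infer_instance

theorem isUnit_T' {A : Type u} [CommRing A] (n : ℤ) : IsUnit (T n : LaurentPolynomial A) := isUnit_T n

theorem no_torsion₁ (y : ∀ i, LaurentPolynomial Γ(X, D.U i))
    (hy : ∃ n : ℕ, ∀ a ∈ (m D p) ^ n, a • y = 0) : y = 0 := by
  obtain ⟨n, hn⟩ := hy
  funext i
  have h1 := congrFun (hn _ (Ideal.pow_mem_pow (x_mem_m D p i) n)) i
  rw [Pi.smul_apply, smul_def₁, chart_x_pow_self] at h1
  exact ((isUnit_T' (A := Γ(X, D.U i)) n).mul_right_eq_zero).1 h1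

theorem no_torsion₂ (y : ∀ ij : Fin (r + 1) × Fin (r + 1), LaurentPolynomial Γ(X, D.U ij.1 ⊓ D.U ij.2))
    (hy : ∃ n : ℕ, ∀ a ∈ (m D p) ^ n, a • y = 0) : y = 0 := by
  obtain ⟨n, hn⟩ := hy
  funext ij
  have h1 := congrFun (hn _ (Ideal.pow_mem_pow (x_mem_m D p ij.1) n)) ij
  rw [Pi.smul_apply, smul_def₂, chart_x_pow_self, lam, tw_T, one_zpow, Units.val_one, map_one, one_mul] at h1
  exact ((isUnit_T' (A := Γ(X, D.U ij.1 ⊓ D.U ij.2)) n).mul_right_eq_zero).1 h1

theorem ker_d0 (a : R D p) (ha : a ∈ LinearMap.ker (d0 D p)) :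
    ∃ n : ℕ, ∀ b ∈ (m D p) ^ n, b • a = 0 := by
  refine ⟨0, fun b _ => ?_⟩
  have : a = 0 := ext_chart D p fun i => by
    rw [map_zero, ← d0_apply, LinearMap.mem_ker.1 ha]
    rfl
  rw [this, smul_zero]

theorem subsingleton_H (n : ℕ) : Subsingleton (LocCoh.H (m D p) n (∀ i, LaurentPolynomial Γ(X, D.U i))) := by
  refine CechLow.subsingleton_pi (m D p) n _ fun i => ?_
  refine CechLow.subsingleton_of_bijective (m D p) n (x D p i) (x_mem_m D p i) ?_
  have h : (fun z : LaurentPolynomial Γ(X, D.U i) => x D p i • z) = fun z => T 1 * z := by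
    funext z
    rw [smul_def₁, chart_x_self]
  rw [h]
  exact (unitT (B := Γ(X, D.U i))).mulLeft_bijective

include hU hb hs in
/-- cocycles in degree zero come from the cone ring up to torsion -/
theorem mid (y : ∀ i, LaurentPolynomial Γ(X, D.U i)) (hy : d1 D p y = 0) :
    ∃ n : ℕ, ∀ a ∈ (m D p) ^ n, a • y ∈ LinearMap.range (d0 D p) := by
  refine CechLow.exists_pow_smul_mem (x D p) _ y fun l => ?_
  obtain ⟨N, a, ha⟩ := chart_surj D p hs l (y l)
  obtain ⟨y', hy'⟩ : ∃ y', y' = x D p l ^ N • y - d0 D p a := ⟨_, rfl⟩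
  have h1 : d1 D p y' = 0 := by
    rw [hy', map_sub, map_smul, hy, smul_zero, ← LinearMap.comp_apply, d1_d0]
    simp
  have h2 : y' l = 0 := by
    rw [hy', Pi.sub_apply, Pi.smul_apply, smul_def₁, chart_x_pow_self, d0_apply, ← ha, mul_comm, sub_self]
  have h3 : ∀ i, ∃ n : ℕ, C (D.f i l) ^ n * y' i = 0 := by
    intro i
    refine exists_pow_mul_eq_zero_of_lam D hU hb i l (y' i) ?_
    have h4 := congrFun h1 (i, l)
    rw [d1_apply] at h4
    dsimp only at h4
    rw [h2, map_zero, sub_zero] at h4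
    exact h4
  choose n hn using h3
  let M := Finset.univ.sup n
  have h4 : x D p l ^ M • y' = 0 := by
    funext i
    rw [Pi.smul_apply, smul_def₁, chart_x_pow]
    obtain ⟨q, hq⟩ := Nat.exists_eq_add_of_le (Finset.le_sup (f := n) (Finset.mem_univ i))
    have hq' : M = n i + q := hq
    rw [map_pow, hq', pow_add]
    calc _ = C (D.f i l) ^ q * T ((n i + q : ℕ) : ℤ) * (C (D.f i l) ^ n i * y' i) := by ring
      _ = 0 := by rw [hn, mul_zero]
  refine ⟨M + N, x D p l ^ M • a, ?_⟩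
  rw [map_smul, pow_add, mul_smul, ← sub_eq_zero, ← neg_sub, ← smul_sub, ← hy', h4, neg_zero]

include hU hb hs in
/-- sections of negative twists -/
theorem h0_of_annihilation (c : ℕ) (hc : ∀ z : LocCoh.H (m D p) 1 (R D p), (x D p 0) ^ c • z = 0) :
    H0 D 0 c := by
  intro N hN v hv i
  let y : ∀ i, LaurentPolynomial Γ(X, D.U i) := fun i => C (v i) * T (-(N : ℤ))
  have hy : d1 D p y = 0 := by
    funext ij
    rw [d1_apply]
    simp only [y]
    rw [lam_C_mul_T, mu_C_mul_T, hv, zpow_neg, zpow_natCast, ← inv_pow, Units.val_pow_eq_pow_val]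
    have : (((uf D ij.1 ij.2)⁻¹ : Γ(X, D.U ij.1 ⊓ D.U ij.2)ˣ) : Γ(X, D.U ij.1 ⊓ D.U ij.2)) =
      rs (inf_le_right : D.U ij.1 ⊓ D.U ij.2 ≤ D.U ij.2) (D.f ij.2 ij.1) := rfl
    rw [this, mul_comm (_ ^ N), sub_self]
    rfl
  obtain ⟨a, ha⟩ := CechLow.smul_mem_range₁ (m D p) (d0 D p) (ker_d0 D p) (no_torsion₁ D p)
    ((x D p 0) ^ c) hc y (mid D p hU hb hs y hy)
  have h1 := congrFun ha i
  rw [d0_apply, Pi.smul_apply, smul_def₁, chart_x_pow] at h1
  have h2 := congrArg (lcoeff _ ((c : ℤ) + -(N : ℤ))) h1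
  obtain ⟨F, rfl⟩ := Ideal.Quotient.mk_surjective a
  rw [chart_mk, coeff_rho_neg D p i F _ (by omega)] at h2
  have h3 : C (D.f i 0 ^ c) * T (c : ℤ) * y i = C (D.f i 0 ^ c * v i) * T ((c : ℤ) + -(N : ℤ)) := by
    simp only [y]
    rw [T_add, map_mul]
    ring
  rw [h3, lcoeff_C_mul_T, if_pos rfl] at h2
  exact h2.symm

include hU hb hs in
/-- Cech `H¹` of negative twists -/
theorem h1_of_annihilation (c : ℕ) (hc : ∀ z : LocCoh.H (m D p) 2 (R D p), (x D p 0) ^ c • z = 0) :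
    H1 D 0 c := by
  intro N hN h hh
  let z : ∀ ij : Fin (r + 1) × Fin (r + 1), LaurentPolynomial Γ(X, D.U ij.1 ⊓ D.U ij.2) :=
    fun ij => C (h ij.1 ij.2) * T (-(N : ℤ))
  have hz : ∃ n : ℕ, ∀ a ∈ (m D p) ^ n, a • z ∈ LinearMap.range (d1 D p) := by
    refine CechLow.exists_pow_smul_mem (x D p) _ z fun l => ?_
    -- uniform denominators
    choose n hn using fun i => exists_rs_eq D hU hb i l (h i l)
    let M := Finset.univ.sup n
    choose g hg using fun i => hn i M (Finset.le_sup (f := n) (Finset.mem_univ i))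
    let w : ∀ i, LaurentPolynomial Γ(X, D.U i) := fun i => C (g i) * T ((M : ℤ) + -(N : ℤ))
    -- the defect
    let E : ∀ i j, Γ(X, D.U i ⊓ D.U j) := fun i j =>
      rs (inf_le_left : D.U i ⊓ D.U j ≤ D.U i) (D.f i l) ^ M * h i j -
        (rs (inf_le_left : D.U i ⊓ D.U j ≤ D.U i) (g i) -
          rs (inf_le_right : D.U i ⊓ D.U j ≤ D.U j) (g j) *
            ((uf D i j ^ ((M : ℤ) + -(N : ℤ)) : Γ(X, D.U i ⊓ D.U j)ˣ) : Γ(X, D.U i ⊓ D.U j)))
    have hE : ∀ i j, ∃ q : ℕ, rs (inf_le_left : D.U i ⊓ D.U j ≤ D.U i) (D.f i l) ^ q * E i j = 0 := by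
      intro i j
      refine exists_pow_mul_eq_zero_of_rs₂ D hU hb i j l _ ?_
      have a1 := congr(rs (inf_le_inf_right _ inf_le_left : D.U i ⊓ D.U j ⊓ D.U l ≤ D.U i ⊓ D.U l) $(hg i))
      have a2 := congr(rs (inf_le_inf_right _ inf_le_right : D.U i ⊓ D.U j ⊓ D.U l ≤ D.U j ⊓ D.U l) $(hg j))
      have a3 := hh i j l
      have a4 : rs (inf_le_left : D.U i ⊓ D.U j ⊓ D.U l ≤ D.U i ⊓ D.U j) (rs (inf_le_left : D.U i ⊓ D.U j ≤ D.U i) (D.f i l)) = _ :=
        congr(rs (inf_le_left : D.U i ⊓ D.U j ⊓ D.U l ≤ D.U i ⊓ D.U j) $(D.f_mul i j l))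
      change _ = rs (inf_le_left : D.U i ⊓ D.U j ⊓ D.U l ≤ D.U i ⊓ D.U j)
        (rs (inf_le_left : D.U i ⊓ D.U j ≤ D.U i) (D.f i j) * rs (inf_le_right : D.U i ⊓ D.U j ≤ D.U j) (D.f j l)) at a4
      simp only [map_mul, map_pow, rs_rs] at a1 a2 a4
      simp only [E, map_sub, map_mul, map_pow, rs_rs, uf_zpow]
      rw [a1, a2, ← a3, a4]
      ring
    choose q hq using hE
    let Q := Finset.univ.sup fun ij : Fin (r + 1) × Fin (r + 1) => q ij.1 ij.2
    refine ⟨Q + M, x D p l ^ Q • w, ?_⟩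
    have h5 : x D p l ^ Q • (x D p l ^ M • z - d1 D p w) = 0 := by
      funext ij
      have h6 : (x D p l ^ M • z - d1 D p w) ij = C (E ij.1 ij.2) * T ((M : ℤ) + -(N : ℤ)) := by
        rw [Pi.sub_apply, Pi.smul_apply, smul_def₂, chart_x_pow, lam_C_mul_T, d1_apply]
        simp only [w, z]
        rw [lam_C_mul_T, mu_C_mul_T]
        simp only [E, map_sub, map_mul, map_pow, T_add]
        ring
      rw [Pi.smul_apply, h6, smul_def₂, chart_x_pow, lam_C_mul_T]
      obtain ⟨t, ht⟩ := Nat.exists_eq_add_of_le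
        (Finset.le_sup (f := fun ij : Fin (r + 1) × Fin (r + 1) => q ij.1 ij.2) (Finset.mem_univ ij))
      have ht' : Q = q ij.1 ij.2 + t := ht
      have h7 : rs (inf_le_left : D.U ij.1 ⊓ D.U ij.2 ≤ D.U ij.1) (D.f ij.1 l ^ Q) * E ij.1 ij.2 = 0 := by
        rw [map_pow, ht', pow_add]
        calc _ = rs (inf_le_left : D.U ij.1 ⊓ D.U ij.2 ≤ D.U ij.1) (D.f ij.1 l) ^ t *
            (rs (inf_le_left : D.U ij.1 ⊓ D.U ij.2 ≤ D.U ij.1) (D.f ij.1 l) ^ q ij.1 ij.2 * E ij.1 ij.2) := by ring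
          _ = 0 := by rw [hq, mul_zero]
      calc _ = C (rs (inf_le_left : D.U ij.1 ⊓ D.U ij.2 ≤ D.U ij.1) (D.f ij.1 l ^ Q) * E ij.1 ij.2) *
          (T (Q : ℤ) * T ((M : ℤ) + -(N : ℤ))) := by rw [map_mul]; ring
        _ = 0 := by rw [h7, map_zero, zero_mul]
    rw [smul_sub, sub_eq_zero] at h5
    rw [map_smul, pow_add, mul_smul, h5]
  have := subsingleton_H D p 1
  obtain ⟨w, hw⟩ := CechLow.smul_mem_range₂ (m D p) (d0 D p) (d1 D p) (ker_d0 D p) (d1_d0 D p)
    (fun y hy => mid D p hU hb hs y hy) (no_torsion₂ D p) ((x D p 0) ^ c) hc z hz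
  refine ⟨fun i => lcoeff _ ((c : ℤ) + -(N : ℤ)) (w i), fun i j => ?_⟩
  have h1 := congrArg (lcoeff _ ((c : ℤ) + -(N : ℤ))) (congrFun hw (i, j))
  rw [d1_apply, Pi.smul_apply, smul_def₂, chart_x_pow, lam_C_mul_T, map_sub] at h1
  dsimp only at h1
  have h3 : C (rs inf_le_left (D.f i 0 ^ c)) * T (c : ℤ) * z (i, j) =
      C (rs (inf_le_left : D.U i ⊓ D.U j ≤ D.U i) (D.f i 0 ^ c) * h i j) * T ((c : ℤ) + -(N : ℤ)) := by
    simp only [z]
    rw [T_add, map_mul]
    ring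
  have h4 := lcoeff_tw (rs (inf_le_left : D.U i ⊓ D.U j ≤ D.U i)) 1 (w i) ((c : ℤ) + -(N : ℤ))
  have h5 := lcoeff_tw (rs (inf_le_right : D.U i ⊓ D.U j ≤ D.U j)) (uf D i j) (w j) ((c : ℤ) + -(N : ℤ))
  rw [h3, lcoeff_C_mul_T, if_pos rfl, lam, mu, h4, h5, one_zpow, Units.val_one, mul_one] at h1
  rw [← map_pow, ← h1]
  congr 1
  rw [mul_comm]
  congr 1
  have h6 : (c : ℤ) + -(N : ℤ) = -((N - c : ℕ) : ℤ) := by omega
  rw [h6, zpow_neg, zpow_natCast, ← inv_pow, Units.val_pow_eq_pow_val]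
  rfl

end main

end Groth.Agent.Pi1C.ConeCech
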