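import Mathlib.Algebra.Polynomial.Laurent
import Mathlib.Algebra.MvPolynomial.CommRing
import Mathlib.RingTheory.Localization.Away.Basic
import Mathlib.RingTheory.TensorProduct.MonoidAlgebra
import Mathlib.RingTheory.Localization.BaseChange

/-!
# The localization of `k[x_0..x_r]` at `x_0` is `k[y_1..y_r][T,T⁻¹]`
-/

set_option autoImplicit false

universe u

open LaurentPolynomial

namespace Groth.Agent.Pi1C.ConeLoc

variable (k : Type u) [CommRing k] (r : ℕ)

/-- `k[x_0..x_r] → k[y_1..y_r][T,T⁻¹]`, `x_0 ↦ T`, `x_j ↦ y_j T`. -/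
noncomputable def toL : MvPolynomial (Fin (r + 1)) k →ₐ[k] (MvPolynomial (Fin r) k)[T;T⁻¹] :=
  MvPolynomial.aeval (Fin.cons (T 1) fun j => C (MvPolynomial.X j) * T 1)

@[simp] lemma toL_zero : toL k r (MvPolynomial.X 0) = T 1 := by
  simp [toL]

@[simp] lemma toL_succ (j : Fin r) : toL k r (MvPolynomial.X j.succ) = C (MvPolynomial.X j) * T 1 := by
  simp [toL]

lemma isUnit_toL_zero : IsUnit (toL k r (MvPolynomial.X 0)) := by
  rw [toL_zero]; exact isUnit_T 1

/-- the polynomial ring localized at `x_0` -/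
abbrev Sf := Localization.Away (MvPolynomial.X 0 : MvPolynomial (Fin (r + 1)) k)

/-- `x_0` as a unit -/
noncomputable def x0 : (Sf k r)ˣ :=
  (IsLocalization.Away.algebraMap_isUnit (S := Sf k r)
    (MvPolynomial.X 0 : MvPolynomial (Fin (r + 1)) k)).unit

lemma x0_val : (x0 k r : Sf k r) = algebraMap _ _ (MvPolynomial.X 0 : MvPolynomial (Fin (r + 1)) k) := by
  simp [x0]

noncomputable def fromP : MvPolynomial (Fin r) k →ₐ[k] Sf k r :=
  MvPolynomial.aeval fun j =>
    algebraMap _ _ (MvPolynomial.X j.succ : MvPolynomial (Fin (r + 1)) k) * ((x0 k r)⁻¹ : (Sf k r)ˣ)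

noncomputable def fromL : (MvPolynomial (Fin r) k)[T;T⁻¹] →+* Sf k r :=
  LaurentPolynomial.eval₂ (fromP k r).toRingHom (x0 k r)

noncomputable def toL' : Sf k r →+* (MvPolynomial (Fin r) k)[T;T⁻¹] :=
  IsLocalization.Away.lift (S := Sf k r) (g := (toL k r).toRingHom)
    (MvPolynomial.X 0 : MvPolynomial (Fin (r + 1)) k) (isUnit_toL_zero k r)

lemma toL'_algebraMap (a : MvPolynomial (Fin (r + 1)) k) :
    toL' k r (algebraMap _ _ a) = toL k r a :=
  IsLocalization.Away.lift_eq (S := Sf k r) (g := (toL k r).toRingHom)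
    (MvPolynomial.X 0 : MvPolynomial (Fin (r + 1)) k) (isUnit_toL_zero k r) a

lemma fromL_toL (a : MvPolynomial (Fin (r + 1)) k) :
    fromL k r (toL k r a) = algebraMap _ _ a := by
  have : (fromL k r).comp (toL k r).toRingHom = algebraMap _ _ := by
    refine MvPolynomial.ringHom_ext (fun c => ?_) (fun j => ?_)
    · have h1 : (toL k r).toRingHom (MvPolynomial.C c) = C (MvPolynomial.C c) :=
        (toL k r).commutes c
      rw [RingHom.comp_apply, h1, fromL, LaurentPolynomial.eval₂_C]
      exact (fromP k r).commutes c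
    · refine Fin.cases ?_ (fun j => ?_) j
      · rw [RingHom.comp_apply]
        change fromL k r (toL k r (MvPolynomial.X 0)) = _
        rw [toL_zero, fromL, LaurentPolynomial.eval₂_T, zpow_one, x0_val]
      · rw [RingHom.comp_apply]
        change fromL k r (toL k r (MvPolynomial.X j.succ)) = _
        rw [toL_succ, fromL, map_mul, LaurentPolynomial.eval₂_T, LaurentPolynomial.eval₂_C]
        change fromP k r (MvPolynomial.X j) * _ = _
        rw [fromP, MvPolynomial.aeval_X, zpow_one, mul_assoc, Units.inv_mul, mul_one]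
  exact RingHom.congr_fun this a

lemma toL'_x0 : toL' k r (x0 k r : Sf k r) = T 1 := by
  rw [x0_val, toL'_algebraMap, toL_zero]

lemma toL'_x0_inv : toL' k r (((x0 k r)⁻¹ : (Sf k r)ˣ) : Sf k r) = T (-1) := by
  have h1 : toL' k r (x0 k r : Sf k r) * toL' k r (((x0 k r)⁻¹ : (Sf k r)ˣ) : Sf k r) = 1 := by
    rw [← map_mul, Units.mul_inv, map_one]
  rw [toL'_x0] at h1
  calc toL' k r (((x0 k r)⁻¹ : (Sf k r)ˣ) : Sf k r)
      = (T (-1) * T 1) * toL' k r (((x0 k r)⁻¹ : (Sf k r)ˣ) : Sf k r) := by
        rw [← T_add]; simp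
    _ = T (-1) := by rw [mul_assoc, h1, mul_one]

lemma toL'_fromL (z : (MvPolynomial (Fin r) k)[T;T⁻¹]) : toL' k r (fromL k r z) = z := by
  have : (toL' k r).comp (fromL k r) = RingHom.id _ := by
    refine IsLocalization.ringHom_ext (Submonoid.powers (Polynomial.X : Polynomial (MvPolynomial (Fin r) k))) ?_
    refine Polynomial.ringHom_ext (fun a => ?_) ?_
    · rw [RingHom.comp_apply, RingHom.comp_apply, RingHom.comp_apply, algebraMap_eq_toLaurent,
        Polynomial.toLaurent_C, fromL, LaurentPolynomial.eval₂_C, RingHom.id_apply]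
      have h2 : (toL' k r).comp (fromP k r).toRingHom = (C : MvPolynomial (Fin r) k →+* _) := by
        refine MvPolynomial.ringHom_ext (fun c => ?_) (fun j => ?_)
        · rw [RingHom.comp_apply]
          have h3 : (fromP k r).toRingHom (MvPolynomial.C c) = algebraMap _ (Sf k r)
            (MvPolynomial.C c : MvPolynomial (Fin (r + 1)) k) := (fromP k r).commutes c
          rw [h3, toL'_algebraMap]
          exact (toL k r).commutes c
        · rw [RingHom.comp_apply]
          change toL' k r (fromP k r (MvPolynomial.X j)) = _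
          rw [fromP, MvPolynomial.aeval_X, map_mul, toL'_algebraMap, toL_succ, toL'_x0_inv, mul_assoc,
            ← T_add]
          simp
      exact RingHom.congr_fun h2 a
    · rw [RingHom.comp_apply, RingHom.comp_apply, RingHom.comp_apply, algebraMap_eq_toLaurent,
        Polynomial.toLaurent_X, fromL, LaurentPolynomial.eval₂_T, RingHom.id_apply, zpow_one]
      exact toL'_x0 k r
  exact RingHom.congr_fun this z

/-- `k[y][T,T⁻¹]` is the localization of `k[x_0..x_r]` at `x_0`. -/
theorem isLocalization_toL :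
    @IsLocalization.Away _ _ (MvPolynomial.X 0 : MvPolynomial (Fin (r + 1)) k)
      ((MvPolynomial (Fin r) k)[T;T⁻¹]) _ (toL k r).toRingHom.toAlgebra := by
  let := (toL k r).toRingHom.toAlgebra
  let e : Sf k r ≃ₐ[MvPolynomial (Fin (r + 1)) k] (MvPolynomial (Fin r) k)[T;T⁻¹] :=
    AlgEquiv.ofRingEquiv (f := RingEquiv.ofRingHom (toL' k r) (fromL k r)
      (RingHom.ext (toL'_fromL k r)) (by
        refine IsLocalization.ringHom_ext (Submonoid.powers (MvPolynomial.X 0 : MvPolynomial (Fin (r + 1)) k)) ?_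
        refine RingHom.ext fun a => ?_
        rw [RingHom.comp_apply, RingHom.comp_apply, toL'_algebraMap, fromL_toL]
        rfl))
      (fun a => toL'_algebraMap k r a)
  exact IsLocalization.isLocalization_of_algEquiv (Submonoid.powers _) e

end Groth.Agent.Pi1C.ConeLoc
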