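import Groth.Agent.VarietyB.ProjGlue

/-!
# Morphisms of schemes with coordinate data

`exists_hom`: if `D` is coordinate data on `X` embedding `X` into projective space, `D'` coordinate data on `P` with
the same index set and `φ i : Γ(X, D.U i) → Γ(P, D'.U i)` are compatible with the dehomogenization maps, then there is a
unique `π : P ⟶ X` with `π⁻¹(D.U i) = D'.U i` inducing `φ i`.
-/

set_option autoImplicit false
universe u
open AlgebraicGeometry CategoryTheory HomogeneousLocalization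

namespace Groth.Agent.Pi1C.CoordFactor

open Groth.Agent.VarietyB.ProjGlue Groth.Agent.VarietyB.ProjHom

attribute [local instance] MvPolynomial.gradedAlgebra

/-- The morphism to an affine scheme given by a ring homomorphism. -/
noncomputable def liftAff {T Z : Scheme.{u}} [IsAffine Z] (φ : Γ(Z, ⊤) ⟶ Γ(T, ⊤)) : T ⟶ Z :=
  T.toSpecΓ ≫ Spec.map φ ≫ Z.isoSpec.inv

lemma liftAff_toSpecΓ {T Z : Scheme.{u}} [IsAffine Z] (φ : Γ(Z, ⊤) ⟶ Γ(T, ⊤)) :
    liftAff φ ≫ Z.toSpecΓ = T.toSpecΓ ≫ Spec.map φ := by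
  simp [liftAff]

lemma liftAff_appTop {T Z : Scheme.{u}} [IsAffine Z] (φ : Γ(Z, ⊤) ⟶ Γ(T, ⊤)) :
    (liftAff φ).appTop = φ := by
  have h1 : Z.isoSpec.inv.appTop ≫ Z.isoSpec.hom.appTop = 𝟙 _ := by
    rw [← Scheme.Hom.comp_appTop, Iso.hom_inv_id, Scheme.Hom.id_appTop]
  have h2 : Z.isoSpec.hom.appTop = (Scheme.ΓSpecIso Γ(Z, ⊤)).hom := by
    rw [Scheme.isoSpec_hom, Scheme.toSpecΓ_appTop]
  rw [h2] at h1
  have h3 : (liftAff φ).appTop = Z.isoSpec.inv.appTop ≫ (Spec.map φ).appTop ≫ T.toSpecΓ.appTop := by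
    rw [liftAff, Scheme.Hom.comp_appTop, Scheme.Hom.comp_appTop, Category.assoc]
  rw [h3, Scheme.toSpecΓ_appTop, Scheme.ΓSpecIso_naturality, reassoc_of% h1]

variable {X P : Scheme.{u}} {I : Type} {R : Type u} [CommRing R]
  (D : CoordData X I) (D' : CoordData P I)
  (p : X ⟶ Spec (CommRingCat.of R)) (p' : P ⟶ Spec (CommRingCat.of R))
  (hU : ∀ i, IsAffineOpen (D.U i))
  (φ : ∀ i, Γ(X, D.U i) →+* Γ(P, D'.U i))
  (hφ : ∀ i, (φ i).comp (D.hom p i) = D'.hom p' i)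

/-- The ring homomorphism on global sections of the charts. -/
noncomputable def φTop (i : I) : Γ((D.U i).toScheme, ⊤) ⟶ Γ((D'.U i).toScheme, ⊤) :=
  (D.U i).topIso.hom ≫ CommRingCat.ofHom (φ i) ≫ (D'.U i).topIso.inv

lemma topIso_inv_comp_φTop (i : I) : (D.U i).topIso.inv ≫ φTop D D' φ i =
    CommRingCat.ofHom (φ i) ≫ (D'.U i).topIso.inv := by
  rw [φTop, Iso.inv_hom_id_assoc]

include hU hφ in
/-- Existence of the morphism. -/
theorem exists_hom (hmono : Mono (D.toProjSpace p)) :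
    ∃ π : P ⟶ X, (∀ i, ∃ g : (D'.U i).toScheme ⟶ (D.U i).toScheme,
      (D'.U i).ι ≫ π = g ≫ (D.U i).ι ∧ g.appTop = φTop D D' φ i) ∧
      π ≫ D.toProjSpace p = D'.toProjSpace p' := by
  have haff : ∀ i, IsAffine (D.U i).toScheme := hU
  let g : ∀ i, (D'.U i).toScheme ⟶ (D.U i).toScheme := fun i => liftAff (φTop D D' φ i)
  have hg : ∀ i, g i ≫ (D.U i).ι ≫ D.toProjSpace p = D'.localHom p' i := by
    intro i
    rw [D.ι_toProjSpace]
    rw [CoordData.localHom, CoordData.localHom, comp_toProj]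
    congr 1
    rw [liftAff_appTop, CoordData.homTop, CoordData.homTop, ← hφ i, ← RingHom.comp_assoc,
      ← RingHom.comp_assoc]
    congr 1
    have := topIso_inv_comp_φTop D D' φ i
    exact congrArg CommRingCat.Hom.hom this
  obtain ⟨π, hπ⟩ := exists_glue_opens D'.U D'.iSup_U (fun i => g i ≫ (D.U i).ι) (by
    intro i j
    rw [← cancel_mono (D.toProjSpace p)]
    simp only [Category.assoc]
    rw [hg, hg]
    exact D'.compat p' i j)
  refine ⟨π, fun i => ⟨g i, hπ i, liftAff_appTop _⟩, ?_⟩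
  refine hom_ext_opens D'.U D'.iSup_U _ _ fun i => ?_
  rw [← Category.assoc, hπ, Category.assoc, hg, D'.ι_toProjSpace]

section Consequences

variable (π : P ⟶ X) (hπ : ∀ i, ∃ g : (D'.U i).toScheme ⟶ (D.U i).toScheme,
      (D'.U i).ι ≫ π = g ≫ (D.U i).ι ∧ g.appTop = φTop D D' φ i)

include hπ in
lemma le_preimage (i : I) : D'.U i ≤ π ⁻¹ᵁ (D.U i) := by
  obtain ⟨g, hg, -⟩ := hπ i
  intro x hx
  have h1 : π x = (D.U i).ι (g ⟨x, hx⟩) := by
    have := congrArg (fun q : (D'.U i).toScheme ⟶ X => q ⟨x, hx⟩) hg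
    exact this
  change π x ∈ D.U i
  rw [h1]
  exact (g ⟨x, hx⟩).2

include hπ in
/-- the morphism induces `φ i`. -/
lemma appLE_eq (i : I) : π.appLE (D.U i) (D'.U i) (le_preimage D D' φ π hπ i) =
    CommRingCat.ofHom (φ i) := by
  obtain ⟨g, hg, hg'⟩ := hπ i
  have e0 := le_preimage D D' φ π hπ i
  have e1 : (⊤ : (D'.U i).toScheme.Opens) ≤ ((D'.U i).ι ≫ π) ⁻¹ᵁ (D.U i) := fun x _ => e0 x.2
  have hι' : ∀ {Z : Scheme.{u}} (V : Z.Opens) (e : (⊤ : V.toScheme.Opens) ≤ V.ι ⁻¹ᵁ V),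
      V.ι.appLE V ⊤ e = V.topIso.inv := by
    intro Z V e
    rw [Scheme.Opens.ι_appLE]
    rfl
  have a1 : π.appLE (D.U i) (D'.U i) e0 ≫ (D'.U i).topIso.inv =
      ((D'.U i).ι ≫ π).appLE (D.U i) ⊤ e1 := by
    rw [← hι' (D'.U i) (fun x _ => x.2)]
    exact Scheme.Hom.appLE_comp_appLE _ _ _ _ _ _ _
  have e2 : (⊤ : (D'.U i).toScheme.Opens) ≤ (g ≫ (D.U i).ι) ⁻¹ᵁ (D.U i) := by rw [← hg]; exact e1
  have a2 : CommRingCat.ofHom (φ i) ≫ (D'.U i).topIso.inv = (g ≫ (D.U i).ι).appLE (D.U i) ⊤ e2 := by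
    have h2 := Scheme.Hom.appLE_comp_appLE g (D.U i).ι (D.U i) ⊤ ⊤ (fun x _ => x.2) le_top
    rw [hι' (D.U i)] at h2
    have h3 : g.appLE ⊤ ⊤ le_top = g.appTop := (Scheme.Hom.app_eq_appLE (f := g) (U := ⊤)).symm
    rw [← topIso_inv_comp_φTop D D' φ i, ← hg', ← h3]
    exact h2
  have a3 : ((D'.U i).ι ≫ π).appLE (D.U i) ⊤ e1 = (g ≫ (D.U i).ι).appLE (D.U i) ⊤ e2 := by
    simp only [hg]
  exact (cancel_mono (D'.U i).topIso.inv).mp (a1.trans (a3.trans a2.symm))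

include hπ in
/-- The preimage of a chart is the chart. -/
lemma preimage_eq (hb : ∀ i j, X.basicOpen (D.f i j) = D.U i ⊓ D.U j)
    (hb' : ∀ i j, P.basicOpen (D'.f i j) = D'.U i ⊓ D'.U j)
    (hf : ∀ i j, φ i (D.f i j) = D'.f i j) (i : I) : π ⁻¹ᵁ (D.U i) = D'.U i := by
  have h1 : ∀ V : P.Opens, V = ⨆ j, D'.U j ⊓ V := by
    intro V
    rw [← iSup_inf_eq, D'.iSup_U, top_inf_eq]
  rw [h1 (D'.U i), h1 (π ⁻¹ᵁ (D.U i))]
  congr 1
  funext j
  rw [← hb', ← hf j i]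
  have h2 := Scheme.basicOpen_appLE π (D'.U j) (D.U j) (le_preimage D D' φ π hπ j) (D.f j i)
  rw [appLE_eq D D' φ π hπ j] at h2
  change P.basicOpen (φ j (D.f j i)) = _ at h2
  rw [h2, hb, Scheme.Hom.preimage_inf, ← inf_assoc, inf_eq_left.mpr (le_preimage D D' φ π hπ j)]

end Consequences

end Groth.Agent.Pi1C.CoordFactor
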