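import Groth.Agent.Pi1C.TwistSec
import Mathlib.AlgebraicGeometry.Morphisms.Affine

/-!
# Pulling back coordinate data

`pull D g` for `g : P ⟶ X` has opens `g ⁻¹ᵁ D.U i` and ratios `g.app _ (D.f i j)`.
-/

set_option autoImplicit false
universe u
open AlgebraicGeometry CategoryTheory
open Groth.Agent.VarietyB.ProjGlue

namespace Groth.Agent.Pi1C.TwistSec

variable {X : Scheme.{u}} {I : Type} (D : CoordData X I)

theorem app_res {P X : Scheme.{u}} (g : P ⟶ X) {V W : X.Opens} (h : V ≤ W) (e : Γ(X, W)) :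
    g.app V (res h e) = res (show g ⁻¹ᵁ V ≤ g ⁻¹ᵁ W from fun _ hx => h hx) (g.app W e) := by
  change (X.presheaf.map _ ≫ g.app V).hom e = (g.app W ≫ P.presheaf.map _).hom e
  rw [Scheme.Hom.naturality]
  rfl

/-- The pulled back coordinate data. -/
noncomputable def pull {P : Scheme.{u}} (g : P ⟶ X) : CoordData P I where
  U i := g ⁻¹ᵁ D.U i
  iSup_U := by
    rw [← Scheme.Hom.preimage_iSup, D.iSup_U]; rfl
  f i j := g.app (D.U i) (D.f i j)
  f_self i := by rw [D.f_self, map_one]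
  f_mul i j l := by
    have h := congrArg (g.app (D.U i ⊓ D.U j)) (D.f_mul i j l)
    rw [map_mul] at h
    have h1 := app_res g (inf_le_left : D.U i ⊓ D.U j ≤ D.U i) (D.f i l)
    have h2 := app_res g (inf_le_left : D.U i ⊓ D.U j ≤ D.U i) (D.f i j)
    have h3 := app_res g (inf_le_right : D.U i ⊓ D.U j ≤ D.U j) (D.f j l)
    change g.app _ (res _ _) = g.app _ (res _ _) * g.app _ (res _ _) at h
    rw [h1, h2, h3] at h
    exact h

theorem pull_U {P : Scheme.{u}} (g : P ⟶ X) (i : I) : (pull D g).U i = g ⁻¹ᵁ D.U i := rfl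

theorem pull_f {P : Scheme.{u}} (g : P ⟶ X) (i j : I) :
    (pull D g).f i j = g.app (D.U i) (D.f i j) := rfl

theorem pull_isAffineOpen {P : Scheme.{u}} (g : P ⟶ X) [IsAffineHom g]
    (hU : ∀ i, IsAffineOpen (D.U i)) (i : I) : IsAffineOpen ((pull D g).U i) :=
  (hU i).preimage g

theorem pull_basicOpen {P : Scheme.{u}} (g : P ⟶ X)
    (hb : ∀ i j, X.basicOpen (D.f i j) = D.U i ⊓ D.U j) (i j : I) :
    P.basicOpen ((pull D g).f i j) = (pull D g).U i ⊓ (pull D g).U j :=
  (Scheme.preimage_basicOpen g (D.f i j)).symm.trans (congrArg (fun W => g ⁻¹ᵁ W) (hb i j))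

theorem resL_eq_res (i j : I) (e : Γ(X, D.U i)) : resL D i j e = res inf_le_left e := rfl

theorem resR_eq_res (i j : I) (e : Γ(X, D.U j)) : resR D i j e = res inf_le_right e := rfl

/-- Sections on charts of the pulled back data. -/
noncomputable def appU {P : Scheme.{u}} (g : P ⟶ X) (i : I) :
    Γ(X, D.U i) →+* Γ(P, (pull D g).U i) := (g.app (D.U i)).hom

/-- Sections on overlaps of the pulled back data. -/
noncomputable def appUU {P : Scheme.{u}} (g : P ⟶ X) (i j : I) :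
    Γ(X, D.U i ⊓ D.U j) →+* Γ(P, (pull D g).U i ⊓ (pull D g).U j) := (g.app (D.U i ⊓ D.U j)).hom

theorem appUU_resL {P : Scheme.{u}} (g : P ⟶ X) (i j : I) (e : Γ(X, D.U i)) :
    appUU D g i j (resL D i j e) = resL (pull D g) i j (appU D g i e) := app_res g _ e

theorem appUU_resR {P : Scheme.{u}} (g : P ⟶ X) (i j : I) (e : Γ(X, D.U j)) :
    appUU D g i j (resR D i j e) = resR (pull D g) i j (appU D g j e) := app_res g _ e

theorem appUU_u {P : Scheme.{u}} (g : P ⟶ X) (i j : I) :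
    Units.map (appUU D g i j).toMonoidHom (u D i j) = u (pull D g) i j := by
  ext
  change appUU D g i j (u D i j) = _
  rw [u_val, u_val, appUU_resL]
  rfl

theorem appUU_u_zpow {P : Scheme.{u}} (g : P ⟶ X) (i j : I) (a : ℤ) :
    appUU D g i j ((u D i j ^ a : Γ(X, D.U i ⊓ D.U j)ˣ) : Γ(X, D.U i ⊓ D.U j)) =
      ((u (pull D g) i j ^ a : Γ(P, (pull D g).U i ⊓ (pull D g).U j)ˣ) :
        Γ(P, (pull D g).U i ⊓ (pull D g).U j)) := by
  rw [← appUU_u, ← map_zpow]
  rfl

theorem appU_mem_Sec {P : Scheme.{u}} (g : P ⟶ X) {a : ℤ} {e : ∀ i, Γ(X, D.U i)}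
    (h : e ∈ Sec D a) : (fun i => appU D g i (e i)) ∈ Sec (pull D g) a := by
  intro i j
  have := congrArg (appUU D g i j) (h i j)
  rw [map_mul, appUU_resL, appUU_resR, appUU_u_zpow] at this
  exact this

end Groth.Agent.Pi1C.TwistSec
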