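import Mathlib.RingTheory.Finiteness.Descent
import Mathlib.RingTheory.Flat.FaithfullyFlat.Algebra
import Mathlib.RingTheory.AdicCompletion.AsTensorProduct
import Mathlib.RingTheory.AdicCompletion.LocalRing

/-!
# Descent of submodules along `A → A'` with `A/I^k → A'/I^k A'` surjective (dense image)

Let `A → A'` be a ring map, `I` an ideal of `A` such that `A' = A + I^k A'` for all `k`.
If `M''` is an `A'`-submodule of `A' ⊗ N` such that every `1 ⊗ n` is multiplied into `M''` by some power of `I`,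
then `M''` is generated by the elements `1 ⊗ n` it contains.
-/

set_option autoImplicit false

open TensorProduct

namespace Groth.Agent.Pi1C.DenseDescent

universe u v w

/-- `A → A'` has dense image for the `I`-adic topology: `A' = A + I^k A'` for every `k`. -/
def Dense {A : Type u} [CommRing A] (I : Ideal A) (A' : Type v) [CommRing A'] [Algebra A A'] : Prop :=
  ∀ (k : ℕ) (x : A'), ∃ a : A, x - algebraMap A A' a ∈ (I ^ k).map (algebraMap A A')

variable {A : Type u} [CommRing A]

theorem dense_adicCompletion (I : Ideal A) (hI : I.FG) :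
    Dense I (AdicCompletion I A) := by
  intro k x
  obtain ⟨a, ha⟩ := Ideal.Quotient.mk_surjective (AdicCompletion.evalₐ I k x)
  refine ⟨a, ?_⟩
  have h1 := AdicCompletion.pow_smul_top_eq_ker_eval (I := I) (M := A) (n := k) hI
  have h2 : x - algebraMap A (AdicCompletion I A) a ∈ I ^ k • (⊤ : Submodule A (AdicCompletion I A)) := by
    rw [h1, LinearMap.mem_ker]
    have h3 : AdicCompletion.evalₐ I k (x - algebraMap A (AdicCompletion I A) a) = 0 := by
      rw [map_sub, ← ha, AlgHom.commutes]
      simp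
    rw [← AdicCompletion.factor_evalₐ_eq_eval (h := by simp)]
    rw [h3, map_zero]
  rw [Ideal.smul_top_eq_map] at h2
  exact h2

variable {A' : Type v} [CommRing A'] [Algebra A A']

/-- Elements of a submodule `M''` of `A' ⊗ N` such that the quotient is (on the image of `N`) `I`-power torsion
are `A'`-combinations of elements `1 ⊗ n ∈ M''`. -/
theorem mem_span_of_dense {I : Ideal A} (hd : Dense I A')
    {N : Type w} [AddCommGroup N] [Module A N] (M : Submodule A' (A' ⊗[A] N))
    (hM : ∀ n : N, ∃ k : ℕ, ∀ a ∈ I ^ k, (1 : A') ⊗ₜ[A] (a • n) ∈ M) (t : A' ⊗[A] N) (ht : t ∈ M) :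
    t ∈ Submodule.span A' ((fun n : N => (1 : A') ⊗ₜ[A] n) '' {n | (1 : A') ⊗ₜ[A] n ∈ M}) := by
  set S := Submodule.span A' ((fun n : N => (1 : A') ⊗ₜ[A] n) '' {n | (1 : A') ⊗ₜ[A] n ∈ M}) with hS
  have key : ∀ t : A' ⊗[A] N, ∃ n : N, t - (1 : A') ⊗ₜ[A] n ∈ S := by
    intro t
    induction t with
    | zero => exact ⟨0, by simp⟩
    | tmul x n =>
      obtain ⟨k, hk⟩ := hM n
      obtain ⟨a, ha⟩ := hd k x
      refine ⟨a • n, ?_⟩
      have h1 : x ⊗ₜ[A] n - (1 : A') ⊗ₜ[A] (a • n) = (x - algebraMap A A' a) ⊗ₜ[A] n := by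
        rw [TensorProduct.sub_tmul, Algebra.algebraMap_eq_smul_one, TensorProduct.smul_tmul]
      rw [h1]
      have h2 : ∀ y ∈ (I ^ k).map (algebraMap A A'), y ⊗ₜ[A] n ∈ S := by
        intro y hy
        refine Submodule.span_induction ?_ ?_ ?_ ?_ hy
        · rintro _ ⟨b, hb, rfl⟩
          rw [Algebra.algebraMap_eq_smul_one, TensorProduct.smul_tmul]
          exact Submodule.subset_span ⟨b • n, hk b hb, rfl⟩
        · simp
        · intro x y _ _ hx hy
          rw [TensorProduct.add_tmul]
          exact add_mem hx hy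
        · intro c y _ hy
          have : (c • y) ⊗ₜ[A] n = c • (y ⊗ₜ[A] n) := by
            rw [TensorProduct.smul_tmul']
          rw [this]
          exact S.smul_mem c hy
      exact h2 _ ha
    | add x y hx hy =>
      obtain ⟨n, hn⟩ := hx
      obtain ⟨n', hn'⟩ := hy
      refine ⟨n + n', ?_⟩
      have : x + y - (1 : A') ⊗ₜ[A] (n + n') = (x - (1 : A') ⊗ₜ[A] n) + (y - (1 : A') ⊗ₜ[A] n') := by
        rw [TensorProduct.tmul_add]; abel
      rw [this]
      exact add_mem hn hn'
  obtain ⟨n, hn⟩ := key t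
  have hSM : S ≤ M := by
    rw [hS, Submodule.span_le]
    rintro _ ⟨n, hn, rfl⟩
    exact hn
  have h3 : (1 : A') ⊗ₜ[A] n ∈ M := by
    have := M.sub_mem ht (hSM hn)
    simpa using this
  have h4 : (1 : A') ⊗ₜ[A] n ∈ S := Submodule.subset_span ⟨n, h3, rfl⟩
  have := S.add_mem hn h4
  simpa using this

/-- The preimage in `N` of a submodule of `A' ⊗ N`. -/
def pre {N : Type w} [AddCommGroup N] [Module A N] (M : Submodule A' (A' ⊗[A] N)) : Submodule A N :=
  (M.restrictScalars A).comap (TensorProduct.mk A A' N 1)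

@[simp] theorem mem_pre {N : Type w} [AddCommGroup N] [Module A N] (M : Submodule A' (A' ⊗[A] N)) (n : N) :
    n ∈ pre M ↔ (1 : A') ⊗ₜ[A] n ∈ M := Iff.rfl

/-- `A' ⊗ pre M → A' ⊗ N` has image exactly `M`. -/
theorem range_baseChange_pre {I : Ideal A} (hd : Dense I A')
    {N : Type w} [AddCommGroup N] [Module A N] (M : Submodule A' (A' ⊗[A] N))
    (hM : ∀ n : N, ∃ k : ℕ, ∀ a ∈ I ^ k, (1 : A') ⊗ₜ[A] (a • n) ∈ M) :
    LinearMap.range ((pre M).subtype.baseChange A') = M := by
  apply le_antisymm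
  · rintro _ ⟨t, rfl⟩
    induction t with
    | zero => simp
    | tmul x n =>
      rw [LinearMap.baseChange_tmul]
      have : x ⊗ₜ[A] ((pre M).subtype n) = x • ((1 : A') ⊗ₜ[A] ((pre M).subtype n)) := by
        rw [TensorProduct.smul_tmul', smul_eq_mul, mul_one]
      rw [this]
      exact M.smul_mem _ n.2
    | add x y hx hy => rw [map_add]; exact M.add_mem hx hy
  · intro t ht
    have := mem_span_of_dense hd M hM t ht
    refine Submodule.span_le.2 ?_ this
    rintro _ ⟨n, hn, rfl⟩
    exact ⟨(1 : A') ⊗ₜ[A] (⟨n, hn⟩ : pre M), by simp⟩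

/-- If moreover `A → A'` is faithfully flat and `M` is finite over `A'` then its preimage in `N` is finite over `A`. -/
theorem finite_pre [Module.FaithfullyFlat A A'] {I : Ideal A} (hd : Dense I A')
    {N : Type w} [AddCommGroup N] [Module A N] (M : Submodule A' (A' ⊗[A] N))
    (hM : ∀ n : N, ∃ k : ℕ, ∀ a ∈ I ^ k, (1 : A') ⊗ₜ[A] (a • n) ∈ M) (hfin : M.FG) :
    Module.Finite A (pre M) := by
  have hinj : Function.Injective ((pre M).subtype.baseChange A') := by
    have := Module.Flat.lTensor_preserves_injective_linearMap (M := A') (pre M).subtype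
      (Submodule.injective_subtype _)
    exact this
  have e : A' ⊗[A] (pre M) ≃ₗ[A'] M :=
    (LinearEquiv.ofInjective _ hinj).trans (LinearEquiv.ofEq _ _ (range_baseChange_pre hd M hM))
  have : Module.Finite A' M := Module.Finite.iff_fg.2 hfin
  have : Module.Finite A' (A' ⊗[A] (pre M)) := Module.Finite.equiv e.symm
  exact Module.Finite.of_finite_tensorProduct_of_faithfullyFlat A'

/-- If `A → A'` is faithfully flat then `1 ⊗ n` lies in the `A'`-span of `1 ⊗ M₀` only if `n ∈ M₀`. -/
theorem mem_of_one_tmul_mem_range [Module.FaithfullyFlat A A'] {N : Type w} [AddCommGroup N] [Module A N]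
    (M₀ : Submodule A N) (n : N)
    (h : (1 : A') ⊗ₜ[A] n ∈ LinearMap.range (M₀.subtype.baseChange A')) : n ∈ M₀ := by
  have h1 : (M₀.mkQ.baseChange A') ((1 : A') ⊗ₜ[A] n) = 0 := by
    obtain ⟨t, ht⟩ := h
    rw [← ht, ← LinearMap.comp_apply, ← LinearMap.baseChange_comp]
    have : M₀.mkQ ∘ₗ M₀.subtype = 0 := by ext; simp
    rw [this]; simp
  rw [LinearMap.baseChange_tmul] at h1
  have h2 := Module.FaithfullyFlat.tensorProduct_mk_injective (A := A) (B := A') (N ⧸ M₀)
  have h3 : M₀.mkQ n = 0 := h2 (by simpa using h1)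
  simpa using h3

end Groth.Agent.Pi1C.DenseDescent
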