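import Groth.Prelude.Def_Wider
import Mathlib.Algebra.Homology.DerivedCategory.KProjective
import Mathlib.Algebra.Homology.Refinements
import Mathlib.Algebra.Homology.HomotopyCategory.HomComplexSingle
import Mathlib.Algebra.Category.ModuleCat.Projective
import Mathlib.Algebra.Homology.ShortComplex.Linear

set_option autoImplicit false
universe u
attribute [local instance] HasDerivedCategory.standard

open CategoryTheory

namespace Groth.Agent.Pi1C.HomFin

variable {A : Type u} [CommRing A]

/-- the homology functors on the derived category are linear -/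
theorem homologyFunctor_linear (n : ℤ) :
    (DerivedCategory.homologyFunctor (ModuleCat.{u} A) n).Linear A := by
  have h0 : (HomologicalComplex.homologyFunctor (ModuleCat.{u} A) (ComplexShape.up ℤ) n).Linear A := by
    constructor
    intro X Y f r
    have h1 : (HomologicalComplex.shortComplexFunctor (ModuleCat.{u} A) (ComplexShape.up ℤ) n).map (r • f)
      = r • (HomologicalComplex.shortComplexFunctor (ModuleCat.{u} A) (ComplexShape.up ℤ) n).map f := rfl
    have h2 : (HomologicalComplex.homologyFunctor (ModuleCat.{u} A) (ComplexShape.up ℤ) n).map (r • f)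
      = ShortComplex.homologyMap ((HomologicalComplex.shortComplexFunctor (ModuleCat.{u} A)
        (ComplexShape.up ℤ) n).map (r • f)) := rfl
    rw [h2, h1, ShortComplex.homologyMap_smul]
    rfl
  have : Localization.Lifting DerivedCategory.Q
      (HomologicalComplex.quasiIso (ModuleCat.{u} A) (ComplexShape.up ℤ))
      (HomologicalComplex.homologyFunctor (ModuleCat.{u} A) (ComplexShape.up ℤ) n)
      (DerivedCategory.homologyFunctor (ModuleCat.{u} A) n) :=
    ⟨DerivedCategory.homologyFunctorFactors _ n⟩
  exact (Localization.functor_linear_iff DerivedCategory.Q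
    (HomologicalComplex.quasiIso (ModuleCat.{u} A) (ComplexShape.up ℤ)) A _ _).1 h0

theorem isKProjective_single (P : ModuleCat.{u} A) [Projective P] :
    CochainComplex.IsKProjective ((CochainComplex.singleFunctor (ModuleCat.{u} A) 0).obj P) := by
  have : ∀ n : ℤ, Projective (((CochainComplex.singleFunctor (ModuleCat.{u} A) 0).obj P).X n) := by
    intro n
    by_cases hn : n = 0
    · subst hn
      exact Projective.of_iso (HomologicalComplex.singleObjXSelf (ComplexShape.up ℤ) 0 P).symm ‹_›
    · have := HomologicalComplex.isZero_single_obj_X (ComplexShape.up ℤ) 0 P n hn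
      exact this.projective
  exact CochainComplex.isKProjective_of_projective _ 0

set_option backward.isDefEq.respectTransparency false in
/-- a chain map out of a projective in degree `0` which vanishes on `H^0` is null-homotopic. -/
theorem homotopy_zero (P : ModuleCat.{u} A) [Projective P] (K : CochainComplex (ModuleCat.{u} A) ℤ)
    (f : (CochainComplex.singleFunctor (ModuleCat.{u} A) 0).obj P ⟶ K)
    (h : HomologicalComplex.homologyMap f 0 = 0) : Nonempty (Homotopy f 0) := by
  let e : ((CochainComplex.singleFunctor (ModuleCat.{u} A) 0).obj P).X 0 ≅ P :=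
    HomologicalComplex.singleObjXSelf (ComplexShape.up ℤ) 0 P
  have hd : ((CochainComplex.singleFunctor (ModuleCat.{u} A) 0).obj P).d 0 1 = 0 := by
    apply HomologicalComplex.single_obj_d
  have hcyc0 : e.inv ≫ ((CochainComplex.singleFunctor (ModuleCat.{u} A) 0).obj P).d 0 1 = 0 := by
    rw [hd, Limits.comp_zero]
  have hcyc : (e.inv ≫ f.f 0) ≫ K.d 0 1 = 0 := by
    rw [Category.assoc, f.comm, ← Category.assoc, hcyc0, Limits.zero_comp]
  have h1 : K.liftCycles (e.inv ≫ f.f 0) 1 (by simp) hcyc ≫ K.homologyπ 0 = 0 := by
    have : K.liftCycles (e.inv ≫ f.f 0) 1 (by simp) hcyc =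
        ((CochainComplex.singleFunctor (ModuleCat.{u} A) 0).obj P).liftCycles e.inv 1 (by simp)
          hcyc0 ≫ HomologicalComplex.cyclesMap f 0 := by
      rw [← cancel_mono (K.iCycles 0)]
      rw [HomologicalComplex.liftCycles_i, Category.assoc, HomologicalComplex.cyclesMap_i,
        HomologicalComplex.liftCycles_i_assoc]
    rw [this, Category.assoc, ← HomologicalComplex.homologyπ_naturality, h]
    simp
  rw [HomologicalComplex.liftCycles_comp_homologyπ_eq_zero_iff_up_to_refinements _ (-1) 0 1 (by simp)
    (by simp) _ hcyc] at h1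
  obtain ⟨B, π, hπ, y, hy⟩ := h1
  let s := Projective.factorThru (𝟙 P) π
  have hs : s ≫ π = 𝟙 P := Projective.factorThru_comp _ _
  have hy' : e.inv ≫ f.f 0 = (s ≫ y) ≫ K.d (-1) 0 := by
    rw [Category.assoc, ← hy, ← Category.assoc, hs, Category.id_comp]
  refine ⟨(CochainComplex.HomComplex.Cochain.equivHomotopy f 0).symm
    ⟨CochainComplex.HomComplex.Cochain.fromSingleMk (s ≫ y) (by simp : (0 : ℤ) + (-1) = -1), ?_⟩⟩
  rw [CochainComplex.HomComplex.Cochain.δ_fromSingleMk _ _ 0 0 (by simp), ← hy']
  simp only [CochainComplex.HomComplex.Cochain.ofHom_zero, add_zero]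
  apply (CochainComplex.HomComplex.Cochain.fromSingleEquiv (by simp : (0 : ℤ) + 0 = 0)).injective
  simp [CochainComplex.HomComplex.Cochain.fromSingleEquiv, e]

theorem eq_zero_aux (P : ModuleCat.{u} A) [Projective P] (X : Dual.D A)
    (f : DerivedCategory.Q.obj ((CochainComplex.singleFunctor (ModuleCat.{u} A) 0).obj P) ⟶ X)
    (h : (DerivedCategory.homologyFunctor (ModuleCat.{u} A) 0).map f = 0) : f = 0 := by
  obtain ⟨K, ⟨e⟩⟩ := (inferInstance : (DerivedCategory.Q (C := ModuleCat.{u} A)).EssSurj).mem_essImage X
  have := isKProjective_single P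
  generalize hS : (CochainComplex.singleFunctor (ModuleCat.{u} A) 0).obj P = S at f h this
  let q := DerivedCategory.quotientCompQhIso (ModuleCat.{u} A)
  let f1 : DerivedCategory.Q.obj S ⟶ DerivedCategory.Q.obj K := f ≫ e.inv
  obtain ⟨g, hg⟩ := (CochainComplex.IsKProjective.Qh_map_bijective S
    ((HomotopyCategory.quotient _ _).obj K)).surjective (q.hom.app S ≫ f1 ≫ q.inv.app K)
  obtain ⟨g, rfl⟩ := (HomotopyCategory.quotient _ _).map_surjective g
  have hf1 : f1 = DerivedCategory.Q.map g := by
    have := DerivedCategory.quotientCompQhIso_hom_naturality g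
    rw [hg] at this
    simp only [Category.assoc, q, Iso.inv_hom_id_app, Category.comp_id] at this
    exact (cancel_epi _).1 this
  have h1 : (DerivedCategory.homologyFunctor (ModuleCat.{u} A) 0).map (DerivedCategory.Q.map g) = 0 := by
    rw [← hf1]
    simp only [f1, Functor.map_comp, h, Limits.zero_comp]
  have h2 : HomologicalComplex.homologyMap g 0 = 0 := by
    have := DerivedCategory.homologyFunctorFactors_hom_naturality g 0
    rw [h1, Limits.zero_comp] at this
    exact (cancel_epi ((DerivedCategory.homologyFunctorFactors (ModuleCat.{u} A) 0).hom.app S)).1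
      (this.symm.trans Limits.comp_zero.symm)
  subst hS
  obtain ⟨hg0⟩ := homotopy_zero P K g h2
  have h3 : DerivedCategory.Q.map g = 0 := by
    have h4 : (HomotopyCategory.quotient _ _).map g = 0 := by
      rw [HomotopyCategory.eq_of_homotopy g 0 hg0, Functor.map_zero]
    have := DerivedCategory.quotientCompQhIso_hom_naturality g
    rw [h4, Functor.map_zero, Limits.zero_comp] at this
    exact (cancel_epi ((DerivedCategory.quotientCompQhIso (ModuleCat.{u} A)).hom.app _)).1
      (this.symm.trans Limits.comp_zero.symm)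
  have h5 : f1 = 0 := by rw [hf1, h3]
  have h6 : f = f1 ≫ e.hom := by simp [f1]
  rw [h6, h5, Limits.zero_comp]

/-- A map `P[0] ⟶ X` in the derived category, `P` projective, is zero as soon as it is zero on `H^0`. -/
theorem eq_zero_of_homology_zero (P : ModuleCat.{u} A) [Projective P] (X : Dual.D A)
    (f : (DerivedCategory.singleFunctor (ModuleCat.{u} A) 0).obj P ⟶ X)
    (h : (DerivedCategory.homologyFunctor (ModuleCat.{u} A) 0).map f = 0) : f = 0 :=
  eq_zero_aux P X f h

theorem finite_hom_self [IsNoetherianRing A] (X : Dual.D A) (h : Module.Finite A (Dual.HD A X 0)) :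
    Module.Finite A (Dual.inD A A ⟶ X) := by
  have hlin := homologyFunctor_linear (A := A) 0
  let H := DerivedCategory.homologyFunctor (ModuleCat.{u} A) 0
  let φ : (Dual.inD A A ⟶ X) →ₗ[A] (H.obj (Dual.inD A A) ⟶ H.obj X) := H.mapLinearMap A
  have hφ : Function.Injective φ := by
    rw [injective_iff_map_eq_zero]
    intro f hf
    have : Projective (ModuleCat.of A A) := inferInstance
    exact eq_zero_of_homology_zero (ModuleCat.of A A) X f hf
  let e : H.obj (Dual.inD A A) ≅ ModuleCat.of A A := by
    exact (DerivedCategory.homologyFunctorFactors (ModuleCat.{u} A) 0).app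
      ((CochainComplex.singleFunctor (ModuleCat.{u} A) 0).obj (ModuleCat.of A A)) ≪≫
      HomologicalComplex.singleObjHomologySelfIso (ComplexShape.up ℤ) 0 (ModuleCat.of A A)
  let ψ : (H.obj (Dual.inD A A) ⟶ H.obj X) ≃ₗ[A] (A →ₗ[A] H.obj X) :=
    (Linear.homCongr A e (Iso.refl _)).trans (ModuleCat.homLinearEquiv (S := A))
  have : Module.Finite A (A →ₗ[A] H.obj X) := by
    have : Module.Finite A (H.obj X) := h
    exact Module.Finite.equiv (LinearMap.ringLmapEquivSelf A A (H.obj X)).symm
  have : IsNoetherian A (A →ₗ[A] H.obj X) := isNoetherian_of_isNoetherianRing_of_finite _ _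
  exact Module.Finite.of_injective (ψ.toLinearMap ∘ₗ φ) (ψ.injective.comp hφ)

end Groth.Agent.Pi1C.HomFin
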