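import Groth.Prelude.Def_Wider
import Groth.Agent.S0364
import Groth.Agent.S1712
import Groth.Agent.S1713
import Groth.Agent.S1722
import Groth.Agent.Pi1C.DimFun
import Groth.Agent.Pi1C.HomFin
import Mathlib.RingTheory.Support
import Mathlib.RingTheory.Ideal.Quotient.Basic

set_option autoImplicit false
universe u
attribute [local instance] HasDerivedCategory.standard

open CategoryTheory

namespace Groth.Agent.Pi1C.DualTorsion

section Shift

variable {A : Type u} [CommRing A]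

/-- Hom(X, ω⟦n⟧⟦i⟧) = Hom(X, ω⟦n+i⟧), linearly. -/
noncomputable def homShiftEquiv (X ω : Dual.D A) (n i j : ℤ) (h : n + i = j) :
    (X ⟶ (ω⟦n⟧)⟦i⟧) ≃ₗ[A] (X ⟶ ω⟦j⟧) :=
  Linear.homCongr A (Iso.refl X) ((shiftFunctorAdd' (Dual.D A) n i j h).symm.app ω)

/-- cohomology of a shift -/
noncomputable def HDShiftEquiv (ω : Dual.D A) (n i j : ℤ) (h : n + i = j) :
    Dual.HD A (ω⟦n⟧) i ≃ₗ[A] Dual.HD A ω j :=
  (((DerivedCategory.homologyFunctor (ModuleCat.{u} A) 0).shiftIso n i j h).app ω).toLinearEquiv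

theorem subsingleton_hom_shift {ω : Dual.D A} (h : ∀ i : ℤ, i ≠ 0 → Subsingleton (ω ⟶ ω⟦i⟧)) (n : ℤ)
    (i : ℤ) (hi : i ≠ 0) : Subsingleton (ω⟦n⟧ ⟶ (ω⟦n⟧)⟦i⟧) := by
  have e1 : (ω⟦n⟧ ⟶ (ω⟦n⟧)⟦i⟧) ≃ (ω⟦n⟧ ⟶ (ω⟦i⟧)⟦n⟧) :=
    ((Iso.refl (ω⟦n⟧)).homCongr ((shiftComm ω n i)))
  have e2 : (ω⟦n⟧ ⟶ (ω⟦i⟧)⟦n⟧) ≃ (ω ⟶ ω⟦i⟧) :=
    ((shiftEquiv (Dual.D A) n).fullyFaithfulFunctor.homEquiv (X := ω) (Y := ω⟦i⟧)).symm
  have := h i hi
  exact (e1.trans e2).subsingleton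

theorem isDualizing_shift {ω : Dual.D A} (hω : Dual.IsDualizing A ω) (n : ℤ) :
    Dual.IsDualizing A (ω⟦n⟧) where
  isNoetherianRing := hω.isNoetherianRing
  finite_injective_dimension := by
    obtain ⟨a, b, h⟩ := hω.finite_injective_dimension
    refine ⟨a - n, b - n, fun M _ _ i hi => ?_⟩
    have := h M (n + i) (by omega)
    exact (homShiftEquiv (Dual.inD A M) ω n i (n + i) rfl).toEquiv.subsingleton
  finite_cohomology i := by
    have := hω.finite_cohomology (n + i)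
    exact Module.Finite.equiv (HDShiftEquiv ω n i (n + i) rfl).symm
  toEnd_bijective := by
    have h := hω.toEnd_bijective
    have e2 : (ω ⟶ ω) ≃ (ω⟦n⟧ ⟶ ω⟦n⟧) :=
      ((shiftEquiv (Dual.D A) n).fullyFaithfulFunctor.homEquiv (X := ω) (Y := ω))
    have : (fun a : A => a • (𝟙 (ω⟦n⟧))) =
        ((shiftEquiv (Dual.D A) n).fullyFaithfulFunctor.homEquiv (X := ω) (Y := ω)) ∘
          (fun a : A => a • (𝟙 ω)) := by
      funext a
      simp only [Function.comp]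
      change _ = (shiftFunctor (Dual.D A) n).map (a • 𝟙 ω)
      rw [CategoryTheory.Functor.map_smul, CategoryTheory.Functor.map_id]
    rw [this]
    exact (Equiv.bijective _).comp h
  ext_self_subsingleton i hi := subsingleton_hom_shift hω.ext_self_subsingleton n i hi

theorem exists_normalized [IsNoetherianRing A] [IsLocalRing A] {ω : Dual.D A} (hω : Dual.IsDualizing A ω) :
    ∃ n : ℤ, Dual.IsDualizing A (ω⟦n⟧) ∧ Dual.IsNormalized A (ω⟦n⟧) := by
  obtain ⟨n, h, -⟩ := Groth.Agent.S0364.result A ω hω (IsLocalRing.maximalIdeal A)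
  refine ⟨n, isDualizing_shift hω n, fun i hi => ?_⟩
  have h1 := h (n + i) (by omega)
  exact (homShiftEquiv (Dual.inD A (A ⧸ IsLocalRing.maximalIdeal A)) ω n i (n + i) rfl).toEquiv.subsingleton

end Shift

section Torsion

variable {A : Type u} [CommRing A] [IsNoetherianRing A] [IsLocalRing A]

theorem finite_hom_shift {ω : Dual.D A} (hω : Dual.IsDualizing A ω) (i : ℤ) :
    Module.Finite A (Dual.inD A A ⟶ ω⟦i⟧) := by
  apply HomFin.finite_hom_self
  have := hω.finite_cohomology i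
  exact Module.Finite.equiv (HDShiftEquiv ω i 0 i (by simp)).symm

/-- If `depth A_p + dim A/p > s` for the primes `p` not containing `f`, then a power of `f` kills `H^i_m(A)`
for `i ≤ s`, when `A` has a dualizing complex. -/
theorem exists_pow_smul_eq_zero {ω : Dual.D A} (hω : Dual.IsDualizing A ω) (f : A) (s : ℕ)
    (hc : ∀ p : Ideal A, ∀ _ : p.IsPrime, f ∉ p →
        (s : WithBot ℕ∞) < (LocCoh.depth (Localization.AtPrime p) (Localization.AtPrime p) : WithBot ℕ∞) +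
          ringKrullDim (A ⧸ p)) (i : ℕ) (hi : i ≤ s) :
    ∃ n : ℕ, ∀ x : LocCoh.H (IsLocalRing.maximalIdeal A) i A, (f ^ n) • x = 0 := by
  obtain ⟨n, hn1, hn2⟩ := exists_normalized hω
  have hfin := finite_hom_shift hn1 (-(i : ℤ))
  have hann := Groth.Agent.S1713.result A _ hn1 hn2 A i
  have hsupp : ∀ p : PrimeSpectrum A,
      p ∈ Module.support A (Dual.inD A A ⟶ (ω⟦n⟧)⟦(-(i : ℤ))⟧) → f ∈ p.asIdeal := by
    intro p hp
    by_contra hfp
    have h1 := (Groth.Agent.S1712.result A _ hn1 hn2 A i p).1 ⟨i, le_rfl, hp⟩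
    have h2 := hc p.asIdeal p.isPrime hfp
    rw [DimFun.depth_localizedModule_self] at h1
    have h3 : (i : WithBot ℕ∞) ≤ (s : WithBot ℕ∞) := by exact_mod_cast hi
    exact absurd (h1.trans h3) (not_le_of_gt h2)
  have hrad : f ∈ (Module.annihilator A (Dual.inD A A ⟶ (ω⟦n⟧)⟦(-(i : ℤ))⟧)).radical := by
    rw [Ideal.radical_eq_sInf, Ideal.mem_sInf]
    rintro q ⟨hq1, hq2⟩
    refine hsupp ⟨q, hq2⟩ ?_
    rw [Module.support_eq_zeroLocus]
    exact hq1
  obtain ⟨k, hk⟩ := hrad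
  rw [hann] at hk
  exact ⟨k, fun x => Module.mem_annihilator.1 hk x⟩

/-- The hypotheses of Stacks 0EK5 imply the depth/dimension inequality off `V(f)`. -/
theorem depth_add_dim_of_hyp {ω : Dual.D A} (hω : Dual.IsDualizing A ω) (f : A)
    (hf : f ∈ IsLocalRing.maximalIdeal A)
    (hc : ((LocCoh.HasSk 2 (Localization.Away f) (Localization.Away f) ∧
        ∀ p : Ideal A, p ∈ minimalPrimes A → f ∉ p → (3 : WithBot ℕ∞) ≤ ringKrullDim (A ⧸ p)) ∨
      (∀ p : Ideal A, ∀ _ : p.IsPrime, f ∉ p →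
        (2 : WithBot ℕ∞) < (LocCoh.depth (Localization.AtPrime p) (Localization.AtPrime p) : WithBot ℕ∞) +
          ringKrullDim (A ⧸ p)))) :
    ∀ p : Ideal A, ∀ _ : p.IsPrime, f ∉ p →
        (2 : WithBot ℕ∞) < (LocCoh.depth (Localization.AtPrime p) (Localization.AtPrime p) : WithBot ℕ∞) +
          ringKrullDim (A ⧸ p) := by
  rcases hc with ⟨h1, h2⟩ | h
  · obtain ⟨δ, -, hδ⟩ := Groth.Agent.S1722.result A ω hω
    intro p hp hfp
    exact DimFun.lt_depth_add_dim δ hδ f hf h1 h2 p hfp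
  · exact h

theorem torsion_of_dualizing (hd : ∃ ω : Dual.D A, Dual.IsDualizing A ω) (f : A)
    (hf : f ∈ IsLocalRing.maximalIdeal A)
    (hc : ((LocCoh.HasSk 2 (Localization.Away f) (Localization.Away f) ∧
        ∀ p : Ideal A, p ∈ minimalPrimes A → f ∉ p → (3 : WithBot ℕ∞) ≤ ringKrullDim (A ⧸ p)) ∨
      (∀ p : Ideal A, ∀ _ : p.IsPrime, f ∉ p →
        (2 : WithBot ℕ∞) < (LocCoh.depth (Localization.AtPrime p) (Localization.AtPrime p) : WithBot ℕ∞) +
          ringKrullDim (A ⧸ p)))) :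
    (∃ n : ℕ, ∀ x : LocCoh.H (IsLocalRing.maximalIdeal A) 1 A, (f ^ n) • x = 0) ∧
    (∃ n : ℕ, ∀ x : LocCoh.H (IsLocalRing.maximalIdeal A) 2 A, (f ^ n) • x = 0) := by
  obtain ⟨ω, hω⟩ := hd
  have h := depth_add_dim_of_hyp hω f hf hc
  exact ⟨exists_pow_smul_eq_zero hω f 2 h 1 (by norm_num), exists_pow_smul_eq_zero hω f 2 h 2 le_rfl⟩

end Torsion

end Groth.Agent.Pi1C.DualTorsion
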