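import Groth.Agent.CalgB.RegCompletion
import Groth.Agent.CalgB.PowSer
import Groth.Agent.Ega41.CoefUnique
import Groth.Agent.Ega41.PowEval
import Groth.Agent.CalgA.PowSurj

/-!
Hasse-Schmidt derivations (ring homomorphisms `Â → Â⟦X⟧`) of the completion of a regular local ring containing a
field (for S1158).
-/

set_option autoImplicit false

universe u

open IsLocalRing

namespace Groth.Agent.Pi1C.EtLocTau

/-- Constant coefficients of evaluations of power series. -/
lemma constantCoeff_powEval {K B : Type*} [CommRing K] [CommRing B] [Algebra K B] (I : Ideal B) [IsAdicComplete I B]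
    {σ : Type*} [Finite σ] (x : σ → B) (hx : ∀ i, x i ∈ I)
    [IsAdicComplete (I.comap (PowerSeries.constantCoeff (R := B))) (PowerSeries B)]
    (y : σ → PowerSeries B) (hy : ∀ i, y i ∈ I.comap (PowerSeries.constantCoeff (R := B)))
    (hxy : ∀ i, PowerSeries.constantCoeff (y i) = x i) (f : MvPowerSeries σ K) :
    PowerSeries.constantCoeff (Ega41.PowEval.powEval (R := K) _ y hy f) =
      Ega41.PowEval.powEval (R := K) I x hx f := by
  rw [IsHausdorff.eq_iff_smodEq (I := I)]
  intro n
  rw [SModEq.sub_mem, smul_eq_mul, Ideal.mul_top]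
  have h1 := Ega41.PowEval.mk_powEval (R := K) (I.comap (PowerSeries.constantCoeff (R := B))) y hy n f
  have h2 := Ega41.PowEval.mk_powEval (R := K) I x hx n f
  rw [Ideal.Quotient.eq] at h1 h2
  have h3 : (I.comap (PowerSeries.constantCoeff (R := B))) ^ n ≤
      (I ^ n).comap (PowerSeries.constantCoeff (R := B)) := Ideal.le_comap_pow _ n
  have h4 := h3 h1
  rw [Ideal.mem_comap, map_sub] at h4
  have hc : ∀ r : K, PowerSeries.constantCoeff (algebraMap K (PowerSeries B) r) = algebraMap K B r := by
    intro r
    rw [PowerSeries.algebraMap_apply]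
    exact PowerSeries.constantCoeff_C _
  let cc : PowerSeries B →ₐ[K] B := { PowerSeries.constantCoeff (R := B) with commutes' := hc }
  have h5 : PowerSeries.constantCoeff (MvPolynomial.aeval y (MvPowerSeries.truncTotal n f)) =
      MvPolynomial.aeval x (MvPowerSeries.truncTotal n f) := by
    have : cc.comp (MvPolynomial.aeval y) = MvPolynomial.aeval x := by
      apply MvPolynomial.algHom_ext
      intro i
      simp only [AlgHom.comp_apply, MvPolynomial.aeval_X]
      exact hxy i
    exact DFunLike.congr_fun this _
  rw [h5] at h4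
  have h6 := sub_mem h4 h2
  rwa [sub_sub_sub_cancel_right] at h6

/-- Existence of Hasse-Schmidt derivations. -/
theorem exists_tau (A : Type u) [CommRing A] [IsRegularLocalRing A] (k : Type u) [Field k] [Algebra k A] :
    ∃ (d : ℕ) (x : Fin d → A), Ideal.span (Set.range x) = maximalIdeal A ∧ ringKrullDim A = d ∧
      ∃ τ : Fin d → AdicCompletion (maximalIdeal A) A →+* PowerSeries (AdicCompletion (maximalIdeal A) A),
        (∀ i a, PowerSeries.constantCoeff (τ i a) = a) ∧
        (∀ i, τ i (algebraMap A _ (x i)) = PowerSeries.C (algebraMap A _ (x i)) + PowerSeries.X) ∧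
        ∀ i j, j ≠ i → τ i (algebraMap A _ (x j)) = PowerSeries.C (algebraMap A _ (x j)) := by
  obtain ⟨F, _, _, _, -⟩ := Ega41.CoefUnique.exists_primeField k
  let _ : Algebra F A := ((algebraMap k A).comp (algebraMap F k)).toAlgebra
  have hsm : Algebra.FormallySmooth F (ResidueField A) :=
    CalgA.H1Union.formallySmooth_of_perfectField F (ResidueField A)
  have := Groth.Agent.CalgB.AdicReg.formallySmooth_residueField_completion F A
  obtain ⟨x, hx, hx', hmin⟩ := Groth.Agent.CalgB.AdicReg.exists_generators_completion (A := A)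
  have hd : ringKrullDim A = Module.finrank (ResidueField A) (CotangentSpace A) :=
    ((IsRegularLocalRing.iff_finrank_cotangentSpace A).mp inferInstance).symm
  refine ⟨_, x, hx, hd, ?_⟩
  obtain ⟨s, hs⟩ := CalgB.CohenPres.exists_coefficientField (k₀ := F) (B := AdicCompletion (maximalIdeal A) A)
  generalize hn : Module.finrank (ResidueField A) (CotangentSpace A) = n at *
  set B := AdicCompletion (maximalIdeal A) A with hB
  let _ : Algebra (ResidueField B) B := s.toRingHom.toAlgebra
  have hsa : ∀ c : ResidueField B, algebraMap (ResidueField B) B c = s c := fun _ => rfl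
  have hxm : ∀ i, algebraMap A B (x i) ∈ maximalIdeal B := fun i => hx'.le (Ideal.subset_span ⟨i, rfl⟩)
  let Φ := Ega41.PowEval.powEval (R := ResidueField B) (maximalIdeal B) (fun i => algebraMap A B (x i)) hxm
  have hΦ : Function.Surjective Φ := CalgA.PowSurj.surjective_powEval _ (fun r => ⟨residue B r, by
    rw [← residue_eq_zero_iff, map_sub, hsa, hs, sub_self]⟩) _ hxm hx'
  have hN : IsNoetherianRing B := isNoetherianRing_of_surjective _ _ Φ.toRingHom hΦ
  have hinj : Function.Injective Φ := by
    rw [injective_iff_map_eq_zero]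
    intro f hf
    by_contra hf0
    have h1 := ringKrullDim_succ_le_of_surjective Φ.toRingHom hΦ (mem_nonZeroDivisors_of_ne_zero hf0) hf
    rw [CalgB.RegCompletion.ringKrullDim_completion, Groth.Agent.CalgB.PowField.ringKrullDim_eq, hd] at h1
    have h2 : n + 1 ≤ n := by exact_mod_cast h1
    omega
  let e := RingEquiv.ofBijective (Φ : MvPowerSeries (Fin n) (ResidueField B) →+* B) ⟨hinj, hΦ⟩
  have hcomp := CalgB.PowSer.isAdicComplete_comap (maximalIdeal B)
  let y : Fin n → Fin n → PowerSeries B := fun i j =>
    PowerSeries.C (algebraMap A B (x j)) + if j = i then PowerSeries.X else 0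
  have hxy : ∀ i j, PowerSeries.constantCoeff (y i j) = algebraMap A B (x j) := by
    intro i j
    simp only [y, map_add, PowerSeries.constantCoeff_C]
    split_ifs <;> simp
  have hy : ∀ i j, y i j ∈ (maximalIdeal B).comap (PowerSeries.constantCoeff (R := B)) := by
    intro i j
    rw [Ideal.mem_comap, hxy]
    exact hxm j
  have he : ∀ j, e.symm (algebraMap A B (x j)) = MvPowerSeries.X j := by
    intro j
    rw [RingEquiv.symm_apply_eq]
    exact (Ega41.PowEval.powEval_X (R := ResidueField B) (maximalIdeal B) _ hxm j).symm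
  let τ : Fin n → B →+* PowerSeries B := fun i =>
    (Ega41.PowEval.powEval (R := ResidueField B) _ (y i) (hy i) :
      MvPowerSeries (Fin n) (ResidueField B) →+* PowerSeries B).comp (e.symm : B →+* MvPowerSeries (Fin n) (ResidueField B))
  have hτ : ∀ i j, τ i (algebraMap A B (x j)) = y i j := by
    intro i j
    change Ega41.PowEval.powEval (R := ResidueField B) _ (y i) (hy i) (e.symm _) = _
    rw [he, Ega41.PowEval.powEval_X]
  refine ⟨τ, fun i a => ?_, fun i => ?_, fun i j hj => ?_⟩
  · change PowerSeries.constantCoeff (Ega41.PowEval.powEval (R := ResidueField B) _ (y i) (hy i) (e.symm a)) = a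
    rw [constantCoeff_powEval (K := ResidueField B) (maximalIdeal B) (fun i => algebraMap A B (x i)) hxm (y i) (hy i)
      (hxy i)]
    exact e.apply_symm_apply a
  · rw [hτ]
    simp only [y, if_true]
    rfl
  · rw [hτ]
    simp only [y, if_neg hj, add_zero]
    rfl

end Groth.Agent.Pi1C.EtLocTau
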