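import Groth.Agent.Pi1C.EtLocLift
import Groth.Agent.Pi1C.EtLocTau
import Groth.Agent.CalgA.RegBasic
import Mathlib.RingTheory.Flat.FaithfullyFlat.Algebra
import Mathlib.RingTheory.Flat.Equalizer
import Mathlib.RingTheory.AdicCompletion.AsTensorProduct
import Mathlib.RingTheory.AdicCompletion.LocalRing

/-!
Base change of complexes to the completion; coregularity of the cohomology (for S1158).
-/

set_option autoImplicit false

universe u v w

open IsLocalRing TensorProduct

namespace Groth.Agent.Pi1C.EtLocBC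

open EtLocCx EtLocLift EtLocHS

variable {A : Type u} [CommRing A] (A' : Type u) [CommRing A'] [Algebra A A']

/-- Base change of a complex of algebras. -/
noncomputable def bc (C : CoAlg.{u, u} A) : CoAlg.{u, u} A' where
  S i := A' ⊗[A] C.S i
  δ i k := Algebra.TensorProduct.map (AlgHom.id A' A') (C.δ i k)
  dd i x := by
    have key : ∀ i, ∀ x : A' ⊗[A] C.S i, ∑ k : Fin (i + 2), (-1 : ℤ) ^ (k : ℕ) •
        Algebra.TensorProduct.map (AlgHom.id A' A') (C.δ i k) x = (C.D i).baseChange A' x := by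
      intro i x
      induction x using TensorProduct.induction_on with
      | zero => simp
      | add x y hx hy => simp only [map_add, smul_add, Finset.sum_add_distrib, hx, hy]
      | tmul a c =>
        simp only [Algebra.TensorProduct.map_tmul, AlgHom.coe_id, id_eq, LinearMap.baseChange_tmul]
        rw [C.D_apply, TensorProduct.tmul_sum]
        refine Finset.sum_congr rfl fun k _ => ?_
        rw [TensorProduct.tmul_smul]
    rw [key, key]
    have h : ((C.D (i + 1)).baseChange A').comp ((C.D i).baseChange A') = 0 := by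
      rw [← LinearMap.baseChange_comp]
      have : (C.D (i + 1)).comp (C.D i) = 0 := by
        ext y
        exact C.D_D i y
      rw [this, LinearMap.baseChange_zero]
    exact LinearMap.congr_fun h x

variable (C : CoAlg.{u, u} A)

lemma bc_D (i : ℕ) (x : A' ⊗[A] C.S i) : (bc A' C).D i (show (bc A' C).S i from x) =
    (show (bc A' C).S (i+1) from (C.D i).baseChange A' x) := by
  refine ((bc A' C).D_apply i _).trans ?_
  change ∑ k : Fin (i + 2), (-1 : ℤ) ^ (k : ℕ) •
        Algebra.TensorProduct.map (AlgHom.id A' A') (C.δ i k) x = (C.D i).baseChange A' x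
  induction x using TensorProduct.induction_on with
  | zero => simp
  | add x y hx hy => simp only [map_add, smul_add, Finset.sum_add_distrib, hx, hy]
  | tmul a c =>
    simp only [Algebra.TensorProduct.map_tmul, AlgHom.coe_id, id_eq, LinearMap.baseChange_tmul]
    rw [C.D_apply, TensorProduct.tmul_sum]
    refine Finset.sum_congr rfl fun k _ => ?_
    rw [TensorProduct.tmul_smul]

lemma mem_bcZ (i : ℕ) (x : A' ⊗[A] C.S (i+1)) (h : (C.D (i+1)).baseChange A' x = 0) :
    (show (bc A' C).cx.X (i+1) from x) ∈ (bc A' C).cx.Z i := by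
  rw [LinearMap.mem_ker]
  exact (bc_D A' C (i+1) x).trans h

lemma bcZ_val (i : ℕ) (z : (bc A' C).cx.Z i) : (C.D (i+1)).baseChange A' z.1 = 0 :=
  (bc_D A' C (i+1) z.1).symm.trans z.2

/-- The comparison map on cocycles. -/
noncomputable def rho (i : ℕ) : C.cx.Z i →+ (bc A' C).cx.Z i where
  toFun z := ⟨(1 : A') ⊗ₜ[A] (show C.S (i+1) from z.1), mem_bcZ A' C i _ (by
    rw [LinearMap.baseChange_tmul]
    have : C.D (i+1) (show C.S (i+1) from z.1) = 0 := z.2
    rw [this, TensorProduct.tmul_zero])⟩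
  map_zero' := Subtype.ext (TensorProduct.tmul_zero _ _)
  map_add' z w := Subtype.ext (TensorProduct.tmul_add _ _ _)

lemma cls_eq_zero' (i : ℕ) (z : C.cx.Z i) : C.cx.cls i z = 0 ↔ ∃ w : C.S i, C.D i w = z.1 :=
  C.cx.cls_eq_zero z

lemma bc_cls_eq_zero (i : ℕ) (z : (bc A' C).cx.Z i) : (bc A' C).cx.cls i z = 0 ↔
    ∃ w : A' ⊗[A] C.S i, (C.D i).baseChange A' w = z.1 := by
  refine ((bc A' C).cx.cls_eq_zero z).trans ⟨?_, ?_⟩
  · rintro ⟨w, hw⟩
    exact ⟨w, (bc_D A' C i w).symm.trans hw⟩
  · rintro ⟨w, hw⟩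
    exact ⟨w, (bc_D A' C i w).trans hw⟩

/-- The comparison map on cohomology. -/
noncomputable def rhoH (i : ℕ) : C.cx.H i →+ (bc A' C).cx.H i :=
  QuotientAddGroup.lift _ (((bc A' C).cx.cls i).toAddMonoidHom.comp (rho A' C i)) (by
    intro z hz
    have hz' : C.cx.cls i z = 0 := (Submodule.Quotient.mk_eq_zero _).mpr hz
    rw [cls_eq_zero'] at hz'
    obtain ⟨w, hw⟩ := hz'
    refine (bc_cls_eq_zero A' C i _).mpr ⟨(1 : A') ⊗ₜ[A] w, ?_⟩
    rw [LinearMap.baseChange_tmul, hw]
    rfl)

lemma rhoH_cls (i : ℕ) (z : C.cx.Z i) :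
    rhoH A' C i (C.cx.cls i z) = (bc A' C).cx.cls i (rho A' C i z) := rfl

lemma rhoH_smul (i : ℕ) (a : A) (c : C.cx.H i) :
    rhoH A' C i (a • c) = algebraMap A A' a • rhoH A' C i c := by
  obtain ⟨z, rfl⟩ := C.cx.cls_surjective i c
  rw [← map_smul, rhoH_cls, rhoH_cls, ← map_smul]
  congr 1
  apply Subtype.ext
  change (1 : A') ⊗ₜ[A] (a • (show C.S (i+1) from z.1)) =
    algebraMap A A' a • ((1 : A') ⊗ₜ[A] (show C.S (i+1) from z.1))
  rw [TensorProduct.tmul_smul, algebraMap_smul]

lemma rhoH_injective (i : ℕ) [Module.FaithfullyFlat A A'] : Function.Injective (rhoH A' C i) := by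
  rw [injective_iff_map_eq_zero]
  intro c hc
  obtain ⟨z, rfl⟩ := C.cx.cls_surjective i c
  rw [rhoH_cls, bc_cls_eq_zero] at hc
  obtain ⟨w, hw⟩ := hc
  have hw' : (C.D i).baseChange A' w = (1 : A') ⊗ₜ[A] (show C.S (i+1) from z.1) := hw
  rw [cls_eq_zero']
  have h1 : (1 : A') ⊗ₜ[A] ((LinearMap.range (C.D i)).mkQ (show C.S (i+1) from z.1)) = 0 := by
    have h2 := congrArg ((LinearMap.range (C.D i)).mkQ.baseChange A') hw'
    rw [LinearMap.baseChange_tmul] at h2
    rw [← h2, ← LinearMap.comp_apply, ← LinearMap.baseChange_comp, LinearMap.range_mkQ_comp,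
      LinearMap.baseChange_zero, LinearMap.zero_apply]
  have h2 := Module.FaithfullyFlat.tensorProduct_mk_injective (A := A) (B := A')
    (C.S (i+1) ⧸ LinearMap.range (C.D i)) (a₁ := (LinearMap.range (C.D i)).mkQ (show C.S (i+1) from z.1)) (a₂ := 0)
    (by
      change (1 : A') ⊗ₜ[A] _ = (1 : A') ⊗ₜ[A] _
      rw [h1, TensorProduct.tmul_zero])
  rw [Submodule.mkQ_apply, Submodule.Quotient.mk_eq_zero] at h2
  exact h2

lemma rhoH_surjective (i : ℕ) [Module.Flat A A'] (m : Ideal A)
    (hdense : ∀ (n : ℕ) (a : A'), ∃ a₀ : A, a - algebraMap A A' a₀ ∈ (m ^ n).map (algebraMap A A'))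
    (htors : ∀ c : C.cx.H i, ∃ n : ℕ, ∀ a ∈ m ^ n, a • c = 0) : Function.Surjective (rhoH A' C i) := by
  intro c
  obtain ⟨z, rfl⟩ := (bc A' C).cx.cls_surjective i c
  -- a cocycle comes from `A' ⊗ Z`
  have hz : z.1 ∈ LinearMap.ker (AlgebraTensorModule.lTensor A' A' (C.D (i+1))) := bcZ_val A' C i z
  rw [Module.Flat.ker_lTensor_eq] at hz
  obtain ⟨t, ht⟩ := hz
  let J := (LinearMap.ker (C.D (i+1))).subtype.baseChange A'
  have hJ : ∀ t, J t = AlgebraTensorModule.lTensor A' A' (LinearMap.ker (C.D (i+1))).subtype t := fun _ => rfl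
  have hmem : ∀ t, (C.D (i+1)).baseChange A' (J t) = 0 := by
    intro t
    rw [← LinearMap.comp_apply, ← LinearMap.baseChange_comp]
    have : (C.D (i+1)).comp (LinearMap.ker (C.D (i+1))).subtype = 0 := by
      ext y
      exact y.2
    rw [this, LinearMap.baseChange_zero, LinearMap.zero_apply]
  have key : ∀ t : A' ⊗[A] (LinearMap.ker (C.D (i+1))), ∃ c : C.cx.H i,
      rhoH A' C i c = (bc A' C).cx.cls i ⟨J t, mem_bcZ A' C i _ (hmem t)⟩ := by
    intro t
    induction t using TensorProduct.induction_on with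
    | zero =>
      refine ⟨0, ?_⟩
      rw [map_zero, eq_comm, bc_cls_eq_zero]
      exact ⟨0, (map_zero _).trans (map_zero J).symm⟩
    | add x y hx hy =>
      obtain ⟨a, ha⟩ := hx
      obtain ⟨b, hb⟩ := hy
      refine ⟨a + b, ?_⟩
      rw [map_add, ha, hb, ← map_add]
      congr 1
      exact Subtype.ext (map_add J x y).symm
    | tmul a y =>
      obtain ⟨n, hn⟩ := htors (C.cx.cls i (show C.cx.Z i from y))
      obtain ⟨a₀, ha₀⟩ := hdense n a
      refine ⟨C.cx.cls i (a₀ • (show C.cx.Z i from y)), ?_⟩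
      rw [rhoH_cls, ← sub_eq_zero, ← map_sub, bc_cls_eq_zero]
      have h1 : ∀ b ∈ (m ^ n).map (algebraMap A A'), ∃ w : A' ⊗[A] C.S i,
          (C.D i).baseChange A' w = b ⊗ₜ[A] (y : C.S (i+1)) := by
        intro b hb
        induction hb using Submodule.span_induction with
        | mem b hb =>
          obtain ⟨r, hr, rfl⟩ := hb
          have h2 : C.cx.cls i (r • (show C.cx.Z i from y)) = 0 := (map_smul (C.cx.cls i) r _).trans (hn r hr)
          rw [cls_eq_zero'] at h2
          obtain ⟨w, hw⟩ := h2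
          refine ⟨1 ⊗ₜ[A] w, ?_⟩
          rw [LinearMap.baseChange_tmul, hw]
          change (1 : A') ⊗ₜ[A] (r • (y : C.S (i+1))) = _
          rw [← TensorProduct.smul_tmul, Algebra.smul_def, mul_one]
        | zero => exact ⟨0, by rw [map_zero, TensorProduct.zero_tmul]⟩
        | add b b' _ _ hb hb' =>
          obtain ⟨w, hw⟩ := hb
          obtain ⟨w', hw'⟩ := hb'
          exact ⟨w + w', by rw [map_add, hw, hw', TensorProduct.add_tmul]⟩
        | smul a b _ hb =>
          obtain ⟨w, hw⟩ := hb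
          exact ⟨a • w, by rw [map_smul, hw, TensorProduct.smul_tmul']⟩
      obtain ⟨w, hw⟩ := h1 _ ha₀
      refine ⟨-w, ?_⟩
      rw [map_neg, hw]
      change -((a - algebraMap A A' a₀) ⊗ₜ[A] (y : C.S (i+1))) =
        (1 : A') ⊗ₜ[A] (a₀ • (y : C.S (i+1))) - J (a ⊗ₜ[A] y)
      rw [LinearMap.baseChange_tmul, TensorProduct.sub_tmul, ← TensorProduct.smul_tmul, Algebra.smul_def,
        mul_one, neg_sub]
      rfl
  obtain ⟨c, hc⟩ := key t
  refine ⟨c, hc.trans ?_⟩
  congr 1
  exact Subtype.ext ((hJ t).trans ht)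

/-- Density of a Noetherian local ring in its completion. -/
lemma exists_sub_mem (A : Type u) [CommRing A] [IsLocalRing A] [IsNoetherianRing A] (n : ℕ)
    (a : AdicCompletion (maximalIdeal A) A) : ∃ a₀ : A, a - algebraMap A _ a₀ ∈
      ((maximalIdeal A) ^ n).map (algebraMap A (AdicCompletion (maximalIdeal A) A)) := by
  obtain ⟨a₀, ha₀⟩ := Submodule.mkQ_surjective ((maximalIdeal A) ^ n • (⊤ : Submodule A A))
    (AdicCompletion.eval (maximalIdeal A) A n a)
  refine ⟨a₀, ?_⟩
  have h1 : a - algebraMap A _ a₀ ∈ (AdicCompletion.eval (maximalIdeal A) A n).ker := by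
    rw [LinearMap.mem_ker, map_sub, ← ha₀, sub_eq_zero]
    rfl
  rw [← AdicCompletion.pow_smul_top_eq_ker_eval (maximalIdeal A).fg_of_isNoetherianRing] at h1
  rw [Ideal.smul_top_eq_map] at h1
  exact h1

lemma isWeaklyRegular_of_flat {A : Type u} [CommRing A] {M : Type v} [AddCommGroup M] [Module A M]
    [Module.Flat A M] {rs : List A} (h : RingTheory.Sequence.IsWeaklyRegular A rs) :
    RingTheory.Sequence.IsWeaklyRegular M rs :=
  ((TensorProduct.rid A M).isWeaklyRegular_congr rs).mp h.isWeaklyRegular_lTensor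

instance faithfullyFlat_completion (A : Type u) [CommRing A] [IsLocalRing A] [IsNoetherianRing A] :
    Module.FaithfullyFlat A (AdicCompletion (maximalIdeal A) A) := by
  have : Module.Flat A (AdicCompletion (maximalIdeal A) A) := AdicCompletion.flat_of_isNoetherian _
  exact Module.FaithfullyFlat.of_flat_of_isLocalHom

/-- Coregularity of the cohomology of a complex of formally étale algebras. -/
theorem exists_params (A : Type u) [CommRing A] [IsRegularLocalRing A] (k : Type u) [Field k] [Algebra k A] :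
    ∃ xs : List A, Ideal.ofList xs = maximalIdeal A ∧ ringKrullDim A = xs.length ∧
      RingTheory.Sequence.IsWeaklyRegular A xs ∧
      ∀ (C : CoAlg.{u, u} A) (_ : ∀ i, Algebra.FormallyEtale A (C.S i)) (i : ℕ)
        (_ : ∀ c : C.cx.H i, ∃ n : ℕ, ∀ a ∈ maximalIdeal A ^ n, a • c = 0), Coreg xs (C.cx.H i) := by
  obtain ⟨d, x, hx, hd, τ, hτ, hτ1, hτ2⟩ := EtLocTau.exists_tau A k
  have hxs : Ideal.ofList (List.ofFn x) = maximalIdeal A := by
    rw [← hx, Ideal.ofList]
    congr 1
    ext a
    simp [List.mem_ofFn]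
  refine ⟨List.ofFn x, hxs, by rw [hd, List.length_ofFn],
    (CalgA.RegBasic.isRegular_of_ofList_eq d A (List.ofFn x) (by simp) hd hxs).toIsWeaklyRegular, ?_⟩
  intro C hC i htors
  have hflat : Module.Flat A (AdicCompletion (maximalIdeal A) A) := AdicCompletion.flat_of_isNoetherian _
  set B := AdicCompletion (maximalIdeal A) A with hB
  apply coreg_of_HSL
  · intro y hy z
    obtain ⟨n, hn⟩ := htors z
    refine ⟨n, hn _ (Ideal.pow_mem_pow ?_ n)⟩
    rw [← hxs]
    exact Ideal.subset_span hy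
  have hbij : Function.Bijective (rhoH B C i) :=
    ⟨rhoH_injective B C i, rhoH_surjective B C i (maximalIdeal A) (exists_sub_mem A) htors⟩
  refine HSL.congr (algebraMap A B) (List.ofFn x) (AddEquiv.ofBijective (rhoH B C i) hbij)
    (fun y _ z => rhoH_smul B C i y z) ?_
  have : ∀ i, Algebra.FormallyEtale B ((bc B C).S i) := fun i =>
    inferInstanceAs (Algebra.FormallyEtale B (B ⊗[A] C.S i))
  have hlen : ((List.ofFn x).map (algebraMap A B)).length = d := by simp
  have hget : ∀ k : Fin ((List.ofFn x).map (algebraMap A B)).length,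
      ((List.ofFn x).map (algebraMap A B)).get k = algebraMap A B (x (Fin.cast hlen k)) := by
    intro k
    simp
    rfl
  refine CoAlg.HSL_H (bc B C) _ (fun k => τ (Fin.cast hlen k)) (fun k a => hτ _ a) (fun k => ?_)
    (fun k j hj => ?_) i
  · rw [hget]
    exact hτ1 _
  · rw [hget]
    refine hτ2 _ _ ?_
    intro h
    have : j = k := Fin.ext (by simpa using congrArg Fin.val h)
    exact absurd hj (by simp [this])

/-- The main algebraic statement on complexes of étale algebras. -/
theorem smul_top_eq_top (A : Type u) [CommRing A] [IsRegularLocalRing A] (k : Type u) [Field k] [Algebra k A]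
    (C : CoAlg.{u, u} A) (hC : ∀ i, Algebra.FormallyEtale A (C.S i)) (hflat : ∀ i, Module.Flat A (C.S i))
    (htop : ∀ i, (maximalIdeal A) • (⊤ : Submodule A (C.S i)) = ⊤)
    (htors : ∀ i, ∀ c : C.cx.H i, ∃ n : ℕ, ∀ a ∈ maximalIdeal A ^ n, a • c = 0)
    (hvan : ∀ n : ℕ, ringKrullDim A = (n + 2 : ℕ) → Subsingleton (C.cx.H n)) :
    (maximalIdeal A) • (⊤ : Submodule A (LinearMap.ker (C.D 0))) = ⊤ := by
  obtain ⟨xs, hxs, hd, hreg, hco⟩ := exists_params A k
  have h := Cx.smul_top_eq_top xs C.cx (fun i => by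
      have := hflat i
      have h0 : RingTheory.Sequence.IsWeaklyRegular (C.S i) xs := isWeaklyRegular_of_flat hreg
      exact h0)
    (fun i => by rw [hxs]; exact htop i) (fun i => hco C hC i (htors i)) (fun n hn => hvan n (by rw [hd, hn]))
  rw [hxs] at h
  exact h

end Groth.Agent.Pi1C.EtLocBC
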