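import Groth.Agent.Pi1C.EtLocCx
import Mathlib.Algebra.BigOperators.Intervals

/-!
Hasse-Schmidt operators on a power torsion module imply coregularity (for S1158).
-/

set_option autoImplicit false

universe u v w

open Submodule

namespace Groth.Agent.Pi1C.EtLocHS

open EtLocCx

/-- A system of Hasse-Schmidt operators with respect to `x` on `N`. -/
structure HS {A : Type u} [CommRing A] (x : A) (N : Type v) [AddCommGroup N] [Module A N] where
  E : ℕ → N →+ N
  zero : ∀ z, E 0 z = z
  top : ∀ n z, E n (x ^ n • z) = ∑ b ∈ Finset.range (n + 1), n.choose b • x ^ b • E b z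

variable {A : Type u} [CommRing A]

lemma HS.exists_smul_eq {x : A} {N : Type v} [AddCommGroup N] [Module A N] (h : HS x N)
    (z : N) (n : ℕ) (hz : x ^ n • z = 0) (P : Submodule A N)
    (hP : ∀ b, h.E b z ∈ P) : ∃ w ∈ P, x • w = z := by
  have h1 := h.top n z
  rw [hz, map_zero, Finset.sum_range_succ'] at h1
  simp only [Nat.choose_zero_right, pow_zero, one_smul, h.zero] at h1
  refine ⟨-∑ b ∈ Finset.range n, n.choose (b + 1) • x ^ b • h.E (b + 1) z, ?_, ?_⟩
  · exact neg_mem (sum_mem fun b _ => nsmul_mem (P.smul_mem _ (hP _)) _)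
  · rw [smul_neg, Finset.smul_sum, neg_eq_iff_add_eq_zero, h1]
    congr 1
    refine Finset.sum_congr rfl fun b _ => ?_
    rw [smul_comm x, smul_smul, ← pow_succ']

/-- A compatible list of Hasse-Schmidt operators. -/
def HSL (xs : List A) (N : Type v) [AddCommGroup N] [Module A N] : Prop :=
  ∀ i : Fin xs.length, ∃ h : HS (xs.get i) N, ∀ j : Fin xs.length, j < i →
    ∀ b z, h.E b (xs.get j • z) = xs.get j • h.E b z

theorem coreg_of_HSL (xs : List A) : ∀ (N : Type v) [AddCommGroup N] [Module A N]
    (_ : ∀ x ∈ xs, ∀ z : N, ∃ n, x ^ n • z = 0) (_ : HSL xs N), Coreg xs N := by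
  induction xs with
  | nil => intros; trivial
  | cons x xs ih =>
    intro N _ _ htors hHS
    refine ⟨?_, ih _ ?_ ?_⟩
    · intro z
      obtain ⟨h, -⟩ := hHS ⟨0, by simp⟩
      obtain ⟨n, hn⟩ := htors x (by simp) z
      obtain ⟨w, -, hw⟩ := h.exists_smul_eq z n hn ⊤ (fun _ => trivial)
      exact ⟨w, hw⟩
    · rintro y hy ⟨z, hz⟩
      obtain ⟨n, hn⟩ := htors y (by simp [hy]) z
      exact ⟨n, Subtype.ext hn⟩
    · intro i
      obtain ⟨h, hc⟩ := hHS i.succ
      have hx : ∀ b z, h.E b (x • z) = x • h.E b z := fun b z => hc ⟨0, by simp⟩ (by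
        rw [Fin.lt_def]; simp) b z
      have hmem : ∀ b (z : torsionBy A N x), h.E b z ∈ torsionBy A N x := by
        rintro b ⟨z, hz⟩
        rw [mem_torsionBy_iff] at hz ⊢
        rw [← hx, hz, map_zero]
      refine ⟨{ E := fun b =>
                  { toFun := fun z => ⟨h.E b z, hmem b z⟩
                    map_zero' := Subtype.ext (map_zero _)
                    map_add' := fun z w => Subtype.ext (map_add (h.E b) (z : N) w) }
                zero := fun z => Subtype.ext (h.zero _)
                top := fun n z => ?_ }, ?_⟩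
      · apply Subtype.ext
        have := h.top n (z : N)
        simpa using this
      · intro j hj b z
        apply Subtype.ext
        exact hc j.succ (by simpa using hj) b z

/-- Transport of Hasse-Schmidt operators. -/
theorem HSL.congr {A' : Type w} [CommRing A'] (f : A → A') (xs : List A)
    {N : Type v} [AddCommGroup N] [Module A N] {N' : Type v} [AddCommGroup N'] [Module A' N']
    (e : N ≃+ N') (he : ∀ x ∈ xs, ∀ z : N, e (x • z) = f x • e z)
    (h : HSL (xs.map f) N') : HSL xs N := by
  intro i
  obtain ⟨g, hg⟩ := h (Fin.cast (by simp) i)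
  have hi : (xs.map f).get (Fin.cast (by simp) i) = f (xs.get i) := by simp
  have hmem : ∀ i, xs.get i ∈ xs := fun i => List.get_mem xs i
  have hpow : ∀ n (z : N), e (xs.get i ^ n • z) = f (xs.get i) ^ n • e z := by
    intro n
    induction n with
    | zero => intro z; simp
    | succ n ihn =>
      intro z
      rw [pow_succ, pow_succ, mul_smul, mul_smul, ihn, he _ (hmem i)]
  have hpow' : ∀ n (z : N'), e.symm (f (xs.get i) ^ n • z) = xs.get i ^ n • e.symm z := by
    intro n z
    rw [AddEquiv.symm_apply_eq, hpow, AddEquiv.apply_symm_apply]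
  refine ⟨{ E := fun b => (e.symm.toAddMonoidHom.comp (g.E b)).comp e.toAddMonoidHom
            zero := fun z => ?_
            top := fun n z => ?_ }, ?_⟩
  · simp [g.zero]
  · have := g.top n (e z)
    simp only [hi] at this
    simp only [AddEquiv.toAddMonoidHom_eq_coe, AddMonoidHom.coe_comp, AddMonoidHom.coe_coe,
      Function.comp_apply]
    rw [hpow, this, map_sum]
    refine Finset.sum_congr rfl fun b _ => ?_
    rw [map_nsmul, hpow']
  · intro j hj b z
    have := hg (Fin.cast (by simp) j) (by simpa using hj) b (e z)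
    simp only [AddEquiv.toAddMonoidHom_eq_coe, AddMonoidHom.coe_comp, AddMonoidHom.coe_coe,
      Function.comp_apply]
    have hj' : (xs.map f).get (Fin.cast (by simp) j) = f (xs.get j) := by simp
    rw [hj'] at this
    rw [he _ (hmem j), this, AddEquiv.symm_apply_eq, he _ (hmem j), AddEquiv.apply_symm_apply]

end Groth.Agent.Pi1C.EtLocHS
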