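import Mathlib.RingTheory.Smooth.AdicCompletion
import Mathlib.RingTheory.Unramified.Basic
import Mathlib.RingTheory.Etale.Basic
import Groth.Agent.CalgB.PowSer
import Groth.Agent.Pi1C.EtLocHS

/-!
Lifting Hasse-Schmidt derivations (ring homomorphisms `A → A⟦X⟧`) along formally étale algebras
(for S1158).
-/

set_option autoImplicit false

universe u v w

open PowerSeries

namespace Groth.Agent.Pi1C.EtLocLift

section lift

variable {A : Type u} [CommRing A] (τ : A →+* PowerSeries A)

/-- Power series over `S`, with the `A`-algebra structure through `τ`. -/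
@[nolint unusedArguments]
def Tw (_ : A →+* PowerSeries A) (S : Type v) : Type v := PowerSeries S

noncomputable instance (S : Type v) [CommRing S] : CommRing (Tw τ S) := inferInstanceAs (CommRing (PowerSeries S))

noncomputable instance (S : Type v) [CommRing S] [Algebra A S] : Algebra A (Tw τ S) :=
  ((PowerSeries.map (algebraMap A S)).comp τ).toAlgebra

/-- The identity ring isomorphism. -/
noncomputable def toPS (S : Type v) [CommRing S] : Tw τ S ≃+* PowerSeries S := RingEquiv.refl (PowerSeries S)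

lemma toPS_algebraMap (S : Type v) [CommRing S] [Algebra A S] (a : A) :
    toPS τ S (algebraMap A (Tw τ S) a) = PowerSeries.map (algebraMap A S) (τ a) := rfl

variable (hτ : ∀ a, constantCoeff (τ a) = a)

include hτ

/-- The constant coefficient as an algebra map. -/
noncomputable def cc (S : Type v) [CommRing S] [Algebra A S] : Tw τ S →ₐ[A] S :=
  { (constantCoeff (R := S)).comp (toPS τ S : Tw τ S →+* PowerSeries S) with
    commutes' := by
      intro a
      change constantCoeff (PowerSeries.map (algebraMap A S) (τ a)) = _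
      rw [← coeff_zero_eq_constantCoeff_apply, coeff_map, coeff_zero_eq_constantCoeff_apply, hτ] }

lemma cc_apply (S : Type v) [CommRing S] [Algebra A S] (f : Tw τ S) :
    cc τ hτ S f = constantCoeff (toPS τ S f) := rfl

lemma cc_surjective (S : Type v) [CommRing S] [Algebra A S] : Function.Surjective (cc τ hτ S) := by
  intro s
  exact ⟨(toPS τ S).symm (C s), by rw [cc_apply, RingEquiv.apply_symm_apply, constantCoeff_C]⟩

lemma isAdicComplete_ker_cc (S : Type v) [CommRing S] [Algebra A S] :
    IsAdicComplete (RingHom.ker (cc τ hτ S)) (Tw τ S) := by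
  have h1 : IsAdicComplete (⊥ : Ideal S) S := inferInstance
  have h2 := CalgB.PowSer.isAdicComplete_comap (⊥ : Ideal S)
  have h3 : (⊥ : Ideal S).comap (constantCoeff (R := S)) = RingHom.ker (cc τ hτ S) := rfl
  rw [h3] at h2
  exact h2

/-- Existence of lifts. -/
theorem exists_lift (S : Type v) [CommRing S] [Algebra A S] [Algebra.FormallySmooth A S] :
    ∃ E : S →+* PowerSeries S, (∀ s, constantCoeff (E s) = s) ∧
      ∀ a, E (algebraMap A S a) = PowerSeries.map (algebraMap A S) (τ a) := by
  have := isAdicComplete_ker_cc τ hτ S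
  obtain ⟨g, hg⟩ := Algebra.FormallySmooth.exists_mkₐ_comp_eq_of_isAdicComplete
    (I := RingHom.ker (cc τ hτ S))
    (Ideal.quotientKerAlgEquivOfSurjective (cc_surjective τ hτ S)).symm.toAlgHom
  refine ⟨(toPS τ S : Tw τ S →+* PowerSeries S).comp g.toRingHom, fun s => ?_, fun a => ?_⟩
  · have h1 := congrArg (Ideal.quotientKerAlgEquivOfSurjective (cc_surjective τ hτ S))
      (DFunLike.congr_fun hg s)
    have h2 : (Ideal.quotientKerAlgEquivOfSurjective (cc_surjective τ hτ S))
        ((Ideal.quotientKerAlgEquivOfSurjective (cc_surjective τ hτ S)).symm s) = s :=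
      AlgEquiv.apply_symm_apply _ s
    exact h1.trans h2
  · change toPS τ S (g (algebraMap A S a)) = _
    rw [g.commutes, toPS_algebraMap]

/-- Uniqueness of lifts. -/
theorem lift_unique (S : Type v) [CommRing S] [Algebra A S] [Algebra.FormallyUnramified A S]
    (S' : Type w) [CommRing S'] [Algebra A S'] (f g : S →+* PowerSeries S')
    (hf : ∀ a, f (algebraMap A S a) = PowerSeries.map (algebraMap A S') (τ a))
    (hg : ∀ a, g (algebraMap A S a) = PowerSeries.map (algebraMap A S') (τ a))
    (hfg : ∀ s, constantCoeff (f s) = constantCoeff (g s)) : f = g := by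
  let f' : S →ₐ[A] Tw τ S' := { f with commutes' := hf }
  let g' : S →ₐ[A] Tw τ S' := { g with commutes' := hg }
  have h1 := isAdicComplete_ker_cc τ hτ S'
  have h2 : ⨅ i, (RingHom.ker (cc τ hτ S')) ^ i = ⊥ := by
    have := (inferInstance : IsHausdorff (RingHom.ker (cc τ hτ S')) (Tw τ S')).iInf_pow_smul
    simpa using this
  have h3 : f' = g' := by
    refine Algebra.FormallyUnramified.ext_of_iInf (I := RingHom.ker (cc τ hτ S')) h2 ?_
    intro s
    rw [Ideal.Quotient.eq, RingHom.mem_ker, map_sub]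
    exact sub_eq_zero.mpr (hfg s)
  ext1 s
  exact DFunLike.congr_fun h3 s

end lift

/-! ### Additive endomorphisms of cohomology -/

section endo

variable {A : Type u} [CommRing A] (C : EtLocCx.Cx.{u, v} A)

/-- An additive endomorphism of a complex. -/
structure Endo where
  e : ∀ i, C.X i →+ C.X i
  comm : ∀ i x, C.d i (e i x) = e (i+1) (C.d i x)

variable {C} (f : Endo C)

lemma Endo.mem_Z (i : ℕ) (z : C.Z i) : f.e (i+1) z ∈ C.Z i := by
  rw [LinearMap.mem_ker, f.comm, z.2, map_zero]

/-- The induced map on cohomology. -/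
noncomputable def Endo.hFun (i : ℕ) (c : C.H i) : C.H i :=
  C.cls i ⟨f.e (i+1) (Function.surjInv (C.cls_surjective i) c : C.Z i), f.mem_Z i _⟩

lemma Endo.cls_congr (i : ℕ) (z z' : C.Z i) (h1 : C.cls i z' = C.cls i z) :
    C.cls i ⟨f.e (i+1) z', f.mem_Z i z'⟩ = C.cls i ⟨f.e (i+1) z, f.mem_Z i z⟩ := by
  rw [← sub_eq_zero, ← map_sub, C.cls_eq_zero]
  rw [← sub_eq_zero, ← map_sub, C.cls_eq_zero] at h1
  obtain ⟨w, hw⟩ := h1
  refine ⟨f.e i w, ?_⟩
  rw [f.comm, hw]
  exact map_sub (f.e (i+1)) _ _

lemma Endo.hFun_cls (i : ℕ) (z : C.Z i) :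
    f.hFun i (C.cls i z) = C.cls i ⟨f.e (i+1) z, f.mem_Z i z⟩ :=
  f.cls_congr i z _ (Function.surjInv_eq (C.cls_surjective i) (C.cls i z))

/-- The induced additive map on cohomology. -/
noncomputable def Endo.h (i : ℕ) : C.H i →+ C.H i where
  toFun := f.hFun i
  map_zero' := by
    have := f.hFun_cls i 0
    rw [map_zero] at this
    rw [this, C.cls_eq_zero]
    exact ⟨0, by simp⟩
  map_add' := by
    intro a b
    obtain ⟨a, rfl⟩ := C.cls_surjective i a
    obtain ⟨b, rfl⟩ := C.cls_surjective i b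
    rw [← map_add, f.hFun_cls, f.hFun_cls, f.hFun_cls, ← map_add]
    congr 1
    exact Subtype.ext (map_add (f.e (i+1)) (a : C.X (i+1)) b)

lemma Endo.h_cls (i : ℕ) (z : C.Z i) :
    f.h i (C.cls i z) = C.cls i ⟨f.e (i+1) z, f.mem_Z i z⟩ := f.hFun_cls i z

end endo

/-! ### Complexes of algebras -/

section coalg

/-- A sequence of algebras with face maps, whose alternating sum is a differential. -/
structure CoAlg (A : Type u) [CommRing A] where
  S : ℕ → Type v
  [ring : ∀ i, CommRing (S i)]
  [alg : ∀ i, Algebra A (S i)]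
  δ : ∀ i, Fin (i + 2) → (S i →ₐ[A] S (i+1))
  dd : ∀ i x, ∑ j : Fin (i + 3), (-1 : ℤ) ^ (j : ℕ) •
    δ (i+1) j (∑ k : Fin (i + 2), (-1 : ℤ) ^ (k : ℕ) • δ i k x) = 0

attribute [instance] CoAlg.ring CoAlg.alg

variable {A : Type u} [CommRing A] (C : CoAlg.{u, v} A)

/-- The differential. -/
noncomputable def CoAlg.D (i : ℕ) : C.S i →ₗ[A] C.S (i+1) :=
  ∑ k : Fin (i + 2), (-1 : ℤ) ^ (k : ℕ) • (C.δ i k).toLinearMap

lemma CoAlg.D_apply (i : ℕ) (x : C.S i) :
    C.D i x = ∑ k : Fin (i + 2), (-1 : ℤ) ^ (k : ℕ) • C.δ i k x := by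
  rw [CoAlg.D, LinearMap.sum_apply]
  rfl

lemma CoAlg.D_D (i : ℕ) (x : C.S i) : C.D (i+1) (C.D i x) = 0 := by
  rw [C.D_apply, C.D_apply]
  exact C.dd i x

/-- The underlying complex. -/
noncomputable def CoAlg.cx : EtLocCx.Cx.{u, v} A where
  X := C.S
  d := C.D
  dd := C.D_D

/-- The lift of `τ` to a complex of formally étale algebras. -/
theorem CoAlg.exists_endo [∀ i, Algebra.FormallyEtale A (C.S i)] (τ : A →+* PowerSeries A)
    (hτ : ∀ a, constantCoeff (τ a) = a) :
    ∃ E : ∀ i, C.S i →+* PowerSeries (C.S i), (∀ i s, constantCoeff (E i s) = s) ∧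
      (∀ i a, E i (algebraMap A _ a) = PowerSeries.map (algebraMap A _) (τ a)) ∧
      ∀ i b x, C.D i (coeff b (E i x)) = coeff b (E (i+1) (C.D i x)) := by
  choose E hE1 hE2 using fun i => exists_lift τ hτ (C.S i)
  refine ⟨E, hE1, hE2, fun i b x => ?_⟩
  have key : ∀ k, (PowerSeries.map (C.δ i k : C.S i →+* C.S (i+1))).comp (E i) =
      (E (i+1)).comp (C.δ i k : C.S i →+* C.S (i+1)) := by
    intro k
    apply lift_unique τ hτ
    · intro a
      rw [RingHom.comp_apply, hE2, ← RingHom.comp_apply, ← PowerSeries.map_comp]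
      congr 2
      exact (C.δ i k).comp_algebraMap
    · intro a
      rw [RingHom.comp_apply]
      erw [(C.δ i k).commutes]
      rw [hE2]
    · intro s
      simp only [RingHom.comp_apply]
      rw [← coeff_zero_eq_constantCoeff_apply, coeff_map, coeff_zero_eq_constantCoeff_apply,
        hE1, hE1]
  rw [C.D_apply, C.D_apply, map_sum, map_sum]
  refine Finset.sum_congr rfl fun k _ => ?_
  rw [map_zsmul, map_zsmul]
  congr 1
  have h1 := DFunLike.congr_fun (key k) x
  simp only [RingHom.comp_apply] at h1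
  have h2 : E (i+1) (C.δ i k x) = PowerSeries.map (C.δ i k : C.S i →+* C.S (i+1)) (E i x) := h1.symm
  rw [h2, coeff_map]
  rfl

/-- Hasse-Schmidt operators on the cohomology of a complex of formally étale algebras. -/
theorem CoAlg.HSL_H [∀ i, Algebra.FormallyEtale A (C.S i)] (xs : List A)
    (τ : Fin xs.length → A →+* PowerSeries A) (hτ : ∀ k a, constantCoeff (τ k a) = a)
    (hτ1 : ∀ k, τ k (xs.get k) = PowerSeries.C (xs.get k) + X)
    (hτ2 : ∀ k j, j < k → τ k (xs.get j) = PowerSeries.C (xs.get j)) (i : ℕ) :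
    EtLocHS.HSL xs (C.cx.H i) := by
  intro k
  obtain ⟨E, hE1, hE2, hE3⟩ := C.exists_endo (τ k) (hτ k)
  have hfun : ∀ b, ∃ f : Endo C.cx, ∀ i (x : C.S i), f.e i x = coeff b (E i x) := fun b =>
    ⟨{ e := fun i => (coeff b : PowerSeries (C.S i) →ₗ[C.S i] C.S i).toAddMonoidHom.comp
        (E i).toAddMonoidHom
       comm := fun i x => hE3 i b x }, fun _ _ => rfl⟩
  choose f hf using hfun
  have hsmul : ∀ (a : A) (i : ℕ) (s : C.S i), E i (a • s) =
      PowerSeries.map (algebraMap A _) (τ k a) * E i s := by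
    intro a i s
    rw [Algebra.smul_def, map_mul, hE2]
  -- the two formulas on cochains
  have htop : ∀ (n i : ℕ) (s : C.S i), coeff n (E i (xs.get k ^ n • s)) =
      ∑ b ∈ Finset.range (n + 1), n.choose b • xs.get k ^ b • coeff b (E i s) := by
    intro n i s
    rw [hsmul, map_pow, hτ1, map_pow, map_add, PowerSeries.map_C, PowerSeries.map_X, add_pow,
      Finset.sum_mul, map_sum]
    refine Finset.sum_congr rfl fun m hm => ?_
    have hm' : m ≤ n := Nat.lt_succ_iff.mp (Finset.mem_range.mp hm)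
    have h1 : (PowerSeries.C (algebraMap A (C.S i) (xs.get k)) ^ m * X ^ (n - m) *
        ((n.choose m : ℕ) : PowerSeries (C.S i)) * E i s : PowerSeries (C.S i)) =
        (n.choose m) • (X ^ (n - m) * (PowerSeries.C (algebraMap A (C.S i) (xs.get k) ^ m) * E i s)) := by
      rw [nsmul_eq_mul, map_pow]
      ring
    rw [h1, map_nsmul, PowerSeries.coeff_X_pow_mul', if_pos (Nat.sub_le _ _), coeff_C_mul,
      Nat.sub_sub_self hm', Algebra.smul_def (R := A), map_pow]
  have hcom : ∀ (j : Fin xs.length) (_ : j < k) (b i : ℕ) (s : C.S i),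
      coeff b (E i (xs.get j • s)) = xs.get j • coeff b (E i s) := by
    intro j hj b i s
    rw [hsmul, hτ2 k j hj, PowerSeries.map_C, coeff_C_mul, Algebra.smul_def]
  refine ⟨{ E := fun b => (f b).h i
            zero := ?_
            top := ?_ }, ?_⟩
  · intro z
    obtain ⟨z, rfl⟩ := C.cx.cls_surjective i z
    rw [Endo.h_cls]
    congr 1
    apply Subtype.ext
    refine (hf 0 (i+1) z.1).trans ?_
    rw [coeff_zero_eq_constantCoeff_apply]
    exact hE1 _ _
  · intro n z
    obtain ⟨z, rfl⟩ := C.cx.cls_surjective i z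
    simp only [← map_smul, Endo.h_cls, ← map_nsmul, ← map_sum]
    congr 1
    apply Subtype.ext
    rw [AddSubmonoidClass.coe_finsetSum]
    refine (hf n (i+1) (xs.get k ^ n • (show C.S (i+1) from z.1))).trans ((htop n (i+1) z.1).trans ?_)
    refine Finset.sum_congr rfl fun b _ => ?_
    exact congrArg (fun t : C.S (i+1) => n.choose b • xs.get k ^ b • t) (hf b (i+1) z.1).symm
  · intro j hj b z
    obtain ⟨z, rfl⟩ := C.cx.cls_surjective i z
    rw [← map_smul, Endo.h_cls, Endo.h_cls, ← map_smul]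
    congr 1
    apply Subtype.ext
    refine (hf b (i+1) (xs.get j • (show C.S (i+1) from z.1))).trans ((hcom j hj b (i+1) z.1).trans ?_)
    exact congrArg (fun t : C.S (i+1) => xs.get j • t) (hf b (i+1) z.1).symm

end coalg

end Groth.Agent.Pi1C.EtLocLift
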