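import Mathlib.Data.Fin.Parity
import Mathlib.Data.Fin.SuccPred
import Mathlib.Algebra.BigOperators.Fin
import Mathlib.RingTheory.Localization.Away.Basic
import Mathlib.Algebra.Module.LocalizedModule.Basic
import Groth.Agent.Pi1C.EtLocLift

/-!
Čech complexes with coefficients in a functor on submonoids (for S1158).
-/

set_option autoImplicit false

universe u v w

namespace Groth.Agent.Pi1C.EtLocCech

/-- The combinatorial identity behind `d ∘ d = 0`. -/
lemma alternating_sum_eq_zero {M : Type*} [AddCommGroup M] {n : ℕ} (f : Fin (n + 2) → Fin (n + 1) → M)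
    (hf : ∀ j k, f (j.succAbove k) (k.predAbove j) = f j k) :
    ∑ j : Fin (n + 2), ∑ k : Fin (n + 1), (-1 : ℤ) ^ (j + k : ℕ) • f j k = 0 := by
  rw [← Fintype.sum_prod_type' (f := fun (j : Fin (n + 2)) (k : Fin (n + 1)) => (-1 : ℤ) ^ (j + k : ℕ) • f j k)]
  refine Finset.sum_involution (fun p _ => (p.1.succAbove p.2, p.2.predAbove p.1)) ?_ ?_ ?_ ?_
  · rintro ⟨j, k⟩ -
    dsimp only
    rw [hf, Fin.neg_one_pow_succAbove_add_predAbove, neg_smul, add_neg_cancel]
  · rintro ⟨j, k⟩ - -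
    intro h
    exact Fin.succAbove_ne j k (congrArg Prod.fst h)
  · intros
    exact Finset.mem_univ _
  · rintro ⟨j, k⟩ -
    dsimp only
    rw [Fin.succAbove_succAbove_predAbove, Fin.predAbove_predAbove_succAbove]

/-- A functor from submonoids of `R` to `R`-modules. -/
structure Sys (R : Type u) [CommRing R] where
  L : Submonoid R → Type v
  [grp : ∀ N, AddCommGroup (L N)]
  [mod : ∀ N, Module R (L N)]
  res : ∀ {N N' : Submonoid R}, N ≤ N' → L N →ₗ[R] L N'
  res_refl : ∀ (N : Submonoid R) (x : L N), res le_rfl x = x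
  res_res : ∀ {N N' N'' : Submonoid R} (h : N ≤ N') (h' : N' ≤ N'') (x : L N),
    res h' (res h x) = res (h.trans h') x

attribute [instance] Sys.grp Sys.mod

variable {R : Type u} [CommRing R] {ι : Type w} (g : ι → R)

/-- The submonoid generated by the `g (s a)`. -/
def mon {p : ℕ} (s : Fin (p + 1) → ι) : Submonoid R := ⨆ a, Submonoid.powers (g (s a))

lemma powers_le_mon {p : ℕ} (s : Fin (p + 1) → ι) (a : Fin (p + 1)) :
    Submonoid.powers (g (s a)) ≤ mon g s := le_iSup (fun a => Submonoid.powers (g (s a))) a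

lemma mon_comp_le {p q : ℕ} (t : Fin (q + 1) → ι) (f : Fin (p + 1) → Fin (q + 1)) :
    mon g (t ∘ f) ≤ mon g t := iSup_le fun a => powers_le_mon g t (f a)

lemma mon_cons {p : ℕ} (k : ι) (s : Fin (p + 1) → ι) :
    mon g (Fin.cons k s : Fin (p + 2) → ι) = mon g s ⊔ Submonoid.powers (g k) := by
  apply le_antisymm
  · refine iSup_le fun a => ?_
    refine Fin.cases ?_ (fun b => ?_) a
    · simp
    · rw [Fin.cons_succ]
      exact (powers_le_mon g s b).trans le_sup_left
  · refine sup_le (iSup_le fun a => ?_) ?_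
    · have := powers_le_mon g (Fin.cons k s : Fin (p + 2) → ι) a.succ
      rwa [Fin.cons_succ] at this
    · have := powers_le_mon g (Fin.cons k s : Fin (p + 2) → ι) 0
      rwa [Fin.cons_zero] at this

namespace Sys

variable (F : Sys.{u, v} R)

/-- Cochains. -/
abbrev C (p : ℕ) : Type (max v w) := ∀ s : Fin (p + 1) → ι, F.L (mon g s)

/-- The coface maps. -/
def δ (p : ℕ) (k : Fin (p + 2)) : F.C g p →ₗ[R] F.C g (p + 1) :=
  LinearMap.pi fun t => (F.res (mon_comp_le g t k.succAbove)).comp (LinearMap.proj (t ∘ k.succAbove))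

lemma δ_apply (p : ℕ) (k : Fin (p + 2)) (x : F.C g p) (t : Fin (p + 2) → ι) :
    F.δ g p k x t = F.res (mon_comp_le g t k.succAbove) (x (t ∘ k.succAbove)) := rfl

lemma res_congr {p : ℕ} (x : F.C g p) {s s' : Fin (p + 1) → ι} (h : s = s') {N : Submonoid R}
    (hs : mon g s ≤ N) (hs' : mon g s' ≤ N) : F.res hs (x s) = F.res hs' (x s') := by
  subst h; rfl

/-- The differential. -/
def d (p : ℕ) : F.C g p →ₗ[R] F.C g (p + 1) := ∑ k : Fin (p + 2), (-1 : ℤ) ^ (k : ℕ) • F.δ g p k

lemma d_apply (p : ℕ) (x : F.C g p) :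
    F.d g p x = ∑ k : Fin (p + 2), (-1 : ℤ) ^ (k : ℕ) • F.δ g p k x := by
  rw [d, LinearMap.sum_apply]
  rfl

lemma d_apply_apply (p : ℕ) (x : F.C g p) (t : Fin (p + 2) → ι) :
    F.d g p x t = ∑ k : Fin (p + 2), (-1 : ℤ) ^ (k : ℕ) •
      F.res (mon_comp_le g t k.succAbove) (x (t ∘ k.succAbove)) := by
  rw [d_apply, Finset.sum_apply]
  rfl

lemma dd' (p : ℕ) (x : F.C g p) : ∑ j : Fin (p + 3), (-1 : ℤ) ^ (j : ℕ) •
    F.δ g (p + 1) j (∑ k : Fin (p + 2), (-1 : ℤ) ^ (k : ℕ) • F.δ g p k x) = 0 := by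
  have h1 : ∀ j : Fin (p + 3), (-1 : ℤ) ^ (j : ℕ) •
      F.δ g (p + 1) j (∑ k : Fin (p + 2), (-1 : ℤ) ^ (k : ℕ) • F.δ g p k x) =
      ∑ k : Fin (p + 2), (-1 : ℤ) ^ (j + k : ℕ) • F.δ g (p + 1) j (F.δ g p k x) := by
    intro j
    rw [map_sum, Finset.smul_sum]
    refine Finset.sum_congr rfl fun k _ => ?_
    rw [map_zsmul, smul_smul, pow_add]
  rw [Finset.sum_congr rfl fun j _ => h1 j]
  refine alternating_sum_eq_zero (fun j k => F.δ g (p + 1) j (F.δ g p k x)) fun j k => ?_
  funext t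
  simp only [δ_apply, res_res]
  apply F.res_congr
  funext a
  simp only [Function.comp_apply]
  rw [Fin.succAbove_succAbove_succAbove_predAbove]

lemma d_d (p : ℕ) (x : F.C g p) : F.d g (p + 1) (F.d g p x) = 0 := by
  rw [d_apply, d_apply]
  exact F.dd' g p x

/-- The system is of localization type at `r`. -/
structure Loc (r : R) : Prop where
  inj : ∀ (N : Submonoid R) (x : F.L N), F.res (le_sup_left : N ≤ N ⊔ Submonoid.powers r) x = 0 →
    ∃ n : ℕ, r ^ n • x = 0
  surj : ∀ (N : Submonoid R) (y : F.L (N ⊔ Submonoid.powers r)),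
    ∃ (n : ℕ) (x : F.L N), F.res le_sup_left x = r ^ n • y

lemma Loc.inj' {F : Sys.{u, v} R} {r : R} (h : F.Loc r) {N N' : Submonoid R} (hN : N ≤ N')
    (hN' : N' = N ⊔ Submonoid.powers r) (x : F.L N) (hx : F.res hN x = 0) : ∃ n : ℕ, r ^ n • x = 0 := by
  subst hN'
  exact h.inj N x hx

lemma Loc.surj' {F : Sys.{u, v} R} {r : R} (h : F.Loc r) {N N' : Submonoid R} (hN : N ≤ N')
    (hN' : N' = N ⊔ Submonoid.powers r) (y : F.L N') :
    ∃ (n : ℕ) (x : F.L N), F.res hN x = r ^ n • y := by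
  subst hN'
  exact h.surj N y

lemma mon_le_cons {p : ℕ} (k : ι) (s : Fin (p + 1) → ι) :
    mon g s ≤ mon g (Fin.cons k s : Fin (p + 2) → ι) := by
  rw [mon_cons]
  exact le_sup_left

/-- The Čech cohomology is torsion in positive degrees. -/
theorem exists_torsion [Finite ι] {k : ι} (h : F.Loc (g k)) (p : ℕ) (z : F.C g (p + 1))
    (hz : F.d g (p + 1) z = 0) : ∃ (n : ℕ) (w : F.C g p), F.d g p w = g k ^ n • z := by
  classical
  have hfin : ∀ q : ℕ, Finite (Fin (q + 1) → ι) := fun q => inferInstance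
  -- step 1: descend the components `cons k s`
  have h1 : ∀ s : Fin (p + 1) → ι, ∃ (n : ℕ) (x : F.L (mon g s)),
      F.res (mon_le_cons g k s) x = g k ^ n • z (Fin.cons k s : Fin (p + 2) → ι) := fun s =>
    h.surj' (mon_le_cons g k s) (mon_cons g k s) _
  choose n x hx using h1
  have := hfin p
  have := hfin (p + 1)
  let _ := Fintype.ofFinite (Fin (p + 1) → ι)
  let _ := Fintype.ofFinite (Fin (p + 2) → ι)
  let m := ∑ s, n s
  have hm : ∀ s, n s ≤ m := fun s => Finset.single_le_sum (fun _ _ => Nat.zero_le _) (Finset.mem_univ s)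
  let y : F.C g p := fun s => g k ^ (m - n s) • x s
  have hy : ∀ s, F.res (mon_le_cons g k s) (y s) = g k ^ m • z (Fin.cons k s : Fin (p + 2) → ι) := by
    intro s
    change F.res _ (g k ^ (m - n s) • x s) = _
    rw [map_smul, hx, smul_smul, ← pow_add, Nat.sub_add_cancel (hm s)]
  -- step 2: `d y - g^m z` dies in the localization
  have h2 : ∀ t : Fin (p + 2) → ι, F.res (mon_le_cons g k t) ((F.d g p y - g k ^ m • z) t) = 0 := by
    intro t
    have e1 := congrFun hz (Fin.cons k t : Fin (p + 3) → ι)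
    rw [d_apply_apply, Fin.sum_univ_succ] at e1
    simp only [Fin.val_zero, pow_zero, one_smul, Fin.val_succ, pow_succ, mul_neg, mul_one, neg_smul,
      Finset.sum_neg_distrib, Pi.zero_apply] at e1
    rw [Pi.sub_apply, map_sub, sub_eq_zero, d_apply_apply, map_sum]
    have e2 : ∀ j : Fin (p + 2), F.res (mon_le_cons g k t) ((-1 : ℤ) ^ (j : ℕ) •
        F.res (mon_comp_le g t j.succAbove) (y (t ∘ j.succAbove))) =
        g k ^ m • ((-1 : ℤ) ^ (j : ℕ) • F.res (mon_comp_le g (Fin.cons k t : Fin (p + 3) → ι) (j.succ).succAbove)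
          (z ((Fin.cons k t : Fin (p + 3) → ι) ∘ (j.succ).succAbove))) := by
      intro j
      have hc : (Fin.cons k t : Fin (p + 3) → ι) ∘ (j.succ).succAbove =
          (Fin.cons k (t ∘ j.succAbove) : Fin (p + 2) → ι) := by
        funext a
        refine Fin.cases ?_ (fun b => ?_) a
        · simp
        · simp [Fin.succ_succAbove_succ]
      have hle : mon g (Fin.cons k (t ∘ j.succAbove) : Fin (p + 2) → ι) ≤
          mon g (Fin.cons k t : Fin (p + 3) → ι) := by
        rw [← hc]; exact mon_comp_le g _ _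
      rw [map_zsmul, res_res, F.res_congr g z hc (mon_comp_le g _ _) hle, smul_comm (g k ^ m)]
      congr 1
      rw [← map_smul, ← hy, res_res]
    rw [Finset.sum_congr rfl fun j _ => e2 j, ← Finset.smul_sum]
    have e3 : F.res (mon_comp_le g (Fin.cons k t : Fin (p + 3) → ι) (0 : Fin (p + 3)).succAbove)
        (z ((Fin.cons k t : Fin (p + 3) → ι) ∘ (0 : Fin (p + 3)).succAbove)) =
        F.res (mon_le_cons g k t) (z t) := by
      apply F.res_congr
      funext a
      simp
    rw [e3] at e1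
    change _ = F.res _ (g k ^ m • z t)
    rw [map_smul]
    congr 1
    rw [← sub_eq_add_neg, sub_eq_zero] at e1
    exact e1.symm
  have h3 : ∀ t : Fin (p + 2) → ι, ∃ n : ℕ, g k ^ n • ((F.d g p y - g k ^ m • z) t) = 0 := fun t =>
    h.inj' (mon_le_cons g k t) (mon_cons g k t) _ (h2 t)
  choose n' hn' using h3
  let m' := ∑ s, n' s
  have hm' : ∀ s, n' s ≤ m' := fun s =>
    Finset.single_le_sum (fun _ _ => Nat.zero_le _) (Finset.mem_univ s)
  refine ⟨m' + m, g k ^ m' • y, ?_⟩
  rw [map_smul, pow_add, mul_smul, ← sub_eq_zero, ← smul_sub]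
  funext t
  change g k ^ m' • ((F.d g p y - g k ^ m • z) t) = 0
  rw [← Nat.sub_add_cancel (hm' t), pow_add, mul_smul, hn', smul_zero]

end Sys

end Groth.Agent.Pi1C.EtLocCech
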