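import Groth.Agent.Pi1C.EtLocSys
import Groth.Agent.Localalg.LCBasic
import Groth.Agent.Localalg.InjDecomp
import Groth.Agent.Localalg.InjHull
import Groth.Agent.FormalA.CechInj
import Mathlib.Algebra.Module.LocalizedModule.Exact

/-!
Comparison of Čech cohomology with local cohomology: if `H^{n+2}_I(M) = 0` then the Čech complex of `M` for
generators of `I` is exact in degree `n+1` (for S1158).
-/

set_option autoImplicit false

universe u v w

namespace Groth.Agent.Pi1C.EtLocCmp

open EtLocCech EtLocSys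

variable {R : Type u} [CommRing R]

section functor

variable {M M' M'' : Type v} [AddCommGroup M] [Module R M] [AddCommGroup M'] [Module R M']
  [AddCommGroup M''] [Module R M'']

/-- Functoriality of localizations. -/
noncomputable def mapL (N : Submonoid R) (φ : M →ₗ[R] M') : LocalizedModule N M →ₗ[R] LocalizedModule N M' :=
  IsLocalizedModule.map N (LocalizedModule.mkLinearMap N M) (LocalizedModule.mkLinearMap N M') φ

lemma mapL_mk (N : Submonoid R) (φ : M →ₗ[R] M') (m : M) (s : N) :
    mapL N φ (LocalizedModule.mk m s) = LocalizedModule.mk (φ m) s := by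
  have := IsLocalizedModule.map_mk' N (LocalizedModule.mkLinearMap N M) (LocalizedModule.mkLinearMap N M') φ m s
  rwa [← IsLocalizedModule.mk_eq_mk', ← IsLocalizedModule.mk_eq_mk'] at this

lemma mapL_injective (N : Submonoid R) (φ : M →ₗ[R] M') (h : Function.Injective φ) :
    Function.Injective (mapL N φ) := IsLocalizedModule.map_injective _ _ _ _ h

lemma mapL_surjective (N : Submonoid R) (φ : M →ₗ[R] M') (h : Function.Surjective φ) :
    Function.Surjective (mapL N φ) := IsLocalizedModule.map_surjective _ _ _ _ h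

lemma mapL_exact (N : Submonoid R) (φ : M →ₗ[R] M') (ψ : M' →ₗ[R] M'') (h : Function.Exact φ ψ) :
    Function.Exact (mapL N φ) (mapL N ψ) := IsLocalizedModule.map_exact N _ _ _ _ _ h

lemma mapL_mapL (N : Submonoid R) (φ : M →ₗ[R] M') (ψ : M' →ₗ[R] M'') (x : LocalizedModule N M) :
    mapL N ψ (mapL N φ x) = mapL N (ψ ∘ₗ φ) x := by
  induction x using LocalizedModule.induction_on with
  | h m s => rw [mapL_mk, mapL_mk, mapL_mk]; rfl

lemma mapL_res {N N' : Submonoid R} (h : N ≤ N') (φ : M →ₗ[R] M') (x : LocalizedModule N M) :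
    mapL N' φ (LocalizedModule.liftOfLE N N' h x) = LocalizedModule.liftOfLE N N' h (mapL N φ x) := by
  induction x using LocalizedModule.induction_on with
  | h m s => rw [liftOfLE_mk, mapL_mk, mapL_mk, liftOfLE_mk]

variable {ι : Type w} (g : ι → R)

/-- Functoriality of cochains. -/
noncomputable def mapC (p : ℕ) (φ : M →ₗ[R] M') : (modSys (R := R) M).C g p →ₗ[R] (modSys (R := R) M').C g p :=
  LinearMap.pi fun s => (mapL (mon g s) φ).comp (LinearMap.proj s)

lemma mapC_apply (p : ℕ) (φ : M →ₗ[R] M') (x : (modSys (R := R) M).C g p) (s : Fin (p + 1) → ι) :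
    mapC g p φ x s = mapL (mon g s) φ (x s) := rfl

lemma mapC_d (p : ℕ) (φ : M →ₗ[R] M') (x : (modSys (R := R) M).C g p) :
    mapC g (p + 1) φ ((modSys M).d g p x) = (modSys M').d g p (mapC g p φ x) := by
  funext t
  rw [mapC_apply, Sys.d_apply_apply, Sys.d_apply_apply, map_sum]
  refine Finset.sum_congr rfl fun k _ => ?_
  rw [map_zsmul, mapL_res]
  rfl

lemma mapC_injective (p : ℕ) (φ : M →ₗ[R] M') (h : Function.Injective φ) :
    Function.Injective (mapC g p φ) := by
  intro x y hxy
  funext s
  exact mapL_injective _ _ h (congrFun hxy s)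

lemma mapC_surjective (p : ℕ) (φ : M →ₗ[R] M') (h : Function.Surjective φ) :
    Function.Surjective (mapC g p φ) := by
  intro y
  choose x hx using fun s => mapL_surjective (mon g s) φ h (y s)
  exact ⟨x, funext hx⟩

lemma mapC_exact (p : ℕ) (φ : M →ₗ[R] M') (ψ : M' →ₗ[R] M'') (h : Function.Exact φ ψ) :
    Function.Exact (mapC g p φ) (mapC g p ψ) := by
  intro y
  constructor
  · intro hy
    choose x hx using fun s => (mapL_exact (mon g s) φ ψ h (y s)).mp (congrFun hy s)
    exact ⟨x, funext hx⟩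
  · rintro ⟨x, rfl⟩
    funext s
    exact (mapL_exact (mon g s) φ ψ h _).mpr ⟨x s, rfl⟩

variable (M) in
/-- The augmentation. -/
noncomputable def aug : M →ₗ[R] (modSys (R := R) M).C g 0 :=
  LinearMap.pi fun s => LocalizedModule.mkLinearMap (mon g s) M

lemma aug_apply (m : M) (s : Fin 1 → ι) : aug M g m s = LocalizedModule.mk m 1 := rfl

lemma mapC_aug (φ : M →ₗ[R] M') (m : M) : mapC g 0 φ (aug M g m) = aug M' g (φ m) := by
  funext s
  rw [mapC_apply, aug_apply, mapL_mk, aug_apply]

lemma d_aug (m : M) : (modSys M).d g 0 (aug M g m) = 0 := by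
  funext t
  rw [Sys.d_apply_apply]
  simp only [aug_apply, liftOfLE_mk]
  rw [Fin.sum_univ_two]
  simp

variable (M) in
/-- Augmentation surjects onto the zero cocycles. -/
def AugSurj : Prop := ∀ z : (modSys (R := R) M).C g 0, (modSys M).d g 0 z = 0 → ∃ m, aug M g m = z

/-- Exactness passes through dimension shifting, first step. -/
lemma exact_zero_of_augSurj (φ : M →ₗ[R] M') (ψ : M' →ₗ[R] M'') (hφ : Function.Injective φ)
    (hψ : Function.Surjective ψ) (h : Function.Exact φ ψ) (hE : Exact g (modSys M') 0)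
    (hQ : AugSurj M'' g) : Exact g (modSys M) 0 := by
  intro z hz
  obtain ⟨w, hw⟩ := hE (mapC g 1 φ z) (by rw [← mapC_d, hz, map_zero])
  obtain ⟨q, hq⟩ := hQ (mapC g 0 ψ w) (by
    rw [← mapC_d, hw]
    exact (mapC_exact g 1 φ ψ h _).mpr ⟨z, rfl⟩)
  obtain ⟨e, rfl⟩ := hψ q
  obtain ⟨v, hv⟩ := (mapC_exact g 0 φ ψ h (w - aug M' g e)).mp (by
    rw [map_sub, mapC_aug, hq, sub_self])
  refine ⟨v, mapC_injective g 1 φ hφ ?_⟩
  rw [mapC_d, hv, map_sub, d_aug, sub_zero, hw]

/-- Exactness passes through dimension shifting. -/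
lemma exact_succ_of_exact (p : ℕ) (φ : M →ₗ[R] M') (ψ : M' →ₗ[R] M'') (hφ : Function.Injective φ)
    (hψ : Function.Surjective ψ) (h : Function.Exact φ ψ) (hE : Exact g (modSys M') (p + 1))
    (hQ : Exact g (modSys M'') p) : Exact g (modSys M) (p + 1) := by
  intro z hz
  obtain ⟨w, hw⟩ := hE (mapC g _ φ z) (by rw [← mapC_d, hz, map_zero])
  obtain ⟨q, hq⟩ := hQ (mapC g _ ψ w) (by
    rw [← mapC_d, hw]
    exact (mapC_exact g _ φ ψ h _).mpr ⟨z, rfl⟩)
  obtain ⟨e, rfl⟩ := mapC_surjective g p ψ hψ q
  obtain ⟨v, hv⟩ := (mapC_exact g (p + 1) φ ψ h (w - (modSys M').d g p e)).mp (by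
    rw [map_sub, mapC_d, hq, sub_self])
  refine ⟨v, mapC_injective g _ φ hφ ?_⟩
  rw [mapC_d, hv, map_sub, Sys.d_d, sub_zero, hw]

end functor

/-! ### Injective modules -/

lemma bijective_pow {g : R} {N : Type v} [AddCommGroup N] [Module R N]
    (h : Function.Bijective fun n : N => g • n) (k : ℕ) : Function.Bijective fun n : N => g ^ k • n := by
  induction k with
  | zero =>
    have : (fun n : N => g ^ 0 • n) = id := by funext n; simp
    rw [this]
    exact Function.bijective_id
  | succ k ih =>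
    have : (fun n : N => g ^ (k + 1) • n) = (fun n : N => g ^ k • n) ∘ fun n : N => g • n := by
      funext n
      simp [pow_succ, mul_smul]
    rw [this]
    exact ih.comp h

section inj

variable {ι : Type w} (g : ι → R)

/-- Čech acyclic modules. -/
def Good (M : Type v) [AddCommGroup M] [Module R M] : Prop :=
  (∀ p, Exact g (modSys (R := R) M) p) ∧ AugSurj M g

variable {M : Type v} [AddCommGroup M] [Module R M]

lemma Good.of_sum {M₁ M₂ : Type v} [AddCommGroup M₁] [Module R M₁] [AddCommGroup M₂] [Module R M₂]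
    (i₁ : M₁ →ₗ[R] M) (r₁ : M →ₗ[R] M₁) (i₂ : M₂ →ₗ[R] M) (r₂ : M →ₗ[R] M₂)
    (h : ∀ x, i₁ (r₁ x) + i₂ (r₂ x) = x) (h₁ : Good g M₁) (h₂ : Good g M₂) : Good g M := by
  have key : ∀ (p : ℕ) (z : (modSys (R := R) M).C g p),
      mapC g p i₁ (mapC g p r₁ z) + mapC g p i₂ (mapC g p r₂ z) = z := by
    intro p z
    funext s
    change mapL _ i₁ (mapL _ r₁ (z s)) + mapL _ i₂ (mapL _ r₂ (z s)) = z s
    induction z s using LocalizedModule.induction_on with
    | h m c =>
      rw [mapL_mk, mapL_mk, mapL_mk, mapL_mk]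
      have h3 : ∀ m m' : M, LocalizedModule.mk m c + LocalizedModule.mk m' c = LocalizedModule.mk (m + m') c := by
        intro m m'
        rw [LocalizedModule.mk_add_mk, ← smul_add, LocalizedModule.mk_cancel_common_left]
      rw [h3, h]
  refine ⟨fun p z hz => ?_, fun z hz => ?_⟩
  · obtain ⟨w₁, hw₁⟩ := h₁.1 p (mapC g _ r₁ z) (by rw [← mapC_d, hz, map_zero])
    obtain ⟨w₂, hw₂⟩ := h₂.1 p (mapC g _ r₂ z) (by rw [← mapC_d, hz, map_zero])
    refine ⟨mapC g _ i₁ w₁ + mapC g _ i₂ w₂, ?_⟩
    rw [map_add, ← mapC_d, ← mapC_d, hw₁, hw₂, key]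
  · obtain ⟨w₁, hw₁⟩ := h₁.2 (mapC g _ r₁ z) (by rw [← mapC_d, hz, map_zero])
    obtain ⟨w₂, hw₂⟩ := h₂.2 (mapC g _ r₂ z) (by rw [← mapC_d, hz, map_zero])
    refine ⟨i₁ w₁ + i₂ w₂, ?_⟩
    rw [map_add, ← mapC_aug, ← mapC_aug, hw₁, hw₂, key]

lemma Good.of_torsion (h : ∀ (i : ι) (x : M), ∃ n : ℕ, g i ^ n • x = 0) : Good g M := by
  have h1 : ∀ (p : ℕ) (s : Fin (p + 1) → ι) (x : LocalizedModule (mon g s) M), x = 0 := by
    intro p s x
    induction x using LocalizedModule.induction_on with
    | h m c =>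
      obtain ⟨n, hn⟩ := h (s 0) m
      rw [← LocalizedModule.zero_mk c, LocalizedModule.mk_eq]
      refine ⟨⟨g (s 0) ^ n, powers_le_mon g s 0 ⟨n, rfl⟩⟩, ?_⟩
      rw [smul_zero, smul_zero, smul_comm]
      change c • g (s 0) ^ n • m = 0
      rw [hn, smul_zero]
  refine ⟨fun p z _ => ⟨0, ?_⟩, fun z _ => ⟨0, ?_⟩⟩
  · funext s
    rw [h1 _ s (z s)]
    exact h1 _ s _
  · funext s
    rw [h1 _ s (z s)]
    exact h1 _ s _

lemma loc_modSys (r : R) : (modSys (R := R) M).Loc r where
  inj N x hx := by
    induction x using LocalizedModule.induction_on with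
    | h m s =>
      rw [liftOfLE_mk, ← LocalizedModule.zero_mk (1 : ↥(N ⊔ Submonoid.powers r)), LocalizedModule.mk_eq] at hx
      obtain ⟨⟨c, hc⟩, hx⟩ := hx
      obtain ⟨a, ha, b, ⟨k, rfl⟩, rfl⟩ := Submonoid.mem_sup.mp hc
      refine ⟨k, ?_⟩
      rw [smul_zero, smul_zero, one_smul] at hx
      rw [LocalizedModule.smul'_mk, ← LocalizedModule.zero_mk s, LocalizedModule.mk_eq]
      refine ⟨⟨a, ha⟩, ?_⟩
      rw [smul_zero, smul_zero]
      have hx' : (a * r ^ k) • m = 0 := hx
      change a • s.1 • r ^ k • m = 0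
      rw [smul_comm a s.1, ← mul_smul a, hx', smul_zero]
  surj N y := by
    induction y using LocalizedModule.induction_on with
    | h m s =>
      obtain ⟨c, hc⟩ := s
      obtain ⟨a, ha, b, ⟨k, rfl⟩, rfl⟩ := Submonoid.mem_sup.mp hc
      refine ⟨k, LocalizedModule.mk m ⟨a, ha⟩, ?_⟩
      rw [liftOfLE_mk, LocalizedModule.smul'_mk, LocalizedModule.mk_eq]
      refine ⟨1, ?_⟩
      rw [one_smul, one_smul]
      change (a * r ^ k) • m = a • r ^ k • m
      rw [mul_smul]

lemma Good.of_bijective [Finite ι] (k : ι) (h : Function.Bijective fun x : M => g k • x) : Good g M := by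
  have hinj : ∀ (N : Submonoid R) (x : LocalizedModule N M), g k • x = 0 → x = 0 := by
    intro N x hx
    induction x using LocalizedModule.induction_on with
    | h m s =>
      rw [LocalizedModule.smul'_mk, ← LocalizedModule.zero_mk s, LocalizedModule.mk_eq] at hx
      obtain ⟨c, hx⟩ := hx
      rw [smul_zero, smul_zero] at hx
      rw [← LocalizedModule.zero_mk s, LocalizedModule.mk_eq]
      refine ⟨c, ?_⟩
      rw [smul_zero, smul_zero]
      apply h.1
      change g k • c.1 • s.1 • m = g k • (0 : M)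
      rw [smul_zero, smul_comm, smul_comm (g k)]
      exact hx
  have hinjn : ∀ (n : ℕ) (N : Submonoid R) (x : LocalizedModule N M), g k ^ n • x = 0 → x = 0 := by
    intro n N
    induction n with
    | zero => intro x hx; simpa using hx
    | succ n ih =>
      intro x hx
      rw [pow_succ, mul_smul] at hx
      exact hinj N x (ih _ hx)
  have hsurj : ∀ (N : Submonoid R) (x : LocalizedModule N M), ∃ y, g k • y = x := by
    intro N x
    induction x using LocalizedModule.induction_on with
    | h m s =>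
      obtain ⟨m', rfl⟩ := h.2 m
      exact ⟨LocalizedModule.mk m' s, LocalizedModule.smul'_mk _ _ _⟩
  have hsurjn : ∀ (n : ℕ) (N : Submonoid R) (x : LocalizedModule N M), ∃ y, g k ^ n • y = x := by
    intro n N
    induction n with
    | zero => intro x; exact ⟨x, by simp⟩
    | succ n ih =>
      intro x
      obtain ⟨y, rfl⟩ := ih x
      obtain ⟨z, rfl⟩ := hsurj N y
      exact ⟨z, by rw [pow_succ, mul_smul]⟩
  refine ⟨fun p z hz => ?_, fun z hz => ?_⟩
  · obtain ⟨n, w, hw⟩ := Sys.exists_torsion g (modSys M) (loc_modSys (g k)) p z hz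
    choose w' hw' using fun s => hsurjn n (mon g s) (w s)
    refine ⟨w', ?_⟩
    rw [← sub_eq_zero]
    funext t
    refine hinjn n _ _ ?_
    have h1 : g k ^ n • ((modSys M).d g p w' - z) = 0 := by
      have : g k ^ n • w' = w := funext hw'
      rw [smul_sub, ← map_smul, this, hw, sub_self]
    exact congrFun h1 t
  · -- the component at `k`
    let s₀ : Fin 1 → ι := fun _ => k
    obtain ⟨m, hm⟩ : ∃ m : M, LocalizedModule.mk m 1 = z s₀ := by
      induction z s₀ using LocalizedModule.induction_on with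
      | h m c =>
        obtain ⟨c, hc⟩ := c
        have hc' : c ∈ Submonoid.powers (g k) := by
          have : mon g s₀ = Submonoid.powers (g k) := by simp [mon, s₀]
          rwa [this] at hc
        obtain ⟨n, rfl⟩ := hc'
        obtain ⟨m', rfl⟩ := (bijective_pow h n).2 m
        refine ⟨m', ?_⟩
        rw [LocalizedModule.mk_eq]
        refine ⟨1, ?_⟩
        rw [one_smul, one_smul, one_smul]
        rfl
    refine ⟨m, ?_⟩
    funext s
    have h1 := congrFun hz (Fin.cons k s : Fin 2 → ι)
    rw [Sys.d_apply_apply, Fin.sum_univ_two] at h1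
    simp only [Fin.val_zero, pow_zero, one_smul, Fin.val_one, pow_one, neg_smul, Pi.zero_apply] at h1
    have e0 : (Fin.cons k s : Fin 2 → ι) ∘ (0 : Fin 2).succAbove = s := by
      funext a
      simp
    have e1 : (Fin.cons k s : Fin 2 → ι) ∘ (1 : Fin 2).succAbove = s₀ := by
      funext a
      fin_cases a
      simp [s₀]
    have hle0 : mon g s₀ ≤ mon g (Fin.cons k s : Fin 2 → ι) := by
      rw [← e1]
      exact mon_comp_le g _ _
    rw [Sys.res_congr g (modSys M) z e0 _ (Sys.mon_le_cons g k s),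
      Sys.res_congr g (modSys M) z e1 _ hle0, ← sub_eq_add_neg, sub_eq_zero] at h1
    have h2 : (modSys M).res (Sys.mon_le_cons g k s) (z s - aug M g m s) = 0 := by
      rw [map_sub, h1, ← hm, aug_apply, liftOfLE_mk, liftOfLE_mk]
      exact sub_self _
    obtain ⟨n, hn⟩ := (loc_modSys (M := M) (g k)).inj' (Sys.mon_le_cons g k s) (mon_cons g k s) _ h2
    exact (sub_eq_zero.mp (hinjn n _ _ hn)).symm

variable [IsNoetherianRing R] [Finite ι]

theorem good_of_injective_aux (g : ι → R) (T : Finset ι) :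
    ∀ (E : Type u) [AddCommGroup E] [Module R E], Module.Injective R E →
      (∀ i ∉ T, FormalA.CechInj.Dec (g i) E) → Good g E := by
  classical
  induction T using Finset.induction_on with
  | empty =>
    intro E _ _ hE hdec
    by_cases h : ∃ i, Function.Bijective fun n : E => g i • n
    · obtain ⟨i, hi⟩ := h
      exact Good.of_bijective g i hi
    · push Not at h
      exact Good.of_torsion g fun i n => ((hdec i (by simp)).resolve_left (h i)) n
  | insert i T hi ih =>
    intro E _ _ hE hdec
    let Γ : Submodule R E :=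
      ⨆ n : ℕ, Submodule.torsionBySet R E (((Ideal.span {g i}) ^ n : Ideal R) : Set R)
    have hΓ : Module.Injective R Γ :=
      Groth.Agent.Localalg.InjDecomp.injective_powerTorsion E hE (Ideal.span {g i})
    obtain ⟨r, hr⟩ := hΓ.out Γ.subtype Γ.injective_subtype LinearMap.id
    have hcompl : IsCompl Γ (LinearMap.ker r) :=
      LinearMap.isCompl_of_proj (f := r) hr
    have hE' : Module.Injective R (LinearMap.ker r) :=
      Groth.Agent.Localalg.InjDecomp.injective_of_isCompl hE hcompl.symm
    have hmem : ∀ x : E, x ∈ Γ ↔ ∃ k : ℕ, g i ^ k • x = 0 := fun x => FormalA.CechInj.mem_torsion_iff x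
    have h1 : Good g Γ := by
      refine ih Γ hΓ fun j hj => ?_
      by_cases hji : j = i
      · subst hji
        refine Or.inr fun n => ?_
        obtain ⟨k, hk⟩ := (hmem n.1).1 n.2
        exact ⟨k, Subtype.ext hk⟩
      · exact (hdec j (by simp [hji, hj])).of_isCompl hcompl
    have h2 : Good g (LinearMap.ker r) := by
      refine ih (LinearMap.ker r) hE' fun j hj => ?_
      by_cases hji : j = i
      · subst hji
        refine Or.inl (FormalA.CechInj.bijective_of_injective hE' ?_)
        have : ∀ n : LinearMap.ker r, g j • n = 0 → n = 0 := by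
          intro n hn
          have h3 : n.1 ∈ Γ := (hmem n.1).2 ⟨1, by rw [pow_one]; exact congrArg Subtype.val hn⟩
          have h4 : n.1 ∈ Γ ⊓ LinearMap.ker r := ⟨h3, n.2⟩
          rw [hcompl.inf_eq_bot, Submodule.mem_bot] at h4
          exact Subtype.ext h4
        intro a b hab
        rw [← sub_eq_zero]
        apply this
        rw [smul_sub, sub_eq_zero]
        exact hab
      · exact (hdec j (by simp [hji, hj])).of_isCompl hcompl.symm
    have hker : ∀ x : E, (LinearMap.id - Γ.subtype ∘ₗ r : E →ₗ[R] E) x ∈ LinearMap.ker r := by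
      intro x
      rw [LinearMap.mem_ker, LinearMap.sub_apply, map_sub, LinearMap.comp_apply, hr]
      simp
    refine Good.of_sum g Γ.subtype r (LinearMap.ker r).subtype
      (LinearMap.codRestrict (LinearMap.ker r) (LinearMap.id - Γ.subtype ∘ₗ r : E →ₗ[R] E) hker)
      (fun x => ?_) h1 h2
    simp

/-- Injective modules over a Noetherian ring are Čech acyclic. -/
theorem good_of_injective (g : ι → R) (E : Type u) [AddCommGroup E] [Module R E]
    (hE : Module.Injective R E) : Good g E := by
  classical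
  cases nonempty_fintype ι
  exact good_of_injective_aux g Finset.univ E hE fun i hi => absurd (Finset.mem_univ i) hi

/-- If `H^1_I(Q) = 0` then `Q` surjects onto the zero cocycles. -/
theorem augSurj_of_subsingleton (g : ι → R) (Q : Type u) [AddCommGroup Q] [Module R Q]
    (h : Subsingleton (LocCoh.H (Ideal.span (Set.range g)) 1 Q)) : AugSurj Q g := by
  set I := Ideal.span (Set.range g) with hI
  obtain ⟨E, _, _, i, hi, hE⟩ := Localalg.InjHull.exists_embedding_injective R Q
  let π : E →ₗ[R] (E ⧸ LinearMap.range i) := Submodule.mkQ _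
  have hπ : Function.Surjective π := Submodule.mkQ_surjective _
  have hex : Function.Exact i π := LinearMap.exact_map_mkQ_range i
  intro z hz
  obtain ⟨e, he⟩ := (good_of_injective g E hE).2 (mapC g 0 i z) (by rw [← mapC_d, hz, map_zero])
  have h1 : aug _ g (π e) = 0 := by
    rw [← mapC_aug, he]
    exact (mapC_exact g 0 i π hex _).mpr ⟨z, rfl⟩
  -- `π e` is power torsion
  have h2 : π e ∈ Localalg.LCBasic.powTors I (E ⧸ LinearMap.range i) := by
    have h3 : ∀ j : ι, ∃ n : ℕ, g j ^ n • π e = 0 := by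
      intro j
      have h4 := congrFun h1 (fun _ => j)
      rw [aug_apply] at h4
      have h5 : LocalizedModule.mk (π e) (1 : mon g (fun _ : Fin 1 => j)) = 0 := h4
      rw [← LocalizedModule.zero_mk 1, LocalizedModule.mk_eq] at h5
      obtain ⟨⟨c, hc⟩, h5⟩ := h5
      have hc' : c ∈ Submonoid.powers (g j) := by
        have : mon g (fun _ : Fin 1 => j) = Submonoid.powers (g j) := by simp [mon]
        rwa [this] at hc
      obtain ⟨n, rfl⟩ := hc'
      refine ⟨n, ?_⟩
      rw [smul_zero, smul_zero, one_smul] at h5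
      exact h5
    have h4 : I ≤ (Ideal.torsionOf R _ (π e)).radical := by
      rw [hI, Ideal.span_le]
      rintro _ ⟨j, rfl⟩
      obtain ⟨n, hn⟩ := h3 j
      exact ⟨n, (Ideal.mem_torsionOf_iff _ _).mpr hn⟩
    obtain ⟨n, hn⟩ := Ideal.exists_pow_le_of_le_radical_of_fg h4 (IsNoetherian.noetherian _)
    exact ⟨n, fun a ha => (Ideal.mem_torsionOf_iff _ _).mp (hn ha)⟩
  obtain ⟨y, hy⟩ : ∃ y, Localalg.LCBasic.H0toM I (E ⧸ LinearMap.range i) y = π e := by
    rw [← Localalg.LCBasic.range_H0toM] at h2
    exact h2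
  obtain ⟨y', hy'⟩ := (Localalg.LCBasic.exact₃ I i π hi hπ hex 0 y).mp (Subsingleton.elim _ _)
  let e'' := Localalg.LCBasic.H0toM I E y'
  have he'' : π e'' = π e := by
    rw [← Localalg.LCBasic.H0toM_natural, hy', hy]
  have htors : e'' ∈ Localalg.LCBasic.powTors I E := by
    rw [← Localalg.LCBasic.range_H0toM]
    exact ⟨y', rfl⟩
  obtain ⟨q, hq⟩ := (hex (e - e'')).mp (by rw [map_sub, he'', sub_self])
  refine ⟨q, mapC_injective g 0 i hi ?_⟩
  rw [mapC_aug, hq, map_sub, he, sub_eq_self]
  funext s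
  rw [aug_apply]
  obtain ⟨n, hn⟩ := htors
  have h6 : LocalizedModule.mk e'' (1 : mon g s) = LocalizedModule.mk 0 1 := by
    rw [LocalizedModule.mk_eq]
    refine ⟨⟨g (s 0) ^ n, powers_le_mon g s 0 ⟨n, rfl⟩⟩, ?_⟩
    rw [smul_zero, smul_zero, one_smul]
    have h7 : g (s 0) ^ n ∈ I ^ n := Ideal.pow_mem_pow (Ideal.subset_span (Set.mem_range_self _)) n
    exact hn _ h7
  exact h6.trans (LocalizedModule.zero_mk _)

/-- Main comparison theorem. -/
theorem exact_of_subsingleton (g : ι → R) (n : ℕ) : ∀ (M : Type u) [AddCommGroup M] [Module R M]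
    (_ : Subsingleton (LocCoh.H (Ideal.span (Set.range g)) (n + 2) M)), Exact g (modSys (R := R) M) n := by
  set I := Ideal.span (Set.range g) with hI
  induction n with
  | zero =>
    intro M _ _ h
    obtain ⟨E, _, _, i, hi, hE⟩ := Localalg.InjHull.exists_embedding_injective R M
    let π : E →ₗ[R] (E ⧸ LinearMap.range i) := Submodule.mkQ _
    have hπ : Function.Surjective π := Submodule.mkQ_surjective _
    have hex : Function.Exact i π := LinearMap.exact_map_mkQ_range i
    refine exact_zero_of_augSurj g i π hi hπ hex ((good_of_injective g E hE).1 0)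
      (augSurj_of_subsingleton g _ ?_)
    refine ⟨fun a b => ?_⟩
    have key : ∀ a : LocCoh.H I 1 (E ⧸ LinearMap.range i), a = 0 := by
      intro a
      obtain ⟨y, rfl⟩ := (Localalg.LCBasic.exact₃ I i π hi hπ hex 1 a).mp (Subsingleton.elim _ _)
      have := Localalg.LCBasic.subsingleton_of_injective I (M := E) 0
      rw [Subsingleton.elim y 0, map_zero]
    rw [key a, key b]
  | succ n ih =>
    intro M _ _ h
    obtain ⟨E, _, _, i, hi, hE⟩ := Localalg.InjHull.exists_embedding_injective R M
    let π : E →ₗ[R] (E ⧸ LinearMap.range i) := Submodule.mkQ _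
    have hπ : Function.Surjective π := Submodule.mkQ_surjective _
    have hex : Function.Exact i π := LinearMap.exact_map_mkQ_range i
    refine exact_succ_of_exact g n i π hi hπ hex ((good_of_injective g E hE).1 _) (ih _ ?_)
    refine ⟨fun a b => ?_⟩
    have key : ∀ a : LocCoh.H I (n + 2) (E ⧸ LinearMap.range i), a = 0 := by
      intro a
      obtain ⟨y, rfl⟩ := (Localalg.LCBasic.exact₃ I i π hi hπ hex (n + 2) a).mp (Subsingleton.elim _ _)
      have := Localalg.LCBasic.subsingleton_of_injective I (M := E) (n + 1)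
      rw [Subsingleton.elim y 0, map_zero]
    rw [key a, key b]

end inj

end Groth.Agent.Pi1C.EtLocCmp
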