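import Mathlib.RingTheory.Regular.RegularSequence
import Mathlib.Algebra.Module.Torsion.Basic
import Mathlib.LinearAlgebra.Isomorphisms

/-!
Abstract homological lemma for S1158: if the higher cohomology modules of a complex `C` of
`A`-modules on which `ys` is regular and generates the unit ideal are coregular with respect to
`ys` and `H^{d-1}(C) = 0` (`d = ys.length`), then `H^0(C) = (ys) H^0(C)`.
-/

set_option autoImplicit false

universe u v w

open Submodule RingTheory.Sequence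
open scoped Pointwise

namespace Groth.Agent.Pi1C.EtLocCx

variable {A : Type u} [CommRing A]

/-- Coregular: `y₁` is surjective on `N`, `y₂` is surjective on `N[y₁]` etc. -/
def Coreg : List A → ∀ (N : Type v) [AddCommGroup N] [Module A N], Prop
  | [], _, _, _ => True
  | y :: ys, N, _, _ => (∀ z : N, ∃ w : N, y • w = z) ∧ Coreg ys (torsionBy A N y)

lemma coreg_nil (N : Type v) [AddCommGroup N] [Module A N] : Coreg ([] : List A) N := trivial

lemma coreg_cons {y : A} {ys : List A} {N : Type v} [AddCommGroup N] [Module A N] :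
    Coreg (y :: ys) N ↔ (∀ z : N, ∃ w : N, y • w = z) ∧ Coreg ys (torsionBy A N y) := Iff.rfl

/-- The restriction of a linear equivalence to torsion submodules. -/
def torsionEquiv (y : A) {N : Type v} {N' : Type w} [AddCommGroup N] [Module A N] [AddCommGroup N']
    [Module A N'] (e : N ≃ₗ[A] N') : torsionBy A N y ≃ₗ[A] torsionBy A N' y :=
  e.ofSubmodules _ _ (by
    ext z
    simp only [Submodule.mem_map, mem_torsionBy_iff, LinearEquiv.coe_coe]
    constructor
    · rintro ⟨w, hw, rfl⟩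
      rw [← map_smul, hw, map_zero]
    · intro hz
      exact ⟨e.symm z, by rw [← map_smul, hz, map_zero], e.apply_symm_apply z⟩)

lemma Coreg.congr {ys : List A} : ∀ {N : Type v} {N' : Type w} [AddCommGroup N] [Module A N]
    [AddCommGroup N'] [Module A N'] (_ : N ≃ₗ[A] N') (_ : Coreg ys N), Coreg ys N' := by
  induction ys with
  | nil => intros; trivial
  | cons y ys ih =>
    intro N N' _ _ _ _ e h
    refine ⟨fun z => ?_, ih (torsionEquiv y e) h.2⟩
    obtain ⟨w, hw⟩ := h.1 (e.symm z)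
    exact ⟨e w, by rw [← map_smul, hw, e.apply_symm_apply]⟩

/-- The key step: `Tor₁(A/(rs), N'') = 0` for `N''` coregular and `rs` of length at least two. -/
lemma smul_top_of_exact {N' N : Type v} {N'' : Type w} [AddCommGroup N'] [Module A N'] [AddCommGroup N]
    [Module A N] [AddCommGroup N''] [Module A N''] (f : N' →ₗ[A] N) (g : N →ₗ[A] N'')
    (hf : Function.Injective f) (hg : Function.Surjective g) (hfg : Function.Exact f g)
    (y₁ y₂ : A) (rest : List A) (hN : Coreg (y₁ :: y₂ :: rest) N'')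
    (htop : Ideal.ofList (y₁ :: y₂ :: rest) • (⊤ : Submodule A N) = ⊤) :
    Ideal.ofList (y₁ :: y₂ :: rest) • (⊤ : Submodule A N') = ⊤ := by
  set J' := Ideal.ofList (y₂ :: rest) with hJ'
  have hJ : Ideal.ofList (y₁ :: y₂ :: rest) = Ideal.span {y₁} ⊔ J' := by
    rw [Ideal.ofList_cons]
  -- step 1
  have step1 : ∀ n ∈ J' • (⊤ : Submodule A N), ∃ b ∈ J' • (⊤ : Submodule A N'), ∃ c : N,
      n = f b + y₁ • c := by
    intro n hn
    induction hn using Submodule.smul_induction_on' with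
    | smul r hr m _ =>
      obtain ⟨c'', hc''⟩ := hN.1 (g m)
      obtain ⟨c, rfl⟩ := hg c''
      have h1 : g (m - y₁ • c) = 0 := by rw [map_sub, map_smul, hc'', sub_self]
      obtain ⟨b, hb⟩ := (hfg _).mp h1
      refine ⟨r • b, Submodule.smul_mem_smul hr trivial, r • c, ?_⟩
      rw [map_smul, hb, smul_sub, smul_comm y₁ r c, sub_add_cancel]
    | add a ha b hb ha' hb' =>
      obtain ⟨b1, hb1, c1, e1⟩ := ha'
      obtain ⟨b2, hb2, c2, e2⟩ := hb'
      exact ⟨b1 + b2, add_mem hb1 hb2, c1 + c2, by rw [e1, e2, map_add, smul_add]; abel⟩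
  rw [eq_top_iff]
  intro a _
  have ha : f a ∈ Ideal.ofList (y₁ :: y₂ :: rest) • (⊤ : Submodule A N) := by
    rw [htop]; trivial
  rw [hJ, Submodule.sup_smul, Submodule.mem_sup] at ha
  obtain ⟨n₁, hn₁, n₂, hn₂, hsum⟩ := ha
  obtain ⟨b, hb, c, hbc⟩ := step1 n₂ hn₂
  obtain ⟨m₁, -, hm₁⟩ : ∃ m₁ ∈ (⊤ : Submodule A N), y₁ • m₁ = n₁ := by
    rw [Submodule.ideal_span_singleton_smul] at hn₁
    exact (Submodule.mem_smul_pointwise_iff_exists _ _ _).mp hn₁
  -- `f (a - b) = y₁ • (m₁ + c)`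
  have h2 : f (a - b) = y₁ • (m₁ + c) := by
    rw [map_sub, ← hsum, hbc, ← hm₁, smul_add]; abel
  have h3 : y₁ • g (m₁ + c) = 0 := by
    rw [← map_smul, ← h2]
    exact (hfg _).mpr ⟨_, rfl⟩
  obtain ⟨⟨e, he⟩, he'⟩ := hN.2.1 ⟨g (m₁ + c), (mem_torsionBy_iff _ _).mpr h3⟩
  rw [mem_torsionBy_iff] at he
  have he'' : y₂ • e = g (m₁ + c) := congrArg Subtype.val he'
  obtain ⟨e, rfl⟩ := hg e
  have h4 : g ((m₁ + c) - y₂ • e) = 0 := by rw [map_sub, map_smul, he'', sub_self]
  have h5 : g (y₁ • e) = 0 := by rw [map_smul, he]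
  obtain ⟨s, hs⟩ := (hfg _).mp h4
  obtain ⟨t, ht⟩ := (hfg _).mp h5
  have h6 : a - b = y₁ • s + y₂ • t := by
    apply hf
    rw [h2, map_add, map_smul, map_smul, hs, ht, smul_sub, smul_comm y₁ y₂ e, sub_add_cancel]
  have h7 : a = y₁ • s + (y₂ • t + b) := by
    rw [← add_assoc, ← h6, sub_add_cancel]
  rw [h7, hJ]
  refine add_mem ?_ (add_mem ?_ ?_)
  · exact Submodule.smul_mem_smul (Submodule.mem_sup_left (Ideal.mem_span_singleton_self y₁)) trivial
  · refine Submodule.smul_mem_smul (Submodule.mem_sup_right ?_) trivial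
    rw [hJ']
    exact Ideal.subset_span (by simp)
  · exact Submodule.smul_mono_left le_sup_right hb

/-- A cochain complex of modules. -/
structure Cx (A : Type u) [CommRing A] where
  X : ℕ → Type v
  [grp : ∀ i, AddCommGroup (X i)]
  [mod : ∀ i, Module A (X i)]
  d : ∀ i, X i →ₗ[A] X (i+1)
  dd : ∀ i x, d (i+1) (d i x) = 0

attribute [instance] Cx.grp Cx.mod

namespace Cx

variable (C : Cx.{u, v} A)

/-- Cocycles in degree `i+1`. -/
abbrev Z (i : ℕ) : Submodule A (C.X (i+1)) := LinearMap.ker (C.d (i+1))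

/-- `H^{i+1}`. -/
abbrev H (i : ℕ) : Type v := C.Z i ⧸ (LinearMap.range (C.d i)).submoduleOf (C.Z i)

/-- The class of a cocycle. -/
def cls (i : ℕ) : C.Z i →ₗ[A] C.H i := Submodule.mkQ _

lemma cls_surjective (i : ℕ) : Function.Surjective (C.cls i) := Submodule.mkQ_surjective _

lemma cls_eq_zero {i : ℕ} (z : C.Z i) : C.cls i z = 0 ↔ ∃ w, C.d i w = z := by
  rw [cls, Submodule.mkQ_apply, Submodule.Quotient.mk_eq_zero]
  simp [Submodule.submoduleOf]

/-- Quotient by `y`. -/
def quot (y : A) : Cx.{u, v} A where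
  X i := QuotSMulTop y (C.X i)
  d i := QuotSMulTop.map y (C.d i)
  dd i := by
    intro x
    obtain ⟨x, rfl⟩ := Submodule.Quotient.mk_surjective _ x
    rw [QuotSMulTop.map_apply_mk, QuotSMulTop.map_apply_mk, C.dd]
    rfl

/-- The projection. -/
def π (y : A) (i : ℕ) : C.X i →ₗ[A] (C.quot y).X i := Submodule.mkQ _

lemma π_surjective (y : A) (i : ℕ) : Function.Surjective (C.π y i) := Submodule.mkQ_surjective _

lemma π_d (y : A) (i : ℕ) (x : C.X i) : (C.quot y).d i (C.π y i x) = C.π y (i+1) (C.d i x) := rfl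

lemma π_eq_zero {y : A} {i : ℕ} {x : C.X i} : C.π y i x = 0 ↔ ∃ w, y • w = x := by
  refine (Submodule.Quotient.mk_eq_zero (y • (⊤ : Submodule A (C.X i)))).trans ?_
  rw [Submodule.mem_smul_pointwise_iff_exists]
  simp

section LES

variable (y : A) (hy : ∀ i, IsSMulRegular (C.X i) y) (i : ℕ)

/-- pairs `(z, u)` with `dz = y u`. -/
def P : Submodule A (C.X i × C.X (i+1)) :=
  LinearMap.ker ((C.d i).comp (LinearMap.fst A _ _) - y • LinearMap.snd A _ _)

lemma mem_P {p : C.X i × C.X (i+1)} : p ∈ C.P y i ↔ C.d i p.1 = y • p.2 := by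
  simp [P, sub_eq_zero]

/-- first projection to the cocycles of `C/y`. -/
def pr₁ : C.P y i →ₗ[A] LinearMap.ker ((C.quot y).d i) :=
  LinearMap.codRestrict _ ((C.π y i).comp ((LinearMap.fst A _ _).comp (C.P y i).subtype)) (by
    rintro ⟨⟨z, u⟩, h⟩
    rw [mem_P] at h
    simp only [LinearMap.coe_comp, Function.comp_apply, Submodule.subtype_apply,
      LinearMap.fst_apply, LinearMap.mem_ker]
    rw [C.π_d, h, C.π_eq_zero]
    exact ⟨u, rfl⟩)

lemma pr₁_coe (p : C.P y i) : (C.pr₁ y i p : (C.quot y).X i) = C.π y i p.1.1 := rfl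

include hy in
lemma snd_mem_Z (p : C.P y i) : p.1.2 ∈ C.Z i := by
  obtain ⟨⟨z, u⟩, h⟩ := p
  rw [mem_P] at h
  apply hy
  show y • C.d (i+1) u = y • 0
  dsimp only at h
  rw [← map_smul, ← h, C.dd, smul_zero]

/-- second projection to the torsion in `H^{i+1}(C)`. -/
def pr₂ : C.P y i →ₗ[A] torsionBy A (C.H i) y :=
  LinearMap.codRestrict _ ((C.cls i).comp (LinearMap.codRestrict (C.Z i)
    ((LinearMap.snd A _ _).comp (C.P y i).subtype) (C.snd_mem_Z y hy i))) (by
    intro p
    rw [mem_torsionBy_iff, ← map_smul]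
    refine (C.cls_eq_zero _).mpr ⟨p.1.1, ?_⟩
    exact (C.mem_P y i).mp p.2)

lemma pr₂_coe (p : C.P y i) : (C.pr₂ y hy i p : C.H i) =
    C.cls i ⟨p.1.2, C.snd_mem_Z y hy i p⟩ := rfl

lemma pr₁_surjective : Function.Surjective (C.pr₁ y i) := by
  rintro ⟨z, hz⟩
  obtain ⟨z, rfl⟩ := C.π_surjective y _ z
  rw [LinearMap.mem_ker, C.π_d, C.π_eq_zero] at hz
  obtain ⟨u, hu⟩ := hz
  exact ⟨⟨(z, u), (C.mem_P y i).mpr hu.symm⟩, rfl⟩

lemma pr₂_surjective : Function.Surjective (C.pr₂ y hy i) := by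
  rintro ⟨c, hc⟩
  obtain ⟨⟨u, hu⟩, rfl⟩ := C.cls_surjective _ c
  rw [mem_torsionBy_iff, ← map_smul, C.cls_eq_zero] at hc
  obtain ⟨z, hz⟩ := hc
  exact ⟨⟨(z, u), (C.mem_P y i).mpr hz⟩, Subtype.ext rfl⟩

lemma pr₂_eq_zero (p : C.P y i) : C.pr₂ y hy i p = 0 ↔ ∃ v, C.d i v = p.1.2 := by
  rw [← Subtype.coe_inj, pr₂_coe]
  exact C.cls_eq_zero _

lemma pr₁_eq_zero (p : C.P y i) : C.pr₁ y i p = 0 ↔ ∃ v, y • v = p.1.1 := by
  rw [← Subtype.coe_inj, pr₁_coe]
  exact C.π_eq_zero

/-- The isomorphism `H^{i+1}(C/y) ≃ H^{i+2}(C)[y]` when `y` is surjective on `H^{i+1}(C)`. -/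
noncomputable def hEquiv (hs : ∀ z : C.H i, ∃ w, y • w = z) :
    (C.quot y).H i ≃ₗ[A] torsionBy A (C.H (i+1)) y := by
  have hk : LinearMap.ker (((C.quot y).cls i).comp (C.pr₁ y (i+1))) =
      LinearMap.ker (C.pr₂ y hy (i+1)) := by
    ext p
    rw [LinearMap.mem_ker, LinearMap.mem_ker, LinearMap.comp_apply, cls_eq_zero, pr₂_eq_zero]
    constructor
    · rintro ⟨w, hw⟩
      obtain ⟨w, rfl⟩ := C.π_surjective y _ w
      rw [C.π_d, pr₁_coe, ← sub_eq_zero, ← map_sub, C.π_eq_zero] at hw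
      obtain ⟨v, hv⟩ := hw
      have h1 := (C.mem_P y (i+1)).mp p.2
      have h2 : C.d (i+1) p.1.1 = - (y • C.d (i+1) v) := by
        have := congrArg (C.d (i+1)) hv
        rw [map_smul, map_sub, C.dd, zero_sub] at this
        rw [this, neg_neg]
      refine ⟨-v, ?_⟩
      apply hy
      show y • C.d (i+1) (-v) = y • p.1.2
      rw [← h1, h2, map_neg, smul_neg]
    · rintro ⟨v, hv⟩
      have h2 : p.1.1 - y • v ∈ C.Z i := by
        rw [LinearMap.mem_ker, map_sub, map_smul, hv, (C.mem_P y (i+1)).mp p.2, sub_self]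
      obtain ⟨w, hw⟩ := hs (C.cls i ⟨_, h2⟩)
      obtain ⟨⟨w, hw0⟩, rfl⟩ := C.cls_surjective _ w
      rw [← map_smul, ← sub_eq_zero, ← map_sub, C.cls_eq_zero] at hw
      obtain ⟨t, ht⟩ := hw
      have ht' : C.d i t = y • w - (p.1.1 - y • v) := ht
      refine ⟨C.π y i (-t), ?_⟩
      rw [C.π_d, pr₁_coe, ← sub_eq_zero, ← map_sub, C.π_eq_zero]
      refine ⟨-(w + v), ?_⟩
      rw [map_neg, ht', smul_neg, smul_add]
      abel
  have hs1 : Function.Surjective (((C.quot y).cls i).comp (C.pr₁ y (i+1))) := by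
    rw [LinearMap.coe_comp]
    exact ((C.quot y).cls_surjective i).comp (C.pr₁_surjective y (i+1))
  exact (LinearMap.quotKerEquivOfSurjective _ hs1).symm.trans
    ((Submodule.quotEquivOfEq _ _ hk).trans
      (LinearMap.quotKerEquivOfSurjective _ (C.pr₂_surjective y hy (i+1))))

/-- The connecting map `ker (d : (C/y)^0 → (C/y)^1) → H^1(C)[y]`. -/
noncomputable def conn : LinearMap.ker ((C.quot y).d 0) →ₗ[A] torsionBy A (C.H 0) y :=
  (Submodule.liftQ (LinearMap.ker (C.pr₁ y 0)) (C.pr₂ y hy 0) (by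
    intro p hp
    rw [LinearMap.mem_ker, pr₁_eq_zero] at hp
    rw [LinearMap.mem_ker, pr₂_eq_zero]
    obtain ⟨v, hv⟩ := hp
    refine ⟨v, hy 1 ?_⟩
    show y • C.d 0 v = y • p.1.2
    rw [← (C.mem_P y 0).mp p.2, ← hv, map_smul])).comp
  (LinearMap.quotKerEquivOfSurjective _ (C.pr₁_surjective y 0)).symm.toLinearMap

lemma conn_pr₁ (p : C.P y 0) : C.conn y hy (C.pr₁ y 0 p) = C.pr₂ y hy 0 p := by
  have : (LinearMap.quotKerEquivOfSurjective _ (C.pr₁_surjective y 0)).symm (C.pr₁ y 0 p) =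
      Submodule.Quotient.mk p := by
    rw [LinearEquiv.symm_apply_eq]
    rfl
  rw [conn, LinearMap.comp_apply, LinearEquiv.coe_coe, this]
  rfl

lemma conn_surjective : Function.Surjective (C.conn y hy) := by
  intro c
  obtain ⟨p, rfl⟩ := C.pr₂_surjective y hy 0 c
  exact ⟨_, C.conn_pr₁ y hy p⟩

/-- The map on `H^0`. -/
def π₀ : LinearMap.ker (C.d 0) →ₗ[A] LinearMap.ker ((C.quot y).d 0) :=
  LinearMap.restrict (C.π y 0) (by
    intro x hx
    rw [LinearMap.mem_ker] at hx ⊢
    rw [π_d, hx, map_zero])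

lemma conn_eq_zero (z : LinearMap.ker ((C.quot y).d 0)) :
    C.conn y hy z = 0 ↔ ∃ a, C.π₀ y a = z := by
  obtain ⟨p, rfl⟩ := C.pr₁_surjective y 0 z
  rw [conn_pr₁, pr₂_eq_zero]
  have hp := (C.mem_P y 0).mp p.2
  constructor
  · rintro ⟨v, hv⟩
    refine ⟨⟨p.1.1 - y • v, ?_⟩, ?_⟩
    · rw [LinearMap.mem_ker, map_sub, map_smul, hv, hp, sub_self]
    · apply Subtype.ext
      rw [pr₁_coe]
      change C.π y 0 (p.1.1 - y • v) = _
      rw [← sub_eq_zero, ← map_sub, C.π_eq_zero]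
      exact ⟨-v, by rw [smul_neg]; abel⟩
  · rintro ⟨⟨a, ha⟩, h⟩
    have h1 : C.π y 0 a = C.π y 0 p.1.1 := congrArg Subtype.val h
    rw [← sub_eq_zero, ← map_sub, C.π_eq_zero] at h1
    obtain ⟨v, hv⟩ := h1
    refine ⟨-v, hy 1 ?_⟩
    show y • C.d 0 (-v) = y • p.1.2
    rw [LinearMap.mem_ker] at ha
    rw [← hp, map_neg, smul_neg, ← map_smul, hv, map_sub, ha, zero_sub, neg_neg]

include hy in
lemma exists_of_π₀_eq_zero (a : LinearMap.ker (C.d 0)) (h : C.π₀ y a = 0) :
    ∃ w : LinearMap.ker (C.d 0), y • w = a := by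
  have h1 : C.π y 0 a = 0 := congrArg Subtype.val h
  rw [C.π_eq_zero] at h1
  obtain ⟨w, hw⟩ := h1
  refine ⟨⟨w, ?_⟩, Subtype.ext hw⟩
  rw [LinearMap.mem_ker]
  apply hy
  show y • C.d 0 w = y • 0
  rw [← map_smul, hw, smul_zero]
  exact a.2

end LES

/-- Main abstract lemma. -/
theorem smul_top_eq_top (ys : List A) : ∀ (C : Cx.{u, v} A)
    (_ : ∀ i, IsWeaklyRegular (C.X i) ys)
    (_ : ∀ i, Ideal.ofList ys • (⊤ : Submodule A (C.X i)) = ⊤)
    (_ : ∀ i, Coreg ys (C.H i))
    (_ : ∀ n, ys.length = n + 2 → Subsingleton (C.H n)),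
    Ideal.ofList ys • (⊤ : Submodule A (LinearMap.ker (C.d 0))) = ⊤ := by
  induction ys with
  | nil =>
    intro C _ htop _ _
    have h0 : ∀ x : C.X 0, x = 0 := by
      intro x
      have := htop 0
      rw [Ideal.ofList_nil, Submodule.bot_smul] at this
      have h1 : x ∈ (⊤ : Submodule A (C.X 0)) := trivial
      rw [← this] at h1
      exact h1
    rw [eq_top_iff]
    rintro ⟨x, hx⟩ _
    have : (⟨x, hx⟩ : LinearMap.ker (C.d 0)) = 0 := Subtype.ext (h0 x)
    rw [this]
    exact zero_mem _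
  | cons y ys ih =>
    intro C hreg htop hco hvan
    have hy : ∀ i, IsSMulRegular (C.X i) y := fun i => ((isWeaklyRegular_cons_iff _ _ _).mp (hreg i)).1
    have hIH := ih (C.quot y) (fun i => ((isWeaklyRegular_cons_iff _ _ _).mp (hreg i)).2)
      (by
        intro i
        have h1 := htop i
        rw [eq_top_iff]
        intro z _
        obtain ⟨x, rfl⟩ := C.π_surjective y i z
        have hx : x ∈ Ideal.ofList (y :: ys) • (⊤ : Submodule A (C.X i)) := by rw [h1]; trivial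
        rw [Ideal.ofList_cons, Submodule.sup_smul, Submodule.mem_sup] at hx
        obtain ⟨a, ha, b, hb, rfl⟩ := hx
        have ha' : C.π y i a = 0 := by
          rw [Submodule.ideal_span_singleton_smul, Submodule.mem_smul_pointwise_iff_exists] at ha
          obtain ⟨w, -, hw⟩ := ha
          rw [C.π_eq_zero]
          exact ⟨w, hw⟩
        rw [map_add, ha', zero_add]
        have h2 : C.π y i b ∈ Submodule.map (C.π y i) (Ideal.ofList ys • (⊤ : Submodule A (C.X i))) :=
          Submodule.mem_map_of_mem hb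
        rw [Submodule.map_smul''] at h2
        exact (smul_mono_right _ le_top : _ ≤ Ideal.ofList ys • (⊤ : Submodule A ((C.quot y).X i))) h2)
      (fun i => (hco (i+1)).2.congr (C.hEquiv y hy i (hco i).1).symm)
      (by
        intro n hn
        have h1 : Subsingleton (C.H (n+1)) := hvan (n+1) (by simp [hn])
        exact (C.hEquiv y hy n (hco n).1).toEquiv.subsingleton)
    -- the image of `H^0(C)` in `H^0(C/y)`
    have key : Ideal.ofList ys • (⊤ : Submodule A (LinearMap.range (C.π₀ y))) = ⊤ := by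
      match ys, hIH, hvan, hco with
      | [], hIH, _, _ =>
        rw [Ideal.ofList_nil, Submodule.bot_smul] at hIH ⊢
        rw [eq_top_iff]
        rintro ⟨x, hx⟩ _
        have h1 : x ∈ (⊤ : Submodule A (LinearMap.ker ((C.quot y).d 0))) := trivial
        rw [← hIH, Submodule.mem_bot] at h1
        rw [Submodule.mem_bot]
        exact Subtype.ext h1
      | [y₂], hIH, hvan, _ =>
        have hsub : Subsingleton (C.H 0) := hvan 0 rfl
        have hr : LinearMap.range (C.π₀ y) = ⊤ := by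
          rw [eq_top_iff]
          intro z _
          obtain ⟨a, ha⟩ := (C.conn_eq_zero y hy z).mp (Subtype.ext (Subsingleton.elim _ _))
          exact ⟨a, ha⟩
        rw [hr]
        have h1 := congrArg (Submodule.map (Submodule.topEquiv (R := A)
          (M := LinearMap.ker ((C.quot y).d 0))).symm.toLinearMap) hIH
        rw [Submodule.map_smul'', Submodule.map_top, LinearEquiv.range] at h1
        exact h1
      | y₂ :: y₃ :: rest, hIH, _, hco =>
        exact smul_top_of_exact (LinearMap.range (C.π₀ y)).subtype (C.conn y hy)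
          (Submodule.injective_subtype _) (C.conn_surjective y hy) (by
            intro z
            rw [conn_eq_zero]
            simp) y₂ y₃ rest (hco 0).2 hIH
    rw [eq_top_iff]
    intro a _
    have h1 : (⟨C.π₀ y a, ⟨a, rfl⟩⟩ : LinearMap.range (C.π₀ y)) ∈
        Submodule.map (C.π₀ y).rangeRestrict (Ideal.ofList ys • ⊤) := by
      rw [Submodule.map_smul'', Submodule.map_top, LinearMap.range_rangeRestrict, key]
      trivial
    obtain ⟨b, hb, hb'⟩ := h1
    have h2 : C.π₀ y b = C.π₀ y a := congrArg Subtype.val hb'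
    obtain ⟨w, hw⟩ := C.exists_of_π₀_eq_zero y hy (a - b) (by rw [map_sub, h2, sub_self])
    have h3 : a = y • w + b := by rw [hw, sub_add_cancel]
    rw [h3, Ideal.ofList_cons]
    exact add_mem (Submodule.smul_mem_smul
      (Submodule.mem_sup_left (Ideal.mem_span_singleton_self y)) trivial)
      (Submodule.smul_mono_left le_sup_right hb)

end Cx

end Groth.Agent.Pi1C.EtLocCx
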