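import Mathlib.RingTheory.QuasiFinite.Basic
import Mathlib.RingTheory.ZariskisMainTheorem
import Mathlib.RingTheory.Unramified.LocalStructure
import Mathlib.RingTheory.Etale.Basic
import Mathlib.RingTheory.Flat.Localization
import Mathlib.RingTheory.RingHom.Flat
import Mathlib.RingTheory.Jacobson.Ring

/-!
Points of the étale locus are isolated in their fibre (for S1158).
-/

set_option autoImplicit false

universe u v

namespace Groth.Agent.Pi1C.EtLocFib

variable {A B : Type u} [CommRing A] [CommRing B] [Algebra A B]

/-- A point isolated in its fibre is maximal in its fibre. -/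
theorem eq_of_le_of_quasiFiniteAt [Algebra.FiniteType A B] {v q : Ideal B} [v.IsPrime] [q.IsPrime]
    (h : v ≤ q) (h' : v.comap (algebraMap A B) = q.comap (algebraMap A B)) [Algebra.QuasiFiniteAt A v] : v = q := by
  let x : PrimeSpectrum B := ⟨v, inferInstance⟩
  let y : PrimeSpectrum B := ⟨q, inferInstance⟩
  let p := PrimeSpectrum.comap (algebraMap A B) x
  let F := PrimeSpectrum.comap (algebraMap A B) ⁻¹' {p}
  let x' : F := ⟨x, rfl⟩
  have hy : y ∈ F := PrimeSpectrum.ext h'.symm
  let y' : F := ⟨y, hy⟩
  have hopen : IsOpen ({x'} : Set F) := (Algebra.quasiFiniteAt_iff_isOpen_singleton_fiber x).mp inferInstance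
  let e : F ≃ₜ PrimeSpectrum (p.asIdeal.Fiber B) := PrimeSpectrum.preimageHomeomorphFiber A B p
  have hopen' : IsOpen ({e x'} : Set (PrimeSpectrum (p.asIdeal.Fiber B))) := by
    rw [← Set.image_singleton, e.isOpen_image]
    exact hopen
  have : IsNoetherianRing (p.asIdeal.Fiber B) := Algebra.FiniteType.isNoetherianRing p.asIdeal.ResidueField _
  have : IsJacobsonRing (p.asIdeal.Fiber B) := isJacobsonRing_of_finiteType (A := p.asIdeal.ResidueField)
  have hcl : IsClopen ({e x'} : Set (PrimeSpectrum (p.asIdeal.Fiber B))) :=
    ((PrimeSpectrum.isOpen_singleton_tfae_of_isNoetherian_of_isJacobsonRing _).out 0 1).mp hopen'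
  have hcl' : IsClosed ({x'} : Set F) := by
    rw [← e.isClosed_image, Set.image_singleton]
    exact hcl.1
  have hsp : x' ⤳ y' := by
    rw [subtype_specializes_iff]
    exact (PrimeSpectrum.le_iff_specializes x y).mp h
  have : y' ∈ closure ({x'} : Set F) := hsp.mem_closure
  rw [hcl'.closure_eq, Set.mem_singleton_iff] at this
  exact (congrArg (fun z : F => z.1.asIdeal) this).symm

/-- Formal étaleness of localizations of `B` over a submonoid containing `r` with `B_r` étale. -/
theorem formallyEtale_localization (r : B) [Algebra.FormallyEtale A (Localization.Away r)] (N : Submonoid B)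
    (hN : Submonoid.powers r ≤ N) : Algebra.FormallyEtale A (Localization N) := by
  let _ : Algebra (Localization.Away r) (Localization N) :=
    (IsLocalization.liftAlgHom (M := Submonoid.powers r) (f := Algebra.ofId B (Localization N))
      (fun y => IsLocalization.map_units (Localization N) ⟨y.1, hN y.2⟩)).toAlgebra
  have : IsScalarTower B (Localization.Away r) (Localization N) :=
    IsScalarTower.of_algebraMap_eq fun b => (AlgHom.commutes _ b).symm
  have : IsScalarTower A (Localization.Away r) (Localization N) := by
    refine IsScalarTower.of_algebraMap_eq fun a => ?_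
    rw [IsScalarTower.algebraMap_apply A B (Localization N), IsScalarTower.algebraMap_apply A B (Localization.Away r),
      ← IsScalarTower.algebraMap_apply B (Localization.Away r) (Localization N)]
  have := IsLocalization.isLocalization_of_submonoid_le (Localization.Away r) (Localization N)
    (Submonoid.powers r) N hN
  have : Algebra.FormallyEtale (Localization.Away r) (Localization N) :=
    Algebra.FormallyEtale.of_isLocalization (N.map (algebraMap B (Localization.Away r)))
  exact Algebra.FormallyEtale.comp A (Localization.Away r) (Localization N)

/-- Flatness of localizations of `B` over a submonoid containing `r` with `B_r` flat. -/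
theorem flat_localization (r : B) [Module.Flat A (Localization.Away r)] (N : Submonoid B)
    (hN : Submonoid.powers r ≤ N) : Module.Flat A (Localization N) := by
  let _ : Algebra (Localization.Away r) (Localization N) :=
    (IsLocalization.liftAlgHom (M := Submonoid.powers r) (f := Algebra.ofId B (Localization N))
      (fun y => IsLocalization.map_units (Localization N) ⟨y.1, hN y.2⟩)).toAlgebra
  have : IsScalarTower B (Localization.Away r) (Localization N) :=
    IsScalarTower.of_algebraMap_eq fun b => (AlgHom.commutes _ b).symm
  have : IsScalarTower A (Localization.Away r) (Localization N) := by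
    refine IsScalarTower.of_algebraMap_eq fun a => ?_
    rw [IsScalarTower.algebraMap_apply A B (Localization N), IsScalarTower.algebraMap_apply A B (Localization.Away r),
      ← IsScalarTower.algebraMap_apply B (Localization.Away r) (Localization N)]
  have := IsLocalization.isLocalization_of_submonoid_le (Localization.Away r) (Localization N)
    (Submonoid.powers r) N hN
  have : Module.Flat (Localization.Away r) (Localization N) :=
    IsLocalization.flat (Localization N) (N.map (algebraMap B (Localization.Away r)))
  exact Module.Flat.trans A (Localization.Away r) (Localization N)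

theorem quasiFiniteAt_of_formallyEtale [Algebra.FiniteType A B] (r : B)
    [Algebra.FormallyEtale A (Localization.Away r)] (v : Ideal B) [v.IsPrime] (hv : r ∉ v) :
    Algebra.QuasiFiniteAt A v := by
  have h : Submonoid.powers r ≤ v.primeCompl := by
    rw [Submonoid.powers_le]
    exact hv
  have := formallyEtale_localization (A := A) r v.primeCompl h
  have h0 : Algebra.FormallyEtale A (Localization.AtPrime v) := this
  have h1 : Algebra.FormallyUnramified A (Localization.AtPrime v) := inferInstance
  have h2 : Algebra.EssFiniteType A (Localization.AtPrime v) := Algebra.EssFiniteType.comp A B _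
  infer_instance

end Groth.Agent.Pi1C.EtLocFib
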