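import Groth.Agent.Pi1C.EtLocRing
import Groth.Agent.Pi1C.EtLocBC
import Groth.Agent.Pi1C.EtLocCmp
import Mathlib.RingTheory.QuasiFinite.Basic
import Mathlib.RingTheory.ZariskisMainTheorem
import Mathlib.RingTheory.Etale.QuasiFinite

/-!
Main algebraic argument (for S1158).
-/

set_option autoImplicit false

universe u v w

namespace Groth.Agent.Pi1C.EtLocMain

open EtLocCech EtLocSys EtLocLift EtLocRing

variable {A B : Type u} [CommRing A] [CommRing B] [Algebra A B]

section change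

variable {ι : Type u} (g : ι → B) {T₀ T : Submonoid B} (h : T₀ ≤ T)

/-- Change of the base submonoid. -/
noncomputable def ch (p : ℕ) : CB g T₀ p →ₐ[B] CB g T p :=
  AlgHom.pi fun s => (resAlg (sup_le_sup_right h (mon g s))).comp (Pi.evalAlgHom B _ s)

lemma ch_apply (p : ℕ) (x : CB g T₀ p) (s : Fin (p + 1) → ι) :
    ch g h p x s = resAlg (sup_le_sup_right h (mon g s)) (x s) := rfl

lemma ch_δB (p : ℕ) (k : Fin (p + 2)) (x : CB g T₀ p) :
    ch g h (p + 1) (δB g T₀ p k x) = δB g T p k (ch g h p x) := by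
  funext t
  rw [ch_apply, δB_apply, δB_apply, ch_apply, resAlg_resAlg, resAlg_resAlg]

lemma ch_dB (p : ℕ) (x : CB g T₀ p) : ch g h (p + 1) (dB g T₀ p x) = dB g T p (ch g h p x) := by
  rw [dB_apply, dB_apply, map_sum]
  refine Finset.sum_congr rfl fun k _ => ?_
  rw [map_zsmul, ch_δB]

/-- The change map on sections. -/
noncomputable def chZ : Z0 g T₀ →ₐ[B] Z0 g T :=
  AlgHom.codRestrict ((ch g h 0).comp (Z0 g T₀).val) (Z0 g T) (by
    intro x
    change δB g T 0 0 (ch g h 0 x.1) = δB g T 0 1 (ch g h 0 x.1)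
    rw [← ch_δB, ← ch_δB]
    congr 1
    exact x.2)

lemma chZ_coe (x : Z0 g T₀) : (chZ g h x : CB g T 0) = ch g h 0 x := rfl

variable [Finite ι] (T) (p : ℕ)

lemma ch_surj (y : CB g T p) : ∃ t ∈ T, ∃ x : CB g ⊥ p, ch g (bot_le : ⊥ ≤ T) p x = t • y := by
  classical
  have := Fintype.ofFinite (Fin (p + 1) → ι)
  have h1 : ∀ s : Fin (p + 1) → ι, ∃ t ∈ T, ∃ x : Localization (⊥ ⊔ mon g s),
      resAlg (sup_le_sup_right (bot_le : ⊥ ≤ T) (mon g s)) x = t • y s := by
    intro s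
    obtain ⟨b, ⟨m, hm⟩, hy⟩ := IsLocalization.exists_mk'_eq (T ⊔ mon g s) (y s)
    obtain ⟨a, ha, c, hc, rfl⟩ := Submonoid.mem_sup.mp hm
    refine ⟨a, ha, IsLocalization.mk' _ b ⟨c, (le_sup_right : mon g s ≤ ⊥ ⊔ mon g s) hc⟩, ?_⟩
    rw [resAlg_mk, ← hy, eq_comm, IsLocalization.eq_mk'_iff_mul_eq]
    have h1 := IsLocalization.mk'_spec (Localization (T ⊔ mon g s)) b ⟨a * c, hm⟩
    dsimp only at h1 ⊢
    rw [← h1, map_mul, Algebra.smul_def]
    ring
  choose t ht x hx using h1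
  refine ⟨∏ s, t s, prod_mem fun s _ => ht s, fun s => (∏ s' ∈ Finset.univ.erase s, t s') • x s, ?_⟩
  funext s
  rw [ch_apply, map_smul, hx, smul_smul, Pi.smul_apply, Finset.prod_erase_mul _ _ (Finset.mem_univ s)]

lemma ch_inj (x : CB g ⊥ p) (hx : ch g (bot_le : ⊥ ≤ T) p x = 0) : ∃ t ∈ T, t • x = 0 := by
  classical
  have := Fintype.ofFinite (Fin (p + 1) → ι)
  have h1 : ∀ s : Fin (p + 1) → ι, ∃ t ∈ T, t • x s = 0 := by
    intro s
    obtain ⟨n, hn, h⟩ := exists_of_resAlg_eq_zero (sup_le_sup_right (bot_le : ⊥ ≤ T) (mon g s)) (x s)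
      (congrFun hx s)
    obtain ⟨a, ha, c, hc, rfl⟩ := Submonoid.mem_sup.mp hn
    refine ⟨a, ha, ?_⟩
    have hu : IsUnit (algebraMap B (Localization (⊥ ⊔ mon g s)) c) :=
      IsLocalization.map_units _ (⟨c, (le_sup_right : mon g s ≤ ⊥ ⊔ mon g s) hc⟩ : ↥(⊥ ⊔ mon g s))
    rw [mul_comm, mul_smul, Algebra.smul_def c] at h
    exact hu.mul_right_eq_zero.mp h
  choose t ht ht' using h1
  refine ⟨∏ s, t s, prod_mem fun s _ => ht s, ?_⟩
  funext s
  rw [Pi.smul_apply, ← Finset.prod_erase_mul _ _ (Finset.mem_univ s), mul_smul, ht', smul_zero]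
  rfl

lemma chZ_surj (y : Z0 g T) : ∃ t ∈ T, ∃ x : Z0 g ⊥, chZ g (bot_le : ⊥ ≤ T) x = t • y := by
  obtain ⟨t, ht, x, hx⟩ := ch_surj g T 0 y.1
  obtain ⟨t', ht', hx'⟩ := ch_inj g T 1 (dB g ⊥ 0 x) (by
    rw [ch_dB, hx, map_smul, (mem_Z0 g T _).mp y.2, smul_zero])
  refine ⟨t' * t, mul_mem ht' ht, ⟨t' • x, ?_⟩, ?_⟩
  · rw [mem_Z0, map_smul, hx']
  · apply Subtype.ext
    rw [chZ_coe, map_smul, hx, smul_smul]
    rfl

lemma chZ_inj (x : Z0 g ⊥) (hx : chZ g (bot_le : ⊥ ≤ T) x = 0) : ∃ t ∈ T, t • x = 0 := by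
  obtain ⟨t, ht, h⟩ := ch_inj g T 0 x.1 (congrArg Subtype.val hx)
  exact ⟨t, ht, Subtype.ext h⟩

omit [Finite ι] in
lemma IZ_map : (IZ g ⊥).map (chZ g (bot_le : ⊥ ≤ T)) = IZ g T := by
  rw [IZ, IZ]
  have h1 := Ideal.map_map (I := Ideal.span (Set.range g)) (algebraMap B (Z0 g ⊥))
    (chZ g (bot_le : ⊥ ≤ T) : Z0 g ⊥ →+* Z0 g T)
  rw [AlgHom.comp_algebraMap] at h1
  exact h1

/-- Descent: if the `g i` generate the unit ideal of the sections after localization at `T` then some element of `T`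
lies in the ideal generated by the `g i` in the ring of sections. -/
theorem exists_mem_of_IZ_eq_top (hT : IZ g T = ⊤) : ∃ t ∈ T, algebraMap B (Z0 g ⊥) t ∈ IZ g ⊥ := by
  have h1 : ∀ y ∈ (IZ g ⊥).map (chZ g (bot_le : ⊥ ≤ T)), ∃ t ∈ T, ∃ x ∈ IZ g ⊥,
      chZ g (bot_le : ⊥ ≤ T) x = t • y := by
    intro y hy
    induction hy using Submodule.span_induction with
    | mem y hy =>
      obtain ⟨x, hx, rfl⟩ := hy
      exact ⟨1, one_mem _, x, hx, by rw [one_smul]⟩
    | zero => exact ⟨1, one_mem _, 0, zero_mem _, by rw [map_zero, smul_zero]⟩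
    | add a b _ _ ha hb =>
      obtain ⟨t, ht, x, hx, e⟩ := ha
      obtain ⟨t', ht', x', hx', e'⟩ := hb
      refine ⟨t * t', mul_mem ht ht', t' • x + t • x', add_mem ?_ ?_, ?_⟩
      · rw [Algebra.smul_def]; exact Ideal.mul_mem_left _ _ hx
      · rw [Algebra.smul_def]; exact Ideal.mul_mem_left _ _ hx'
      · rw [map_add, map_smul, map_smul, e, e', smul_smul, smul_smul, smul_add, mul_comm t']
    | smul c a _ ha =>
      obtain ⟨t, ht, x, hx, e⟩ := ha
      obtain ⟨t', ht', c', hc'⟩ := chZ_surj g T c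
      refine ⟨t * t', mul_mem ht ht', c' * x, Ideal.mul_mem_left _ _ hx, ?_⟩
      rw [map_mul, hc', e, smul_mul_smul_comm, mul_comm t, smul_eq_mul]
  rw [IZ_map, hT] at h1
  obtain ⟨t, ht, x, hx, e⟩ := h1 1 trivial
  obtain ⟨t', ht', e'⟩ := chZ_inj g T (algebraMap B _ t - x) (by
    rw [map_sub, e, AlgHom.commutes, Algebra.algebraMap_eq_smul_one, sub_self])
  refine ⟨t' * t, mul_mem ht' ht, ?_⟩
  rw [smul_sub, sub_eq_zero, Algebra.smul_def, ← map_mul] at e'
  rw [e', Algebra.smul_def]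
  exact Ideal.mul_mem_left _ _ hx

end change

/-! ### The complex over a localization of the base -/

section coalg

variable {ι : Type u} (g : ι → B) (S : Submonoid A) (T : Submonoid B)

/-- The structure of an algebra over a localization of the base. -/
noncomputable def algLoc (hST : ∀ s ∈ S, algebraMap A B s ∈ T) (N : Submonoid B) :
    Algebra (Localization S) (Localization (T ⊔ N)) :=
  (IsLocalization.lift (M := S) (g := algebraMap A (Localization (T ⊔ N))) (fun s => by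
    rw [IsScalarTower.algebraMap_apply A B (Localization (T ⊔ N))]
    exact IsLocalization.map_units (Localization (T ⊔ N))
      ⟨algebraMap A B s, (le_sup_left : T ≤ T ⊔ N) (hST _ s.2)⟩)).toAlgebra

lemma isScalarTower_algLoc (hST : ∀ s ∈ S, algebraMap A B s ∈ T) (N : Submonoid B) :
    letI := algLoc S T hST N
    IsScalarTower A (Localization S) (Localization (T ⊔ N)) := by
  letI := algLoc S T hST N
  refine IsScalarTower.of_algebraMap_eq fun a => ?_
  exact (IsLocalization.lift_eq (M := S) _ a).symm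

variable (hST : ∀ s ∈ S, algebraMap A B s ∈ T)

/-- The complex of algebras over the localized base. -/
noncomputable def coAlg : CoAlg.{u, u} (Localization S) :=
  letI := fun N => algLoc S T hST N
  haveI := fun N => isScalarTower_algLoc S T hST N
  { S := fun p => CB g T p
    δ := fun p k => ((δB g T p k).restrictScalars A).extendScalarsOfIsLocalization (Localization S) S
    dd := fun p x => (ringSys T).dd' g p x }

lemma coAlg_D (p : ℕ) (x : CB g T p) : (coAlg g S T hST).D p x = dB g T p x := by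
  refine ((coAlg g S T hST).D_apply p x).trans ?_
  rw [dB_apply]
  rfl

end coalg

end Groth.Agent.Pi1C.EtLocMain
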