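import Groth.Agent.Pi1C.EtLocMain
import Groth.Agent.Pi1C.EtLocFib

/-!
Main algebraic argument, second part (for S1158).
-/

set_option autoImplicit false

universe u v w

open IsLocalRing

namespace Groth.Agent.Pi1C.EtLocMain

open EtLocCech EtLocSys EtLocLift EtLocRing EtLocFib

variable {A B : Type u} [CommRing A] [CommRing B] [Algebra A B]
variable {ι : Type u} (g : ι → B)

/-- The ideal of elements of `B` lying in the ideal of sections generated by the `g i`. -/
noncomputable def bad : Ideal B := (IZ g ⊥).comap (algebraMap B (Z0 g ⊥))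

lemma mem_bad (i : ι) : g i ∈ bad g := by
  change algebraMap B (Z0 g ⊥) (g i) ∈ IZ g ⊥
  exact Ideal.mem_map_of_mem _ (Ideal.subset_span ⟨i, rfl⟩)

section local_

variable (q : Ideal B) [q.IsPrime]

lemma isUnit_algebraMap_Z0 (T : Submonoid B) (t : B) (ht : t ∈ T) : IsUnit (algebraMap B (Z0 g T) t) := by
  have h1 : ∀ (p : ℕ) (x : CB g T p), t • x = 0 → x = 0 := by
    intro p x hx
    funext s
    have hu : IsUnit (algebraMap B (Localization (T ⊔ mon g s)) t) :=
      IsLocalization.map_units _ (⟨t, (le_sup_left : T ≤ T ⊔ mon g s) ht⟩ : ↥(T ⊔ mon g s))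
    have h2 := congrFun hx s
    rw [Pi.smul_apply, Algebra.smul_def] at h2
    exact hu.mul_right_eq_zero.mp h2
  let u : CB g T 0 := fun s => IsLocalization.mk' _ 1 (⟨t, (le_sup_left : T ≤ T ⊔ mon g s) ht⟩ : ↥(T ⊔ mon g s))
  have hu : t • u = 1 := by
    funext s
    rw [Pi.smul_apply, Algebra.smul_def, mul_comm]
    have := IsLocalization.mk'_spec (Localization (T ⊔ mon g s)) (1 : B)
      (⟨t, (le_sup_left : T ≤ T ⊔ mon g s) ht⟩ : ↥(T ⊔ mon g s))
    rw [map_one] at this
    exact this
  have hu' : u ∈ Z0 g T := by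
    rw [mem_Z0]
    apply h1
    rw [← map_smul, hu]
    exact (mem_Z0 g T 1).mp (one_mem _)
  refine IsUnit.of_mul_eq_one ⟨u, hu'⟩ ?_
  rw [← Algebra.smul_def]
  exact Subtype.ext hu

/-- The map from the local ring of the base. -/
noncomputable def psi : Localization.AtPrime (q.comap (algebraMap A B)) →+* Z0 g q.primeCompl :=
  IsLocalization.lift (M := (q.comap (algebraMap A B)).primeCompl)
    (g := (algebraMap B (Z0 g q.primeCompl)).comp (algebraMap A B)) (fun s =>
      isUnit_algebraMap_Z0 g q.primeCompl (algebraMap A B s) s.2)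

lemma psi_algebraMap (a : A) : psi g q (algebraMap A (Localization.AtPrime (q.comap (algebraMap A B))) a) =
    algebraMap B (Z0 g q.primeCompl) (algebraMap A B a) :=
  IsLocalization.lift_eq (M := (q.comap (algebraMap A B)).primeCompl) _ a

lemma map_psi_le : (maximalIdeal (Localization.AtPrime (q.comap (algebraMap A B)))).map (psi g q) ≤
    q.map (algebraMap B (Z0 g q.primeCompl)) := by
  rw [Ideal.map_le_iff_le_comap]
  intro a ha
  obtain ⟨a₀, s, rfl⟩ := IsLocalization.exists_mk'_eq (q.comap (algebraMap A B)).primeCompl a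
  have h0 : a₀ ∈ q.comap (algebraMap A B) :=
    (IsLocalization.AtPrime.mk'_mem_maximal_iff (Localization.AtPrime (q.comap (algebraMap A B)))
      (q.comap (algebraMap A B)) a₀ s).mp ha
  have h1 := congrArg (psi g q) (IsLocalization.mk'_spec
    (Localization.AtPrime (q.comap (algebraMap A B))) a₀ s)
  rw [map_mul, psi_algebraMap, psi_algebraMap] at h1
  have h2 : psi g q (IsLocalization.mk' (Localization.AtPrime (q.comap (algebraMap A B))) a₀ s) *
      algebraMap B (Z0 g q.primeCompl) (algebraMap A B s) ∈ q.map (algebraMap B (Z0 g q.primeCompl)) := by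
    rw [h1]
    exact Ideal.mem_map_of_mem _ h0
  exact (Ideal.mul_unit_mem_iff_mem _ (isUnit_algebraMap_Z0 g q.primeCompl _ s.2)).mp h2

/-- The inclusion of submonoids. -/
lemma hST : ∀ s ∈ (q.comap (algebraMap A B)).primeCompl, algebraMap A B s ∈ q.primeCompl := fun _ hs => hs

variable (A) in
/-- The complex. -/
noncomputable abbrev cq : CoAlg.{u, u} (Localization.AtPrime (q.comap (algebraMap A B))) :=
  coAlg g (q.comap (algebraMap A B)).primeCompl q.primeCompl (hST q)

lemma vtx_psi (a : Localization.AtPrime (q.comap (algebraMap A B))) {p : ℕ} (s : Fin (p + 1) → ι) (j : Fin (p + 1)) :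
    letI := algLoc (q.comap (algebraMap A B)).primeCompl q.primeCompl (hST q) (mon g s)
    vtx g q.primeCompl (psi g q a : CB g q.primeCompl 0) s j =
      algebraMap (Localization.AtPrime (q.comap (algebraMap A B))) (Localization (q.primeCompl ⊔ mon g s)) a := by
  let f₁ : Localization.AtPrime (q.comap (algebraMap A B)) →+* Localization (q.primeCompl ⊔ mon g s) :=
    ((resAlg (sup_le_sup_left (mon_comp_le g s (fun _ : Fin 1 => j)) q.primeCompl)).toRingHom.comp
      (Pi.evalRingHom _ (s ∘ fun _ : Fin 1 => j))).comp ((Z0 g q.primeCompl).val.toRingHom.comp (psi g q))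
  let _ := algLoc (q.comap (algebraMap A B)).primeCompl q.primeCompl (hST q) (mon g s)
  have _ := isScalarTower_algLoc (q.comap (algebraMap A B)).primeCompl q.primeCompl (hST q) (mon g s)
  have h : f₁ = algebraMap _ _ := by
    apply IsLocalization.ringHom_ext (q.comap (algebraMap A B)).primeCompl
    ext a
    change resAlg (sup_le_sup_left (mon_comp_le g s (fun _ : Fin 1 => j)) q.primeCompl)
      ((psi g q (algebraMap A (Localization.AtPrime (q.comap (algebraMap A B))) a) : CB g q.primeCompl 0) _) =
        algebraMap (Localization.AtPrime (q.comap (algebraMap A B))) (Localization (q.primeCompl ⊔ mon g s))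
          (algebraMap A (Localization.AtPrime (q.comap (algebraMap A B))) a)
    rw [psi_algebraMap, ← IsScalarTower.algebraMap_apply A _ (Localization (q.primeCompl ⊔ mon g s)),
      IsScalarTower.algebraMap_apply A B (Localization (q.primeCompl ⊔ mon g s))]
    exact AlgHom.commutes _ _
  exact RingHom.congr_fun h a

lemma smul_eq_act (a : Localization.AtPrime (q.comap (algebraMap A B))) (p : ℕ) (x : CB g q.primeCompl p) :
    (a • (show (cq A g q).S p from x)) = act g q.primeCompl (psi g q a : CB g q.primeCompl 0) p x := by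
  funext s
  rw [act_apply, vtx_psi]
  let _ := algLoc (q.comap (algebraMap A B)).primeCompl q.primeCompl (hST q) (mon g s)
  exact Algebra.smul_def a (x s)

end local_

end Groth.Agent.Pi1C.EtLocMain
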