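import Groth.Agent.Pi1C.EtLocMain2

/-!
Main algebraic argument, third part (for S1158).
-/

set_option autoImplicit false

universe u v w

open IsLocalRing

namespace Groth.Agent.Pi1C.EtLocMain

open EtLocCech EtLocSys EtLocLift EtLocRing EtLocFib

variable {A B : Type u} [CommRing A] [CommRing B] [Algebra A B]
variable {ι : Type u} (g : ι → B) (q : Ideal B) [q.IsPrime]

lemma powers_le_sup {p : ℕ} (T : Submonoid B) (s : Fin (p + 1) → ι) :
    Submonoid.powers (g (s 0)) ≤ T ⊔ mon g s := (powers_le_mon g s 0).trans le_sup_right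

/-- The terms are formally étale. -/
lemma formallyEtale_cq [Finite ι] (het : ∀ i, Algebra.FormallyEtale A (Localization.Away (g i))) (p : ℕ) :
    Algebra.FormallyEtale (Localization.AtPrime (q.comap (algebraMap A B))) ((cq A g q).S p) := by
  let _ := fun s : Fin (p + 1) → ι =>
    algLoc (q.comap (algebraMap A B)).primeCompl q.primeCompl (hST q) (mon g s)
  have _ := fun s : Fin (p + 1) → ι =>
    isScalarTower_algLoc (q.comap (algebraMap A B)).primeCompl q.primeCompl (hST q) (mon g s)
  have h1 : ∀ s : Fin (p + 1) → ι, Algebra.FormallyEtale (Localization.AtPrime (q.comap (algebraMap A B)))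
      (Localization (q.primeCompl ⊔ mon g s)) := by
    intro s
    have := het (s 0)
    have h2 := formallyEtale_localization (A := A) (g (s 0)) (q.primeCompl ⊔ mon g s) (powers_le_sup g _ s)
    have h3 : Algebra.FormallyUnramified A (Localization.AtPrime (q.comap (algebraMap A B))) :=
      Algebra.FormallyUnramified.of_isLocalization (q.comap (algebraMap A B)).primeCompl
    exact Algebra.FormallyEtale.of_restrictScalars (R := A)
  exact (Algebra.FormallyEtale.pi_iff
    (fun s : Fin (p + 1) → ι => Localization (q.primeCompl ⊔ mon g s))).mpr h1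

/-- The terms are flat. -/
lemma flat_cq [Finite ι] (het : ∀ i, Module.Flat A (Localization.Away (g i))) (p : ℕ) :
    Module.Flat (Localization.AtPrime (q.comap (algebraMap A B))) ((cq A g q).S p) := by
  classical
  let _ := fun s : Fin (p + 1) → ι =>
    algLoc (q.comap (algebraMap A B)).primeCompl q.primeCompl (hST q) (mon g s)
  have _ := fun s : Fin (p + 1) → ι =>
    isScalarTower_algLoc (q.comap (algebraMap A B)).primeCompl q.primeCompl (hST q) (mon g s)
  have h1 : ∀ s : Fin (p + 1) → ι, Module.Flat (Localization.AtPrime (q.comap (algebraMap A B)))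
      (Localization (q.primeCompl ⊔ mon g s)) := by
    intro s
    have := het (s 0)
    have h2 := flat_localization (A := A) (g (s 0)) (q.primeCompl ⊔ mon g s) (powers_le_sup g _ s)
    exact (Module.flat_iff_of_isLocalization (Localization.AtPrime (q.comap (algebraMap A B)))
      (q.comap (algebraMap A B)).primeCompl _).mpr h2
  have := Fintype.ofFinite (Fin (p + 1) → ι)
  have h2 : Module.Flat (Localization.AtPrime (q.comap (algebraMap A B)))
      (∀ s : Fin (p + 1) → ι, Localization (q.primeCompl ⊔ mon g s)) :=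
    Module.Flat.of_linearEquiv (DFinsupp.linearEquivFunOnFintype
      (R := Localization.AtPrime (q.comap (algebraMap A B)))
      (M := fun s : Fin (p + 1) → ι => Localization (q.primeCompl ⊔ mon g s))).symm
  exact h2

/-- The maximal ideal generates the unit ideal. -/
lemma map_maximalIdeal_eq_top [Algebra.FiniteType A B]
    (het : ∀ i, Algebra.FormallyEtale A (Localization.Away (g i))) (hg : ∀ i, g i ∈ q) {p : ℕ} (s : Fin (p + 1) → ι) :
    letI := algLoc (q.comap (algebraMap A B)).primeCompl q.primeCompl (hST q) (mon g s)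
    (maximalIdeal (Localization.AtPrime (q.comap (algebraMap A B)))).map
      (algebraMap _ (Localization (q.primeCompl ⊔ mon g s))) = ⊤ := by
  let _ := algLoc (q.comap (algebraMap A B)).primeCompl q.primeCompl (hST q) (mon g s)
  have _ := isScalarTower_algLoc (q.comap (algebraMap A B)).primeCompl q.primeCompl (hST q) (mon g s)
  by_contra hne
  obtain ⟨w, hw, hle⟩ := Ideal.exists_le_maximal _ hne
  have := hw.isPrime
  let v : Ideal B := w.comap (algebraMap B (Localization (q.primeCompl ⊔ mon g s)))
  have hunit : ∀ b ∈ q.primeCompl ⊔ mon g s, b ∉ v := by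
    intro b hb hbv
    exact hw.ne_top (Ideal.eq_top_of_isUnit_mem _ hbv
      (IsLocalization.map_units _ (⟨b, hb⟩ : ↥(q.primeCompl ⊔ mon g s))))
  have hvq : v ≤ q := by
    intro b hb
    by_contra hbq
    exact hunit b ((le_sup_left : q.primeCompl ≤ _) hbq) hb
  have hgv : g (s 0) ∉ v := hunit _ (powers_le_sup g _ s ⟨1, pow_one _⟩)
  have hcomap : v.comap (algebraMap A B) = q.comap (algebraMap A B) := by
    apply le_antisymm (Ideal.comap_mono hvq)
    intro a ha
    have h1 : algebraMap A (Localization.AtPrime (q.comap (algebraMap A B))) a ∈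
        maximalIdeal (Localization.AtPrime (q.comap (algebraMap A B))) :=
      (IsLocalization.AtPrime.to_map_mem_maximal_iff (Localization.AtPrime (q.comap (algebraMap A B)))
        (q.comap (algebraMap A B)) a).mpr ha
    have h2 := hle (Ideal.mem_map_of_mem _ h1)
    rw [← IsScalarTower.algebraMap_apply A _ (Localization (q.primeCompl ⊔ mon g s)),
      IsScalarTower.algebraMap_apply A B (Localization (q.primeCompl ⊔ mon g s))] at h2
    exact h2
  have hvp : v.IsPrime := inferInstance
  have := het (s 0)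
  have hqf : Algebra.QuasiFiniteAt A v := quasiFiniteAt_of_formallyEtale (g (s 0)) v hgv
  have := eq_of_le_of_quasiFiniteAt (A := A) hvq hcomap
  exact hgv (this ▸ hg (s 0))

lemma smul_top_cq [Finite ι] [Algebra.FiniteType A B]
    (het : ∀ i, Algebra.FormallyEtale A (Localization.Away (g i))) (hg : ∀ i, g i ∈ q) (p : ℕ) :
    (maximalIdeal (Localization.AtPrime (q.comap (algebraMap A B)))) •
      (⊤ : Submodule (Localization.AtPrime (q.comap (algebraMap A B))) ((cq A g q).S p)) = ⊤ := by
  classical
  let _ := fun s : Fin (p + 1) → ι =>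
    algLoc (q.comap (algebraMap A B)).primeCompl q.primeCompl (hST q) (mon g s)
  have := Fintype.ofFinite (Fin (p + 1) → ι)
  have h1 : ∀ (s : Fin (p + 1) → ι) (x : Localization (q.primeCompl ⊔ mon g s)),
      x ∈ (maximalIdeal (Localization.AtPrime (q.comap (algebraMap A B)))) •
      (⊤ : Submodule (Localization.AtPrime (q.comap (algebraMap A B))) (Localization (q.primeCompl ⊔ mon g s))) := by
    intro s x
    rw [Ideal.smul_top_eq_map, map_maximalIdeal_eq_top g q het hg s]
    trivial
  have h2 : (maximalIdeal (Localization.AtPrime (q.comap (algebraMap A B)))) •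
      (⊤ : Submodule (Localization.AtPrime (q.comap (algebraMap A B)))
        (∀ s : Fin (p + 1) → ι, Localization (q.primeCompl ⊔ mon g s))) = ⊤ := by
    rw [eq_top_iff]
    intro x _
    rw [← Finset.univ_sum_single x]
    refine sum_mem fun s _ => ?_
    have h3 := Submodule.mem_map_of_mem (f := LinearMap.single
      (Localization.AtPrime (q.comap (algebraMap A B)))
      (fun s : Fin (p + 1) → ι => Localization (q.primeCompl ⊔ mon g s)) s) (h1 s (x s))
    rw [Submodule.map_smul''] at h3
    exact (smul_mono_right _ le_top : _ ≤ (maximalIdeal (Localization.AtPrime (q.comap (algebraMap A B)))) •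
      (⊤ : Submodule (Localization.AtPrime (q.comap (algebraMap A B)))
        (∀ s : Fin (p + 1) → ι, Localization (q.primeCompl ⊔ mon g s)))) h3
  exact h2

/-- Powers of `q` lie in the ideal generated by the `g i`, locally at a minimal prime of the bad ideal. -/
lemma exists_pow_map_le [IsNoetherianRing B] (hq : q ∈ (bad g).minimalPrimes) [Finite ι] :
    ∃ M : ℕ, (q.map (algebraMap B (Z0 g q.primeCompl))) ^ M ≤ IZ g q.primeCompl := by
  -- an element `s ∉ q` with `s q^M ⊆ bad`
  have h1 : ∀ x ∈ q, ∃ n : ℕ, ∃ s ∉ q, s * x ^ n ∈ bad g := by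
    intro x hx
    by_contra hcon
    push Not at hcon
    let N : Submonoid B := q.primeCompl ⊔ Submonoid.powers x
    have hdisj : Disjoint (bad g : Set B) (N : Set B) := by
      rw [Set.disjoint_left]
      intro b hb hbN
      obtain ⟨s, hs, y, ⟨n, rfl⟩, rfl⟩ := Submonoid.mem_sup.mp (show b ∈ q.primeCompl ⊔ Submonoid.powers x from hbN)
      exact hcon n s hs hb
    obtain ⟨P, hP, hle, hPd⟩ := Ideal.exists_le_prime_disjoint (bad g) N hdisj
    have hPq : P ≤ q := by
      intro b hb
      by_contra hbq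
      exact Set.disjoint_left.mp hPd hb ((le_sup_left : q.primeCompl ≤ N) hbq)
    have hxP : x ∉ P := fun h => Set.disjoint_left.mp hPd h ((le_sup_right : Submonoid.powers x ≤ N) ⟨1, pow_one x⟩)
    exact hxP (hq.2 ⟨hP, hle⟩ hPq hx)
  have h2 : ∃ s ∉ q, ∃ M : ℕ, ∀ y ∈ q ^ M, s * y ∈ bad g := by
    obtain ⟨G, hG⟩ := (IsNoetherian.noetherian q : q.FG)
    have h3 : ∃ s ∉ q, ∀ x ∈ G, ∃ n : ℕ, s * x ^ n ∈ bad g := by
      have hGq : ∀ x ∈ G, x ∈ q := fun x hx => by rw [← hG]; exact Ideal.subset_span hx
      clear hG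
      classical
      induction G using Finset.induction_on with
      | empty => exact ⟨1, fun h => (inferInstance : q.IsPrime).ne_top (Ideal.eq_top_of_isUnit_mem _ h isUnit_one),
          fun x hx => by simp at hx⟩
      | insert a G ha ih =>
        obtain ⟨s, hs, h⟩ := ih (fun x hx => hGq x (Finset.mem_insert_of_mem hx))
        obtain ⟨n, s', hs', h'⟩ := h1 a (hGq a (Finset.mem_insert_self _ _))
        refine ⟨s * s', fun hmem => ((inferInstance : q.IsPrime).mem_or_mem hmem).elim hs hs', fun x hx => ?_⟩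
        rcases Finset.mem_insert.mp hx with rfl | hx
        · refine ⟨n, ?_⟩
          rw [mul_assoc]
          exact Ideal.mul_mem_left _ _ h'
        · obtain ⟨m, hm⟩ := h x hx
          refine ⟨m, ?_⟩
          rw [mul_comm s, mul_assoc]
          exact Ideal.mul_mem_left _ _ hm
    obtain ⟨s, hs, h⟩ := h3
    refine ⟨s, hs, ?_⟩
    let J : Ideal B := Submodule.comap (LinearMap.mulLeft B s) (bad g)
    have hJ : q ≤ Ideal.radical J := by
      rw [← hG, Ideal.span_le]
      intro x hx
      obtain ⟨n, hn⟩ := h x hx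
      exact ⟨n, hn⟩
    obtain ⟨M, hM⟩ := Ideal.exists_pow_le_of_le_radical_of_fg hJ (IsNoetherian.noetherian q)
    exact ⟨M, fun y hy => hM hy⟩
  obtain ⟨s, hs, M, hM⟩ := h2
  refine ⟨M, ?_⟩
  rw [← Ideal.map_pow, Ideal.map_le_iff_le_comap]
  intro y hy
  have h3 : algebraMap B (Z0 g ⊥) (s * y) ∈ IZ g ⊥ := hM y hy
  have h4 := Ideal.mem_map_of_mem (chZ g (bot_le : ⊥ ≤ q.primeCompl)) h3
  rw [IZ_map, AlgHom.commutes, map_mul] at h4
  exact (Ideal.unit_mul_mem_iff_mem _ (isUnit_algebraMap_Z0 g q.primeCompl s hs)).mp h4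

lemma torsion_cq [Finite ι] [IsNoetherianRing B] (hq : q ∈ (bad g).minimalPrimes) (i : ℕ)
    (c : (cq A g q).cx.H i) : ∃ n : ℕ, ∀ a ∈ maximalIdeal (Localization.AtPrime (q.comap (algebraMap A B))) ^ n,
      a • c = 0 := by
  obtain ⟨z, rfl⟩ := (cq A g q).cx.cls_surjective i c
  obtain ⟨M, hM⟩ := exists_pow_map_le g q hq
  have hz : dB g q.primeCompl (i + 1) (show CB g q.primeCompl (i + 1) from z.1) = 0 :=
    (coAlg_D g _ _ (hST q) (i + 1) z.1).symm.trans z.2
  obtain ⟨n, hn⟩ := exists_pow_le_ann g q.primeCompl i (show CB g q.primeCompl (i + 1) from z.1) hz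
  refine ⟨M * n, fun a ha => ?_⟩
  have h1 : psi g q a ∈ ann g q.primeCompl i (show CB g q.primeCompl (i + 1) from z.1) := by
    apply hn
    apply Ideal.pow_right_mono hM n
    rw [← pow_mul]
    apply Ideal.pow_right_mono (map_psi_le (A := A) g q)
    rw [← Ideal.map_pow]
    exact Ideal.mem_map_of_mem _ ha
  obtain ⟨w, hw⟩ := h1
  rw [← map_smul]
  refine ((cq A g q).cx.cls_eq_zero _).mpr ⟨w, ?_⟩
  refine (coAlg_D g _ _ (hST q) i w).trans (hw.trans ?_)
  exact (smul_eq_act g q a (i + 1) z.1).symm

lemma subsingleton_cq (n : ℕ) (h : Exact g (ringSys q.primeCompl) n) : Subsingleton ((cq A g q).cx.H n) := by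
  refine ⟨fun a b => ?_⟩
  have key : ∀ c : (cq A g q).cx.H n, c = 0 := by
    intro c
    obtain ⟨z, rfl⟩ := (cq A g q).cx.cls_surjective n c
    have hz : dB g q.primeCompl (n + 1) (show CB g q.primeCompl (n + 1) from z.1) = 0 :=
      (coAlg_D g _ _ (hST q) (n + 1) z.1).symm.trans z.2
    obtain ⟨w, hw⟩ := h _ hz
    exact ((cq A g q).cx.cls_eq_zero _).mpr ⟨w, (coAlg_D g _ _ (hST q) n w).trans hw⟩
  rw [key a, key b]

/-- The main local statement. -/
theorem main_local (k : Type u) [Field k] [Algebra k A] [Finite ι] [Algebra.FiniteType A B] [IsNoetherianRing B]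
    (hreg : IsRegularLocalRing (Localization.AtPrime (q.comap (algebraMap A B))))
    (het : ∀ i, Algebra.FormallyEtale A (Localization.Away (g i)))
    (hfl : ∀ i, Module.Flat A (Localization.Away (g i))) (hq : q ∈ (bad g).minimalPrimes)
    (hvan : ∀ n : ℕ, ringKrullDim (Localization.AtPrime (q.comap (algebraMap A B))) = (n + 2 : ℕ) →
      Exact g (ringSys q.primeCompl) n) : False := by
  have hg : ∀ i, g i ∈ q := fun i => hq.1.2 (mem_bad g i)
  have h1 := EtLocBC.smul_top_eq_top (Localization.AtPrime (q.comap (algebraMap A B))) k (cq A g q)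
    (formallyEtale_cq g q het) (flat_cq g q hfl) (smul_top_cq g q het hg)
    (torsion_cq g q hq) (fun n hn => subsingleton_cq g q n (hvan n hn))
  -- the unit section
  have h2 : ∀ x ∈ (maximalIdeal (Localization.AtPrime (q.comap (algebraMap A B)))) •
      (⊤ : Submodule (Localization.AtPrime (q.comap (algebraMap A B))) (LinearMap.ker ((cq A g q).D 0))),
      ∃ y ∈ q.map (algebraMap B (Z0 g q.primeCompl)), (y : CB g q.primeCompl 0) = x.1 := by
    intro x hx
    induction hx using Submodule.smul_induction_on' with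
    | smul r hr m _ =>
      have hm : (show CB g q.primeCompl 0 from m.1) ∈ Z0 g q.primeCompl := by
        rw [mem_Z0]
        exact (coAlg_D g _ _ (hST q) 0 m.1).symm.trans m.2
      refine ⟨psi g q r * ⟨_, hm⟩, Ideal.mul_mem_right _ _ (map_psi_le (A := A) g q (Ideal.mem_map_of_mem _ hr)), ?_⟩
      refine Eq.trans ?_ (smul_eq_act g q r 0 m.1).symm
      funext s
      have : vtx g q.primeCompl (psi g q r : CB g q.primeCompl 0) s 0 = (psi g q r : CB g q.primeCompl 0) s := by
        rw [vtx]
        have hs : s ∘ (fun _ : Fin 1 => (0 : Fin 1)) = s := by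
          funext a
          fin_cases a
          rfl
        have h3 := resAlg_congr g q.primeCompl (psi g q r : CB g q.primeCompl 0) hs
          (sup_le_sup_left (mon_comp_le g s (fun _ : Fin 1 => 0)) q.primeCompl) le_rfl
        rw [h3, resAlg_refl]
      change ((psi g q r : CB g q.primeCompl 0) s) * ((show CB g q.primeCompl 0 from m.1) s) =
        vtx g q.primeCompl (psi g q r : CB g q.primeCompl 0) s 0 * ((show CB g q.primeCompl 0 from m.1) s)
      rw [this]
    | add a ha b hb ha' hb' =>
      obtain ⟨y, hy, e⟩ := ha'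
      obtain ⟨y', hy', e'⟩ := hb'
      refine ⟨y + y', add_mem hy hy', ?_⟩
      change (y : CB g q.primeCompl 0) + (y' : CB g q.primeCompl 0) = _
      rw [e, e']
      rfl
  rw [h1] at h2
  have hone : (cq A g q).D 0 (show (cq A g q).S 0 from (1 : CB g q.primeCompl 0)) = 0 :=
    (coAlg_D g _ _ (hST q) 0 1).trans ((mem_Z0 g q.primeCompl 1).mp (one_mem _))
  obtain ⟨y, hy, e⟩ := h2 ⟨_, hone⟩ trivial
  have hy1 : y = 1 := Subtype.ext e
  rw [hy1] at hy
  have htop := (Ideal.eq_top_iff_one _).mpr hy
  obtain ⟨M, hM⟩ := exists_pow_map_le g q hq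
  rw [htop, Ideal.top_pow] at hM
  obtain ⟨t, ht, ht'⟩ := exists_mem_of_IZ_eq_top g q.primeCompl (top_le_iff.mp hM)
  exact ht (hq.1.2 ht')

/-- The main algebraic statement. -/
theorem main_algebra (k : Type u) [Field k] [Algebra k A] [Finite ι] [Algebra.FiniteType A B] [IsNoetherianRing B]
    (hreg : ∀ (p : Ideal A) [p.IsPrime], IsRegularLocalRing (Localization.AtPrime p))
    (het : ∀ i, Algebra.FormallyEtale A (Localization.Away (g i)))
    (hfl : ∀ i, Module.Flat A (Localization.Away (g i)))
    (hvan : ∀ (q : Ideal B) [q.IsPrime] (_ : ∀ i, g i ∈ q) (n : ℕ),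
      ringKrullDim (Localization.AtPrime (q.comap (algebraMap A B))) = (n + 2 : ℕ) →
      Exact g (ringSys q.primeCompl) n) : IZ g ⊥ = ⊤ := by
  by_contra hne
  have h1 : bad g ≠ ⊤ := by
    intro h
    apply hne
    rw [Ideal.eq_top_iff_one]
    have : (1 : B) ∈ bad g := by rw [h]; trivial
    have h2 : algebraMap B (Z0 g ⊥) 1 ∈ IZ g ⊥ := this
    rwa [map_one] at h2
  obtain ⟨q, hq⟩ := Ideal.nonempty_minimalPrimes h1
  have := hq.1.1
  exact main_local g q k (hreg _) het hfl hq (fun n hn => hvan q (fun i => hq.1.2 (mem_bad g i)) n hn)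

end Groth.Agent.Pi1C.EtLocMain
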