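import Groth.Agent.Pi1C.EtLocSys
import Mathlib.RingTheory.Etale.Pi
import Mathlib.RingTheory.Etale.Basic
import Mathlib.RingTheory.Flat.Localization
import Mathlib.RingTheory.Flat.Basic
import Mathlib.RingTheory.Localization.AtPrime.Basic
import Mathlib.RingTheory.RingHom.Flat

/-!
The Čech complex of a ring, as a complex of algebras (for S1158).
-/

set_option autoImplicit false

universe u v w

namespace Groth.Agent.Pi1C.EtLocRing

open EtLocCech EtLocSys EtLocLift

variable {A B : Type u} [CommRing A] [CommRing B] [Algebra A B]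

section cech

variable {ι : Type u} (g : ι → B) (T : Submonoid B)

/-- Cochains. -/
abbrev CB (p : ℕ) : Type u := ∀ s : Fin (p + 1) → ι, Localization (T ⊔ mon g s)

/-- The coface maps as algebra homomorphisms. -/
noncomputable def δB (p : ℕ) (k : Fin (p + 2)) : CB g T p →ₐ[B] CB g T (p + 1) :=
  AlgHom.pi fun t => (resAlg (sup_le_sup_left (mon_comp_le g t k.succAbove) T)).comp
    (Pi.evalAlgHom B _ (t ∘ k.succAbove))

lemma δB_apply (p : ℕ) (k : Fin (p + 2)) (x : CB g T p) (t : Fin (p + 2) → ι) :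
    δB g T p k x t = resAlg (sup_le_sup_left (mon_comp_le g t k.succAbove) T) (x (t ∘ k.succAbove)) := rfl

/-- The differential. -/
noncomputable abbrev dB (p : ℕ) : CB g T p →ₗ[B] CB g T (p + 1) := (ringSys T).d g p

lemma dB_apply (p : ℕ) (x : CB g T p) :
    dB g T p x = ∑ k : Fin (p + 2), (-1 : ℤ) ^ (k : ℕ) • δB g T p k x := (ringSys T).d_apply g p x

/-- Sections: zero cocycles. -/
noncomputable def Z0 : Subalgebra B (CB g T 0) := AlgHom.equalizer (δB g T 0 0) (δB g T 0 1)

lemma mem_Z0 (x : CB g T 0) : x ∈ Z0 g T ↔ dB g T 0 x = 0 := by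
  rw [dB_apply, Fin.sum_univ_two]
  simp only [Fin.val_zero, pow_zero, one_smul, Fin.val_one, pow_one, neg_smul]
  rw [← sub_eq_add_neg, sub_eq_zero]
  rfl

lemma resAlg_congr {p : ℕ} (x : CB g T p) {s s' : Fin (p + 1) → ι} (h : s = s') {N : Submonoid B}
    (hs : T ⊔ mon g s ≤ N) (hs' : T ⊔ mon g s' ≤ N) : resAlg hs (x s) = resAlg hs' (x s') := by
  subst h; rfl

/-- Restriction of the `a`-th vertex. -/
noncomputable def vtx {p : ℕ} (x : CB g T 0) (t : Fin (p + 1) → ι) (a : Fin (p + 1)) :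
    Localization (T ⊔ mon g t) :=
  resAlg (sup_le_sup_left (mon_comp_le g t (fun _ : Fin 1 => a)) T) (x (t ∘ fun _ => a))

lemma vtx_comp {p q : ℕ} (x : CB g T 0) (t : Fin (q + 1) → ι) (f : Fin (p + 1) → Fin (q + 1)) (a : Fin (p + 1)) :
    resAlg (sup_le_sup_left (mon_comp_le g t f) T) (vtx g T x (t ∘ f) a) = vtx g T x t (f a) := by
  rw [vtx, resAlg_resAlg]
  rfl

lemma δB_zero_eq (x : CB g T 0) (t : Fin 2 → ι) : δB g T 0 0 x t = vtx g T x t 1 := by
  rw [δB_apply, vtx]
  apply resAlg_congr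
  funext a
  fin_cases a
  rfl

lemma δB_one_eq (x : CB g T 0) (t : Fin 2 → ι) : δB g T 0 1 x t = vtx g T x t 0 := by
  rw [δB_apply, vtx]
  apply resAlg_congr
  funext a
  fin_cases a
  rfl

lemma mem_Z0_iff (x : CB g T 0) : x ∈ Z0 g T ↔ ∀ t : Fin 2 → ι, vtx g T x t 0 = vtx g T x t 1 := by
  constructor
  · intro h t
    rw [← δB_zero_eq, ← δB_one_eq]
    exact (congrFun (show δB g T 0 0 x = δB g T 0 1 x from h) t).symm
  · intro h
    change δB g T 0 0 x = δB g T 0 1 x
    funext t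
    rw [δB_zero_eq, δB_one_eq, h]

lemma vtx_eq {p : ℕ} (x : CB g T 0) (hx : x ∈ Z0 g T) (t : Fin (p + 1) → ι) (a b : Fin (p + 1)) :
    vtx g T x t a = vtx g T x t b := by
  let f : Fin 2 → Fin (p + 1) := ![a, b]
  have h := congrArg (resAlg (sup_le_sup_left (mon_comp_le g t f) T)) ((mem_Z0_iff g T x).mp hx (t ∘ f))
  rw [vtx_comp, vtx_comp] at h
  exact h

/-- The action of sections on cochains. -/
noncomputable def act (r : CB g T 0) (p : ℕ) : CB g T p →ₗ[B] CB g T p :=
  LinearMap.pi fun s => (LinearMap.mulLeft B (vtx g T r s 0)).comp (LinearMap.proj s)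

lemma act_apply (r : CB g T 0) (p : ℕ) (x : CB g T p) (s : Fin (p + 1) → ι) :
    act g T r p x s = vtx g T r s 0 * x s := rfl

lemma vtx_mul {p : ℕ} (r r' : CB g T 0) (s : Fin (p + 1) → ι) (a : Fin (p + 1)) :
    vtx g T (r * r') s a = vtx g T r s a * vtx g T r' s a := by
  rw [vtx, vtx, vtx, ← map_mul]
  rfl

lemma vtx_add {p : ℕ} (r r' : CB g T 0) (s : Fin (p + 1) → ι) (a : Fin (p + 1)) :
    vtx g T (r + r') s a = vtx g T r s a + vtx g T r' s a := by
  rw [vtx, vtx, vtx, ← map_add]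
  rfl

lemma vtx_algebraMap {p : ℕ} (b : B) (s : Fin (p + 1) → ι) (a : Fin (p + 1)) :
    vtx g T (algebraMap B (CB g T 0) b) s a = algebraMap B _ b := by
  rw [vtx]
  exact AlgHom.commutes _ b

lemma act_mul (r r' : CB g T 0) (p : ℕ) (x : CB g T p) :
    act g T (r * r') p x = act g T r p (act g T r' p x) := by
  funext s
  rw [act_apply, act_apply, act_apply, vtx_mul, mul_assoc]

lemma act_add (r r' : CB g T 0) (p : ℕ) (x : CB g T p) :
    act g T (r + r') p x = act g T r p x + act g T r' p x := by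
  funext s
  rw [act_apply, Pi.add_apply, act_apply, act_apply, vtx_add, add_mul]

lemma act_algebraMap (b : B) (p : ℕ) (x : CB g T p) :
    act g T (algebraMap B (CB g T 0) b) p x = b • x := by
  funext s
  rw [act_apply, vtx_algebraMap, Pi.smul_apply, Algebra.smul_def]

/-- The differential is linear over sections. -/
lemma act_d (r : CB g T 0) (hr : r ∈ Z0 g T) (p : ℕ) (x : CB g T p) :
    dB g T p (act g T r p x) = act g T r (p + 1) (dB g T p x) := by
  rw [dB_apply, dB_apply, map_sum]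
  refine Finset.sum_congr rfl fun k _ => ?_
  rw [map_zsmul]
  congr 1
  funext t
  rw [δB_apply, act_apply, act_apply, δB_apply, map_mul, vtx_comp, vtx_eq g T r hr t _ 0]

lemma one_mem_Z0 : (1 : CB g T 0) ∈ Z0 g T := one_mem _

/-- The annihilator of a class. -/
noncomputable def ann (p : ℕ) (z : CB g T (p + 1)) : Ideal (Z0 g T) where
  carrier := {r | ∃ w : CB g T p, dB g T p w = act g T r.1 (p + 1) z}
  add_mem' := by
    rintro a b ⟨w, hw⟩ ⟨w', hw'⟩
    refine ⟨w + w', ?_⟩
    rw [map_add, hw, hw']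
    exact (act_add g T a.1 b.1 _ z).symm
  zero_mem' := ⟨0, by
    rw [map_zero]
    funext s
    have : vtx g T ((0 : Z0 g T) : CB g T 0) s 0 = 0 := by
      rw [vtx]
      exact map_zero _
    rw [act_apply, this, zero_mul]
    rfl⟩
  smul_mem' := by
    rintro c a ⟨w, hw⟩
    refine ⟨act g T c.1 p w, ?_⟩
    rw [act_d g T c.1 c.2, hw, ← act_mul]
    rfl

lemma mem_ann (p : ℕ) (z : CB g T (p + 1)) (r : Z0 g T) :
    r ∈ ann g T p z ↔ ∃ w : CB g T p, dB g T p w = act g T r.1 (p + 1) z := Iff.rfl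

/-- The ideal of sections generated by the `g i`. -/
noncomputable def IZ : Ideal (Z0 g T) := (Ideal.span (Set.range g)).map (algebraMap B (Z0 g T))

/-- The annihilator of a class contains a power of the ideal generated by the `g i`. -/
theorem exists_pow_le_ann [Finite ι] (p : ℕ) (z : CB g T (p + 1)) (hz : dB g T (p + 1) z = 0) :
    ∃ n : ℕ, IZ g T ^ n ≤ ann g T p z := by
  apply Ideal.exists_pow_le_of_le_radical_of_fg
  · rw [IZ, Ideal.map_span, Ideal.span_le]
    rintro _ ⟨_, ⟨k, rfl⟩, rfl⟩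
    obtain ⟨n, w, hw⟩ := Sys.exists_torsion g (ringSys T) (loc_ringSys T (g k)) p z hz
    refine ⟨n, w, ?_⟩
    rw [hw, ← map_pow]
    exact (act_algebraMap g T (g k ^ n) _ z).symm
  · rw [IZ]
    apply Ideal.FG.map
    exact ⟨(Set.finite_range g).toFinset, by simp⟩

end cech

end Groth.Agent.Pi1C.EtLocRing
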