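import Groth.Statements.S1158
import Groth.Agent.UnramA.Locus
import Groth.Agent.Dix.NormalLoc
import Groth.Agent.Pi1A.QfUnramSch
import Groth.Agent.Hensel.StalkAt
import Groth.Agent.Ega1.LocNoethNhd
import Mathlib.AlgebraicGeometry.Morphisms.Affine
import Mathlib.AlgebraicGeometry.Noetherian
import Mathlib.RingTheory.Etale.Locus

/-!
# Scheme side of S1158

`of_core`: the étale locus of a finite type morphism from a normal scheme to an excellent regular
affine scheme is affine over the source, granted the ring theoretic statement `Core`.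
-/

set_option autoImplicit false
open CategoryTheory CategoryTheory.Limits AlgebraicGeometry Opposite TopologicalSpace
universe u

namespace Groth.Agent.Pi1C.EtLocScheme14

/-- The ring theoretic statement. -/
def Core : Prop :=
  ∀ (k A B : Type u) [Field k] [CommRing A] [Algebra k A] [CommRing B] [IsDomain B]
    [IsIntegrallyClosed B] [Algebra A B] [Algebra.FiniteType A B] (_ : EGA4.IsExcellent A)
    (_ : ∀ (p : Ideal A) (_ : p.IsPrime), IsRegularLocalRing (Localization.AtPrime p)) (n : ℕ)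
    (g : Fin n → B)
    (_ : (⋃ i, (PrimeSpectrum.basicOpen (g i) : Set (PrimeSpectrum B))) = Algebra.etaleLocus A B)
    (_ : (Algebra.etaleLocus A B).Nonempty),
    ∃ a : Fin n → FractionRing B, (∑ i, a i * algebraMap B (FractionRing B) (g i) = 1) ∧
      ∀ i j, ∃ (N : ℕ) (b : B), a i * algebraMap B _ (g j ^ N) = algebraMap B _ b

section Glue

variable {X : Scheme.{u}}

/-- Restriction of sections. -/
noncomputable def res {U V : X.Opens} (h : V ≤ U) : Γ(X, U) →+* Γ(X, V) :=
  (X.presheaf.map (homOfLE h).op).hom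

theorem res_res {U V W : X.Opens} (h : V ≤ U) (h' : W ≤ V) (x : Γ(X, U)) :
    res h' (res h x) = res (h'.trans h) x := by
  unfold res
  rw [← CommRingCat.comp_apply, ← X.presheaf.map_comp]
  rfl

theorem isUnit_res_basicOpen {U : X.Opens} (g : Γ(X, U)) :
    IsUnit (res (X.basicOpen_le g) g) :=
  X.toRingedSpace.isUnit_res_basicOpen g

/-- Affineness of a union of basic opens from a partition of unity. -/
theorem isAffineOpen_of_data {U : X.Opens} (hU : IsAffineOpen U) {n : ℕ} (g : Fin n → Γ(X, U))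
    (N : ℕ) (b : Fin n → Fin n → Γ(X, U)) (h1 : ∀ i j k, b i j * g k ^ N = b i k * g j ^ N)
    (h2 : ∀ j, ∑ i, b i j * g i = g j ^ N) : IsAffineOpen (⨆ j, X.basicOpen (g j)) := by
  set W : X.Opens := ⨆ j, X.basicOpen (g j) with hW
  have hWU : W ≤ U := iSup_le fun j => X.basicOpen_le (g j)
  have hjW : ∀ j, X.basicOpen (g j) ≤ W := fun j => le_iSup (fun j => X.basicOpen (g j)) j
  have hunit : ∀ j, IsUnit (res (X.basicOpen_le (g j)) (g j)) := fun j => isUnit_res_basicOpen (g j)
  -- the local sections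
  have hex : ∀ i j, ∃ x : Γ(X, X.basicOpen (g j)),
      x * res (X.basicOpen_le (g j)) (g j ^ N) = res (X.basicOpen_le (g j)) (b i j) := by
    intro i j
    obtain ⟨c, hc⟩ := ((hunit j).pow N).exists_left_inv
    refine ⟨res (X.basicOpen_le (g j)) (b i j) * c, ?_⟩
    rw [map_pow, mul_assoc, hc, mul_one]
  choose x hx using hex
  have hcomp : ∀ i j k, res (inf_le_left : X.basicOpen (g j) ⊓ X.basicOpen (g k) ≤ _) (x i j) =
      res (inf_le_right : X.basicOpen (g j) ⊓ X.basicOpen (g k) ≤ _) (x i k) := by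
    intro i j k
    have hju : IsUnit (res ((inf_le_left : X.basicOpen (g j) ⊓ X.basicOpen (g k) ≤ _).trans
        (X.basicOpen_le (g j))) (g j ^ N)) := by
      rw [← res_res (X.basicOpen_le (g j)) inf_le_left, map_pow, map_pow]
      exact ((hunit j).map _).pow N
    have hku : IsUnit (res ((inf_le_left : X.basicOpen (g j) ⊓ X.basicOpen (g k) ≤ _).trans
        (X.basicOpen_le (g j))) (g k ^ N)) := by
      have : res ((inf_le_left : X.basicOpen (g j) ⊓ X.basicOpen (g k) ≤ _).trans
        (X.basicOpen_le (g j))) (g k ^ N) = res inf_le_right (res (X.basicOpen_le (g k)) (g k ^ N)) := by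
        rw [res_res]
      rw [this, map_pow, map_pow]
      exact ((hunit k).map _).pow N
    have e1 := congrArg (res (inf_le_left : X.basicOpen (g j) ⊓ X.basicOpen (g k) ≤ _)) (hx i j)
    have e2 := congrArg (res (inf_le_right : X.basicOpen (g j) ⊓ X.basicOpen (g k) ≤ _)) (hx i k)
    rw [map_mul, res_res, res_res] at e1 e2
    have e3 := congrArg (res ((inf_le_left : X.basicOpen (g j) ⊓ X.basicOpen (g k) ≤ _).trans
        (X.basicOpen_le (g j)))) (h1 i j k)
    rw [map_mul, map_mul] at e3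
    apply (hju.mul hku).mul_right_cancel
    calc _ = (res inf_le_left (x i j) * res _ (g j ^ N)) * res _ (g k ^ N) := by ring
      _ = res _ (b i j) * res _ (g k ^ N) := by rw [e1]
      _ = res _ (b i k) * res _ (g j ^ N) := e3
      _ = (res inf_le_right (x i k) * res _ (g k ^ N)) * res _ (g j ^ N) := by rw [e2]
      _ = _ := by ring
  -- the global sections
  have hglue : ∀ i, ∃ a : Γ(X, W), ∀ j, res (hjW j) a = x i j := by
    intro i
    obtain ⟨a, ha, -⟩ := TopCat.Sheaf.existsUnique_gluing' (F := X.sheaf)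
      (fun j => X.basicOpen (g j)) W (fun j => homOfLE (hjW j)) le_rfl (fun j => x i j)
      (fun j k => hcomp i j k)
    exact ⟨a, ha⟩
  choose a ha using hglue
  have hsum : ∑ i, a i * res hWU (g i) = 1 := by
    apply TopCat.Sheaf.eq_of_locally_eq' (F := X.sheaf) (fun j => X.basicOpen (g j)) W
      (fun j => homOfLE (hjW j)) le_rfl
    intro j
    change res (hjW j) _ = res (hjW j) _
    rw [map_one, map_sum]
    simp only [map_mul, ha, res_res]
    apply ((hunit j).pow N).mul_right_cancel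
    rw [one_mul, Finset.sum_mul, ← map_pow]
    conv_rhs => rw [← h2 j, map_sum]
    refine Finset.sum_congr rfl fun i _ => ?_
    rw [map_mul, ← hx i j]
    ring
  -- conclusion
  refine isAffineOpen_of_isAffineOpen_basicOpen W (Set.range fun i => res hWU (g i)) ?_ ?_
  · rw [Ideal.eq_top_iff_one, ← hsum]
    exact Ideal.sum_mem _ fun i _ => Ideal.mul_mem_left _ _ (Ideal.subset_span ⟨i, rfl⟩)
  · rintro _ ⟨i, rfl⟩
    have h3 : X.basicOpen (res hWU (g i)) = W ⊓ X.basicOpen (g i) := by
      exact X.basicOpen_res (g i) (homOfLE hWU).op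
    change IsAffineOpen (X.basicOpen (res hWU (g i)))
    rw [h3, inf_eq_right.2 (hjW i)]
    exact hU.basicOpen (g i)

/-- Affineness of a union of basic opens from fractions. -/
theorem isAffineOpen_of_fractions {U : X.Opens} (hU : IsAffineOpen U) [IsDomain Γ(X, U)] {n : ℕ}
    (g : Fin n → Γ(X, U)) (a : Fin n → FractionRing Γ(X, U))
    (h1 : ∑ i, a i * algebraMap Γ(X, U) (FractionRing Γ(X, U)) (g i) = 1)
    (h2 : ∀ i j, ∃ (N : ℕ) (b : Γ(X, U)), a i * algebraMap _ _ (g j ^ N) = algebraMap _ _ b) :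
    IsAffineOpen (⨆ j, X.basicOpen (g j)) := by
  have hinj : Function.Injective (algebraMap Γ(X, U) (FractionRing Γ(X, U))) :=
    IsFractionRing.injective _ _
  choose N b hb using h2
  obtain ⟨M, hM⟩ : ∃ M, ∀ i j, N i j ≤ M :=
    ⟨∑ i, ∑ j, N i j, fun i j =>
      (Finset.single_le_sum (f := fun j => N i j) (fun _ _ => Nat.zero_le _)
        (Finset.mem_univ j)).trans
      (Finset.single_le_sum (f := fun i => ∑ j, N i j) (fun _ _ => Nat.zero_le _)
        (Finset.mem_univ i))⟩
  have hb' : ∀ i j, a i * algebraMap _ (FractionRing Γ(X, U)) (g j ^ M) =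
      algebraMap _ _ (b i j * g j ^ (M - N i j)) := by
    intro i j
    rw [map_mul, ← hb i j, mul_assoc, ← map_mul, ← pow_add, Nat.add_sub_cancel' (hM i j)]
  refine isAffineOpen_of_data hU g M (fun i j => b i j * g j ^ (M - N i j)) ?_ ?_
  · intro i j k
    apply hinj
    rw [map_mul, ← hb' i j, map_mul _ (b i k * _), ← hb' i k]
    ring
  · intro j
    apply hinj
    rw [map_sum]
    simp only [map_mul _ (b _ j * _)]
    have h3 : ∀ i, algebraMap _ (FractionRing Γ(X, U)) (b i j * g j ^ (M - N i j)) *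
        algebraMap _ _ (g i) = (a i * algebraMap _ _ (g i)) * algebraMap _ _ (g j ^ M) := by
      intro i
      rw [← hb' i j]
      ring
    rw [Finset.sum_congr rfl fun i _ => h3 i, ← Finset.sum_mul, h1, one_mul]

end Glue

section Locus

variable {X : Scheme.{u}} {A : Type u} [CommRing A]

/-- The `A`-algebra structure on the sections of an `A`-scheme. -/
@[instance_reducible]
noncomputable def algSec (f : X ⟶ Spec (CommRingCat.of A)) (U : X.Opens) : Algebra A Γ(X, U) :=
  ((f.appLE ⊤ U le_top).hom.comp (Scheme.ΓSpecIso (CommRingCat.of A)).inv.hom).toAlgebra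

theorem mem_etaleLocus_iff [IsNoetherianRing A] (f : X ⟶ Spec (CommRingCat.of A))
    [LocallyOfFiniteType f] {U : X.Opens} (hU : IsAffineOpen U) (x : X) (hx : x ∈ U) :
    letI := algSec f U
    x ∈ Pi1X.etaleLocus f ↔ hU.primeIdealOf ⟨x, hx⟩ ∈ Algebra.etaleLocus A Γ(X, U) := by
  have hft : LocallyOfFinitePresentation f := inferInstance
  have h1 : x ∈ Pi1X.etaleLocus f ↔ ∃ W : X.Opens, x ∈ W ∧ Etale (W.ι ≫ f) := by
    unfold Pi1X.etaleLocus
    rw [Opens.mem_sSup]
    exact ⟨fun ⟨W, h, h'⟩ => ⟨W, h', h⟩, fun ⟨W, h, h'⟩ => ⟨W, h', h⟩⟩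
  rw [h1, Groth.Agent.UnramA.Locus.etale_nhd_iff]
  have hV : IsAffineOpen (⊤ : (Spec (CommRingCat.of A)).Opens) := isAffineOpen_top _
  have hUV : U ≤ f ⁻¹ᵁ ⊤ := le_top
  have hsm := AlgebraicGeometry.formallySmooth_stalkMap_iff (f := f) ⊤ hV U hU hUV hx
  have hun := Groth.Agent.UnramA.Locus.formallyUnramified_stalkMap_iff (f := f) ⊤ hV U hU hUV hx
  let algB : Algebra Γ(Spec (CommRingCat.of A), ⊤) Γ(X, U) := (f.appLE ⊤ U hUV).hom.toAlgebra
  let algA : Algebra A Γ(Spec (CommRingCat.of A), ⊤) :=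
    (Scheme.ΓSpecIso (CommRingCat.of A)).inv.hom.toAlgebra
  let algAB : Algebra A Γ(X, U) := algSec f U
  have htower : IsScalarTower A Γ(Spec (CommRingCat.of A), ⊤) Γ(X, U) :=
    IsScalarTower.of_algebraMap_eq' rfl
  have hiso : Function.Bijective (algebraMap A Γ(Spec (CommRingCat.of A), ⊤)) :=
    ConcreteCategory.bijective_of_isIso (Scheme.ΓSpecIso (CommRingCat.of A)).inv
  have het : Algebra.FormallyEtale A Γ(Spec (CommRingCat.of A), ⊤) :=
    Algebra.FormallyEtale.of_equiv
      (AlgEquiv.ofBijective (Algebra.ofId A Γ(Spec (CommRingCat.of A), ⊤)) hiso)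
  have h2 : (f.stalkMap x).hom.FormallyEtale ↔
      (f.stalkMap x).hom.FormallySmooth ∧ (f.stalkMap x).hom.FormallyUnramified := by
    algebraize [(f.stalkMap x).hom]
    exact (Algebra.FormallyEtale.iff_formallyUnramified_and_formallySmooth).trans and_comm
  have h3 : hU.primeIdealOf ⟨x, hx⟩ ∈ Algebra.etaleLocus A Γ(X, U) ↔
      hU.primeIdealOf ⟨x, hx⟩ ∈ Algebra.etaleLocus Γ(Spec (CommRingCat.of A), ⊤) Γ(X, U) := by
    rw [Algebra.mem_etaleLocus_iff, Algebra.mem_etaleLocus_iff]
    exact Algebra.FormallyEtale.iff_restrictScalars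
  rw [h2, hsm, hun, h3, Algebra.etaleLocus_eq_unramfiedLocus_inter_smoothLocus, Set.mem_inter_iff,
    and_comm]

/-- Étale locus on an affine open as a finite union of basic opens. -/
theorem exists_finite_cover [IsNoetherianRing A] (f : X ⟶ Spec (CommRingCat.of A))
    [LocallyOfFiniteType f] {U : X.Opens} (hU : IsAffineOpen U) :
    letI := algSec f U
    ∃ (n : ℕ) (g : Fin n → Γ(X, U)),
      (⋃ i, (PrimeSpectrum.basicOpen (g i) : Set (PrimeSpectrum Γ(X, U)))) =
        Algebra.etaleLocus A Γ(X, U) ∧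
      Pi1X.etaleLocus f ⊓ U = ⨆ i, X.basicOpen (g i) := by
  let alg : Algebra A Γ(X, U) := algSec f U
  have hft : Algebra.FiniteType A Γ(X, U) := by
    have h1 := f.finiteType_appLE (isAffineOpen_top _) hU (le_top : U ≤ f ⁻¹ᵁ ⊤)
    have h2 : (algebraMap A Γ(X, U)).FiniteType :=
      h1.comp (RingHom.FiniteType.of_surjective _
        (ConcreteCategory.bijective_of_isIso (Scheme.ΓSpecIso (CommRingCat.of A)).inv).2)
    exact h2
  have hfp : Algebra.FinitePresentation A Γ(X, U) := Algebra.FinitePresentation.of_finiteType.1 hft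
  have hnoeth : IsNoetherianRing Γ(X, U) := Algebra.FiniteType.isNoetherianRing A Γ(X, U)
  have hopen : IsOpen (Algebra.etaleLocus A Γ(X, U)) := Algebra.isOpen_etaleLocus
  obtain ⟨s, hs⟩ := (PrimeSpectrum.isClosed_iff_zeroLocus _).1 hopen.isClosed_compl
  obtain ⟨n, g, hg⟩ := Submodule.fg_iff_exists_fin_generating_family.1
    (IsNoetherian.noetherian (Ideal.span s))
  have hgs : (⋃ i, (PrimeSpectrum.basicOpen (g i) : Set (PrimeSpectrum Γ(X, U)))) =
        Algebra.etaleLocus A Γ(X, U) := by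
    rw [← compl_compl (Algebra.etaleLocus A Γ(X, U)), hs, ← PrimeSpectrum.zeroLocus_span, ← hg]
    ext p
    simp only [Set.mem_iUnion, SetLike.mem_coe, PrimeSpectrum.mem_basicOpen, Set.mem_compl_iff,
      PrimeSpectrum.mem_zeroLocus, SetLike.coe_subset_coe]
    rw [← not_iff_not]
    push Not
    constructor
    · intro h
      apply Submodule.span_le.2
      rintro _ ⟨i, rfl⟩
      exact h i
    · intro h i
      exact h (Submodule.subset_span ⟨i, rfl⟩)
  refine ⟨n, g, hgs, ?_⟩
  ext x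
  simp only [Opens.coe_inf, Set.mem_inter_iff, SetLike.mem_coe, Opens.mem_iSup]
  constructor
  · rintro ⟨h1, hx⟩
    rw [mem_etaleLocus_iff f hU x hx, ← hgs, Set.mem_iUnion] at h1
    obtain ⟨i, hi⟩ := h1
    exact ⟨i, (Groth.Agent.Ega1.LocNoethNhd.mem_basicOpen_iff_notMem_primeIdealOf hU ⟨x, hx⟩
      (g i)).2 hi⟩
  · rintro ⟨i, hi⟩
    have hx : x ∈ U := X.basicOpen_le _ hi
    refine ⟨?_, hx⟩
    rw [mem_etaleLocus_iff f hU x hx, ← hgs, Set.mem_iUnion]
    exact ⟨i, (Groth.Agent.Ega1.LocNoethNhd.mem_basicOpen_iff_notMem_primeIdealOf hU ⟨x, hx⟩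
      (g i)).1 hi⟩

end Locus

theorem isIntegrallyClosed_section {X : Scheme.{u}} (hX : Pi1.IsNormalScheme X)
    {U : X.Opens} (hU : IsAffineOpen U) [IsDomain Γ(X, U)] : IsIntegrallyClosed Γ(X, U) := by
  apply IsIntegrallyClosed.of_localization_maximal
  intro P hP hPm
  let y : PrimeSpectrum Γ(X, U) := ⟨P, hPm.isPrime⟩
  have hyU := Groth.Agent.Pi1A.QfUnramSch.fromSpec_mem hU y
  have hy : hU.primeIdealOf ⟨hU.fromSpec y, hyU⟩ = y :=
    Groth.Agent.Pi1A.QfUnramSch.primeIdealOf_fromSpec hU y hyU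
  have h1 := (Groth.Agent.Hensel.StalkAt.normalAt_iff_stalk hU _ hyU).mpr (hX _)
  rw [hy] at h1
  exact h1.2

/-- **Scheme side of S1158.** -/
theorem of_core (core : Core.{u}) (k : Type u) [Field k] (A : Type u) [CommRing A]
    [Algebra k A] (hA : EGA4.IsExcellent A)
    (hreg : ∀ (p : Ideal A) (_ : p.IsPrime), IsRegularLocalRing (Localization.AtPrime p))
    {X : Scheme.{u}} (f : X ⟶ Spec (CommRingCat.of A)) [LocallyOfFiniteType f] [QuasiCompact f]
    (hX : Pi1.IsNormalScheme X) : IsAffineHom (Pi1X.etaleLocus f).ι := by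
  have hN : IsNoetherianRing A := hA.1
  have hXN : IsLocallyNoetherian X := LocallyOfFiniteType.isLocallyNoetherian f
  apply isAffineHom_of_forall_exists_isAffineOpen
  intro x
  have := (hX x).1
  obtain ⟨U, hxU, -, hU, hdom⟩ :=
    Groth.Agent.Dix.NormalLoc.exists_isDomain_affine_nhds X x ⊤ trivial
  refine ⟨U, hxU, hU, ?_⟩
  have hint : IsIntegrallyClosed Γ(X, U) := isIntegrallyClosed_section hX hU
  let alg : Algebra A Γ(X, U) := algSec f U
  have hft : Algebra.FiniteType A Γ(X, U) := by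
    have h1 := f.finiteType_appLE (isAffineOpen_top _) hU (le_top : U ≤ f ⁻¹ᵁ ⊤)
    have h2 : (algebraMap A Γ(X, U)).FiniteType :=
      h1.comp (RingHom.FiniteType.of_surjective _
        (ConcreteCategory.bijective_of_isIso (Scheme.ΓSpecIso (CommRingCat.of A)).inv).2)
    exact h2
  obtain ⟨n, g, hg, hVU⟩ := exists_finite_cover f hU
  have hkey : IsAffineOpen (Pi1X.etaleLocus f ⊓ U) := by
    by_cases hne : (Algebra.etaleLocus A Γ(X, U)).Nonempty
    · obtain ⟨a, ha1, ha2⟩ := core k A Γ(X, U) hA hreg n g hg hne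
      rw [hVU]
      exact isAffineOpen_of_fractions hU g a ha1 ha2
    · have h3 : Pi1X.etaleLocus f ⊓ U = ⊥ := by
        rw [hVU]
        rw [Set.not_nonempty_iff_eq_empty] at hne
        rw [hne] at hg
        apply iSup_eq_bot.2
        intro i
        ext y
        simp only [SetLike.mem_coe, Opens.coe_bot, Set.mem_empty_iff_false, iff_false]
        intro hy
        have hyU : y ∈ U := X.basicOpen_le _ hy
        have h4 := (Groth.Agent.Ega1.LocNoethNhd.mem_basicOpen_iff_notMem_primeIdealOf hU ⟨y, hyU⟩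
          (g i)).1 hy
        have h5 : hU.primeIdealOf ⟨y, hyU⟩ ∈
            ⋃ i, (PrimeSpectrum.basicOpen (g i) : Set (PrimeSpectrum Γ(X, U))) :=
          Set.mem_iUnion.2 ⟨i, h4⟩
        rw [hg] at h5
        exact h5
      rw [h3]
      exact isAffineOpen_bot X
  have h6 := (Pi1X.etaleLocus f).ι.isAffineOpen_iff_of_isOpenImmersion (U := (Pi1X.etaleLocus f).ι ⁻¹ᵁ U)
  rw [← h6]
  rw [Scheme.Hom.image_preimage_eq_opensRange_inf, Scheme.Opens.opensRange_ι]
  exact hkey

end Groth.Agent.Pi1C.EtLocScheme14
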