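import Groth.Agent.Pi1C.EtLocCech
import Mathlib.RingTheory.Localization.Module
import Mathlib.Algebra.Module.LocalizedModule.Basic

/-!
Čech systems of localizations of a ring or a module (for S1158).
-/

set_option autoImplicit false

universe u v w

namespace Groth.Agent.Pi1C.EtLocSys

open EtLocCech

variable {R : Type u} [CommRing R]

/-! ### Ring version -/

/-- Restriction between localizations. -/
noncomputable def resAlg {M N : Submonoid R} (h : M ≤ N) : Localization M →ₐ[R] Localization N :=
  IsLocalization.liftAlgHom (M := M) (f := Algebra.ofId R (Localization N))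
    (fun y => IsLocalization.map_units (Localization N) ⟨y.1, h y.2⟩)

lemma resAlg_mk {M N : Submonoid R} (h : M ≤ N) (b : R) (m : M) :
    resAlg h (IsLocalization.mk' _ b m) = IsLocalization.mk' _ b ⟨m.1, h m.2⟩ := by
  rw [IsLocalization.eq_mk'_iff_mul_eq]
  have h1 : IsLocalization.mk' (Localization M) b m * algebraMap R _ (m : R) = algebraMap R _ b :=
    IsLocalization.mk'_spec _ _ _
  have h2 := congrArg (resAlg h) h1
  rw [map_mul, AlgHom.commutes, AlgHom.commutes] at h2
  exact h2

lemma resAlg_unique {M N : Submonoid R} (f f' : Localization M →ₐ[R] Localization N) : f = f' :=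
  Subsingleton.elim (h := IsLocalization.algHom_subsingleton M) _ _

lemma resAlg_refl (M : Submonoid R) (x : Localization M) : resAlg le_rfl x = x :=
  DFunLike.congr_fun (resAlg_unique (resAlg le_rfl) (AlgHom.id R _)) x

lemma resAlg_resAlg {M N P : Submonoid R} (h : M ≤ N) (h' : N ≤ P) (x : Localization M) :
    resAlg h' (resAlg h x) = resAlg (h.trans h') x :=
  DFunLike.congr_fun (resAlg_unique ((resAlg h').comp (resAlg h)) (resAlg (h.trans h'))) x

/-- Localizations of the ring, at a base submonoid `T`. -/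
noncomputable abbrev ringSys (T : Submonoid R) : Sys.{u, u} R where
  L N := Localization (T ⊔ N)
  res h := (resAlg (sup_le_sup_left h T)).toLinearMap
  res_refl _ x := resAlg_refl _ x
  res_res h h' x := resAlg_resAlg (sup_le_sup_left h T) (sup_le_sup_left h' T) x

lemma exists_of_resAlg_eq_zero {M N : Submonoid R} (h : M ≤ N) (x : Localization M) (hx : resAlg h x = 0) :
    ∃ n ∈ N, n • x = 0 := by
  obtain ⟨b, m, rfl⟩ := IsLocalization.exists_mk'_eq M x
  rw [resAlg_mk, IsLocalization.mk'_eq_zero_iff] at hx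
  obtain ⟨n, hn⟩ := hx
  refine ⟨n.1, n.2, ?_⟩
  rw [IsLocalization.smul_mk', hn, IsLocalization.mk'_zero]

lemma loc_ringSys (T : Submonoid R) (r : R) : (ringSys T).Loc r where
  inj N x hx := by
    obtain ⟨n, hn, h⟩ := exists_of_resAlg_eq_zero (sup_le_sup_left le_sup_left T) x hx
    rw [← sup_assoc] at hn
    obtain ⟨a, ha, b, ⟨k, rfl⟩, rfl⟩ := Submonoid.mem_sup.mp hn
    refine ⟨k, ?_⟩
    have hu : IsUnit (algebraMap R (Localization (T ⊔ N)) a) := IsLocalization.map_units _ (⟨a, ha⟩ : ↥(T ⊔ N))
    dsimp only at h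
    rw [mul_smul, Algebra.smul_def a] at h
    exact hu.mul_right_eq_zero.mp h
  surj N y := by
    obtain ⟨b, ⟨m, hm⟩, rfl⟩ := IsLocalization.exists_mk'_eq (T ⊔ (N ⊔ Submonoid.powers r)) y
    have hm' := hm
    rw [← sup_assoc] at hm'
    obtain ⟨a, ha, c, ⟨k, rfl⟩, rfl⟩ := Submonoid.mem_sup.mp hm'
    refine ⟨k, IsLocalization.mk' (Localization (T ⊔ N)) b ⟨a, ha⟩, ?_⟩
    change resAlg (sup_le_sup_left le_sup_left T) _ = _
    rw [resAlg_mk]
    rw [eq_comm, IsLocalization.eq_mk'_iff_mul_eq]
    have h1 := IsLocalization.mk'_spec (Localization (T ⊔ (N ⊔ Submonoid.powers r))) b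
      ⟨a * r ^ k, hm⟩
    dsimp only at h1 ⊢
    rw [← h1, map_mul, Algebra.smul_def]
    ring

/-- Units. -/
lemma isUnit_end {S : Type v} [CommRing S] [Algebra R S] (x : R) (h : IsUnit (algebraMap R S x)) :
    IsUnit (algebraMap R (Module.End R S) x) := by
  have : algebraMap R (Module.End R S) x = Algebra.lmul R S (algebraMap R S x) := by
    ext s
    simp [Algebra.smul_def]
  rw [this]
  exact h.map _

/-- `T⁻¹R → (TN)⁻¹R` is a localization of modules at `N`. -/
lemma isLocalizedModule_resAlg (T N : Submonoid R) :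
    IsLocalizedModule N (resAlg (le_sup_left : T ≤ T ⊔ N)).toLinearMap where
  map_units x := isUnit_end _ (IsLocalization.map_units _ (⟨x.1, (le_sup_right : N ≤ T ⊔ N) x.2⟩ : ↥(T ⊔ N)))
  surj y := by
    obtain ⟨b, ⟨m, hm⟩, rfl⟩ := IsLocalization.exists_mk'_eq (T ⊔ N) y
    obtain ⟨a, ha, c, hc, rfl⟩ := Submonoid.mem_sup.mp hm
    refine ⟨(IsLocalization.mk' (Localization T) b ⟨a, ha⟩, ⟨c, hc⟩), ?_⟩
    change c • _ = resAlg (le_sup_left : T ≤ T ⊔ N) _
    rw [resAlg_mk, IsLocalization.eq_mk'_iff_mul_eq]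
    have h1 := IsLocalization.mk'_spec (Localization (T ⊔ N)) b ⟨a * c, hm⟩
    dsimp only at h1 ⊢
    rw [← h1, map_mul, Algebra.smul_def]
    ring
  exists_of_eq {x₁ x₂} h := by
    have h1 : resAlg (le_sup_left : T ≤ T ⊔ N) (x₁ - x₂) = 0 := by
      rw [map_sub, sub_eq_zero]; exact h
    obtain ⟨n, hn, h2⟩ := exists_of_resAlg_eq_zero _ _ h1
    obtain ⟨a, ha, c, hc, rfl⟩ := Submonoid.mem_sup.mp hn
    refine ⟨⟨c, hc⟩, ?_⟩
    have hu : IsUnit (algebraMap R (Localization T) a) := IsLocalization.map_units _ (⟨a, ha⟩ : ↥T)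
    rw [mul_smul, Algebra.smul_def a] at h2
    have h3 := hu.mul_right_eq_zero.mp h2
    rw [smul_sub, sub_eq_zero] at h3
    exact h3

/-! ### Module version -/

section module

variable (M : Type v) [AddCommGroup M] [Module R M]

lemma liftOfLE_mk {S T : Submonoid R} (h : S ≤ T) (m : M) (s : S) :
    LocalizedModule.liftOfLE S T h (LocalizedModule.mk m s) = LocalizedModule.mk m ⟨s.1, h s.2⟩ := by
  have := IsLocalizedModule.liftOfLE_mk' S T h (LocalizedModule.mkLinearMap S M)
    (LocalizedModule.mkLinearMap T M) m s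
  rwa [← IsLocalizedModule.mk_eq_mk', ← IsLocalizedModule.mk_eq_mk'] at this

/-- Localizations of a module. -/
noncomputable abbrev modSys : Sys.{u, max u v} R where
  L N := LocalizedModule N M
  res h := LocalizedModule.liftOfLE _ _ h
  res_refl N x := by
    induction x using LocalizedModule.induction_on with
    | h m s => rw [liftOfLE_mk]
  res_res h h' x := by
    induction x using LocalizedModule.induction_on with
    | h m s => rw [liftOfLE_mk, liftOfLE_mk, liftOfLE_mk]

end module

/-! ### Equivalences -/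

section equiv

variable {ι : Type w} (g : ι → R)

/-- Equivalence of systems. -/
structure Eqv (F : Sys.{u, v} R) (F' : Sys.{u, v} R) where
  e : ∀ N, F.L N ≃+ F'.L N
  comm : ∀ {N N' : Submonoid R} (h : N ≤ N') (x : F.L N), e N' (F.res h x) = F'.res h (e N x)

/-- Exactness in degree `p+1`. -/
def Exact (F : Sys.{u, v} R) (p : ℕ) : Prop :=
  ∀ z : F.C g (p + 1), F.d g (p + 1) z = 0 → ∃ w : F.C g p, F.d g p w = z

variable {F F' : Sys.{u, v} R} (E : Eqv F F')

lemma Eqv.comm_d (p : ℕ) (x : F.C g p) :
    F'.d g p (fun s => E.e _ (x s)) = fun s => E.e _ (F.d g p x s) := by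
  funext t
  rw [Sys.d_apply_apply, Sys.d_apply_apply, map_sum]
  refine Finset.sum_congr rfl fun k _ => ?_
  rw [map_zsmul, E.comm]

include E in
lemma Eqv.exact {p : ℕ} (h : Exact g F' p) : Exact g F p := by
  intro z hz
  obtain ⟨w, hw⟩ := h (fun s => E.e _ (z s)) (by
    rw [E.comm_d, hz]
    funext s
    exact map_zero _)
  refine ⟨fun s => (E.e _).symm (w s), ?_⟩
  have h1 := E.comm_d g p (fun s => (E.e _).symm (w s))
  simp only [AddEquiv.apply_symm_apply] at h1
  rw [hw] at h1
  funext s
  exact (E.e _).injective (congrFun h1 s).symm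

end equiv

/-- The equivalence between the localizations of the module `T⁻¹R` and the localizations of `R`. -/
noncomputable def ringModEqv (T : Submonoid R) : Eqv (ringSys T) (modSys (Localization T)) where
  e N :=
    have := isLocalizedModule_resAlg T N
    (IsLocalizedModule.iso N (resAlg (le_sup_left : T ≤ T ⊔ N)).toLinearMap).symm.toAddEquiv
  comm {N N'} h x := by
    have h1 := isLocalizedModule_resAlg T N
    have h2 := isLocalizedModule_resAlg T N'
    change (IsLocalizedModule.iso N' (resAlg (le_sup_left : T ≤ T ⊔ N')).toLinearMap).symm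
      (resAlg (sup_le_sup_left h T) x) = LocalizedModule.liftOfLE _ _ h
        ((IsLocalizedModule.iso N (resAlg (le_sup_left : T ≤ T ⊔ N)).toLinearMap).symm x)
    rw [LinearEquiv.symm_apply_eq]
    obtain ⟨y, rfl⟩ := (IsLocalizedModule.iso N (resAlg (le_sup_left : T ≤ T ⊔ N)).toLinearMap).surjective x
    rw [LinearEquiv.symm_apply_apply]
    induction y using LocalizedModule.induction_on with
    | h m s =>
      have h3 : ∀ (N₀ : Submonoid R) [IsLocalizedModule N₀ (resAlg (le_sup_left : T ≤ T ⊔ N₀)).toLinearMap]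
          (c : N₀), c.1 • (IsLocalizedModule.iso N₀ (resAlg (le_sup_left : T ≤ T ⊔ N₀)).toLinearMap)
            (LocalizedModule.mk m c) = resAlg (le_sup_left : T ≤ T ⊔ N₀) m := by
        intro N₀ _ c
        rw [← map_smul]
        have : c.1 • LocalizedModule.mk m c = LocalizedModule.mkLinearMap N₀ (Localization T) m := by
          rw [LocalizedModule.smul'_mk, LocalizedModule.mkLinearMap_apply]
          exact LocalizedModule.mk_cancel c m
        have h4 := LinearMap.congr_fun
          (IsLocalizedModule.iso_symm_comp N₀ (resAlg (le_sup_left : T ≤ T ⊔ N₀)).toLinearMap) m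
        rw [this, ← h4]
        exact LinearEquiv.apply_symm_apply _ _
      rw [liftOfLE_mk]
      have h4 := h3 N s
      have h5 := h3 N' ⟨s.1, h s.2⟩
      have hu : Function.Injective fun y : Localization (T ⊔ N') => s.1 • y := by
        intro y y' hy
        have hu := IsLocalization.map_units (Localization (T ⊔ N'))
          (⟨s.1, (le_sup_right : N' ≤ T ⊔ N') (h s.2)⟩ : ↥(T ⊔ N'))
        dsimp only at hy
        rw [Algebra.smul_def, Algebra.smul_def] at hy
        exact hu.mul_left_cancel hy
      apply hu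
      dsimp only at h5 ⊢
      rw [h5, ← map_smul, h4, resAlg_resAlg]

end Groth.Agent.Pi1C.EtLocSys
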