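import Groth.Agent.Flat2E.LocalCrit
import Groth.Agent.Ega4A.RegSeqFlat
import Mathlib.RingTheory.Smooth.Fiber
import Mathlib.RingTheory.Etale.Locus
import Mathlib.RingTheory.Unramified.Locus
import Mathlib.RingTheory.Kaehler.TensorProduct
import Mathlib.RingTheory.Smooth.Flat

/-!
# Finite algebras etale modulo a nonzerodivisor are etale near the zero locus

* `exists_etale_away`: `R` Noetherian, `B` a finite `R`-algebra, `f` regular on `B`, `B/fB` etale over
  `R/f`, `q` a prime containing `f`: there is `s ∉ q` with `B_s` etale over `R`.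
-/

set_option autoImplicit false

universe u

open IsLocalRing TensorProduct

namespace Groth.Agent.Pi1C.EtNear619

variable {R B : Type u} [CommRing R] [CommRing B] [Algebra R B]

/-- If `A` is a Noetherian local ring, `C` a finite `A`-algebra, `f ∈ m_A` regular on `C` and `C/fC` is
etale over `A/f`, then `C` is etale over `A`. -/
theorem etale_of_isLocalRing {A C : Type u} [CommRing A] [IsLocalRing A] [IsNoetherianRing A]
    [CommRing C] [Algebra A C] [Module.Finite A C] (f : A) (hf : f ∈ maximalIdeal A)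
    (hreg : IsSMulRegular C f)
    [Algebra.Etale (A ⧸ Ideal.span {f}) ((A ⧸ Ideal.span {f}) ⊗[A] C)] : Algebra.Etale A C := by
  have hle : Ideal.span {f} ≤ maximalIdeal A := (Ideal.span_singleton_le_iff_mem _).2 hf
  -- flatness
  have hflat : Module.Flat A C := by
    have h1 := Groth.Agent.Ega4A.RegSeqFlat.rTensor_subtype_injective_of_isWeaklyRegular
      (A := A) (M := C) (rs := [f]) (by
        rw [RingTheory.Sequence.isWeaklyRegular_cons_iff]
        exact ⟨hreg, RingTheory.Sequence.IsWeaklyRegular.nil _ _⟩)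
    rw [Ideal.ofList_singleton] at h1
    refine Groth.Agent.Flat2E.LocalCrit.flat_of_rTensor_injective (S := A) (Ideal.span {f}) ?_ h1
      inferInstance
    rw [Algebra.algebraMap_self, Ideal.map_id]
    exact hle.trans (IsLocalRing.maximalIdeal_le_jacobson _)
  have hfp : Algebra.FinitePresentation A C := Algebra.FinitePresentation.of_finiteType.1 inferInstance
  have hunr : Algebra.FormallyUnramified A C := by
    constructor
    have h1 : Subsingleton (Ω[(A ⧸ Ideal.span {f}) ⊗[A] C ⁄ (A ⧸ Ideal.span {f})]) := inferInstance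
    let _ : Algebra C ((A ⧸ Ideal.span {f}) ⊗[A] C) := Algebra.TensorProduct.rightAlgebra
    have h2 : Subsingleton ((A ⧸ Ideal.span {f}) ⊗[A] Ω[C ⁄ A]) :=
      (KaehlerDifferential.tensorKaehlerEquivBase A (A ⧸ Ideal.span {f}) C
        ((A ⧸ Ideal.span {f}) ⊗[A] C)).toEquiv.subsingleton
    have hfin : Module.Finite A (Ω[C ⁄ A]) := Module.Finite.trans C _
    have h3 : (⊤ : Submodule A (Ω[C ⁄ A])) ≤ Ideal.span {f} • ⊤ := by
      intro x _
      have h4 : ((1 : A ⧸ Ideal.span {f}) ⊗ₜ[A] x) = 0 := Subsingleton.elim _ _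
      rw [← Submodule.Quotient.mk_eq_zero, ← TensorProduct.quotTensorEquivQuotSMul_mk_one_tmul, h4,
        map_zero]
    have h6 : (⊤ : Submodule A (Ω[C ⁄ A])) = ⊥ := Submodule.eq_bot_of_le_smul_of_le_jacobson_bot
      (Ideal.span {f}) ⊤ Module.Finite.fg_top h3 (hle.trans (IsLocalRing.maximalIdeal_le_jacobson _))
    exact (Submodule.subsingleton_iff A).1 (subsingleton_of_bot_eq_top h6.symm)
  exact Algebra.Etale.of_formallyUnramified_of_flat

/-- The local form. -/
theorem isEtaleAt [IsNoetherianRing R] [Module.Finite R B] (f : R) (hreg : IsSMulRegular B f)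
    [Algebra.Etale (R ⧸ Ideal.span {f}) ((R ⧸ Ideal.span {f}) ⊗[R] B)]
    (p : Ideal R) [p.IsPrime] (hf : f ∈ p) (q : Ideal B) [q.IsPrime] [q.LiesOver p] :
    Algebra.IsEtaleAt R q := by
  let Rp := Localization.AtPrime p
  let Sp := Localization (Algebra.algebraMapSubmonoid B p.primeCompl)
  let Sq := Localization.AtPrime q
  let := Localization.AtPrime.algebraOfLiesOver p q
  let g : Sp →ₐ[B] Sq := IsLocalization.liftAlgHom (M := Algebra.algebraMapSubmonoid B p.primeCompl)
        (f := Algebra.ofId _ _) (by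
      rintro ⟨_, x, hx, rfl⟩
      simpa using! IsLocalization.map_units (M := q.primeCompl) Sq ⟨algebraMap _ _ x,
        by simp_all [q.over_def p]⟩)
  algebraize [g.toRingHom]
  have : IsScalarTower R Sp Sq := .to₁₃₄ _ B _ _
  have : IsScalarTower Rp Sp Sq := .of_algebraMap_eq' <| by
    apply IsLocalization.ringHom_ext p.primeCompl
    simp only [RingHom.comp_assoc, ← IsScalarTower.algebraMap_eq]
  have hpo : Algebra.IsPushout R Rp B Sp :=
    .symm <| Algebra.isPushout_of_isLocalization p.primeCompl _ _ _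
  have hfin : Module.Finite Rp Sp := Module.Finite.of_isLocalization R B p.primeCompl
  have hN : IsNoetherianRing Rp := inferInstance
  let f' : Rp := algebraMap R Rp f
  have hf' : f' ∈ maximalIdeal Rp := by
    rw [← Localization.AtPrime.map_eq_maximalIdeal]
    exact Ideal.mem_map_of_mem _ hf
  have hreg' : IsSMulRegular Sp f' := by
    have h1 : IsSMulRegular B (algebraMap R B f) := by
      intro x y hxy
      apply hreg
      simpa [Algebra.smul_def] using hxy
    have h2 : IsSMulRegular Sp (algebraMap B Sp (algebraMap R B f)) := h1.of_flat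
    intro x y hxy
    apply h2
    have h3 : algebraMap Rp Sp f' = algebraMap B Sp (algebraMap R B f) := by
      rw [← IsScalarTower.algebraMap_apply R Rp Sp, ← IsScalarTower.algebraMap_apply R B Sp]
    change algebraMap B Sp (algebraMap R B f) • x = algebraMap B Sp (algebraMap R B f) • y
    rw [← h3]
    simpa [Algebra.smul_def] using hxy
  have het : Algebra.Etale (Rp ⧸ Ideal.span {f'}) ((Rp ⧸ Ideal.span {f'}) ⊗[Rp] Sp) := by
    have hmap : (Ideal.span {f}).map (algebraMap R Rp) = Ideal.span {f'} := by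
      rw [Ideal.map_span, Set.image_singleton]
    rw [← hmap]
    let e1 : (Rp ⧸ (Ideal.span {f}).map (algebraMap R Rp)) ⊗[R ⧸ Ideal.span {f}]
        ((R ⧸ Ideal.span {f}) ⊗[R] B) ≃ₐ[Rp ⧸ (Ideal.span {f}).map (algebraMap R Rp)]
        (Rp ⧸ (Ideal.span {f}).map (algebraMap R Rp)) ⊗[R] B :=
      Algebra.TensorProduct.cancelBaseChange _ _ _ _ _
    let e2 : (Rp ⧸ (Ideal.span {f}).map (algebraMap R Rp)) ⊗[Rp] (Rp ⊗[R] B)
        ≃ₐ[Rp ⧸ (Ideal.span {f}).map (algebraMap R Rp)]
        (Rp ⧸ (Ideal.span {f}).map (algebraMap R Rp)) ⊗[R] B :=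
      Algebra.TensorProduct.cancelBaseChange _ _ _ _ _
    let e3 : (Rp ⧸ (Ideal.span {f}).map (algebraMap R Rp)) ⊗[Rp] (Rp ⊗[R] B)
        ≃ₐ[Rp ⧸ (Ideal.span {f}).map (algebraMap R Rp)]
        (Rp ⧸ (Ideal.span {f}).map (algebraMap R Rp)) ⊗[Rp] Sp :=
      Algebra.TensorProduct.congr AlgEquiv.refl (Algebra.IsPushout.equiv R Rp B Sp)
    have hbc : Algebra.Etale (Rp ⧸ (Ideal.span {f}).map (algebraMap R Rp))
        ((Rp ⧸ (Ideal.span {f}).map (algebraMap R Rp)) ⊗[R ⧸ Ideal.span {f}]
          ((R ⧸ Ideal.span {f}) ⊗[R] B)) := inferInstance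
    exact Algebra.Etale.of_equiv (A := (Rp ⧸ (Ideal.span {f}).map (algebraMap R Rp))
      ⊗[R ⧸ Ideal.span {f}] ((R ⧸ Ideal.span {f}) ⊗[R] B)) ((e1.trans e2.symm).trans e3)
  have h1 : Algebra.Etale Rp Sp := etale_of_isLocalRing f' hf' hreg'
  have h2 : Algebra.FormallyEtale R Rp := Algebra.FormallyEtale.of_isLocalization p.primeCompl
  have h3 : Algebra.FormallyEtale R Sp := Algebra.FormallyEtale.comp R Rp Sp
  have h4 : Algebra.FormallyEtale B Sp :=
    Algebra.FormallyEtale.of_isLocalization (Algebra.algebraMapSubmonoid B p.primeCompl)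
  have h5 : Algebra.FormallyEtale B Sq := Algebra.FormallyEtale.of_isLocalization q.primeCompl
  have h6 : Algebra.FormallyEtale Sp Sq := Algebra.FormallyEtale.of_restrictScalars (R := B)
  exact Algebra.FormallyEtale.comp R Sp Sq

/-- A finite algebra which is etale modulo a nonzerodivisor `f` is etale in a neighbourhood of
`V(f)`. -/
theorem exists_etale_away [IsNoetherianRing R] [Module.Finite R B] (f : R)
    (hreg : IsSMulRegular B f)
    [het : Algebra.Etale (R ⧸ Ideal.span {f}) (B ⧸ (Ideal.span {f}).map (algebraMap R B))]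
    (p : Ideal R) [hp : p.IsPrime] (hf : f ∈ p) :
    ∃ s ∉ p, Algebra.Etale R (Localization.Away (algebraMap R B s)) := by
  have het' : Algebra.Etale (R ⧸ Ideal.span {f}) ((R ⧸ Ideal.span {f}) ⊗[R] B) :=
    Algebra.Etale.of_equiv (Algebra.TensorProduct.quotIdealMapEquivQuotTensor B (Ideal.span {f}))
  have hft : Algebra.FinitePresentation R B := Algebra.FinitePresentation.of_finiteType.1 inferInstance
  let Z : Set (PrimeSpectrum B) := (Algebra.etaleLocus R B)ᶜ
  have hZ : IsClosed Z := Algebra.isOpen_etaleLocus.isClosed_compl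
  have hint : (algebraMap R B).IsIntegral := algebraMap_isIntegral_iff.2 inferInstance
  have hZ' : IsClosed (PrimeSpectrum.comap (algebraMap R B) '' Z) :=
    PrimeSpectrum.isClosedMap_comap_of_isIntegral _ hint Z hZ
  have hpZ : (⟨p, hp⟩ : PrimeSpectrum R) ∈ (PrimeSpectrum.comap (algebraMap R B) '' Z)ᶜ := by
    rintro ⟨q, hq, hqp⟩
    apply hq
    have h1 : q.asIdeal.LiesOver p := ⟨by
      have h2 := congrArg PrimeSpectrum.asIdeal hqp
      exact h2.symm⟩
    exact isEtaleAt f hreg p hf q.asIdeal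
  obtain ⟨_, ⟨_, ⟨s, rfl⟩, rfl⟩, hs, hsub⟩ :=
    PrimeSpectrum.isBasis_basic_opens.exists_subset_of_mem_open hpZ hZ'.isOpen_compl
  refine ⟨s, hs, ?_⟩
  rw [← Algebra.basicOpen_subset_etaleLocus_iff_etale]
  intro q hq
  by_contra hcon
  exact hsub (show PrimeSpectrum.comap (algebraMap R B) q ∈ PrimeSpectrum.basicOpen s from hq)
    ⟨q, hcon, rfl⟩

end Groth.Agent.Pi1C.EtNear619
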