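import Mathlib.RingTheory.Unramified.Finite
import Mathlib.RingTheory.Etale.Basic
import Mathlib.RingTheory.Smooth.Flat
import Mathlib.RingTheory.IsTensorProduct
import Mathlib.RingTheory.Finiteness.Projective
import Mathlib.Algebra.Module.FinitePresentation
import Mathlib.RingTheory.Finiteness.ModuleFinitePresentation
import Mathlib.RingTheory.Flat.EquationalCriterion

set_option autoImplicit false

/-!
# The trace form of a finite étale algebra

For a finite projective formally unramified algebra `S` over `R` (any rings), with separability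
element `e : S ⊗[R] S`, there is a unique `R`-linear functional `τ : S → R` with
`(τ ⊗ 1) e = 1`; it satisfies the dual basis formula `s = ∑ τ (a_j s) b_j` for `e = ∑ a_j ⊗ b_j`
and is compatible with arbitrary base change.
-/

universe u v w

namespace Groth.Agent.Pi1C.EtTrace

open scoped TensorProduct
open TensorProduct

section Defs

variable (R : Type u) (S : Type v) [CommRing R] [CommRing S] [Algebra R S]

/-- `e` is the separability element of `S` over `R`. -/
structure IsSep (e : S ⊗[R] S) : Prop where
  comm : ∀ s : S, ((1 : S) ⊗ₜ[R] s) * e = (s ⊗ₜ[R] (1 : S)) * e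
  lmul : Algebra.TensorProduct.lmul' R e = 1

variable {R S}

/-- contraction of the first factor, `a ⊗ b ↦ τ a • b`. -/
noncomputable def contr (τ : S →ₗ[R] R) : S ⊗[R] S →ₗ[R] S :=
  (TensorProduct.lid R S).toLinearMap ∘ₗ τ.rTensor S

@[simp] theorem contr_tmul (τ : S →ₗ[R] R) (a b : S) : contr τ (a ⊗ₜ[R] b) = τ a • b := by
  simp [contr]

theorem contr_one_tmul_mul (τ : S →ₗ[R] R) (s : S) (z : S ⊗[R] S) :
    contr τ (((1 : S) ⊗ₜ[R] s) * z) = s * contr τ z := by
  induction z using TensorProduct.induction_on with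
  | zero => simp
  | tmul a b => simp
  | add x y hx hy => rw [mul_add, map_add, hx, hy, map_add, mul_add]

/-- `τ` is the trace functional of `S` over `R` : `(τ ⊗ 1) e = 1` for the separability
element `e`. -/
def IsTrace (τ : S →ₗ[R] R) : Prop := ∃ e : S ⊗[R] S, IsSep R S e ∧ contr τ e = 1

theorem IsSep.mul_eq {e : S ⊗[R] S} (he : IsSep R S e) (z : S ⊗[R] S) :
    z * e = ((1 : S) ⊗ₜ[R] (Algebra.TensorProduct.lmul' R z : S)) * e := by
  induction z using TensorProduct.induction_on with
  | zero => simp
  | tmul a b =>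
    have h1 : (a ⊗ₜ[R] b : S ⊗[R] S) = (1 ⊗ₜ[R] b) * (a ⊗ₜ[R] 1) := by simp
    rw [h1, mul_assoc, ← he.comm, ← mul_assoc, Algebra.TensorProduct.tmul_mul_tmul, one_mul,
      ← h1, Algebra.TensorProduct.lmul'_apply_tmul, mul_comm b a]
  | add x y hx hy => rw [add_mul, hx, hy, map_add, TensorProduct.tmul_add, add_mul]

theorem IsSep.unique {e e' : S ⊗[R] S} (he : IsSep R S e) (he' : IsSep R S e') : e = e' := by
  have h1 := he.mul_eq e'
  have h2 := he'.mul_eq e
  rw [he'.lmul] at h1
  rw [he.lmul] at h2
  rw [← Algebra.TensorProduct.one_def, one_mul] at h1 h2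
  rw [← h1, mul_comm, h2]

theorem exists_isSep [Algebra.FormallyUnramified R S] [Algebra.EssFiniteType R S] :
    ∃ e : S ⊗[R] S, IsSep R S e :=
  ⟨Algebra.FormallyUnramified.elem R S, Algebra.FormallyUnramified.one_tmul_mul_elem,
    Algebra.FormallyUnramified.lmul_elem⟩

/-- The swap of the separability element is itself. -/
theorem IsSep.comm_eq {e : S ⊗[R] S} (he : IsSep R S e) :
    Algebra.TensorProduct.comm R S S e = e := by
  refine IsSep.unique ⟨fun s => ?_, ?_⟩ he
  · have := congrArg (Algebra.TensorProduct.comm R S S) (he.comm s)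
    rw [map_mul, map_mul] at this
    simpa using this.symm
  · rw [← he.lmul]
    generalize e = z
    induction z using TensorProduct.induction_on with
    | zero => simp
    | tmul a b => simp [mul_comm]
    | add x y hx hy => rw [map_add, map_add, hx, hy, map_add]

/-- Dual basis formula, in invariant form. -/
theorem contr_tmul_one_mul {e : S ⊗[R] S} (he : IsSep R S e) {τ : S →ₗ[R] R}
    (hτ : contr τ e = 1) (s : S) : contr τ ((s ⊗ₜ[R] (1 : S)) * e) = s := by
  rw [← he.comm, contr_one_tmul_mul, hτ, mul_one]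

theorem unique_aux {e : S ⊗[R] S} (he : IsSep R S e) {τ τ' : S →ₗ[R] R} (hτ : contr τ e = 1)
    (hτ' : contr τ' e = 1) : τ = τ' := by
  -- `x = ∑ τ' (b_j x) a_j`
  have key : ∀ x : S, τ (contr τ' ((x ⊗ₜ[R] (1 : S)) * e)) =
      τ' (contr τ ((x ⊗ₜ[R] (1 : S)) * e)) := by
    intro x
    have h1 : ∀ z : S ⊗[R] S, τ (contr τ' z) =
        τ' (contr τ (Algebra.TensorProduct.comm R S S z)) := by
      intro z
      induction z using TensorProduct.induction_on with
      | zero => simp
      | tmul a b => simp [mul_comm]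
      | add x y hx hy => simp only [map_add, hx, hy]
    rw [h1, map_mul, he.comm_eq, Algebra.TensorProduct.comm_tmul, he.comm]
  ext x
  have := key x
  rwa [contr_tmul_one_mul he hτ', contr_tmul_one_mul he hτ] at this

theorem IsTrace.unique {τ τ' : S →ₗ[R] R} (h : IsTrace τ) (h' : IsTrace τ') : τ = τ' := by
  obtain ⟨e, he, h⟩ := h
  obtain ⟨e', he', h'⟩ := h'
  obtain rfl := he.unique he'
  exact unique_aux he h h'

theorem IsTrace.contr_eq_one {τ : S →ₗ[R] R} (h : IsTrace τ) {e : S ⊗[R] S}
    (he : IsSep R S e) : contr τ e = 1 := by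
  obtain ⟨e', he', h'⟩ := h
  obtain rfl := he.unique he'
  exact h'

/-- Every element of `S ⊗ S` is a finite sum, indexed by `Fin n`. -/
theorem exists_sum (z : S ⊗[R] S) : ∃ (n : ℕ) (a b : Fin n → S), z = ∑ j, a j ⊗ₜ[R] b j := by
  obtain ⟨s, hs⟩ := TensorProduct.exists_finset (R := R) z
  refine ⟨s.card, fun j => (s.equivFin.symm j).1.1, fun j => (s.equivFin.symm j).1.2, ?_⟩
  rw [hs, ← Finset.sum_coe_sort]
  exact (Equiv.sum_comp s.equivFin.symm (fun i : s => (i.1.1 ⊗ₜ[R] i.1.2 : S ⊗[R] S))).symm

/-- Dual bases for the trace form. -/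
theorem IsTrace.exists_dual {τ : S →ₗ[R] R} (h : IsTrace τ) :
    ∃ (n : ℕ) (a b : Fin n → S), (∀ s : S, s = ∑ j, τ (a j * s) • b j) ∧
      (∀ s : S, s = ∑ j, τ (b j * s) • a j) := by
  obtain ⟨e, he, h⟩ := h
  obtain ⟨n, a, b, hab⟩ := exists_sum e
  refine ⟨n, a, b, fun s => ?_, fun s => ?_⟩
  · have := contr_tmul_one_mul he h s
    rw [hab, Finset.mul_sum, map_sum] at this
    simp only [Algebra.TensorProduct.tmul_mul_tmul, one_mul, contr_tmul, mul_comm s] at this
    exact this.symm
  · have := contr_tmul_one_mul he h s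
    have h2 : e = ∑ j, b j ⊗ₜ[R] a j := by
      rw [← he.comm_eq, hab, map_sum]
      simp
    rw [h2, Finset.mul_sum, map_sum] at this
    simp only [Algebra.TensorProduct.tmul_mul_tmul, one_mul, contr_tmul, mul_comm s] at this
    exact this.symm

/-- The trace form is nondegenerate. -/
theorem IsTrace.eq_zero {τ : S →ₗ[R] R} (h : IsTrace τ) {s : S} (hs : ∀ t, τ (t * s) = 0) :
    s = 0 := by
  obtain ⟨n, a, b, h1, -⟩ := h.exists_dual
  rw [h1 s]
  simp [hs]

/-- Every linear functional is of the form `τ (t * -)` for a unique `t`. -/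
theorem IsTrace.exists_eq {τ : S →ₗ[R] R} (h : IsTrace τ) (φ : S →ₗ[R] R) :
    ∃ t : S, ∀ s, φ s = τ (t * s) := by
  obtain ⟨n, a, b, h1, -⟩ := h.exists_dual
  refine ⟨∑ j, φ (b j) • a j, fun s => ?_⟩
  conv_lhs => rw [h1 s]
  rw [map_sum, Finset.sum_mul, map_sum]
  apply Finset.sum_congr rfl
  intro j _
  rw [map_smul, smul_mul_assoc, map_smul, smul_eq_mul, smul_eq_mul, mul_comm]

/-- Existence of the trace functional. -/
theorem exists_isTrace [Module.Finite R S] [Module.Projective R S]
    [Algebra.FormallyUnramified R S] : ∃ τ : S →ₗ[R] R, IsTrace τ := by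
  obtain ⟨n, f, g, -, -, hfg⟩ := Module.Finite.exists_comp_eq_id_of_projective R S
  obtain ⟨e, he⟩ := exists_isSep (R := R) (S := S)
  let x : Fin n → S := fun i => f (Pi.single i 1)
  let F : Fin n → (S →ₗ[R] R) := fun i => (LinearMap.proj i) ∘ₗ g
  have hx : ∀ s : S, ∑ i, F i s • x i = s := by
    intro s
    have h1 : f (g s) = s := LinearMap.congr_fun hfg s
    conv_rhs => rw [← h1, pi_eq_sum_univ' (g s)]
    rw [map_sum]
    apply Finset.sum_congr rfl
    intro i _
    simp only [F, x, LinearMap.comp_apply, LinearMap.proj_apply]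
    rw [← map_smul]

  let τ : S →ₗ[R] R := ∑ i, F i ∘ₗ LinearMap.mulRight R (x i)
  refine ⟨τ, e, he, ?_⟩
  have h1 : ∀ z : S ⊗[R] S, contr τ z = ∑ i, contr (F i) ((x i ⊗ₜ[R] (1 : S)) * z) := by
    intro z
    induction z using TensorProduct.induction_on with
    | zero => simp
    | tmul a b =>
      simp [τ, Finset.sum_smul, mul_comm]
    | add y z hy hz =>
      rw [map_add, hy, hz, ← Finset.sum_add_distrib]
      apply Finset.sum_congr rfl
      intro i _
      rw [mul_add, map_add]
  have h2 : ∀ z : S ⊗[R] S, ∑ i, x i * contr (F i) z = Algebra.TensorProduct.lmul' R z := by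
    intro z
    induction z using TensorProduct.induction_on with
    | zero => simp
    | tmul a b =>
      rw [Algebra.TensorProduct.lmul'_apply_tmul]
      conv_rhs => rw [← hx a]
      rw [Finset.sum_mul]
      apply Finset.sum_congr rfl
      intro i _
      rw [contr_tmul, mul_smul_comm, smul_mul_assoc]
    | add y z hy hz =>
      rw [map_add, ← hy, ← hz, ← Finset.sum_add_distrib]
      apply Finset.sum_congr rfl
      intro i _
      rw [map_add, mul_add]
  rw [h1]
  have h3 : ∀ i, contr (F i) ((x i ⊗ₜ[R] (1 : S)) * e) = x i * contr (F i) e := by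
    intro i
    rw [← he.comm, contr_one_tmul_mul]
  simp only [h3]
  rw [h2, he.lmul]

/-- Existence of the trace functional for finite étale algebras. -/
theorem exists_isTrace_of_etale (R : Type u) (S : Type v) [CommRing R] [CommRing S] [Algebra R S]
    [Module.Finite R S] [Algebra.Etale R S] : ∃ τ : S →ₗ[R] R, IsTrace τ := by
  have h1 : Module.Flat R S := inferInstance
  have h2 : Module.FinitePresentation R S := .of_finite_of_finitePresentation R S
  have h3 : Module.Projective R S := Module.Flat.projective_of_finitePresentation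
  exact exists_isTrace

end Defs

section BaseChange

variable {R : Type u} {S : Type v} [CommRing R] [CommRing S] [Algebra R S]
variable {R' : Type*} {S' : Type*} [CommRing R'] [CommRing S'] [Algebra R R'] [Algebra R' S']
  [Algebra S S'] [Algebra R S'] [IsScalarTower R R' S'] [IsScalarTower R S S']

/-- the canonical map `S ⊗[R] S → S' ⊗[R'] S'`. -/
noncomputable def mapSq (R : Type u) (S : Type v) [CommRing R] [CommRing S] [Algebra R S]
    (R' : Type*) (S' : Type*) [CommRing R'] [CommRing S'] [Algebra R R'] [Algebra R' S']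
    [Algebra S S'] [Algebra R S'] [IsScalarTower R R' S'] [IsScalarTower R S S'] :
    S ⊗[R] S →ₐ[R] S' ⊗[R'] S' :=
  Algebra.TensorProduct.lift
    ((Algebra.TensorProduct.includeLeft (R := R') (S := R') (A := S') (B := S')).restrictScalars R
      |>.comp (IsScalarTower.toAlgHom R S S'))
    ((Algebra.TensorProduct.includeRight (R := R') (A := S') (B := S')).restrictScalars R
      |>.comp (IsScalarTower.toAlgHom R S S')) (fun _ _ => Commute.all _ _)

@[simp] theorem mapSq_tmul (a b : S) :
    mapSq R S R' S' (a ⊗ₜ[R] b) = algebraMap S S' a ⊗ₜ[R'] algebraMap S S' b := by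
  simp [mapSq]

/-- Base change of the separability element. -/
theorem IsSep.map {e : S ⊗[R] S} (he : IsSep R S e)
    (hspan : Submodule.span R' (Set.range (algebraMap S S')) = ⊤) :
    IsSep R' S' (mapSq R S R' S' e) := by
  constructor
  · intro s'
    have hs' : s' ∈ Submodule.span R' (Set.range (algebraMap S S')) := by
      rw [hspan]; trivial
    induction hs' using Submodule.span_induction with
    | mem x hx =>
      obtain ⟨s, rfl⟩ := hx
      have := congrArg (mapSq R S R' S') (he.comm s)
      simpa using this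
    | zero => simp
    | add x y _ _ hx hy => rw [tmul_add, add_mul, hx, hy, add_tmul, add_mul]
    | smul c x _ hx =>
      rw [TensorProduct.tmul_smul, smul_mul_assoc, hx, ← TensorProduct.smul_tmul',
        smul_mul_assoc]
  · have h : ∀ z : S ⊗[R] S, Algebra.TensorProduct.lmul' R' (mapSq R S R' S' z) =
        algebraMap S S' (Algebra.TensorProduct.lmul' R z) := by
      intro z
      induction z using TensorProduct.induction_on with
      | zero => simp
      | tmul a b => simp
      | add x y hx hy => rw [map_add, map_add, hx, hy, map_add, map_add]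
    rw [h, he.lmul, map_one]

theorem span_eq_top (hpush : Algebra.IsPushout R R' S S') :
    Submodule.span R' (Set.range (algebraMap S S')) = ⊤ := by
  rw [eq_top_iff]
  rintro x -
  refine hpush.out.inductionOn x _ (zero_mem _) (fun m => ?_) (fun c n hn => ?_)
    (fun a b ha hb => ?_)
  · exact Submodule.subset_span ⟨m, rfl⟩
  · exact Submodule.smul_mem _ _ hn
  · exact Submodule.add_mem _ ha hb

/-- Compatibility of the trace with base change. -/
theorem IsTrace.map_eq {τ : S →ₗ[R] R} (h : IsTrace τ) {τ' : S' →ₗ[R'] R'} (h' : IsTrace τ')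
    (hpush : Algebra.IsPushout R R' S S') (s : S) :
    τ' (algebraMap S S' s) = algebraMap R R' (τ s) := by
  have hbc : IsBaseChange R' (IsScalarTower.toAlgHom R S S').toLinearMap := hpush.out
  have hspan : Submodule.span R' (Set.range (algebraMap S S')) = ⊤ := span_eq_top hpush
  -- extend `τ` to `S'`
  let τ₀ : S →ₗ[R] R' := (Algebra.linearMap R R') ∘ₗ τ
  let τ'' : S' →ₗ[R'] R' := hbc.lift τ₀
  have hτ'' : ∀ s : S, τ'' (algebraMap S S' s) = algebraMap R R' (τ s) := fun s => by
    have := hbc.lift_eq τ₀ s
    simpa [τ₀] using this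
  obtain ⟨e, he, h⟩ := h
  have h'' : IsTrace τ'' := by
    refine ⟨mapSq R S R' S' e, he.map hspan, ?_⟩
    have h1 : ∀ z : S ⊗[R] S, contr τ'' (mapSq R S R' S' z) = algebraMap S S' (contr τ z) := by
      intro z
      induction z using TensorProduct.induction_on with
      | zero => simp
      | tmul a b =>
        simp only [mapSq_tmul, contr_tmul, hτ'']
        rw [algebraMap_smul, Algebra.algebraMap_eq_smul_one, Algebra.algebraMap_eq_smul_one,
          smul_assoc]
      | add x y hx hy => rw [map_add, map_add, hx, hy, map_add, map_add]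
    rw [h1, h, map_one]
  rw [h'.unique h'', hτ'']

/-- The base change of a trace functional is a trace functional. -/
theorem IsTrace.exists_map {τ : S →ₗ[R] R} (h : IsTrace τ)
    (hpush : Algebra.IsPushout R R' S S') : ∃ τ' : S' →ₗ[R'] R', IsTrace τ' ∧
      ∀ s : S, τ' (algebraMap S S' s) = algebraMap R R' (τ s) := by
  have hbc : IsBaseChange R' (IsScalarTower.toAlgHom R S S').toLinearMap := hpush.out
  have hspan : Submodule.span R' (Set.range (algebraMap S S')) = ⊤ := span_eq_top hpush
  let τ₀ : S →ₗ[R] R' := (Algebra.linearMap R R') ∘ₗ τ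
  let τ'' : S' →ₗ[R'] R' := hbc.lift τ₀
  have hτ'' : ∀ s : S, τ'' (algebraMap S S' s) = algebraMap R R' (τ s) := fun s => by
    have := hbc.lift_eq τ₀ s
    simpa [τ₀] using this
  refine ⟨τ'', ?_, hτ''⟩
  obtain ⟨e, he, h⟩ := h
  refine ⟨mapSq R S R' S' e, he.map hspan, ?_⟩
  have h1 : ∀ z : S ⊗[R] S, contr τ'' (mapSq R S R' S' z) = algebraMap S S' (contr τ z) := by
    intro z
    induction z using TensorProduct.induction_on with
    | zero => simp
    | tmul a b =>
      simp only [mapSq_tmul, contr_tmul, hτ'']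
      rw [algebraMap_smul, Algebra.algebraMap_eq_smul_one, Algebra.algebraMap_eq_smul_one,
        smul_assoc]
    | add x y hx hy => rw [map_add, map_add, hx, hy, map_add, map_add]
  rw [h1, h, map_one]

end BaseChange

end Groth.Agent.Pi1C.EtTrace
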