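import Groth.Agent.Pi1C.EtTrace
import Mathlib.AlgebraicGeometry.Morphisms.Etale
import Mathlib.AlgebraicGeometry.Morphisms.Finite
import Mathlib.AlgebraicGeometry.Noetherian
import Mathlib.AlgebraicGeometry.Morphisms.QuasiSeparated

set_option autoImplicit false

/-!
# The trace of a finite étale morphism of schemes

`tr h O : Γ(V, h ⁻¹ᵁ O) →+ Γ(U, O)` for `h : V ⟶ U` finite étale, `O` an arbitrary open of `U`.
-/

universe u v w

namespace Groth.Agent.Pi1C.EtTraceSch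

open CategoryTheory Limits AlgebraicGeometry TopologicalSpace Opposite
open Groth.Agent.Pi1C.EtTrace

section Ring

variable {R : Type u} {S : Type v} [CommRing R] [CommRing S]

/-- `t` is the trace functional of the ring map `φ`. -/
def IsTr (φ : R →+* S) (t : S →+ R) : Prop :=
  letI := φ.toAlgebra
  ∃ τ : S →ₗ[R] R, IsTrace τ ∧ ∀ x, τ x = t x

theorem exists_isTr {φ : R →+* S} (h1 : φ.Finite) (h2 : φ.Etale) : ∃ t : S →+ R, IsTr φ t := by
  algebraize [φ]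
  obtain ⟨τ, hτ⟩ := exists_isTrace_of_etale R S
  exact ⟨τ.toAddMonoidHom, τ, hτ, fun _ => rfl⟩

theorem IsTr.unique {φ : R →+* S} {t t' : S →+ R} (h : IsTr φ t) (h' : IsTr φ t') : t = t' := by
  let _ := φ.toAlgebra
  obtain ⟨τ, hτ, h1⟩ := h
  obtain ⟨τ', hτ', h2⟩ := h'
  obtain rfl := hτ.unique hτ'
  ext x
  rw [← h1, ← h2]

theorem IsTr.map_mul {φ : R →+* S} {t : S →+ R} (h : IsTr φ t) (c : R) (x : S) :
    t (φ c * x) = c * t x := by
  let _ := φ.toAlgebra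
  obtain ⟨τ, hτ, h1⟩ := h
  rw [← h1, ← h1]
  exact τ.map_smul c x

theorem IsTr.exists_dual {φ : R →+* S} {t : S →+ R} (h : IsTr φ t) :
    ∃ (n : ℕ) (a b : Fin n → S), ∀ x : S, x = ∑ j, φ (t (a j * x)) * b j := by
  let _ := φ.toAlgebra
  obtain ⟨τ, hτ, h1⟩ := h
  obtain ⟨n, a, b, h2, -⟩ := hτ.exists_dual
  refine ⟨n, a, b, fun x => ?_⟩
  conv_lhs => rw [h2 x]
  refine Finset.sum_congr rfl fun j _ => ?_
  rw [h1, Algebra.smul_def]
  rfl

theorem IsTr.eq_zero {φ : R →+* S} {t : S →+ R} (h : IsTr φ t) {x : S}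
    (hx : ∀ y, t (y * x) = 0) : x = 0 := by
  obtain ⟨n, a, b, h2⟩ := h.exists_dual
  rw [h2 x]
  simp [hx]

/-- Base change of the trace. -/
theorem IsTr.map_eq {R S R' S' : CommRingCat.{u}} {φ : R ⟶ S} {φ' : R' ⟶ S'} {a : R ⟶ R'}
    {b : S ⟶ S'} (hp : IsPushout a φ φ' b) {t : S →+ R} {t' : S' →+ R'} (h : IsTr φ.hom t)
    (h' : IsTr φ'.hom t') (x : S) : t' (b x) = a (t x) := by
  algebraize [a.hom, φ.hom, φ'.hom, b.hom, φ'.hom.comp a.hom]
  have h3 : IsScalarTower R S S' := by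
    refine .of_algebraMap_eq fun r => ?_
    exact congrArg (fun f : R ⟶ S' => f.hom r) hp.w
  have hpush : Algebra.IsPushout R R' S S' := (CommRingCat.isPushout_iff_isPushout.1 hp)
  obtain ⟨τ, hτ, h1⟩ := h
  obtain ⟨τ', hτ', h2⟩ := h'
  have := hτ.map_eq hτ' hpush x
  rw [h1, h2] at this
  exact this

end Ring

section Affine

variable {V U V' U' : Scheme.{u}}

/-- sections of an affine morphism over affine opens: pushout. -/
theorem isPushout_appLE {g' : V' ⟶ V} {h' : V' ⟶ U'} {h : V ⟶ U} {g : U' ⟶ U}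
    (sq : IsPullback g' h' h g) [IsAffineHom h] {W : U.Opens} {W' : U'.Opens}
    (hW : IsAffineOpen W) (hW' : IsAffineOpen W') (e : W' ≤ g ⁻¹ᵁ W)
    (e' : h' ⁻¹ᵁ W' ≤ g' ⁻¹ᵁ (h ⁻¹ᵁ W)) :
    IsPushout (g.appLE W W' e) (h.app W) (h'.app W')
      (g'.appLE (h ⁻¹ᵁ W) (h' ⁻¹ᵁ W') e') := by
  have hUY : h' ⁻¹ᵁ W' = g' ⁻¹ᵁ (h ⁻¹ᵁ W) ⊓ h' ⁻¹ᵁ W' := (inf_eq_right.2 e').symm
  have h1 := isIso_pushoutSection_of_isAffineOpen sq (US := W) (UT := W') (UX := h ⁻¹ᵁ W) e le_rfl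
    hUY hW hW' (hW.preimage h)
  have h2 := ((isIso_pushoutSection_iff ..).1 h1).flip
  rw [Scheme.Hom.appLE_eq_app, Scheme.Hom.appLE_eq_app] at h2
  exact h2

theorem preimage_le' {g' : V' ⟶ V} {h' : V' ⟶ U'} {h : V ⟶ U} {g : U' ⟶ U}
    (w : g' ≫ h = h' ≫ g) {W : U.Opens} {W' : U'.Opens} (e : W' ≤ g ⁻¹ᵁ W) :
    h' ⁻¹ᵁ W' ≤ g' ⁻¹ᵁ (h ⁻¹ᵁ W) := by
  rw [← Scheme.Hom.comp_preimage, w, Scheme.Hom.comp_preimage]
  exact h'.preimage_mono e

variable (h : V ⟶ U) [IsFinite h] [Etale h]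

theorem exists_isTr_app {W : U.Opens} (hW : IsAffineOpen W) :
    ∃ t : Γ(V, h ⁻¹ᵁ W) →+ Γ(U, W), IsTr (h.app W).hom t :=
  exists_isTr (IsFinite.finite_app h W hW) (by
    have := HasRingHomProperty.appLE @Etale h inferInstance ⟨W, hW⟩ ⟨h ⁻¹ᵁ W, hW.preimage h⟩ le_rfl
    rwa [Scheme.Hom.appLE_eq_app] at this)

/-- the trace over an affine open. -/
noncomputable def trAff {W : U.Opens} (hW : IsAffineOpen W) : Γ(V, h ⁻¹ᵁ W) →+ Γ(U, W) :=
  (exists_isTr_app h hW).choose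

theorem isTr_trAff {W : U.Opens} (hW : IsAffineOpen W) : IsTr (h.app W).hom (trAff h hW) :=
  (exists_isTr_app h hW).choose_spec

/-- Base change of `trAff`. -/
theorem trAff_baseChange {g' : V' ⟶ V} {h' : V' ⟶ U'} {h : V ⟶ U} {g : U' ⟶ U}
    (sq : IsPullback g' h' h g) [IsFinite h] [Etale h] [IsFinite h'] [Etale h'] {W : U.Opens}
    {W' : U'.Opens} (hW : IsAffineOpen W) (hW' : IsAffineOpen W') (e : W' ≤ g ⁻¹ᵁ W)
    (e' : h' ⁻¹ᵁ W' ≤ g' ⁻¹ᵁ (h ⁻¹ᵁ W)) (x : Γ(V, h ⁻¹ᵁ W)) :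
    trAff h' hW' (g'.appLE (h ⁻¹ᵁ W) (h' ⁻¹ᵁ W') e' x) = g.appLE W W' e (trAff h hW x) :=
  IsTr.map_eq (isPushout_appLE sq hW hW' e e') (isTr_trAff h hW) (isTr_trAff h' hW') x

theorem trAff_res {W W' : U.Opens} (hW : IsAffineOpen W) (hW' : IsAffineOpen W') (e : W' ≤ W)
    (e' : h ⁻¹ᵁ W' ≤ h ⁻¹ᵁ W) (x : Γ(V, h ⁻¹ᵁ W)) :
    trAff h hW' (V.presheaf.map (homOfLE e').op x) = U.presheaf.map (homOfLE e).op (trAff h hW x) := by
  have := trAff_baseChange (IsPullback.of_horiz_isIso ⟨by simp⟩ : IsPullback (𝟙 V) h h (𝟙 U)) hW hW'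
    (by simpa using e) (by simpa using e') x
  have h1 : (𝟙 V : V ⟶ V).appLE (h ⁻¹ᵁ W) (h ⁻¹ᵁ W') (by simpa using e') =
      V.presheaf.map (homOfLE e').op := by
    rw [Scheme.Hom.appLE, Scheme.Hom.id_app]
    exact Category.id_comp _
  have h2 : (𝟙 U : U ⟶ U).appLE W W' (by simpa using e) = U.presheaf.map (homOfLE e).op := by
    rw [Scheme.Hom.appLE, Scheme.Hom.id_app]
    exact Category.id_comp _
  rw [h1, h2] at this
  exact this

end Affine

section General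

variable {V U V' U' : Scheme.{u}} (h : V ⟶ U) [IsFinite h] [Etale h]

/-- Sections agreeing on all affine opens. -/
theorem eq_of_affine {O : U.Opens} {y z : Γ(U, O)}
    (H : ∀ (W : U.Opens) (_ : IsAffineOpen W) (e : W ≤ O),
      U.presheaf.map (homOfLE e).op y = U.presheaf.map (homOfLE e).op z) : y = z := by
  refine U.IsSheaf.section_ext fun x hx => ?_
  obtain ⟨W, hW, hxW, hWO⟩ := exists_isAffineOpen_mem_and_subset hx
  exact ⟨W, hWO, hxW, H W hW hWO⟩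

theorem res_res (U : Scheme.{u}) {O O' O'' : U.Opens} (e : O' ≤ O) (e' : O'' ≤ O') (x : Γ(U, O)) :
    U.presheaf.map (homOfLE e').op (U.presheaf.map (homOfLE e).op x) =
      U.presheaf.map (homOfLE (e'.trans e)).op x := by
  rw [← ConcreteCategory.comp_apply, ← Functor.map_comp]
  rfl

theorem existsUnique_tr (O : U.Opens) (x : Γ(V, h ⁻¹ᵁ O)) :
    ∃! y : Γ(U, O), ∀ (W : U.Opens) (hW : IsAffineOpen W) (e : W ≤ O),
      U.presheaf.map (homOfLE e).op y =
        trAff h hW (V.presheaf.map (homOfLE (h.preimage_mono e)).op x) := by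
  let ι := {W : U.Opens // IsAffineOpen W ∧ W ≤ O}
  obtain ⟨y, hy, hyu⟩ := U.sheaf.existsUnique_gluing' (fun W : ι => W.1) O (fun W => homOfLE W.2.2)
    (by
      intro x hx
      obtain ⟨W, hW, hxW, hWO⟩ := exists_isAffineOpen_mem_and_subset hx
      rw [Opens.mem_iSup]
      exact ⟨⟨W, hW, hWO⟩, hxW⟩)
    (fun W => trAff h W.2.1 (V.presheaf.map (homOfLE (h.preimage_mono W.2.2)).op x))
    (by
      intro W₁ W₂
      refine eq_of_affine (U := U) (O := W₁.1 ⊓ W₂.1) fun W hW e => ?_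
      have h1 := res_res U (inf_le_left : W₁.1 ⊓ W₂.1 ≤ W₁.1) e
        (trAff h W₁.2.1 (V.presheaf.map (homOfLE (h.preimage_mono W₁.2.2)).op x))
      have h2 := res_res U (inf_le_right : W₁.1 ⊓ W₂.1 ≤ W₂.1) e
        (trAff h W₂.2.1 (V.presheaf.map (homOfLE (h.preimage_mono W₂.2.2)).op x))
      refine h1.trans (Eq.trans ?_ h2.symm)
      rw [← trAff_res h W₁.2.1 hW (e.trans inf_le_left) (h.preimage_mono (e.trans inf_le_left)),
        ← trAff_res h W₂.2.1 hW (e.trans inf_le_right) (h.preimage_mono (e.trans inf_le_right)),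
        res_res, res_res])
  refine ⟨y, fun W hW e => hy ⟨W, hW, e⟩, fun z hz => hyu z fun W => hz W.1 W.2.1 W.2.2⟩

/-- The trace of `h : V ⟶ U` finite étale, on sections over an arbitrary open `O` of `U`. -/
noncomputable def tr (O : U.Opens) : Γ(V, h ⁻¹ᵁ O) →+ Γ(U, O) where
  toFun x := (existsUnique_tr h O x).choose
  map_zero' := by
    refine ((existsUnique_tr h O 0).choose_spec.2 0 fun W hW e => ?_).symm
    simp
  map_add' x y := by
    refine ((existsUnique_tr h O (x + y)).choose_spec.2 _ fun W hW e => ?_).symm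
    rw [map_add, map_add, map_add, (existsUnique_tr h O x).choose_spec.1 W hW e,
      (existsUnique_tr h O y).choose_spec.1 W hW e]

theorem tr_spec {O W : U.Opens} (hW : IsAffineOpen W) (e : W ≤ O) (x : Γ(V, h ⁻¹ᵁ O)) :
    U.presheaf.map (homOfLE e).op (tr h O x) =
      trAff h hW (V.presheaf.map (homOfLE (h.preimage_mono e)).op x) :=
  (existsUnique_tr h O x).choose_spec.1 W hW e

theorem tr_eq_of_forall {O : U.Opens} {x : Γ(V, h ⁻¹ᵁ O)} {y : Γ(U, O)}
    (H : ∀ (W : U.Opens) (hW : IsAffineOpen W) (e : W ≤ O),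
      U.presheaf.map (homOfLE e).op y =
        trAff h hW (V.presheaf.map (homOfLE (h.preimage_mono e)).op x)) : tr h O x = y :=
  ((existsUnique_tr h O x).choose_spec.2 y H).symm

theorem tr_eq_trAff {W : U.Opens} (hW : IsAffineOpen W) : tr h W = trAff h hW := by
  ext x
  refine tr_eq_of_forall h fun W' hW' e => (trAff_res h hW hW' e _ x).symm

theorem isTr_tr {W : U.Opens} (hW : IsAffineOpen W) : IsTr (h.app W).hom (tr h W) := by
  rw [tr_eq_trAff h hW]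
  exact isTr_trAff h hW

/-- the trace commutes with restriction to a smaller open. -/
theorem tr_res {O O' : U.Opens} (e : O' ≤ O) (e' : h ⁻¹ᵁ O' ≤ h ⁻¹ᵁ O) (x : Γ(V, h ⁻¹ᵁ O)) :
    tr h O' (V.presheaf.map (homOfLE e').op x) = U.presheaf.map (homOfLE e).op (tr h O x) := by
  refine tr_eq_of_forall h fun W hW eW => ?_
  rw [← ConcreteCategory.comp_apply, ← ConcreteCategory.comp_apply, ← Functor.map_comp,
    ← Functor.map_comp]
  exact tr_spec h hW (eW.trans e) x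

/-- the trace is linear. -/
theorem tr_mul (O : U.Opens) (c : Γ(U, O)) (x : Γ(V, h ⁻¹ᵁ O)) :
    tr h O (h.app O c * x) = c * tr h O x := by
  refine tr_eq_of_forall h fun W hW e => ?_
  rw [map_mul, map_mul, tr_spec h hW e]
  have h1 : V.presheaf.map (homOfLE (h.preimage_mono e)).op (h.app O c) =
      (h.app W).hom (U.presheaf.map (homOfLE e).op c) := by
    have := h.naturality (homOfLE e).op
    exact (congrArg (fun f => f.hom c) this).symm
  rw [h1, (isTr_trAff h hW).map_mul]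

/-- Base change of the trace. -/
theorem tr_baseChange {g' : V' ⟶ V} {h' : V' ⟶ U'} {h : V ⟶ U} {g : U' ⟶ U}
    (sq : IsPullback g' h' h g) [IsFinite h] [Etale h] [IsFinite h'] [Etale h'] {O : U.Opens}
    {O' : U'.Opens} (e : O' ≤ g ⁻¹ᵁ O)
    (e' : h' ⁻¹ᵁ O' ≤ g' ⁻¹ᵁ (h ⁻¹ᵁ O)) (x : Γ(V, h ⁻¹ᵁ O)) :
    tr h' O' (g'.appLE (h ⁻¹ᵁ O) (h' ⁻¹ᵁ O') e' x) = g.appLE O O' e (tr h O x) := by
  refine U'.IsSheaf.section_ext fun p hp => ?_
  obtain ⟨W, hW, hpW, (hWO : W ≤ O)⟩ :=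
    exists_isAffineOpen_mem_and_subset (U := O) (x := g p) (e hp)
  obtain ⟨W', hW', hpW', hWO'⟩ := exists_isAffineOpen_mem_and_subset
    (show p ∈ O' ⊓ g ⁻¹ᵁ W from ⟨hp, hpW⟩)
  have e1 : W' ≤ O' := hWO'.trans inf_le_left
  have e2 : W' ≤ g ⁻¹ᵁ W := hWO'.trans inf_le_right
  have e2' := preimage_le' sq.w e2
  refine ⟨W', e1, hpW', ?_⟩
  refine (tr_spec h' hW' e1 _).trans ?_
  have h1 : V'.presheaf.map (homOfLE (h'.preimage_mono e1)).op
      (g'.appLE (h ⁻¹ᵁ O) (h' ⁻¹ᵁ O') e' x) =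
      g'.appLE (h ⁻¹ᵁ W) (h' ⁻¹ᵁ W') e2' (V.presheaf.map (homOfLE (h.preimage_mono hWO)).op x) := by
    rw [← ConcreteCategory.comp_apply, ← ConcreteCategory.comp_apply, Scheme.Hom.appLE_map,
      Scheme.Hom.map_appLE]
  have h2 : U'.presheaf.map (homOfLE e1).op (g.appLE O O' e (tr h O x)) =
      g.appLE W W' e2 (U.presheaf.map (homOfLE hWO).op (tr h O x)) := by
    rw [← ConcreteCategory.comp_apply, ← ConcreteCategory.comp_apply, Scheme.Hom.appLE_map,
      Scheme.Hom.map_appLE]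
  rw [h1, h2, tr_spec h hW hWO]
  exact trAff_baseChange sq hW hW' e2 e2' _

/-- Dual bases over an affine open. -/
theorem exists_dual {W : U.Opens} (hW : IsAffineOpen W) :
    ∃ (n : ℕ) (a b : Fin n → Γ(V, h ⁻¹ᵁ W)), ∀ x : Γ(V, h ⁻¹ᵁ W),
      x = ∑ j, h.app W (tr h W (a j * x)) * b j :=
  (isTr_tr h hW).exists_dual

/-- Base change of the trace, global sections. -/
theorem trTop_baseChange {g' : V' ⟶ V} {h' : V' ⟶ U'} {h : V ⟶ U} {g : U' ⟶ U}
    (sq : IsPullback g' h' h g) [IsFinite h] [Etale h] [IsFinite h'] [Etale h'] (x : Γ(V, ⊤)) :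
    tr h' ⊤ (g'.appTop x) = g.appTop (tr h ⊤ x) := by
  have := tr_baseChange sq (O := ⊤) (O' := ⊤) le_top le_top x
  have h1 : g'.appLE (h ⁻¹ᵁ ⊤) (h' ⁻¹ᵁ ⊤) le_top = g'.appTop :=
    Scheme.Hom.appLE_eq_app (f := g') (U := ⊤)
  have h2 : g.appLE ⊤ ⊤ le_top = g.appTop := Scheme.Hom.appLE_eq_app (f := g) (U := ⊤)
  rw [h1, h2] at this
  exact this

theorem tr_top_mul (c : Γ(U, ⊤)) (x : Γ(V, ⊤)) :
    tr h ⊤ (h.appTop c * x) = c * tr h ⊤ x := tr_mul h ⊤ c x

end General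

section Denominators

variable {V U : Scheme.{u}}

/-- The power torsion of a section of a Noetherian scheme is bounded. -/
theorem exists_pow_bound (V : Scheme.{u}) [IsNoetherian V] (t : Γ(V, ⊤)) :
    ∃ m : ℕ, ∀ y : Γ(V, ⊤), V.presheaf.map (homOfLE (V.basicOpen_le t)).op y = 0 → t ^ m * y = 0 := by
  classical
  -- bound on affine opens
  have key : ∀ W : V.affineOpens, ∃ m : ℕ, ∀ y : Γ(V, W.1), ∀ k : ℕ,
      (V.presheaf.map (homOfLE (le_top : W.1 ≤ ⊤)).op t) ^ k * y = 0 →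
      (V.presheaf.map (homOfLE (le_top : W.1 ≤ ⊤)).op t) ^ m * y = 0 := by
    intro W
    have := IsLocallyNoetherian.component_noetherian W
    set r := V.presheaf.map (homOfLE (le_top : W.1 ≤ ⊤)).op t with hr
    have hmono : Monotone (fun k : ℕ => LinearMap.ker (LinearMap.mulLeft Γ(V, W.1) (r ^ k))) := by
      refine monotone_nat_of_le_succ fun k y hy => ?_
      rw [LinearMap.mem_ker, LinearMap.mulLeft_apply] at hy ⊢
      rw [pow_succ', mul_assoc, hy, mul_zero]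
    obtain ⟨m, hm⟩ := monotone_stabilizes_iff_noetherian.2 (inferInstance : _root_.IsNoetherian Γ(V, W.1)
      Γ(V, W.1)) ⟨_, hmono⟩
    refine ⟨m, fun y k hk => ?_⟩
    rcases le_total m k with h1 | h1
    · have h2 := hm k h1
      have h3 : y ∈ LinearMap.ker (LinearMap.mulLeft Γ(V, W.1) (r ^ k)) := by
        rw [LinearMap.mem_ker, LinearMap.mulLeft_apply]; exact hk
      have h4 : y ∈ LinearMap.ker (LinearMap.mulLeft Γ(V, W.1) (r ^ m)) := by
        change _ ∈ _ at h3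
        exact (SetLike.ext_iff.1 h2 y).2 h3
      exact h4
    · have h3 : y ∈ LinearMap.ker (LinearMap.mulLeft Γ(V, W.1) (r ^ k)) := by
        rw [LinearMap.mem_ker, LinearMap.mulLeft_apply]; exact hk
      exact hmono h1 h3
  choose m hm using key
  obtain ⟨s, hs, hsc⟩ := isCompact_and_isOpen_iff_finite_and_eq_biUnion_affineOpens.1
    (⟨isCompact_univ, isOpen_univ⟩ : IsCompact (Set.univ : Set V) ∧ IsOpen (Set.univ : Set V))
  refine ⟨hs.toFinset.sup m, fun y hy => ?_⟩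
  obtain ⟨k, hk⟩ := exists_pow_mul_eq_zero_of_res_basicOpen_eq_zero_of_isCompact V
    (U := ⊤) isCompact_univ y t hy
  refine V.IsSheaf.section_ext fun x _ => ?_
  have hx : x ∈ ⋃ W ∈ s, (W : Set V) := by
    have := Set.mem_univ x
    rw [hsc] at this
    exact this
  simp only [Set.mem_iUnion] at hx
  obtain ⟨W, hWs, hxW⟩ := hx
  refine ⟨W.1, le_top, hxW, ?_⟩
  rw [map_zero, map_mul, map_pow]
  have h1 : m W ≤ hs.toFinset.sup m := Finset.le_sup (hs.mem_toFinset.2 hWs)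
  have h2 := hm W (V.presheaf.map (homOfLE (le_top : W.1 ≤ ⊤)).op y) k (by
    rw [← map_pow, ← map_mul, hk, map_zero])
  obtain ⟨d, hd⟩ := Nat.exists_eq_add_of_le h1
  rw [hd, pow_add, mul_right_comm]
  rw [h2, zero_mul]

theorem isNoetherian_of_isFinite (h : V ⟶ U) [IsFinite h] [IsNoetherian U] : IsNoetherian V := by
  have h1 : IsLocallyNoetherian V := LocallyOfFiniteType.isLocallyNoetherian h
  have h2 : CompactSpace V := QuasiCompact.compactSpace_of_compactSpace h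
  exact {}

variable (h : V ⟶ U) [IsFinite h] [Etale h]

/-- Dual bases up to denominators. -/
theorem exists_dual_denom [IsNoetherian V] (s : Γ(U, ⊤)) (hs : IsAffineOpen (U.basicOpen s)) :
    ∃ (r k : ℕ) (a b : Fin r → Γ(V, ⊤)), ∀ x : Γ(V, ⊤),
      (h.appTop s) ^ k * x = ∑ j, h.appTop (tr h ⊤ (a j * x)) * b j := by
  classical
  set W := U.basicOpen s with hW
  obtain ⟨r, a', b', hab⟩ := exists_dual h (W := W) hs
  have hVW : h ⁻¹ᵁ W = V.basicOpen (h.appTop s) := Scheme.preimage_basicOpen_top h s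
  let ρ : Γ(V, ⊤) →+* Γ(V, h ⁻¹ᵁ W) := (V.presheaf.map (homOfLE (le_top : h ⁻¹ᵁ W ≤ ⊤)).op).hom
  let σ : Γ(U, ⊤) →+* Γ(U, W) := (U.presheaf.map (homOfLE (le_top : W ≤ ⊤)).op).hom
  have hρσ : ∀ c : Γ(U, ⊤), ρ (h.appTop c) = (h.app W).hom (σ c) := fun c =>
    (congrArg (fun f => f.hom c) (h.naturality (homOfLE (le_top : W ≤ ⊤)).op)).symm
  -- lifting sections
  have hlift : ∀ c : Γ(V, h ⁻¹ᵁ W), ∃ (n : ℕ) (y : Γ(V, ⊤)), ρ y = ρ (h.appTop s) ^ n * c := by
    intro c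
    have key : ∀ (O : V.Opens) (hO : O = V.basicOpen (h.appTop s)) (c : Γ(V, O)),
        ∃ (n : ℕ) (y : Γ(V, ⊤)), (V.presheaf.map (homOfLE (le_top : O ≤ ⊤)).op).hom y =
          (V.presheaf.map (homOfLE (le_top : O ≤ ⊤)).op).hom (h.appTop s) ^ n * c := by
      rintro O rfl c
      exact exists_eq_pow_mul_of_isCompact_of_isQuasiSeparated V ⊤ isCompact_univ
        (isQuasiSeparated_univ) (h.appTop s) c
    exact key _ hVW c
  choose n y hy using hlift
  let N : ℕ := (Finset.univ.sup fun j => n (a' j)) ⊔ (Finset.univ.sup fun j => n (b' j))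
  have hlift' : ∀ c, n c ≤ N → ∃ z : Γ(V, ⊤), ρ z = ρ (h.appTop s) ^ N * c := by
    intro c hc
    obtain ⟨d, hd⟩ := Nat.exists_eq_add_of_le hc
    refine ⟨(h.appTop s) ^ d * y c, ?_⟩
    rw [map_mul, map_pow, hy, hd, pow_add]
    ring
  have ha : ∀ j, ∃ z : Γ(V, ⊤), ρ z = ρ (h.appTop s) ^ N * a' j := fun j =>
    hlift' _ ((Finset.le_sup (f := fun j => n (a' j)) (Finset.mem_univ j)).trans le_sup_left)
  have hb : ∀ j, ∃ z : Γ(V, ⊤), ρ z = ρ (h.appTop s) ^ N * b' j := fun j =>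
    hlift' _ ((Finset.le_sup (f := fun j => n (b' j)) (Finset.mem_univ j)).trans le_sup_right)
  choose a ha using ha
  choose b hb using hb
  obtain ⟨m, hm⟩ := exists_pow_bound V (h.appTop s)
  have hker : ∀ z : Γ(V, ⊤), ρ z = 0 → (h.appTop s) ^ m * z = 0 := by
    intro z hz
    refine hm z ?_
    have key : ∀ (O : V.Opens) (hO : O = V.basicOpen (h.appTop s)),
        (V.presheaf.map (homOfLE (le_top : O ≤ ⊤)).op).hom z = 0 →
        (V.presheaf.map (homOfLE (V.basicOpen_le (h.appTop s))).op).hom z = 0 := by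
      rintro O rfl hz
      exact hz
    exact key _ hVW hz
  have htr : ∀ z : Γ(V, ⊤), σ (tr h ⊤ z) = tr h W (ρ z) := fun z =>
    (tr_res h (le_top : W ≤ ⊤) le_top z).symm
  refine ⟨r, N + N + m, a, fun j => (h.appTop s) ^ m * b j, fun x => ?_⟩
  have h1 : ρ ((h.appTop s) ^ (N + N) * x - ∑ j, h.appTop (tr h ⊤ (a j * x)) * b j) = 0 := by
    rw [map_sub, map_sum, sub_eq_zero, map_mul, map_pow]
    have h2 : ∀ j, ρ (h.appTop (tr h ⊤ (a j * x)) * b j) =
        ρ (h.appTop s) ^ (N + N) * ((h.app W).hom (tr h W (a' j * ρ x)) * b' j) := by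
      intro j
      have h3 : tr h W (ρ (h.appTop s) ^ N * (a' j * ρ x)) = σ s ^ N * tr h W (a' j * ρ x) := by
        have := tr_mul h W (σ s ^ N) (a' j * ρ x)
        rw [map_pow] at this
        rw [hρσ]
        exact this
      rw [map_mul, hρσ, htr, map_mul, ha, hb, mul_assoc, h3, map_mul, map_pow, ← hρσ, pow_add]
      ring
    rw [Finset.sum_congr rfl fun j _ => h2 j, ← Finset.mul_sum]
    congr 1
    exact hab (ρ x)
  have h4 := hker _ h1
  rw [mul_sub, sub_eq_zero] at h4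
  rw [pow_add, mul_comm ((h.appTop s) ^ (N + N)), mul_assoc, h4, Finset.mul_sum]
  refine Finset.sum_congr rfl fun j _ => ?_
  ring

end Denominators

end Groth.Agent.Pi1C.EtTraceSch
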