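import Groth.Agent.FlatA.LocalCriterion
import Mathlib.RingTheory.Smooth.Fiber
import Mathlib.RingTheory.Kaehler.TensorProduct
import Mathlib.RingTheory.Nakayama
import Mathlib.RingTheory.Noetherian.Basic
import Mathlib.RingTheory.Flat.EquationalCriterion
import Mathlib.Algebra.Module.FinitePresentation

/-!
# A finite algebra which is étale modulo all powers of an ideal is étale on a neighbourhood
-/

set_option autoImplicit false

universe u

open TensorProduct

namespace Groth.Agent.Pi1C.EtaleNbhd

variable {C : Type u} [CommRing C] (I : Ideal C)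

/-- The multiplicative set `1 + I`. -/
def onePlus : Submonoid C := (⊥ : Submonoid (C ⧸ I)).comap (Ideal.Quotient.mk I)

theorem mem_onePlus {g : C} : g ∈ onePlus I ↔ g - 1 ∈ I := by
  rw [onePlus, Submonoid.mem_comap, Submonoid.mem_bot, ← map_one (Ideal.Quotient.mk I), Ideal.Quotient.eq]

theorem map_le_jacobson : I.map (algebraMap C (Localization (onePlus I))) ≤
    Ideal.jacobson (⊥ : Ideal (Localization (onePlus I))) := by
  rw [Ideal.map_le_iff_le_comap]
  intro t ht
  rw [Ideal.mem_comap, Ideal.mem_jacobson_bot]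
  intro y
  obtain ⟨c, s, rfl⟩ := IsLocalization.exists_mk'_eq (onePlus I) y
  have hmem : t * c + s ∈ onePlus I := by
    rw [mem_onePlus]
    have h1 := (mem_onePlus I).mp s.2
    have h2 : t * c ∈ I := I.mul_mem_right _ ht
    have : t * c + s - 1 = t * c + (s - 1) := by ring
    rw [this]
    exact I.add_mem h2 h1
  have h2 : (algebraMap C (Localization (onePlus I)) t * IsLocalization.mk' _ c s + 1) *
      algebraMap C (Localization (onePlus I)) s = algebraMap C (Localization (onePlus I)) (t * c + s) := by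
    rw [add_mul, mul_assoc, IsLocalization.mk'_spec, one_mul, map_add, map_mul]
  have h3 : IsUnit (algebraMap C (Localization (onePlus I)) (t * c + s)) :=
    IsLocalization.map_units _ (⟨_, hmem⟩ : onePlus I)
  rw [← h2] at h3
  exact isUnit_of_mul_isUnit_left h3

/-- Let `B` be a finite module over the Noetherian ring `C` such that `B/I^n` is flat over `C/I^n` for all
`n ≥ 1`.  Then `B` is flat over `(1 + I)⁻¹ C`. -/
theorem flat_localization [IsNoetherianRing C] (B : Type u) [AddCommGroup B] [Module C B] [Module.Finite C B]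
    (h : ∀ n : ℕ, 0 < n → Module.Flat (C ⧸ I ^ n) ((C ⧸ I ^ n) ⊗[C] B)) :
    Module.Flat (Localization (onePlus I)) (Localization (onePlus I) ⊗[C] B) := by
  set C' := Localization (onePlus I) with hC'
  have hN : IsNoetherianRing C' := IsLocalization.isNoetherianRing (onePlus I) _ inferInstance
  refine Groth.Agent.FlatA.LocalCriterion.flat_of_forall_flat_quotient_pow (A := C') (B := C')
    (I.map (algebraMap C C')) ?_ fun n hn => ?_
  · rw [Algebra.algebraMap_self, Ideal.map_id]
    exact map_le_jacobson I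
  · have hle : I ^ n ≤ ((I.map (algebraMap C C')) ^ n).comap (algebraMap C C') := by
      rw [← Ideal.map_pow]
      exact Ideal.le_comap_map
    let _ : Algebra (C ⧸ I ^ n) (C' ⧸ (I.map (algebraMap C C')) ^ n) :=
      (Ideal.quotientMap _ (algebraMap C C') hle).toAlgebra
    have htow : IsScalarTower C (C ⧸ I ^ n) (C' ⧸ (I.map (algebraMap C C')) ^ n) :=
      IsScalarTower.of_algebraMap_eq fun _ => rfl
    have h1 := h n hn
    have h2 : Module.Flat (C' ⧸ (I.map (algebraMap C C')) ^ n)
      ((C' ⧸ (I.map (algebraMap C C')) ^ n) ⊗[C ⧸ I ^ n] ((C ⧸ I ^ n) ⊗[C] B)) := inferInstance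
    let e1 := TensorProduct.AlgebraTensorModule.cancelBaseChange C (C ⧸ I ^ n)
      (C' ⧸ (I.map (algebraMap C C')) ^ n) (C' ⧸ (I.map (algebraMap C C')) ^ n) B
    let e2 := TensorProduct.AlgebraTensorModule.cancelBaseChange C C'
      (C' ⧸ (I.map (algebraMap C C')) ^ n) (C' ⧸ (I.map (algebraMap C C')) ^ n) B
    exact Module.Flat.of_linearEquiv (e2.trans e1.symm)

/-- Under the same assumptions some `g ∈ 1 + I` times the identity of `B` factors through a free module. -/
theorem exists_factor [IsNoetherianRing C] (B : Type u) [AddCommGroup B] [Module C B] [Module.Finite C B]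
    (h : ∀ n : ℕ, 0 < n → Module.Flat (C ⧸ I ^ n) ((C ⧸ I ^ n) ⊗[C] B)) :
    ∃ g : C, g - 1 ∈ I ∧ ∃ (N : ℕ) (π : (Fin N → C) →ₗ[C] B) (σ : B →ₗ[C] (Fin N → C)),
      π ∘ₗ σ = g • LinearMap.id := by
  obtain ⟨N, π, hπ⟩ := Module.Finite.exists_fin' C B
  have hfp : Module.FinitePresentation C B := Module.finitePresentation_of_finite C B
  have hflat : Module.Flat (Localization (onePlus I)) (LocalizedModule (onePlus I) B) := by
    have := flat_localization I B h
    have hbc : IsBaseChange (Localization (onePlus I)) (LocalizedModule.mkLinearMap (onePlus I) B) :=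
      LocalizedModule.isBaseChange (onePlus I) B
    exact Module.Flat.of_linearEquiv hbc.equiv.symm
  have hproj : Module.Projective (Localization (onePlus I)) (LocalizedModule (onePlus I) B) := by
    have : Module.FinitePresentation (Localization (onePlus I)) (LocalizedModule (onePlus I) B) :=
      inferInstance
    exact Module.Flat.projective_of_finitePresentation
  obtain ⟨σ, hσ⟩ := Module.projective_lifting_property (LocalizedModule.map (onePlus I) π)
    LinearMap.id (LocalizedModule.map_surjective (onePlus I) _ hπ)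
  obtain ⟨φ, u, hφ⟩ := Module.FinitePresentation.exists_lift_of_isLocalizedModule
    (onePlus I) (LocalizedModule.mkLinearMap (onePlus I) (Fin N → C))
    ((σ.restrictScalars C) ∘ₗ LocalizedModule.mkLinearMap (onePlus I) B)
  obtain ⟨v, hv⟩ := Module.Finite.exists_smul_of_comp_eq_of_isLocalizedModule (onePlus I)
    (LocalizedModule.mkLinearMap (onePlus I) B) (π ∘ₗ φ) (u • LinearMap.id) (by
      refine LinearMap.ext fun x => ?_
      have h1 : LocalizedModule.mkLinearMap (onePlus I) B (π (φ x)) =
          LocalizedModule.map (onePlus I) π (LocalizedModule.mkLinearMap (onePlus I) _ (φ x)) := by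
        simp [LocalizedModule.mkLinearMap_apply, LocalizedModule.map_mk]
      have h2 := LinearMap.congr_fun hφ x
      have h3 := LinearMap.congr_fun hσ (LocalizedModule.mkLinearMap (onePlus I) B x)
      simp only [LinearMap.comp_apply, LinearMap.smul_apply, LinearMap.id_apply,
        LinearMap.restrictScalars_apply] at h1 h2 h3 ⊢
      rw [h1, h2, Submonoid.smul_def, LinearMap.map_smul_of_tower, h3, Submonoid.smul_def,
        map_smul])
  refine ⟨(v * u : onePlus I), (mem_onePlus I).mp (v * u).2, N, π, (v : C) • φ, ?_⟩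
  rw [LinearMap.comp_smul, Submonoid.coe_mul, mul_smul]
  exact hv

attribute [local instance] Algebra.TensorProduct.rightAlgebra in
/-- If `B/I` is unramified over `C/I` then some `g ∈ 1 + I` kills the differentials of `B` over `C`. -/
theorem exists_smul_kaehler [IsNoetherianRing C] (B : Type u) [CommRing B] [Algebra C B] [Module.Finite C B]
    (h : Algebra.FormallyUnramified (C ⧸ I) ((C ⧸ I) ⊗[C] B)) :
    ∃ g : C, g - 1 ∈ I ∧ ∀ ω : Ω[B⁄C], g • ω = 0 := by
  have hsub : Subsingleton (Ω[((C ⧸ I) ⊗[C] B)⁄(C ⧸ I)]) := h.subsingleton_kaehlerDifferential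
  have e := KaehlerDifferential.tensorKaehlerEquivBase C (C ⧸ I) B ((C ⧸ I) ⊗[C] B)
  have hsub2 : Subsingleton ((C ⧸ I) ⊗[C] Ω[B⁄C]) := e.toEquiv.subsingleton
  have hfin1 : Module.Finite B Ω[B⁄C] := inferInstance
  have hfin2 : Module.Finite C Ω[B⁄C] := Module.Finite.trans B _
  have hle : (⊤ : Submodule C Ω[B⁄C]) ≤ I • (⊤ : Submodule C Ω[B⁄C]) := by
    have e2 := TensorProduct.quotTensorEquivQuotSMul Ω[B⁄C] I
    have hsub3 : Subsingleton (Ω[B⁄C] ⧸ (I • (⊤ : Submodule C Ω[B⁄C]))) := e2.symm.toEquiv.subsingleton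
    rw [Submodule.Quotient.subsingleton_iff.mp hsub3]
  obtain ⟨g, hg, h2⟩ := Submodule.exists_sub_one_mem_and_smul_eq_zero_of_fg_of_le_smul I
    (⊤ : Submodule C Ω[B⁄C]) hfin2.fg_top hle
  exact ⟨g, hg, fun ω => h2 ω trivial⟩

attribute [local instance] Algebra.TensorProduct.rightAlgebra in
/-- **Étale neighbourhood.**  Let `B` be a finite algebra over the Noetherian ring `C` such that `B/I^n` is flat
over `C/I^n` for all `n ≥ 1` and `B/I` is unramified over `C/I`.  Then there is `g ∈ 1 + I` such that
`D ⊗ B` is finite étale over `D` for all `C`-algebras `D` in which `g` is invertible. -/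
theorem exists_etale [IsNoetherianRing C] (B : Type u) [CommRing B] [Algebra C B] [Module.Finite C B]
    (h : ∀ n : ℕ, 0 < n → Module.Flat (C ⧸ I ^ n) ((C ⧸ I ^ n) ⊗[C] B))
    (hu : Algebra.FormallyUnramified (C ⧸ I) ((C ⧸ I) ⊗[C] B)) :
    ∃ g : C, g - 1 ∈ I ∧ ∀ (D : Type u) [CommRing D] [Algebra C D], IsUnit (algebraMap C D g) →
      Module.Finite D (D ⊗[C] B) ∧ Algebra.Etale D (D ⊗[C] B) := by
  obtain ⟨g₁, hg₁, N, π, σ, hσ⟩ := exists_factor I B h
  obtain ⟨g₂, hg₂, h₂⟩ := exists_smul_kaehler I B hu
  refine ⟨g₁ * g₂, ?_, fun D _ _ hD => ?_⟩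
  · have : g₁ * g₂ - 1 = g₁ * (g₂ - 1) + (g₁ - 1) := by ring
    rw [this]
    exact I.add_mem (I.mul_mem_left _ hg₂) hg₁
  rw [map_mul] at hD
  have hu1 : IsUnit (algebraMap C D g₁) := isUnit_of_mul_isUnit_left hD
  have hu2 : IsUnit (algebraMap C D g₂) := isUnit_of_mul_isUnit_right hD
  refine ⟨inferInstance, ?_⟩
  have hfp : Algebra.FinitePresentation C B :=
    (Algebra.FinitePresentation.of_finiteType).mp inferInstance
  have hfp' : Algebra.FinitePresentation D (D ⊗[C] B) := inferInstance
  have hproj : Module.Projective D (D ⊗[C] B) := by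
    obtain ⟨w, hw⟩ := hu1
    refine Module.Projective.of_split (M := D ⊗[C] (Fin N → C)) (((w⁻¹ : Dˣ) : D) • σ.baseChange D) (π.baseChange D) ?_
    rw [LinearMap.comp_smul, ← LinearMap.baseChange_comp, hσ]
    refine TensorProduct.AlgebraTensorModule.curry_injective (LinearMap.ext fun d => LinearMap.ext fun b => ?_)
    simp only [TensorProduct.AlgebraTensorModule.curry_apply, LinearMap.smul_apply,
      LinearMap.baseChange_tmul, LinearMap.id_apply, TensorProduct.curry_apply,
      LinearMap.restrictScalars_apply]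
    rw [TensorProduct.tmul_smul, ← algebraMap_smul D g₁, ← hw, ← Units.smul_def, ← Units.smul_def, inv_smul_smul]
  have hunr : Algebra.FormallyUnramified D (D ⊗[C] B) := by
    have e := KaehlerDifferential.tensorKaehlerEquivBase C D B (D ⊗[C] B)
    have hsub : Subsingleton (D ⊗[C] Ω[B⁄C]) := by
      refine subsingleton_of_forall_eq 0 fun z => ?_
      induction z using TensorProduct.induction_on with
      | zero => rfl
      | add x y hx hy => rw [hx, hy, add_zero]
      | tmul d ω =>
        obtain ⟨w, hw⟩ := hu2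
        have h3 : d ⊗ₜ[C] ω = ((w⁻¹ : Dˣ) : D) • (algebraMap C D g₂ • (d ⊗ₜ[C] ω)) := by
          rw [← hw, ← Units.smul_def, ← Units.smul_def, inv_smul_smul]
        rw [h3, algebraMap_smul, ← TensorProduct.tmul_smul, h₂, TensorProduct.tmul_zero, smul_zero]
    exact ⟨e.symm.toEquiv.subsingleton⟩
  exact Algebra.Etale.of_formallyUnramified_of_flat

end Groth.Agent.Pi1C.EtaleNbhd
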