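import Groth.Agent.FormalA.CompleteCx

set_option autoImplicit false

/-!
# Complexes of `f`-adically complete modules with bounded torsion

`K0 → K1 → K2` a complex of `A`-modules, `A` Noetherian (not necessarily complete), `K0, K1`
`f`-adically complete, the `f`-power torsion of `K2` killed by `f^c0`. If
`f^c H¹(f^c0 K / f^(c+1))` is finitely generated (hypothesis `hfg`), then approximate cocycles of
degree `0` lift to cocycles with bounded loss of precision (`exists_lift`).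
-/

namespace Groth.Agent.Pi1C.FormCx

open Submodule Finset Groth.Agent.FormalA.CompleteCx

variable {A : Type*} [CommRing A] {f : A}
variable {K0 K1 K2 : Type*} [AddCommGroup K0] [Module A K0] [AddCommGroup K1] [Module A K1]
  [AddCommGroup K2] [Module A K2]

/-- The chain of submodules of relations. -/
def N (d0 : K0 →ₗ[A] K1) (d1 : K1 →ₗ[A] K2) (f : A) (c0 e : ℕ) {r : ℕ} (w : Fin r → K1) (n : ℕ) :
    Submodule A (Fin r → A) where
  carrier := {a | ∃ (v : K1) (b : K0), f ^ c0 • d1 v = 0 ∧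
    f ^ (n + e) • (∑ k, a k • w k) = f ^ (n + 1 + e) • v + d0 (f ^ c0 • b)}
  add_mem' {a a'} ha ha' := by
    obtain ⟨v, b, hv, h⟩ := ha
    obtain ⟨v', b', hv', h'⟩ := ha'
    refine ⟨v + v', b + b', by rw [map_add, smul_add, hv, hv', add_zero], ?_⟩
    simp only [Pi.add_apply, add_smul, sum_add_distrib, smul_add, map_add]
    rw [h, h']
    abel
  zero_mem' := ⟨0, 0, by simp, by simp⟩
  smul_mem' t a ha := by
    obtain ⟨v, b, hv, h⟩ := ha
    refine ⟨t • v, t • b, by rw [map_smul, smul_comm, hv, smul_zero], ?_⟩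
    have e1 : (∑ k, (t • a) k • w k) = t • ∑ k, a k • w k := by
      rw [smul_sum]
      exact sum_congr rfl fun k _ => by rw [Pi.smul_apply, smul_eq_mul, mul_smul]
    rw [e1, smul_comm, h, smul_add, smul_comm t, ← map_smul, smul_comm t]

theorem mem_N {d0 : K0 →ₗ[A] K1} {d1 : K1 →ₗ[A] K2} {c0 e : ℕ} {r : ℕ} {w : Fin r → K1} {n : ℕ}
    {a : Fin r → A} : a ∈ N d0 d1 f c0 e w n ↔ ∃ (v : K1) (b : K0), f ^ c0 • d1 v = 0 ∧
    f ^ (n + e) • (∑ k, a k • w k) = f ^ (n + 1 + e) • v + d0 (f ^ c0 • b) := Iff.rfl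

theorem N_mono {d0 : K0 →ₗ[A] K1} {d1 : K1 →ₗ[A] K2} {c0 e : ℕ} {r : ℕ} {w : Fin r → K1} (n : ℕ) :
    N d0 d1 f c0 e w n ≤ N d0 d1 f c0 e w (n + 1) := by
  intro a ha
  obtain ⟨v, b, hv, h⟩ := mem_N.1 ha
  refine mem_N.2 ⟨v, f • b, hv, ?_⟩
  rw [show n + 1 + e = 1 + (n + e) by omega, pow_add, mul_smul, h, smul_add, smul_smul, ← pow_add,
    show 1 + (n + 1 + e) = n + 1 + 1 + e by omega, pow_one, ← map_smul, smul_comm f]

/-- Saturation: a class of `f^(c + c0) H¹` divisible by high powers of `f` up to torsion. -/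
theorem exists_stable [IsNoetherianRing A] (d0 : K0 →ₗ[A] K1) (d1 : K1 →ₗ[A] K2)
    (hd : ∀ x, d1 (d0 x) = 0) (c0 : ℕ)
    (ht2 : ∀ (k : ℕ) (x : K2), f ^ k • x = 0 → f ^ c0 • x = 0) (c : ℕ) {r : ℕ} (w : Fin r → K1)
    (hw : ∀ k, f ^ c0 • d1 (w k) = 0)
    (hfg : ∀ u, f ^ c0 • d1 u = 0 → ∃ (a : Fin r → A) (b : K0) (u' : K1),
      f ^ (c + c0) • u = ∑ k, a k • f ^ (c + c0) • w k + d0 (f ^ c0 • b) + f ^ (c + c0 + 1) • u') :
    ∃ m : ℕ, ∀ u, f ^ c0 • d1 u = 0 → ∀ (k : ℕ) (b : K0), f ^ k • u = d0 (f ^ c0 • b) →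
      ∀ j : ℕ, ∃ (v : K1) (b' : K0), f ^ c0 • d1 v = 0 ∧
        f ^ m • u = f ^ (m + j) • v + d0 (f ^ c0 • b') := by
  obtain ⟨n0, hn0⟩ := monotone_stabilizes_iff_noetherian.mpr
    (inferInstance : IsNoetherian A (Fin r → A))
    ⟨fun n => N d0 d1 f c0 (c + c0) w n, monotone_nat_of_le_succ fun n => N_mono n⟩
  have hst : ∀ n, n0 ≤ n → N d0 d1 f c0 (c + c0) w n = N d0 d1 f c0 (c + c0) w n0 :=
    fun n hn => (hn0 n hn).symm
  have key : ∀ n, n0 ≤ n → ∀ u, f ^ c0 • d1 u = 0 → ∀ (v : K1) (b : K0), f ^ c0 • d1 v = 0 →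
      f ^ (n + (c + c0)) • u = f ^ (n + 1 + (c + c0)) • v + d0 (f ^ c0 • b) →
      ∃ (v' : K1) (b' : K0), f ^ c0 • d1 v' = 0 ∧
        f ^ (n0 + (c + c0)) • u = f ^ (n0 + 1 + (c + c0)) • v' + d0 (f ^ c0 • b') := by
    intro n hn u hu v b hv h
    obtain ⟨a, b1, u1, h1⟩ := hfg u hu
    have hu1 : f ^ c0 • d1 u1 = 0 := by
      have h2 : d1 (f ^ (c + c0 + 1) • u1) = 0 := by
        have e : f ^ (c + c0 + 1) • u1 = f ^ (c + c0) • u - ∑ k, a k • f ^ (c + c0) • w k -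
            d0 (f ^ c0 • b1) := by
          rw [h1]; abel
        rw [e, map_sub, map_sub, hd, map_smul, pow_add, mul_smul, hu, smul_zero, map_sum]
        have : ∀ k, d1 (a k • (f ^ c * f ^ c0) • w k) = 0 := by
          intro k
          rw [map_smul, map_smul, mul_smul, hw, smul_zero, smul_zero]
        simp [this]
      rw [map_smul] at h2
      exact ht2 _ _ h2
    have hsum : ∑ k, a k • f ^ (c + c0) • w k = f ^ (c + c0) • ∑ k, a k • w k := by
      rw [smul_sum]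
      exact sum_congr rfl fun k _ => smul_comm _ _ _
    rw [hsum] at h1
    have ha : a ∈ N d0 d1 f c0 (c + c0) w n := by
      refine mem_N.2 ⟨v - u1, b - f ^ n • b1, by rw [map_sub, smul_sub, hv, hu1, sub_zero], ?_⟩
      have e2 : f ^ (c + c0) • ∑ k, a k • w k =
          f ^ (c + c0) • u - d0 (f ^ c0 • b1) - f ^ (c + c0 + 1) • u1 := by
        rw [h1]; abel
      rw [pow_add, mul_smul, e2, smul_sub, smul_sub, smul_smul, ← pow_add, h, smul_smul, ← pow_add,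
        show n + (c + c0 + 1) = n + 1 + (c + c0) by omega, smul_sub, ← map_smul, smul_sub, map_sub,
        smul_comm (f ^ n) (f ^ c0) b1]
      abel
    rw [hst n hn] at ha
    obtain ⟨v2, b2, hv2, h2⟩ := mem_N.1 ha
    refine ⟨v2 + u1, b2 + f ^ n0 • b1, by rw [map_add, smul_add, hv2, hu1, add_zero], ?_⟩
    rw [pow_add, mul_smul, h1, smul_add, smul_add, smul_smul, ← pow_add, h2, smul_smul, ← pow_add,
      show n0 + (c + c0 + 1) = n0 + 1 + (c + c0) by omega, smul_add, ← map_smul, smul_add, map_add,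
      smul_comm (f ^ n0) (f ^ c0) b1]
    abel
  refine ⟨n0 + (c + c0), fun u hu k b hkb j => ?_⟩
  induction j with
  | zero => exact ⟨u, 0, hu, by simp⟩
  | succ j ih =>
    obtain ⟨v, b1, hv, h1⟩ := ih
    -- `v` is torsion in cohomology
    have h2 : f ^ (k + n0 + (c + c0) + j + (c + c0)) • v =
        f ^ (k + n0 + (c + c0) + j + 1 + (c + c0)) • (0 : K1) +
          d0 (f ^ c0 • (f ^ (n0 + (c + c0) + (c + c0)) • b - f ^ (k + (c + c0)) • b1)) := by
      have e1 : f ^ (n0 + (c + c0) + j) • v = f ^ (n0 + (c + c0)) • u - d0 (f ^ c0 • b1) := by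
        rw [h1]; abel
      rw [smul_zero, zero_add, smul_sub, map_sub,
        show k + n0 + (c + c0) + j + (c + c0) = k + (c + c0) + (n0 + (c + c0) + j) by omega,
        pow_add, mul_smul, e1, smul_sub, smul_smul, ← pow_add,
        show k + (c + c0) + (n0 + (c + c0)) = n0 + (c + c0) + (c + c0) + k by omega, pow_add,
        mul_smul, hkb, ← map_smul, ← map_smul, smul_comm _ (f ^ c0) b, smul_comm _ (f ^ c0) b1]
    obtain ⟨v', b', hv', h3⟩ := key (k + n0 + (c + c0) + j) (by omega) v hv 0 _ (by simp) h2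
    refine ⟨v', f ^ j • b' + b1, hv', ?_⟩
    rw [h1, pow_add, mul_comm, mul_smul, h3, smul_add, smul_smul, ← pow_add,
      show j + (n0 + 1 + (c + c0)) = n0 + (c + c0) + (j + 1) by omega, ← map_smul, smul_add,
      map_add, smul_comm (f ^ j) (f ^ c0) b']
    abel

/-- Approximate cocycles lift to cocycles, with bounded loss of precision. -/
theorem exists_lift [IsNoetherianRing A] (d0 : K0 →ₗ[A] K1) (d1 : K1 →ₗ[A] K2)
    (h0 : FC f K0) (h1 : FC f K1) (hd : ∀ x, d1 (d0 x) = 0) (c0 : ℕ)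
    (ht2 : ∀ (k : ℕ) (x : K2), f ^ k • x = 0 → f ^ c0 • x = 0) (c : ℕ) {r : ℕ} (w : Fin r → K1)
    (hw : ∀ k, f ^ c0 • d1 (w k) = 0)
    (hfg : ∀ u, f ^ c0 • d1 u = 0 → ∃ (a : Fin r → A) (b : K0) (u' : K1),
      f ^ (c + c0) • u = ∑ k, a k • f ^ (c + c0) • w k + d0 (f ^ c0 • b) + f ^ (c + c0 + 1) • u') :
    ∃ m : ℕ, ∀ (n : ℕ) (x : K0) (y : K1), d0 x = f ^ (n + m + 1) • y →
      ∃ x' z, d0 x' = 0 ∧ x' = x + f ^ (n + 1) • z := by
  obtain ⟨m, hm⟩ := exists_stable d0 d1 hd c0 ht2 c w hw hfg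
  have step : ∀ (n : ℕ) (x : K0), (∃ y, d0 x = f ^ (n + m + 1) • y) →
      ∃ b : K0, ∃ y, d0 (x - f ^ (n + 1) • b) = f ^ (n + 1 + m + 1) • y := by
    rintro n x ⟨y, hxy⟩
    have hy : f ^ c0 • d1 y = 0 := by
      refine ht2 (n + m + 1) _ ?_
      rw [← map_smul, ← hxy, hd]
    obtain ⟨v, b', -, h⟩ := hm y hy (n + m + 1 + c0) x (by
      rw [pow_add, mul_comm, mul_smul, ← hxy, ← map_smul]) 1
    refine ⟨f ^ c0 • b', v, ?_⟩
    rw [map_sub, hxy, show n + m + 1 = n + 1 + m by omega, pow_add, mul_smul, h, smul_add,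
      map_smul d0 (f ^ (n + 1)) (f ^ c0 • b'), add_sub_cancel_right,
      smul_smul, ← pow_add, show n + 1 + (m + 1) = n + 1 + m + 1 by omega]
  refine ⟨m, fun n x y hxy => ?_⟩
  choose! g hg using step
  let s : ∀ k : ℕ, {x : K0 // ∃ y, d0 x = f ^ (n + k + m + 1) • y} := fun k =>
    Nat.rec ⟨x, y, hxy⟩ (fun k x => ⟨x.1 - f ^ (n + k + 1) • g (n + k) x.1, hg _ _ x.2⟩) k
  have hs : ∀ k, (s (k + 1)).1 = (s k).1 - f ^ (n + k + 1) • g (n + k) (s k).1 := fun k => rfl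
  have hsum : ∀ k, (s k).1 = x - f ^ (n + 1) • ∑ j ∈ range k, f ^ j • g (n + j) (s j).1 := by
    intro k
    induction k with
    | zero =>
      rw [range_zero, sum_empty, smul_zero, sub_zero]
      rfl
    | succ k ih =>
      rw [hs, sum_range_succ, smul_add, smul_smul, ← pow_add,
        show n + 1 + k = n + k + 1 by omega]
      nth_rw 1 [ih]
      abel
  obtain ⟨z, hz⟩ := h0.sum fun j => g (n + j) (s j).1
  refine ⟨x - f ^ (n + 1) • z, -z, ?_, by rw [smul_neg]; abel⟩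
  refine h1.sep _ fun k => ?_
  obtain ⟨z', hz'⟩ := hz k
  obtain ⟨y', hy'⟩ := (s k).2
  refine ⟨f ^ (n + m + 1) • y' - f ^ (n + 1) • d0 z', ?_⟩
  have e1 : x - f ^ (n + 1) • z = (s k).1 - f ^ (n + 1) • f ^ k • z' := by
    rw [hsum k, hz', smul_add]
    abel
  rw [e1, map_sub, hy', map_smul, map_smul, smul_sub, smul_smul, smul_smul, smul_smul, ← pow_add,
    ← pow_add, ← pow_add, show k + (n + m + 1) = n + k + m + 1 by omega,
    show k + (n + 1) = n + 1 + k by omega]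

end Groth.Agent.Pi1C.FormCx
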