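import Groth.Agent.FormalA.CompleteCx
import Mathlib.Tactic.Abel
import Mathlib.Tactic.Ring

set_option autoImplicit false

/-!
# Inverse limits of adic systems of modules

An inverse system `(Q n, p n : Q (n+1) → Q n)` of `A`-modules is an `f`-adic system (`IsSys`) if the
transition maps are surjective with kernel `f^(n+1) Q (n+1)` and `f^(n+1)` kills `Q n`.
Its limit `Lim p` is `f`-adically complete (`FC`) and `Lim p / f^(n+1) = Q n`.
-/

namespace Groth.Agent.Pi1C.FormLim

open Finset Groth.Agent.FormalA.CompleteCx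

/-- compatible families through a given element, for types and functions. -/
theorem exists_compat : ∀ (n : ℕ) (Q : ℕ → Type*) (p : ∀ n, Q (n + 1) → Q n)
    (_ : ∀ n, Function.Surjective (p n)) (x : Q n),
    ∃ y : ∀ k, Q k, (∀ k, p k (y (k + 1)) = y k) ∧ y n = x := by
  intro n
  induction n with
  | zero =>
    intro Q p hp x
    choose s hs using hp
    exact ⟨fun k => Nat.rec x (fun k y => s k y) k, fun k => hs k _, rfl⟩
  | succ n ih =>
    intro Q p hp x
    obtain ⟨y, hy, hyn⟩ := ih (fun k => Q (k + 1)) (fun k => p (k + 1)) (fun k => hp (k + 1)) x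
    refine ⟨fun k => Nat.casesOn k (p 0 (y 0)) y, ?_, hyn⟩
    intro k
    cases k with
    | zero => rfl
    | succ k => exact hy k

variable {A : Type*} [CommRing A] {f : A}
variable {Q : ℕ → Type*} [∀ n, AddCommGroup (Q n)] [∀ n, Module A (Q n)]
  (p : ∀ n, Q (n + 1) →ₗ[A] Q n)

/-- The inverse limit. -/
def Lim : Submodule A (∀ n, Q n) where
  carrier := {x | ∀ n, p n (x (n + 1)) = x n}
  add_mem' {x y} hx hy n := by
    change p n (x (n + 1) + y (n + 1)) = x n + y n
    rw [map_add, hx n, hy n]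
  zero_mem' n := by
    change p n 0 = 0
    rw [map_zero]
  smul_mem' a x hx n := by
    change p n (a • x (n + 1)) = a • x n
    rw [map_smul, hx n]

/-- `f`-adic systems. -/
structure IsSys (f : A) (p : ∀ n, Q (n + 1) →ₗ[A] Q n) : Prop where
  surj : ∀ n, Function.Surjective (p n)
  ker : ∀ n x, p n x = 0 → ∃ y, x = f ^ (n + 1) • y
  tors : ∀ n (x : Q n), f ^ (n + 1) • x = 0

theorem Lim.compat (x : Lim p) (n : ℕ) : p n (x.1 (n + 1)) = x.1 n := x.2 n

/-- The projection from the limit. -/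
def proj (n : ℕ) : Lim p →ₗ[A] Q n := LinearMap.proj n ∘ₗ (Lim p).subtype

@[simp] theorem proj_apply (n : ℕ) (x : Lim p) : proj p n x = x.1 n := rfl

theorem ext_proj {x y : Lim p} (h : ∀ n, proj p n x = proj p n y) : x = y :=
  Subtype.ext (funext h)

variable {p}

theorem IsSys.pow_smul (h : IsSys f p) {n m : ℕ} (hnm : n < m) (x : Q n) : f ^ m • x = 0 := by
  obtain ⟨k, rfl⟩ := Nat.exists_eq_add_of_lt hnm
  rw [show n + k + 1 = k + (n + 1) by omega, pow_add, mul_smul, h.tors, smul_zero]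

theorem IsSys.proj_surjective (h : IsSys f p) (n : ℕ) : Function.Surjective (proj p n) := by
  intro x
  obtain ⟨y, hy, hyn⟩ := exists_compat n Q (fun k => p k) h.surj x
  exact ⟨⟨y, hy⟩, hyn⟩

/-- `∑ f^j b_j` in the limit. -/
def IsSys.tsum (h : IsSys f p) (b : ℕ → Lim p) : Lim p :=
  ⟨fun k => ∑ j ∈ range (k + 1), f ^ j • (b j).1 k, by
    intro k
    change p k (∑ j ∈ range (k + 1 + 1), f ^ j • (b j).1 (k + 1)) = _
    rw [sum_range_succ, map_add, map_smul, Lim.compat, h.tors, add_zero, map_sum]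
    refine sum_congr rfl fun j _ => ?_
    rw [map_smul, Lim.compat]⟩

theorem IsSys.tsum_val (h : IsSys f p) (b : ℕ → Lim p) (k : ℕ) :
    (h.tsum b).1 k = ∑ j ∈ range (k + 1), f ^ j • (b j).1 k := rfl

theorem IsSys.tsum_val' (h : IsSys f p) (b : ℕ → Lim p) (k m : ℕ) (hm : k + 1 ≤ m) :
    (h.tsum b).1 k = ∑ j ∈ range m, f ^ j • (b j).1 k := by
  rw [h.tsum_val]
  refine sum_subset (fun x hx => ?_) fun x _ hx => ?_
  · simp only [mem_range] at hx ⊢
    omega
  · simp only [mem_range] at hx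
    exact h.pow_smul (by omega) _

theorem IsSys.fc (h : IsSys f p) : FC f (Lim p) where
  sep x hx := by
    apply ext_proj
    intro n
    obtain ⟨y, rfl⟩ := hx (n + 1)
    rw [map_smul, map_zero, h.tors]
  sum b := by
    refine ⟨h.tsum b, fun n => ⟨h.tsum fun j => b (n + j), ?_⟩⟩
    apply ext_proj
    intro k
    rw [map_add, map_sum, map_smul]
    simp only [proj_apply, map_smul]
    rw [h.tsum_val' b k (n + (k + 1)) (by omega), h.tsum_val, sum_range_add, smul_sum]
    congr 1
    refine sum_congr rfl fun j _ => ?_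
    rw [pow_add, mul_smul]

theorem proj_eq_zero_of_le {n m : ℕ} (hnm : n ≤ m) (x : Lim p) (hx : proj p m x = 0) :
    proj p n x = 0 := by
  obtain ⟨k, rfl⟩ := Nat.exists_eq_add_of_le hnm
  clear hnm
  induction k with
  | zero => exact hx
  | succ k ih =>
    refine ih ?_
    rw [proj_apply, ← Lim.compat]
    have : x.1 (n + k + 1) = 0 := hx
    rw [this, map_zero]

/-- The kernel of the projection to the `n`-th level. -/
theorem IsSys.exists_of_proj_eq_zero (h : IsSys f p) (n : ℕ) (y : Lim p) (hy : proj p n y = 0) :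
    ∃ z : Lim p, y = f ^ (n + 1) • z := by
  have step : ∀ (m : ℕ) (y : Lim p), proj p m y = 0 →
      ∃ z : Lim p, proj p (m + 1) (y - f ^ (m + 1) • z) = 0 := by
    intro m y hy
    obtain ⟨w, hw⟩ := h.ker m (y.1 (m + 1)) (by rw [Lim.compat]; exact hy)
    obtain ⟨z, hz⟩ := h.proj_surjective (m + 1) w
    exact ⟨z, by rw [map_sub, map_smul, hz, proj_apply, hw, sub_self]⟩
  choose z hz using step
  let r : ∀ k : ℕ, {y : Lim p // proj p (n + k) y = 0} := fun k =>
    Nat.rec ⟨y, hy⟩ (fun k y => ⟨y.1 - f ^ (n + k + 1) • z (n + k) y.1 y.2, hz _ _ _⟩) k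
  have hr : ∀ k, (r k).1 = f ^ (n + 1) • f ^ k • z (n + k) (r k).1 (r k).2 + (r (k + 1)).1 := by
    intro k
    change (r k).1 = _ + ((r k).1 - f ^ (n + k + 1) • z (n + k) (r k).1 (r k).2)
    rw [smul_smul, ← pow_add, show n + 1 + k = n + k + 1 by omega]
    abel
  let b : ℕ → Lim p := fun k => z (n + k) (r k).1 (r k).2
  have key : ∀ k, y = f ^ (n + 1) • (∑ j ∈ range k, f ^ j • b j) + (r k).1 := by
    intro k
    induction k with
    | zero =>
      rw [range_zero, sum_empty, smul_zero, zero_add]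
      rfl
    | succ k ih =>
      rw [sum_range_succ, smul_add, add_assoc, ← hr k]
      exact ih
  refine ⟨h.tsum b, ext_proj _ fun k => ?_⟩
  rw [map_smul, proj_apply _ _ (h.tsum b), h.tsum_val]
  have h1 := congrArg (proj p k) (key (k + 1))
  rw [h1, map_add, map_smul, map_sum]
  simp only [map_smul, proj_apply]
  have h2 : (r (k + 1)).1.1 k = 0 :=
    proj_eq_zero_of_le (show k ≤ n + (k + 1) by omega) _ (r (k + 1)).2
  rw [h2, add_zero]

section Map

variable {Q' : ℕ → Type*} [∀ n, AddCommGroup (Q' n)] [∀ n, Module A (Q' n)]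
  {p' : ∀ n, Q' (n + 1) →ₗ[A] Q' n}

/-- Functoriality of the limit. -/
def map (φ : ∀ n, Q n →ₗ[A] Q' n) (hφ : ∀ n x, φ n (p n x) = p' n (φ (n + 1) x)) :
    Lim p →ₗ[A] Lim p' where
  toFun x := ⟨fun n => φ n (x.1 n), fun n => by
    rw [← hφ, Lim.compat]⟩
  map_add' x y := Subtype.ext (funext fun n => map_add (φ n) _ _)
  map_smul' a x := Subtype.ext (funext fun n => map_smul (φ n) _ _)

@[simp] theorem proj_map (φ : ∀ n, Q n →ₗ[A] Q' n) (hφ : ∀ n x, φ n (p n x) = p' n (φ (n + 1) x))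
    (n : ℕ) (x : Lim p) : proj p' n (map φ hφ x) = φ n (proj p n x) := rfl

end Map

end Groth.Agent.Pi1C.FormLim
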