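import Groth.Agent.Pi1C.FormSys
import Groth.Agent.Pi1C.FormLim
import Groth.Agent.Pi1C.FormCx

set_option autoImplicit false

/-!
# The formal Čech complex of a system of modules

`K0 = lim C0(M n)`, `K1`, `K2` for a system `ModSys f g M π`; they are `f`-adically complete and
`f`-torsion free, `ker (K0 → K1) = lim M n`. If `f^c H¹(C(M c))` is Noetherian, then the image of
`M (n + m) → M n` lifts to the limit for a fixed `m` (`exists_lift`), so `g_i^k x` lifts to the limit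
for every `x : M n` (`exists_lift_loc`).
-/

namespace Groth.Agent.Pi1C.FormCech

open Groth.Agent.FormalA.CechSub Groth.Agent.FormalA.CechLC Groth.Agent.FormalA.LocSub
open Groth.Agent.FormalA.CompleteCx
open FormLim FormSys

section Loc

variable {A : Type*} [CommRing A] {N N' : Type*} [AddCommGroup N] [Module A N]
  [AddCommGroup N'] [Module A N'] {S : Submonoid A} {f : A}

theorem lmap_surj (φ : N →ₗ[A] N') (h : ∀ x, ∃ s ∈ S, ∃ y, φ y = s • x) :
    Function.Surjective (lmap S φ) := by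
  intro x
  obtain ⟨n, t, rfl⟩ := exists_eq_mk x
  obtain ⟨s, hs, y, hy⟩ := h n
  refine ⟨LocalizedModule.mk y (⟨s, hs⟩ * t), ?_⟩
  rw [lmap_mk, hy]
  exact LocalizedModule.mk_cancel_common_left ⟨s, hs⟩ t n

theorem lmap_ker (φ : N →ₗ[A] N') (a : A) (h : ∀ x, φ x = 0 → ∃ s ∈ S, ∃ y, s • x = a • y)
    (x : LocalizedModule S N) (hx : lmap S φ x = 0) : ∃ y, x = a • y := by
  obtain ⟨n, t, rfl⟩ := exists_eq_mk x
  rw [lmap_mk, mk_eq_zero_iff] at hx
  obtain ⟨u, hu, h1⟩ := hx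
  rw [← map_smul] at h1
  obtain ⟨s, hs, y, hy⟩ := h _ h1
  refine ⟨LocalizedModule.mk y (⟨s, hs⟩ * ⟨u, hu⟩ * t), ?_⟩
  rw [LocalizedModule.smul'_mk, ← hy]
  exact ((LocalizedModule.mk_cancel_common_left (⟨s, hs⟩ * ⟨u, hu⟩ : S) t n).symm.trans (by
    rw [mul_smul]; rfl))

theorem smul_eq_zero_loc (a b : A) (h : ∀ x : N, a • x = 0 → ∃ s ∈ S, ∃ y : N, s • x = b • y)
    (x : LocalizedModule S N) (hx : a • x = 0) : ∃ y, x = b • y := by
  refine lmap_ker (LinearMap.lsmul A N a) b h x ?_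
  obtain ⟨n, t, rfl⟩ := exists_eq_mk x
  rw [lmap_mk, LinearMap.lsmul_apply, ← LocalizedModule.smul'_mk]
  exact hx

theorem smul_eq_zero_all (a : A) (h : ∀ x : N, a • x = 0) (x : LocalizedModule S N) : a • x = 0 := by
  obtain ⟨n, t, rfl⟩ := exists_eq_mk x
  rw [LocalizedModule.smul'_mk, h, LocalizedModule.zero_mk]

end Loc

variable {A : Type*} [CommRing A] {ι : Type*} {f : A} {g : ι → A}
variable {M : ℕ → Type*} [∀ n, AddCommGroup (M n)] [∀ n, Module A (M n)]
  {π : ∀ n, M (n + 1) →ₗ[A] M n}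

section Sys

variable (h : ModSys f g M π)

/-- Systems of localizations. -/
theorem isSys_lmap (h : ModSys f g M π) (i : ι) (S : Submonoid A) (hS : PS g i ≤ S) (n : ℕ) :
    Function.Surjective (lmap S (π n)) ∧
    (∀ x, lmap S (π n) x = 0 → ∃ y, x = f ^ (n + 1) • y) ∧
    (∀ x : LocalizedModule S (M n), f ^ (n + 1) • x = 0) ∧
    (∀ x : LocalizedModule S (M n), f • x = 0 → ∃ y, x = f ^ n • y) := by
  have hk : ∀ k : ℕ, g i ^ k ∈ S := fun k => hS ⟨k, rfl⟩
  refine ⟨lmap_surj _ fun x => ?_, lmap_ker _ _ fun x hx => ?_, smul_eq_zero_all _ (h.tors n),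
    smul_eq_zero_loc _ _ fun x hx => ?_⟩
  · obtain ⟨k, y, hy⟩ := h.lift n i x
    exact ⟨_, hk k, y, hy⟩
  · obtain ⟨k, y, hy⟩ := h.ker n i x hx
    exact ⟨_, hk k, y, hy⟩
  · obtain ⟨k, y, hy⟩ := h.ftors n i x hx
    exact ⟨_, hk k, y, hy⟩

/-- `C0 (M n)` -/
abbrev Q0 (g : ι → A) (M : ℕ → Type*) [∀ n, AddCommGroup (M n)] [∀ n, Module A (M n)] (n : ℕ) :=
  C0 (PS g) (M n)
/-- `C1 (M n)` -/
abbrev Q1 (g : ι → A) (M : ℕ → Type*) [∀ n, AddCommGroup (M n)] [∀ n, Module A (M n)] (n : ℕ) :=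
  C1 (PS g) (M n)
/-- `C2 (M n)` -/
abbrev Q2 (g : ι → A) (M : ℕ → Type*) [∀ n, AddCommGroup (M n)] [∀ n, Module A (M n)] (n : ℕ) :=
  C2 (PS g) (M n)

/-- transition maps of `C0` -/
noncomputable abbrev p0 (g : ι → A) (π : ∀ n, M (n + 1) →ₗ[A] M n) (n : ℕ) :
    Q0 g M (n + 1) →ₗ[A] Q0 g M n := map0 (PS g) (π n)
/-- transition maps of `C1` -/
noncomputable abbrev p1 (g : ι → A) (π : ∀ n, M (n + 1) →ₗ[A] M n) (n : ℕ) :
    Q1 g M (n + 1) →ₗ[A] Q1 g M n := map1 (PS g) (π n)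
/-- transition maps of `C2` -/
noncomputable abbrev p2 (g : ι → A) (π : ∀ n, M (n + 1) →ₗ[A] M n) (n : ℕ) :
    Q2 g M (n + 1) →ₗ[A] Q2 g M n := map2 (PS g) (π n)

theorem isSys0 (h : ModSys f g M π) : IsSys (Q := Q0 g M) f (p0 g π) where
  surj n y := by
    choose x hx using fun i => (isSys_lmap h i (PS g i) le_rfl n).1 (y i)
    exact ⟨x, funext hx⟩
  ker n x hx := by
    choose y hy using fun i => (isSys_lmap h i (PS g i) le_rfl n).2.1 (x i) (congr_fun hx i)
    exact ⟨y, funext hy⟩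
  tors n x := funext fun i => (isSys_lmap h i (PS g i) le_rfl n).2.2.1 (x i)

theorem isSys1 (h : ModSys f g M π) : IsSys (Q := Q1 g M) f (p1 g π) where
  surj n y := by
    choose x hx using fun i j => (isSys_lmap h i _ (le12 (PS g) i j) n).1 (y i j)
    exact ⟨x, funext fun i => funext (hx i)⟩
  ker n x hx := by
    choose y hy using fun i j => (isSys_lmap h i _ (le12 (PS g) i j) n).2.1 (x i j)
      (congr_fun (congr_fun hx i) j)
    exact ⟨y, funext fun i => funext (hy i)⟩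
  tors n x := funext fun i => funext fun j => (isSys_lmap h i _ (le12 (PS g) i j) n).2.2.1 (x i j)

/-- `K0` -/
noncomputable abbrev K0 (g : ι → A) (π : ∀ n, M (n + 1) →ₗ[A] M n) := Lim (Q := Q0 g M) (p0 g π)
/-- `K1` -/
noncomputable abbrev K1 (g : ι → A) (π : ∀ n, M (n + 1) →ₗ[A] M n) := Lim (Q := Q1 g M) (p1 g π)
/-- `K2` -/
noncomputable abbrev K2 (g : ι → A) (π : ∀ n, M (n + 1) →ₗ[A] M n) := Lim (Q := Q2 g M) (p2 g π)

/-- `K0 → K1` -/
noncomputable def δ0 (g : ι → A) (π : ∀ n, M (n + 1) →ₗ[A] M n) : K0 g π →ₗ[A] K1 g π :=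
  FormLim.map (Q := Q0 g M) (Q' := Q1 g M) (p := p0 g π) (p' := p1 g π) (fun _ => d0 (PS g))
    fun n x => (map1_d0 (PS g) (π n) x).symm

/-- `K1 → K2` -/
noncomputable def δ1 (g : ι → A) (π : ∀ n, M (n + 1) →ₗ[A] M n) : K1 g π →ₗ[A] K2 g π :=
  FormLim.map (Q := Q1 g M) (Q' := Q2 g M) (p := p1 g π) (p' := p2 g π) (fun _ => d1 (PS g))
    fun n x => (map2_d1 (PS g) (π n) x).symm

theorem proj_δ0 (n : ℕ) (x : K0 g π) :
    proj (p1 g π) n (δ0 g π x) = d0 (PS g) (proj (p0 g π) n x) := rfl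
theorem proj_δ1 (n : ℕ) (x : K1 g π) :
    proj (p2 g π) n (δ1 g π x) = d1 (PS g) (proj (p1 g π) n x) := rfl

theorem δ1_δ0 (x : K0 g π) : δ1 g π (δ0 g π x) = 0 := by
  apply ext_proj
  intro n
  rw [proj_δ1, proj_δ0, d1_d0, map_zero]

/-- The augmentation. -/
noncomputable def εK (g : ι → A) (π : ∀ n, M (n + 1) →ₗ[A] M n) : Lim π →ₗ[A] K0 g π :=
  FormLim.map (Q := M) (Q' := Q0 g M) (p := π) (p' := p0 g π) (fun _ => ε (PS g))
    fun n x => (map0_ε (PS g) (π n) x).symm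

theorem proj_εK (n : ℕ) (x : Lim π) :
    proj (p0 g π) n (εK g π x) = ε (PS g) (proj π n x) := rfl

theorem reg0 (h : ModSys f g M π) (x : K0 g π) (hx : f • x = 0) : x = 0 := by
  apply ext_proj
  intro n
  rw [map_zero, proj_apply, ← Lim.compat]
  have h1 : ∀ i, ∃ y, x.1 (n + 1) i = f ^ (n + 1) • y := fun i =>
    (isSys_lmap h i _ le_rfl (n + 1)).2.2.2 _ (congr_fun (congrArg (proj _ (n + 1)) hx) i)
  funext i
  obtain ⟨y, hy⟩ := h1 i
  rw [map0_apply, hy, map_smul]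
  exact (isSys_lmap h i _ le_rfl n).2.2.1 _

theorem reg1 (h : ModSys f g M π) (x : K1 g π) (hx : f • x = 0) : x = 0 := by
  apply ext_proj
  intro n
  rw [map_zero, proj_apply, ← Lim.compat]
  funext i j
  obtain ⟨y, hy⟩ := (isSys_lmap h i _ (le12 (PS g) i j) (n + 1)).2.2.2 _
    (congr_fun (congr_fun (congrArg (proj _ (n + 1)) hx) i) j)
  change lmap _ (π n) (x.1 (n + 1) i j) = 0
  have hy' : x.1 (n + 1) i j = f ^ (n + 1) • y := hy
  rw [hy', map_smul]
  exact (isSys_lmap h i _ (le12 (PS g) i j) n).2.2.1 _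

theorem reg2 (h : ModSys f g M π) (x : K2 g π) (hx : f • x = 0) : x = 0 := by
  apply ext_proj
  intro n
  rw [map_zero, proj_apply, ← Lim.compat]
  funext i j k
  have hle : PS g i ≤ PS g i ⊔ PS g j ⊔ PS g k := (le12 (PS g) i j).trans (le123 (PS g) i j k)
  obtain ⟨y, hy⟩ := (isSys_lmap h i _ hle (n + 1)).2.2.2 _
    (congr_fun (congr_fun (congr_fun (congrArg (proj _ (n + 1)) hx) i) j) k)
  change lmap _ (π n) (x.1 (n + 1) i j k) = 0
  have hy' : x.1 (n + 1) i j k = f ^ (n + 1) • y := hy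
  rw [hy', map_smul]
  exact (isSys_lmap h i _ hle n).2.2.1 _

theorem pow_reg {X : Type*} [AddCommGroup X] [Module A X] (hX : ∀ x : X, f • x = 0 → x = 0) (k : ℕ)
    (x : X) (hx : f ^ k • x = 0) : x = 0 := by
  induction k with
  | zero => rwa [pow_zero, one_smul] at hx
  | succ k ih =>
    rw [pow_succ', mul_smul] at hx
    exact ih (hX _ hx)

/-- `ker (K0 → K1) = lim M n`. -/
theorem exists_εK (h : ModSys f g M π) (x : K0 g π) (hx : δ0 g π x = 0) :
    ∃ b : Lim π, εK g π b = x := by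
  have h1 : ∀ n, ∃ y : M n, ε (PS g) y = x.1 n := fun n =>
    (h.closed n).glue _ (congrArg (proj _ n) hx)
  choose y hy using h1
  refine ⟨⟨y, fun n => ?_⟩, ext_proj _ fun n => hy n⟩
  rw [← sub_eq_zero]
  refine (h.closed n).inj _ ?_
  rw [map_sub, sub_eq_zero, ← map0_ε, hy, hy]
  exact Lim.compat _ x n

theorem εK_injective (h : ModSys f g M π) (x : Lim π) (hx : εK g π x = 0) : x = 0 := by
  apply ext_proj
  intro n
  exact (h.closed n).inj _ (congrArg (proj _ n) hx)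

/-- `f` is regular on the limit. -/
theorem reg_lim (h : ModSys f g M π) (x : Lim π) (hx : f • x = 0) : x = 0 :=
  εK_injective h x (reg0 h _ (by rw [← map_smul, hx, map_zero]))

/-- The kernel of the projections of the limit. -/
theorem exists_of_proj_eq_zero (h : ModSys f g M π) (n : ℕ) (x : Lim π) (hx : proj π n x = 0) :
    ∃ y : Lim π, x = f ^ (n + 1) • y := by
  obtain ⟨z, hz⟩ := (isSys0 h).exists_of_proj_eq_zero n (εK g π x) (by
    rw [proj_εK, hx, map_zero])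
  obtain ⟨y, hy⟩ := exists_εK h z (by
    refine pow_reg (reg1 h) (n + 1) _ ?_
    rw [← map_smul, ← hz]
    apply ext_proj
    intro k
    rw [proj_δ0, proj_εK, d0_ε, map_zero])
  refine ⟨y, ?_⟩
  rw [← sub_eq_zero]
  refine εK_injective (g := g) h _ ?_
  rw [map_sub, map_smul, hy, hz, sub_self]

/-- `M (n + m) → M n`. -/
def trans (π : ∀ n, M (n + 1) →ₗ[A] M n) (n : ℕ) : ∀ m : ℕ, M (n + m) →ₗ[A] M n
  | 0 => LinearMap.id
  | m + 1 => trans π n m ∘ₗ π (n + m)

theorem trans_proj (n m : ℕ) (x : Lim π) : trans π n m (proj π (n + m) x) = proj π n x := by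
  induction m with
  | zero => rfl
  | succ m ih =>
    rw [← ih]
    change trans π n m (π (n + m) (x.1 (n + m + 1))) = _
    rw [Lim.compat]
    rfl

theorem ε_trans' (n m : ℕ) (x : M (n + m)) (x0 : K0 g π) (hx : proj (p0 g π) (n + m) x0 = ε (PS g) x) :
    ε (PS g) (trans π n m x) = proj (p0 g π) n x0 := by
  induction m with
  | zero => exact hx.symm
  | succ m ih =>
    refine ih (π (n + m) x) ?_
    rw [← map0_ε]
    have h1 : proj (p0 g π) (n + m) x0 = p0 g π (n + m) (proj (p0 g π) (n + (m + 1)) x0) :=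
      (Lim.compat _ x0 (n + m)).symm
    rw [h1, hx]

theorem exists_trans (h : ModSys f g M π) (n m : ℕ) (i : ι) (x : M n) :
    ∃ (k : ℕ) (y : M (n + m)), trans π n m y = g i ^ k • x := by
  induction m with
  | zero => exact ⟨0, x, by rw [pow_zero, one_smul]; rfl⟩
  | succ m ih =>
    obtain ⟨k, y, hy⟩ := ih
    obtain ⟨l, z, hz⟩ := h.lift (n + m) i y
    refine ⟨l + k, z, ?_⟩
    change trans π n m (π (n + m) z) = _
    rw [hz, map_smul, hy, smul_smul, pow_add]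

theorem exists_gen {Z X : Type*} [AddCommMonoid Z] [Module A Z] [AddCommGroup X] [Module A X]
    (q0 : Z →ₗ[A] X) (b : A) (hN : IsNoetherian A (LinearMap.range (LinearMap.lsmul A X b))) :
    ∃ (r : ℕ) (w : Fin r → Z), ∀ u, ∃ a : Fin r → A, b • q0 u = ∑ k, a k • b • q0 (w k) := by
  let q : Z →ₗ[A] LinearMap.range (LinearMap.lsmul A X b) :=
    (LinearMap.lsmul A X b).rangeRestrict ∘ₗ q0
  have hfg : (LinearMap.range q).FG := hN.noetherian _
  obtain ⟨r, s, hs⟩ := Submodule.fg_iff_exists_fin_generating_family.1 hfg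
  have hs' : ∀ k, ∃ w : Z, q w = s k := fun k => by
    have : s k ∈ LinearMap.range q := by
      rw [← hs]
      exact Submodule.subset_span ⟨k, rfl⟩
    exact this
  choose w hw using hs'
  refine ⟨r, w, fun u => ?_⟩
  have h1 : q u ∈ Submodule.span A (Set.range s) := by
    rw [hs]
    exact ⟨_, rfl⟩
  obtain ⟨a, ha⟩ := (Submodule.mem_span_range_iff_exists_fun A).1 h1
  refine ⟨a, ?_⟩
  have h3 := congrArg Subtype.val ha
  rw [Submodule.coe_sum] at h3
  refine h3.symm.trans (Finset.sum_congr rfl fun k _ => ?_)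
  rw [← hw k]
  rfl

/-- The lifting theorem, condition on `H¹(C(M c))`. -/
theorem exists_lift [IsNoetherianRing A] (h : ModSys f g M π) (c : ℕ)
    (hN : IsNoetherian A (LinearMap.range (LinearMap.lsmul A (H1 (PS g) (M c)) (f ^ c)))) :
    ∃ m : ℕ, ∀ (n : ℕ) (x : M (n + m)), ∃ b : Lim π, proj π n b = trans π n m x := by
  -- the cocycles
  let Z := LinearMap.ker (δ1 g π)
  -- the map to `f^c H¹`
  have hZ : ∀ u : Z, proj _ c u.1 ∈ LinearMap.ker (d1 (N := M c) (PS g)) := by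
    intro u
    have := congrArg (proj _ c) (LinearMap.mem_ker.1 u.2)
    exact this
  let q0 : Z →ₗ[A] H1 (PS g) (M c) := Submodule.mkQ _ ∘ₗ
    LinearMap.codRestrict (LinearMap.ker (d1 (N := M c) (PS g)))
      (proj (Q := Q1 g M) (p1 g π) c ∘ₗ Z.subtype) hZ
  obtain ⟨r, w, hw⟩ := exists_gen q0 (f ^ c) hN
  obtain ⟨m, hm⟩ := FormCx.exists_lift (f := f) (δ0 g π) (δ1 g π) (isSys0 h).fc (isSys1 h).fc
    δ1_δ0 0 (fun k x hx => by
      rw [pow_zero, one_smul]
      exact pow_reg (reg2 h) k x hx) c (fun k => (w k).1) (fun k => by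
      rw [pow_zero, one_smul]
      exact (w k).2) (by
      intro u hu
      rw [pow_zero, one_smul] at hu
      have huZ : u ∈ Z := hu
      obtain ⟨a, h2⟩ := hw ⟨u, huZ⟩
      have h3 : (Submodule.mkQ ((LinearMap.range (d0 (N := M c) (PS g))).submoduleOf
          (LinearMap.ker (d1 (N := M c) (PS g))))) (f ^ c • ⟨_, hZ ⟨u, huZ⟩⟩ -
            ∑ k, a k • f ^ c • ⟨_, hZ (w k)⟩) = 0 := by
        rw [map_sub, map_sum, map_smul, sub_eq_zero]
        refine h2.trans (Finset.sum_congr rfl fun k _ => ?_)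
        rw [map_smul, map_smul]
        rfl
      obtain ⟨b0, hb0⟩ := (Submodule.Quotient.mk_eq_zero _).1 h3
      obtain ⟨b, hb⟩ := (isSys0 h).proj_surjective c b0
      have h6 : proj (Q := Q1 g M) (p1 g π) c (f ^ c • u - ∑ k, a k • f ^ c • (w k).1 -
          δ0 g π b) = 0 := by
        rw [map_sub, proj_δ0, hb, sub_eq_zero]
        refine Eq.trans ?_ hb0.symm
        rw [map_sub, map_smul, map_sum]
        simp only [map_smul, Submodule.coe_sub, Submodule.coe_smul, Submodule.coe_sum,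
          Submodule.subtype_apply]
      obtain ⟨u', hu'⟩ := (isSys1 h).exists_of_proj_eq_zero c _ h6
      refine ⟨a, b, u', ?_⟩
      rw [add_zero, pow_zero, one_smul, ← hu']
      abel)
  refine ⟨m, fun n x => ?_⟩
  obtain ⟨x0, hx0⟩ := (isSys0 h).proj_surjective (n + m) (ε (PS g) x)
  obtain ⟨y, hy⟩ := (isSys1 h).exists_of_proj_eq_zero (n + m) (δ0 g π x0) (by
    rw [proj_δ0, hx0, d0_ε])
  obtain ⟨x', z, hx', hz⟩ := hm n x0 y hy
  obtain ⟨b, hb⟩ := exists_εK h x' hx'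
  refine ⟨b, ?_⟩
  rw [← sub_eq_zero]
  refine (h.closed n).inj _ ?_
  have h1 : ε (PS g) (proj π n b) = proj _ n x0 := by
    rw [← proj_εK, hb, hz, map_add, map_smul, (isSys0 h).tors n, add_zero]
  have h2 : ε (PS g) (trans π n m x) = proj _ n x0 := by
    exact ε_trans' n m x x0 hx0
  rw [map_sub, h1, h2, sub_self]

/-- Local lifting to the limit. -/
theorem exists_lift_loc [IsNoetherianRing A] (h : ModSys f g M π) (c : ℕ)
    (hN : IsNoetherian A (LinearMap.range (LinearMap.lsmul A (H1 (PS g) (M c)) (f ^ c))))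
    (n : ℕ) (i : ι) (x : M n) : ∃ (k : ℕ) (b : Lim π), proj π n b = g i ^ k • x := by
  obtain ⟨m, hm⟩ := exists_lift h c hN
  obtain ⟨k, y, hy⟩ := exists_trans h n m i x
  obtain ⟨b, hb⟩ := hm n y
  exact ⟨k, b, by rw [hb, hy]⟩

end Sys

end Groth.Agent.Pi1C.FormCech
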