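import Groth.Agent.FormalA.CechLC

set_option autoImplicit false

/-!
# Formal systems of modules and algebras on a punctured spectrum

`A` a ring, `f : A`, `g : ι → A` a finite family (the opens `D (g i)` cover the punctured spectrum).
* `Closed g N`: `N` is the module of global sections, i.e. `N → C0 → C1` is exact.
* `ModSys f g M π`: `M n` are the global sections of a compatible system of flat modules over
  `U_n = U ∩ V(f^(n+1))` (`f` a nonzerodivisor).
* `TraceSys f g C M πC πM ψ T`: `C n = Γ(U_n)`, `M n = Γ(V_n)` with `V_n → U_n` finite etale, `T n` the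
  trace.
-/

namespace Groth.Agent.Pi1C.FormSys

open Groth.Agent.FormalA.CechSub Groth.Agent.FormalA.CechLC

variable {A : Type*} [CommRing A] {ι : Type*}

/-- `N → C0 → C1` is exact. -/
structure Closed (g : ι → A) (N : Type*) [AddCommGroup N] [Module A N] : Prop where
  inj : ∀ x : N, ε (PS g) x = 0 → x = 0
  glue : ∀ x : C0 (PS g) N, d0 (PS g) x = 0 → ∃ y : N, ε (PS g) y = x

/-- Systems of modules. -/
structure ModSys (f : A) (g : ι → A) (M : ℕ → Type*) [∀ n, AddCommGroup (M n)]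
    [∀ n, Module A (M n)] (π : ∀ n, M (n + 1) →ₗ[A] M n) : Prop where
  tors : ∀ n (x : M n), f ^ (n + 1) • x = 0
  lift : ∀ n i (x : M n), ∃ (k : ℕ) (y : M (n + 1)), π n y = g i ^ k • x
  ker : ∀ n i (x : M (n + 1)), π n x = 0 → ∃ (k : ℕ) (y : M (n + 1)), g i ^ k • x = f ^ (n + 1) • y
  ftors : ∀ n i (x : M n), f • x = 0 → ∃ (k : ℕ) (y : M n), g i ^ k • x = f ^ n • y
  closed : ∀ n, Closed g (M n)

/-- Systems of finite etale algebras with their trace forms. -/
structure TraceSys (f : A) (g : ι → A) (C M : ℕ → Type*) [∀ n, CommRing (C n)]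
    [∀ n, Algebra A (C n)] [∀ n, CommRing (M n)] [∀ n, Algebra A (M n)]
    (πC : ∀ n, C (n + 1) →ₐ[A] C n) (πM : ∀ n, M (n + 1) →ₐ[A] M n)
    (ψ : ∀ n, C n →ₐ[A] M n) (T : ∀ n, M n →ₗ[A] C n) : Prop where
  sysC : ModSys f g C (fun n => (πC n).toLinearMap)
  sysM : ModSys f g M (fun n => (πM n).toLinearMap)
  algC_surj : ∀ n i (c : C n), ∃ (k : ℕ) (a : A), g i ^ k • c = algebraMap A (C n) a
  algC_ker : ∀ n i (a : A), algebraMap A (C n) a = 0 → ∃ (k : ℕ) (b : A), g i ^ k * a = f ^ (n + 1) * b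
  ψπ : ∀ n c, πM n (ψ (n + 1) c) = ψ n (πC n c)
  Tπ : ∀ n x, πC n (T (n + 1) x) = T n (πM n x)
  Tψ : ∀ n c x, T n (ψ n c * x) = c * T n x
  dual : ∀ n i, ∃ (r k : ℕ) (a b : Fin r → M n), ∀ x : M n,
    g i ^ k • x = ∑ j, ψ n (T n (a j * x)) * b j

/-- The output of the algebraization: an algebra `B` with `B / f → M0` an isomorphism on the punctured
spectrum, `f` regular on `B`, and `B` finite on `D(h) ∩ U` for `h ∈ c`. -/
structure Alg (f : A) (g : ι → A) (c : Ideal A) (B M0 : Type*) [CommRing B] [Algebra A B]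
    [CommRing M0] [Algebra A M0] (φ : B →ₐ[A] M0) : Prop where
  lift : ∀ i (x : M0), ∃ (k : ℕ) (b : B), φ b = g i ^ k • x
  ker : ∀ b : B, φ b = 0 → ∃ b', b = f • b'
  reg : ∀ b : B, f • b = 0 → b = 0
  fin : ∀ h ∈ c, ∀ i, ∃ (r : ℕ) (b : Fin r → B), ∀ x : B, ∃ k : ℕ,
    (h * g i) ^ k • x ∈ Submodule.span A (Set.range b)

end Groth.Agent.Pi1C.FormSys
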