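import Groth.Agent.Pi1C.FormGeo
import Groth.Agent.Pi1C.NbhdExt
import Groth.Agent.Pi1C.FormSys

/-!
# From an algebra to a finite étale cover of a neighbourhood of `V(f)`
-/

set_option autoImplicit false
universe u

open AlgebraicGeometry CategoryTheory Limits TensorProduct IsLocalRing

namespace Groth.Agent.Pi1C.FormCover

open NbhdExt FormGeo Groth.Agent.Pi1A.FEtFormalGlue

theorem mem_puncturedSpec_iff {A : Type u} [CommRing A] [IsLocalRing A] (x : PrimeSpectrum A) :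
    x ∈ FEt.puncturedSpec A ↔ x.asIdeal ≠ maximalIdeal A := by
  change ¬ (x = closedPoint A) ↔ _
  rw [not_iff_not, PrimeSpectrum.ext_iff]
  rfl

theorem mk_mem_iff {A : Type u} [CommRing A] [IsLocalRing A] (f : A)
    [IsLocalRing (A ⧸ Ideal.span {f})] (x : PrimeSpectrum (A ⧸ Ideal.span {f})) :
    mk A f x ∈ FEt.puncturedSpec A ↔ x ∈ FEt.puncturedSpec (A ⧸ Ideal.span {f}) := by
  have h1 := Pi1B.CISystem.q'_eq_closedPoint_iff A f x
  exact h1.not

/-- The map of punctured spectra. -/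
noncomputable def punct (A : Type u) [CommRing A] [IsLocalRing A] (f : A)
    [IsLocalRing (A ⧸ Ideal.span {f})] :
    (FEt.puncturedSpec (A ⧸ Ideal.span {f}) : Scheme.{u}) ⟶ (FEt.puncturedSpec A : Scheme.{u}) :=
  IsOpenImmersion.lift (FEt.puncturedSpec A).ι ((FEt.puncturedSpec (A ⧸ Ideal.span {f})).ι ≫ mk A f)
    (by
      rw [Scheme.Opens.range_ι]
      rintro _ ⟨z, rfl⟩
      exact (mk_mem_iff f _).2 z.2)

theorem punct_ι (A : Type u) [CommRing A] [IsLocalRing A] (f : A)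
    [IsLocalRing (A ⧸ Ideal.span {f})] :
    punct A f ≫ (FEt.puncturedSpec A).ι = (FEt.puncturedSpec (A ⧸ Ideal.span {f})).ι ≫ mk A f :=
  IsOpenImmersion.lift_fac _ _ _

theorem isPullback_punct (A : Type u) [CommRing A] [IsLocalRing A] (f : A)
    [IsLocalRing (A ⧸ Ideal.span {f})] :
    IsPullback (punct A f) (FEt.puncturedSpec (A ⧸ Ideal.span {f})).ι (FEt.puncturedSpec A).ι
      (mk A f) := by
  refine IsOpenImmersion.isPullback _ _ _ _ (punct_ι A f).symm ?_
  rw [Scheme.Opens.opensRange_ι, Scheme.Opens.opensRange_ι]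
  ext x
  exact mk_mem_iff f x

/-- `NbhdExt` in terms of covers of the punctured spectrum of `A / f`. -/
theorem nbhdExt_iff (A : Type u) [CommRing A] [IsLocalRing A] (f : A)
    [IsLocalRing (A ⧸ Ideal.span {f})] :
    NbhdExt A f ↔ ∀ V : FEt.Cat (FEt.puncturedSpec (A ⧸ Ideal.span {f}) : Scheme.{u}),
      Extends A f (punct A f) V :=
  nbhdExt_iff_model _ _ (isPullback_punct A f)

/-- Base change of `B` to `S` killed by `f` in which some `x ∈ m` is invertible is étale. -/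
theorem etale_base {A : Type u} [CommRing A] [IsNoetherianRing A] [IsLocalRing A] (f : A)
    [IsLocalRing (A ⧸ Ideal.span {f})] {B : Type u} [CommRing B] [Algebra A B] {V : Scheme.{u}}
    (w : V ⟶ FEt.puncturedSpec (A ⧸ Ideal.span {f})) [Etale w]
    (g : V ⟶ Spec (CommRingCat.of B))
    (h : IsPullback w g ((FEt.puncturedSpec (A ⧸ Ideal.span {f})).ι ≫ mk A f)
      (Spec.map (CommRingCat.ofHom (algebraMap A B)))) {x : A} (hx : x ∈ maximalIdeal A)
    (S : Type u) [CommRing S] [Algebra A S] (hf : algebraMap A S f = 0)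
    (hxS : IsUnit (algebraMap A S x)) : Algebra.Etale S (S ⊗[A] B) := by
  let β : A ⧸ Ideal.span {f} →+* S := Ideal.Quotient.lift (Ideal.span {f}) (algebraMap A S) (by
    intro a ha
    obtain ⟨c, rfl⟩ := Ideal.mem_span_singleton'.1 ha
    rw [map_mul, hf, mul_zero])
  have hβ : β.comp (Ideal.Quotient.mk (Ideal.span {f})) = algebraMap A S := by
    ext a
    rfl
  have hrange : Set.range (Spec.map (CommRingCat.ofHom β)) ⊆
      Set.range (FEt.puncturedSpec (A ⧸ Ideal.span {f})).ι := by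
    rw [Scheme.Opens.range_ι]
    rintro _ ⟨s, rfl⟩
    refine (mk_mem_iff f _).1 ?_
    have h0 : mk A f (Spec.map (CommRingCat.ofHom β) s) =
        PrimeSpectrum.comap (algebraMap A S) s := by
      rw [← Scheme.Hom.comp_apply, ← Spec.map_comp, ← CommRingCat.ofHom_comp, hβ]
      rfl
    rw [h0]
    refine (mem_puncturedSpec_iff _).2 fun h1 => ?_
    have h2 : x ∈ (PrimeSpectrum.comap (algebraMap A S) s).asIdeal := by
      rw [h1]
      exact hx
    exact s.isPrime.ne_top (Ideal.eq_top_of_isUnit_mem _ h2 hxS)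
  let t : Spec (CommRingCat.of S) ⟶ FEt.puncturedSpec (A ⧸ Ideal.span {f}) :=
    IsOpenImmersion.lift (FEt.puncturedSpec (A ⧸ Ideal.span {f})).ι
      (Spec.map (CommRingCat.ofHom β)) hrange
  have ht : t ≫ (FEt.puncturedSpec (A ⧸ Ideal.span {f})).ι ≫ mk A f =
      Spec.map (CommRingCat.ofHom (algebraMap A S)) := by
    rw [← Category.assoc, IsOpenImmersion.lift_fac, ← Spec.map_comp, ← CommRingCat.ofHom_comp, hβ]
  exact Pi1B.CIGlue.etale_tensor w g _ h t ht

/-- **Algebra to geometry.** -/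
theorem extends_of_algebra {A : Type u} [CommRing A] [IsNoetherianRing A] [IsLocalRing A] (f : A)
    [IsLocalRing (A ⧸ Ideal.span {f})]
    (V : FEt.Cat (FEt.puncturedSpec (A ⧸ Ideal.span {f}) : Scheme.{u}))
    {B : Type u} [CommRing B] [Algebra A B] (hreg : ∀ b : B, f • b = 0 → b = 0)
    (φ : B →+* Γ(V.left, ⊤))
    (hφ : ∀ a, φ (algebraMap A B a) =
      (V.hom ≫ (FEt.puncturedSpec (A ⧸ Ideal.span {f})).ι ≫ mk A f).appTop.hom
          ((Scheme.ΓSpecIso (CommRingCat.of A)).inv.hom a))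
    (hker : ∀ b : B, φ b = 0 → ∃ b', b = f • b')
    (hsurj : ∀ x ∈ maximalIdeal A, ∀ c : Γ(V.left, ⊤), ∃ (k : ℕ) (b : B),
      φ b = φ (algebraMap A B x) ^ k * c)
    (hfin : ∀ p : PrimeSpectrum A, f ∈ p.asIdeal → p.asIdeal ≠ maximalIdeal A →
      ∃ x ∈ maximalIdeal A, x ∉ p.asIdeal ∧
        Module.Finite (Localization.Away x) (Localization.Away x ⊗[A] B)) :
    Extends A f (punct A f) V := by
  have hw1 : IsFinite V.hom := V.prop.1
  have hw2 : Etale V.hom := V.prop.2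
  let y : Spec (CommRingCat.of B) ⟶ Spec (CommRingCat.of A) :=
    Spec.map (CommRingCat.ofHom (algebraMap A B))
  let g : V.left ⟶ Spec (CommRingCat.of B) := toSpec (CommRingCat.ofHom φ)
  have sq : IsPullback V.hom g ((FEt.puncturedSpec (A ⧸ Ideal.span {f})).ι ≫ mk A f) y :=
    Pi1B.CIGlue.isPullback_big A f V.left V.hom B φ hφ hker hsurj
  -- local opens
  have key : ∀ p : {p : PrimeSpectrum A // f ∈ p.asIdeal ∧ p.asIdeal ≠ maximalIdeal A},
      ∃ W : (Spec (CommRingCat.of A)).Opens, p.1 ∈ W ∧ IsFinite (y ∣_ W) ∧ Etale (y ∣_ W) := by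
    rintro ⟨p, hfp, hpm⟩
    obtain ⟨x, hxm, hxp, hfinx⟩ := hfin p hfp hpm
    obtain ⟨W, h1, -, h2, h3⟩ := exists_open_reg x B f hfinx hreg
      (fun S _ _ hfS hxS => etale_base (V := V.left) f V.hom g sq hxm S hfS hxS) p hfp hxp
    exact ⟨W, h1, h2, h3⟩
  choose Wp hp1 hp2 hp3 using key
  let W' : (Spec (CommRingCat.of A)).Opens := ⨆ p, Wp p
  have hW1 : IsFinite (y ∣_ W') := morphismRestrict_iSup y Wp hp2
  have hW2 : Etale (y ∣_ W') := morphismRestrict_iSup y Wp hp3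
  let VW : FEt.Cat (W' : Scheme.{u}) := MorphismProperty.Over.mk _ (y ∣_ W') ⟨hW1, hW2⟩
  let W : (FEt.puncturedSpec A : Scheme.{u}).Opens := (FEt.puncturedSpec A).ι ⁻¹ᵁ W'
  have hWmem : ∀ x : (FEt.puncturedSpec A : Scheme.{u}),
      f ∈ PrimeSpectrum.asIdeal ((FEt.puncturedSpec A).ι x) → x ∈ W := by
    intro x hx
    have h1 : (FEt.puncturedSpec A).ι x ∈ FEt.puncturedSpec A := x.2
    exact TopologicalSpace.Opens.mem_iSup.2
      ⟨⟨(FEt.puncturedSpec A).ι x, hx, (mem_puncturedSpec_iff _).1 h1⟩, hp1 _⟩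
  have hrange : Set.range (punct A f) ⊆ Set.range W.ι := by
    rw [Scheme.Opens.range_ι]
    rintro _ ⟨z, rfl⟩
    refine hWmem _ ?_
    rw [← Scheme.Hom.comp_apply, punct_ι]
    change (Ideal.Quotient.mk (Ideal.span {f})) f ∈
      (PrimeSpectrum.asIdeal ((FEt.puncturedSpec (A ⧸ Ideal.span {f})).ι z))
    rw [Ideal.Quotient.eq_zero_iff_mem.2 (Ideal.mem_span_singleton_self f)]
    exact Ideal.zero_mem _
  let t : (FEt.puncturedSpec (A ⧸ Ideal.span {f}) : Scheme.{u}) ⟶ (W : Scheme.{u}) :=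
    IsOpenImmersion.lift W.ι (punct A f) hrange
  have ht : t ≫ W.ι = punct A f := IsOpenImmersion.lift_fac _ _ _
  let r : (W : Scheme.{u}) ⟶ (W' : Scheme.{u}) := (FEt.puncturedSpec A).ι ∣_ W'
  have hr : r ≫ W'.ι = W.ι ≫ (FEt.puncturedSpec A).ι := morphismRestrict_ι _ _
  have hj : (t ≫ r) ≫ W'.ι = (FEt.puncturedSpec (A ⧸ Ideal.span {f})).ι ≫ mk A f := by
    rw [Category.assoc, hr, ← Category.assoc, ht, punct_ι]
  have sqW := (isPullback_morphismRestrict y W').flip
  let g' : V.left ⟶ (y ⁻¹ᵁ W' : Scheme.{u}) := sqW.lift g (V.hom ≫ t ≫ r) (by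
    rw [Category.assoc, hj]
    exact sq.w.symm)
  have hg1 : g' ≫ (y ⁻¹ᵁ W').ι = g := sqW.lift_fst _ _ _
  have hg2 : g' ≫ (y ∣_ W') = V.hom ≫ t ≫ r := sqW.lift_snd _ _ _
  have sq' : IsPullback g' V.hom (y ∣_ W') (t ≫ r) := by
    refine IsPullback.of_right (h₁₂ := (y ⁻¹ᵁ W').ι) (h₂₂ := W'.ι) (v₁₃ := y) ?_ hg2 sqW
    rw [hg1, hj]
    exact sq.flip
  obtain ⟨i2⟩ := nonempty_iso_of_isPullback (t ≫ r) VW V g' sq'.flip
  exact ⟨W, hWmem, (FEt.restrict r).obj VW, t, ht,
    ⟨(PurityQuot.restrictComp t r).symm.app VW ≪≫ i2⟩⟩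

/-- From the output `FormSys.Alg` of the algebraization to the extension to a neighbourhood. -/
theorem extends_of_alg {A : Type u} [CommRing A] [IsNoetherianRing A] [IsLocalRing A] (f : A)
    [IsLocalRing (A ⧸ Ideal.span {f})] {ι : Type*} (g : ι → A)
    (hg : ∀ i, g i ∈ maximalIdeal A) (hrad : maximalIdeal A ≤ (Ideal.span (Set.range g)).radical)
    (c : Ideal A) (hc : maximalIdeal A ≤ (c ⊔ Ideal.span {f}).radical)
    (V : FEt.Cat (FEt.puncturedSpec (A ⧸ Ideal.span {f}) : Scheme.{u}))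
    {M0 : Type*} [CommRing M0] [Algebra A M0] (e : M0 ≃+* Γ(V.left, ⊤))
    (he : ∀ a, e (algebraMap A M0 a) =
      (V.hom ≫ (FEt.puncturedSpec (A ⧸ Ideal.span {f})).ι ≫ mk A f).appTop.hom
          ((Scheme.ΓSpecIso (CommRingCat.of A)).inv.hom a))
    {B : Type u} [CommRing B] [Algebra A B] (φ : B →ₐ[A] M0) (h : FormSys.Alg f g c B M0 φ) :
    Extends A f (punct A f) V := by
  refine extends_of_algebra f V h.reg (e.toRingHom.comp φ.toRingHom) (fun a => ?_) (fun b hb => ?_)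
    (fun x hx s => ?_) (fun p hfp hpm => ?_)
  · rw [← he]
    change e (φ (algebraMap A B a)) = _
    rw [AlgHom.commutes]
  · refine h.ker b (e.injective ?_)
    rw [map_zero]
    exact hb
  · -- the ideal of `a` with `a • s` in the image
    obtain ⟨z, rfl⟩ := e.surjective s
    let I : Ideal A := (LinearMap.range φ.toLinearMap).comap (LinearMap.toSpanSingleton A M0 z)
    have hI : ∀ a, a ∈ I ↔ ∃ b, φ b = a • z := fun a => Iff.rfl
    have h1 : Ideal.span (Set.range g) ≤ I.radical := by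
      rw [Ideal.span_le]
      rintro _ ⟨i, rfl⟩
      obtain ⟨k, b, hb⟩ := h.lift i z
      exact ⟨k, (hI _).2 ⟨b, hb⟩⟩
    have h2 : x ∈ I.radical := by
      have := Ideal.radical_mono h1 (hrad hx)
      rwa [Ideal.radical_idem] at this
    obtain ⟨k, hk⟩ := h2
    obtain ⟨b, hb⟩ := (hI _).1 hk
    refine ⟨k, b, ?_⟩
    change e (φ b) = e (φ (algebraMap A B x)) ^ k * e z
    rw [hb, AlgHom.commutes, ← map_pow, ← map_mul, ← map_pow, ← Algebra.smul_def]
  · have hp : p.asIdeal.IsPrime := p.isPrime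
    obtain ⟨a, ha, hap⟩ : ∃ a ∈ c, a ∉ p.asIdeal := by
      by_contra hcon
      push Not at hcon
      apply hpm
      refine le_antisymm (le_maximalIdeal hp.ne_top) (hc.trans ?_)
      rw [hp.radical_le_iff, sup_le_iff, Ideal.span_singleton_le_iff_mem]
      exact ⟨hcon, hfp⟩
    obtain ⟨i, hi⟩ : ∃ i, g i ∉ p.asIdeal := by
      by_contra hcon
      push Not at hcon
      apply hpm
      refine le_antisymm (le_maximalIdeal hp.ne_top) (hrad.trans ?_)
      rw [hp.radical_le_iff, Ideal.span_le]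
      rintro _ ⟨i, rfl⟩
      exact hcon i
    obtain ⟨r, b, hb⟩ := h.fin a ha i
    exact ⟨a * g i, Ideal.mul_mem_left _ _ (hg i), fun hmem => (hp.mem_or_mem hmem).elim hap hi,
      finite_away _ B b hb⟩

end Groth.Agent.Pi1C.FormCover
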