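import Groth.Agent.Pi1B.CIGlue
import Groth.Agent.FlatA.LocalCriterion

/-!
# Étaleness along `V(f)` from étaleness modulo all powers of `f`
-/

set_option autoImplicit false
universe u

open AlgebraicGeometry CategoryTheory Limits TensorProduct

namespace Groth.Agent.Pi1C.FormEt

/-- `R/J ⊗ T` flat over `R/J` for `J = (f^n)` all `n` implies flatness. -/
theorem flat_of_quotients {R T : Type*} [CommRing R] [IsLocalRing R] [IsNoetherianRing R]
    [AddCommGroup T] [Module R T] [Module.Finite R T] (f : R) (hf : f ∈ IsLocalRing.maximalIdeal R)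
    (h : ∀ n : ℕ, Module.Flat (R ⧸ Ideal.span {f ^ (n + 1)})
      ((R ⧸ Ideal.span {f ^ (n + 1)}) ⊗[R] T)) : Module.Flat R T := by
  refine FlatA.LocalCriterion.flat_of_forall_flat_quotient_pow (B := R) (Ideal.span {f}) ?_ ?_
  · rw [IsLocalRing.jacobson_eq_maximalIdeal ⊥ bot_ne_top, Algebra.algebraMap_self, Ideal.map_id,
      Ideal.span_singleton_le_iff_mem]
    exact hf
  · intro n hn
    obtain ⟨k, rfl⟩ : ∃ k, n = k + 1 := ⟨n - 1, by omega⟩
    have key : ∀ J : Ideal R, Ideal.span {f ^ (k + 1)} = J → Module.Flat (R ⧸ J) ((R ⧸ J) ⊗[R] T) := by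
      rintro J rfl
      exact h k
    exact key _ (Ideal.span_singleton_pow f (k + 1)).symm

attribute [local instance] Algebra.TensorProduct.rightAlgebra in
/-- Étaleness modulo all powers of `f`. -/
theorem etale_of_quotients {R T : Type*} [CommRing R] [IsLocalRing R] [IsNoetherianRing R] [CommRing T]
    [Algebra R T] [Module.Finite R T] (f : R) (hf : f ∈ IsLocalRing.maximalIdeal R)
    (h : ∀ n : ℕ, Algebra.Etale (R ⧸ Ideal.span {f ^ (n + 1)})
      ((R ⧸ Ideal.span {f ^ (n + 1)}) ⊗[R] T)) : Algebra.Etale R T := by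
  have hflat : Module.Flat R T := flat_of_quotients f hf fun n => Algebra.Smooth.flat _ _
  have hjac : f ∈ (⊥ : Ideal R).jacobson := by
    rw [IsLocalRing.jacobson_eq_maximalIdeal ⊥ bot_ne_top]
    exact hf
  have h0 : ∀ J : Ideal R, Ideal.span {f ^ (0 + 1)} = J → Algebra.Etale (R ⧸ J) ((R ⧸ J) ⊗[R] T) := by
    rintro J rfl
    exact h 0
  have h1 := h0 (Ideal.span {f}) (by rw [zero_add, pow_one])
  have hunr : Algebra.FormallyUnramified R T := by
    refine ⟨?_⟩
    have hfin : Module.Finite R (Ω[T⁄R]) := Module.Finite.trans T _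
    have e := KaehlerDifferential.tensorKaehlerEquivBase R (R ⧸ Ideal.span {f}) T ((R ⧸ Ideal.span {f}) ⊗[R] T)
    have h1 : Subsingleton ((R ⧸ Ideal.span {f}) ⊗[R] (Ω[T⁄R])) := e.subsingleton
    have h3 : Subsingleton (QuotSMulTop f (Ω[T⁄R])) :=
      (QuotSMulTop.equivQuotTensor f (Ω[T⁄R])).subsingleton
    rw [Submodule.Quotient.subsingleton_iff] at h3
    have h4 := Submodule.eq_bot_of_le_smul_of_le_jacobson_bot (Ideal.span {f}) (⊤ : Submodule R (Ω[T⁄R]))
      hfin.fg_top (by
        rw [Submodule.ideal_span_singleton_smul, h3]) ((Ideal.span_singleton_le_iff_mem _).2 hjac)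
    exact (Submodule.subsingleton_iff R).1 (subsingleton_of_bot_eq_top h4.symm)
  have := Algebra.FinitePresentation.of_finiteType.1 (inferInstance : Algebra.FiniteType R T)
  exact Algebra.Etale.of_formallyUnramified_of_flat

/-- If `L` is finite over `A`, `f ∈ p` and `L ⊗ A_p / f ^ n` is étale over `A_p / f ^ n` for all `n`,
then `L` is étale over `A` at all primes above `p`. -/
theorem isEtaleAt_of_quotients {A L : Type*} [CommRing A] [IsNoetherianRing A] [CommRing L] [Algebra A L]
    [Module.Finite A L] (f : A) (p : Ideal A) [p.IsPrime] (hf : f ∈ p)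
    (h : ∀ n : ℕ, Algebra.Etale
      (Localization.AtPrime p ⧸ Ideal.span {algebraMap A (Localization.AtPrime p) f ^ (n + 1)})
      ((Localization.AtPrime p ⧸ Ideal.span {algebraMap A (Localization.AtPrime p) f ^ (n + 1)}) ⊗[A] L))
    (q : Ideal L) [q.IsPrime] [q.LiesOver p] : Algebra.IsEtaleAt A q := by
  let Rp := Localization.AtPrime p
  let Sp := Localization (Algebra.algebraMapSubmonoid L p.primeCompl)
  let Sq := Localization.AtPrime q
  let := Localization.AtPrime.algebraOfLiesOver p q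
  let g : Sp →ₐ[L] Sq := IsLocalization.liftAlgHom (M := Algebra.algebraMapSubmonoid L p.primeCompl)
        (f := Algebra.ofId _ _) (by
      rintro ⟨_, x, hx, rfl⟩
      simpa using! IsLocalization.map_units (M := q.primeCompl) Sq ⟨algebraMap _ _ x,
        by simp_all [q.over_def p]⟩)
  algebraize [g.toRingHom]
  have : IsScalarTower A Sp Sq := .to₁₃₄ _ L _ _
  have : IsScalarTower Rp Sp Sq := .of_algebraMap_eq' <| by
    apply IsLocalization.ringHom_ext p.primeCompl
    simp only [RingHom.comp_assoc, ← IsScalarTower.algebraMap_eq]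
  have : IsLocalization (Algebra.algebraMapSubmonoid Sp q.primeCompl) Sq :=
    .isLocalization_of_submonoid_le _ _ (Algebra.algebraMapSubmonoid L p.primeCompl) _
    (by rintro _ ⟨x, hx, rfl⟩; simp_all [q.over_def p])
  have hpo : Algebra.IsPushout A Rp L Sp :=
      .symm <| Algebra.isPushout_of_isLocalization p.primeCompl _ _ _
  let e : (Rp ⊗[A] L) ≃ₐ[Rp] Sp := Algebra.IsPushout.equiv A Rp L Sp
  have hfin : Module.Finite Rp Sp := Module.Finite.equiv e.toLinearEquiv
  have het : Algebra.Etale Rp Sp := by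
    refine etale_of_quotients (algebraMap A Rp f) ?_ fun n => ?_
    · exact (IsLocalization.AtPrime.to_map_mem_maximal_iff Rp p f).2 hf
    · let e1 := Algebra.TensorProduct.congr (AlgEquiv.refl (R := Rp ⧸ Ideal.span {algebraMap A Rp f ^ (n + 1)})
        (A₁ := Rp ⧸ Ideal.span {algebraMap A Rp f ^ (n + 1)})) e
      let e2 := Algebra.TensorProduct.cancelBaseChange A Rp (Rp ⧸ Ideal.span {algebraMap A Rp f ^ (n + 1)})
        (Rp ⧸ Ideal.span {algebraMap A Rp f ^ (n + 1)}) L
      have e3 : ((Rp ⧸ Ideal.span {algebraMap A Rp f ^ (n + 1)}) ⊗[A] L) ≃ₐ[Rp ⧸ Ideal.span {algebraMap A Rp f ^ (n + 1)}]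
        ((Rp ⧸ Ideal.span {algebraMap A Rp f ^ (n + 1)}) ⊗[Rp] Sp) := e2.symm.trans e1
      have := h n
      exact Algebra.Etale.of_equiv (A := (Rp ⧸ Ideal.span {algebraMap A Rp f ^ (n + 1)}) ⊗[A] L) e3
  have h1 : Algebra.FormallyEtale Sp Sq := .of_isLocalization (Algebra.algebraMapSubmonoid Sp q.primeCompl)
  have h2 : Algebra.FormallyEtale A Rp := .of_isLocalization p.primeCompl
  have h3 : Algebra.FormallyEtale A Sp := Algebra.FormallyEtale.comp A Rp Sp
  exact Algebra.FormallyEtale.comp A Sp Sq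

end Groth.Agent.Pi1C.FormEt
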