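import Groth.Agent.Pi1C.FormKill
import Groth.Agent.Pi1C604.ArtinLC

set_option autoImplicit false

/-!
# Finite generation of `f^c H¹` of a locally projective module

`A` Noetherian, `m` maximal, `f` a nonzerodivisor; `f^n0 𝔠` kills `H²_m(A)`, `H³_m(A)` with
`rad (𝔠 + (f)) = m`. If `C` is locally `A/f^(c+1)`, `c = 2 n0`, and `M` is locally a direct summand of a
power of `C`, then `f^c H¹(C(M))` is Noetherian.
-/

universe u

namespace Groth.Agent.Pi1C.FormR

open Groth.Agent.FormalA.CechSub Groth.Agent.FormalA.CechLC Groth.Agent.FormalA.LocSub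
open Groth.Agent.Localalg.LCAbs
open FormSys FormCech FormKill

section LC

variable {A : Type u} [CommRing A] [IsNoetherianRing A] {m : Ideal A} {ι : Type*} [Finite ι]
  (g : ι → A) (hg : m.radical = (Ideal.span (Set.range g)).radical)
  (N : Type u) [AddCommGroup N] [Module A N] (a : A)

include hg

theorem kills0_of_LocCoh (h : ∀ x : LocCoh.H m 1 N, a • x = 0) : Kills0 g a N := by
  obtain ⟨e⟩ := H0'_equiv g (lc m) hg (ModuleCat.of A N)
  refine Kills0.of_H a fun x => ?_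
  apply e.injective
  rw [map_smul, map_zero]
  exact h (e x)

theorem kills1_of_LocCoh (h : ∀ x : LocCoh.H m 2 N, a • x = 0) : Kills1 g a N := by
  obtain ⟨e⟩ := H1_equiv g (lc m) hg (ModuleCat.of A N)
  refine Kills1.of_H a fun x => ?_
  apply e.injective
  rw [map_smul, map_zero]
  exact h (e x)

theorem kills2_of_LocCoh (h : ∀ x : LocCoh.H m 3 N, a • x = 0) : Kills2 g a N := by
  obtain ⟨e⟩ := H2_equiv g (lc m) hg (ModuleCat.of A N)
  refine Kills2.of_H a fun x => ?_
  apply e.injective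
  rw [map_smul, map_zero]
  exact h (e x)

end LC

theorem kills1_zero {A : Type*} [CommRing A] {ι : Type*} {g : ι → A} {N : Type*} [AddCommGroup N]
    [Module A N] {a : A} (h : ∀ x : N, a • x = 0) : Kills1 g a N := fun x _ =>
  ⟨0, by
    rw [map_zero]
    funext i j
    exact (smul_eq_zero_all a h _).symm⟩

/-- Ideals of the form `{e | f^c e ∈ J}`. -/
def colon {A : Type*} [CommRing A] (J : Ideal A) (b : A) : Ideal A :=
  Submodule.comap (LinearMap.lsmul A A b) J

theorem mem_colon {A : Type*} [CommRing A] {J : Ideal A} {b a : A} : a ∈ colon J b ↔ b * a ∈ J :=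
  Iff.rfl

variable {A : Type u} [CommRing A] [IsNoetherianRing A] (m : Ideal A) [hm : m.IsMaximal]
  {ι : Type*} [Finite ι] (g : ι → A) (hg : m.radical = (Ideal.span (Set.range g)).radical)

include hm hg in
/-- The main finiteness theorem. -/
theorem isNoetherian_range (f : A) (hreg : ∀ a : A, f * a = 0 → a = 0) (𝔠 : Ideal A)
    (h𝔠 : m ≤ (𝔠 ⊔ Ideal.span {f}).radical) (n0 : ℕ) (hk1 : ∀ a ∈ 𝔠, Kills1 g (f ^ n0 * a) A)
    (hk2 : ∀ a ∈ 𝔠, Kills2 g (f ^ n0 * a) A)
    (C : Type*) [AddCommGroup C] [Module A C] (φ : A →ₗ[A] C) (hs : LS g φ)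
    (hk : LK g φ (f ^ (2 * n0 + 1))) (hC : ∀ x : C, f ^ (2 * n0 + 1) • x = 0)
    (M : Type u) [AddCommGroup M] [Module A M]
    (hfac : ∀ i, ∃ (r k : ℕ) (Φ : Fin r → M →ₗ[A] C) (Ψ : Fin r → C →ₗ[A] M),
      ∀ x, g i ^ k • x = ∑ j, Ψ j (Φ j x))
    (N : Submodule A M) (hN : N.FG) (hNl : ∀ i x, ∃ k : ℕ, g i ^ k • x ∈ N) :
    IsNoetherian A (LinearMap.range (LinearMap.lsmul A (H1 (PS g) M) (f ^ (2 * n0)))) := by
  have hregk : ∀ (k : ℕ) (x : A), f ^ k • x = 0 → x = 0 := pow_reg hreg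
  -- the ideal `𝔢`
  have he1 : ∀ a ∈ 𝔠, ∀ b ∈ 𝔠, a * b ∈ colon (kills1 g C) (f ^ (2 * n0)) := by
    intro a ha b hb
    have h1 : Kills1 g ((f ^ n0 * a) * (f ^ n0 * b)) C :=
      kills1_of_quot (φ := φ) (e := f ^ (2 * n0 + 1)) hs hk (fun x => by rw [map_smul, hC])
        (hregk _) (hk1 a ha) (hk2 b hb)
    rw [mem_colon, mem_kills1]
    convert h1 using 1
    ring
  have he2 : f ∈ colon (kills1 g C) (f ^ (2 * n0)) := by
    rw [mem_colon, mem_kills1, ← pow_succ]
    exact kills1_zero hC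
  have he3 : m ≤ (colon (kills1 g C) (f ^ (2 * n0))).radical := by
    refine h𝔠.trans ?_
    rw [← Ideal.radical_idem (colon (kills1 g C) (f ^ (2 * n0)))]
    refine Ideal.radical_mono (sup_le ?_ ?_)
    · intro a ha
      exact ⟨2, by rw [sq]; exact he1 a ha a ha⟩
    · rw [Ideal.span_singleton_le_iff_mem]
      exact Ideal.le_radical he2
  obtain ⟨K1, hK1⟩ := Ideal.exists_pow_le_of_le_radical_of_fg he3 (IsNoetherian.noetherian m)
  -- transfer to `M`
  have hM1 : ∀ i, ∃ k : ℕ, ∀ e ∈ m ^ K1, e * g i ^ k ∈ colon (kills1 g M) (f ^ (2 * n0)) := by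
    intro i
    obtain ⟨r, k, Φ, Ψ, h⟩ := hfac i
    refine ⟨k, fun e he => ?_⟩
    rw [mem_colon, mem_kills1, ← mul_assoc]
    exact kills1_of_factor Φ Ψ h (hK1 he)
  choose k hkM using hM1
  have hM2 : m ≤ (Ideal.span (Set.range fun i => g i ^ k i)).radical := by
    refine (Ideal.le_radical.trans hg.le).trans ?_
    rw [← Ideal.radical_idem (Ideal.span (Set.range fun i => g i ^ k i))]
    refine Ideal.radical_mono ?_
    rw [Ideal.span_le]
    rintro _ ⟨i, rfl⟩
    exact ⟨k i, Ideal.subset_span ⟨i, rfl⟩⟩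
  obtain ⟨K2, hK2⟩ := Ideal.exists_pow_le_of_le_radical_of_fg hM2 (IsNoetherian.noetherian m)
  have hM3 : m ^ (K1 + K2) ≤ colon (kills1 g M) (f ^ (2 * n0)) := by
    rw [pow_add]
    refine (Ideal.mul_mono_right hK2).trans ?_
    rw [Ideal.mul_le]
    intro e he z hz
    refine Submodule.span_induction ?_ ?_ ?_ ?_ hz
    · rintro _ ⟨i, rfl⟩
      exact hkM i e he
    · rw [mul_zero]
      exact Ideal.zero_mem _
    · intro x y _ _ hx hy
      rw [mul_add]
      exact Ideal.add_mem _ hx hy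
    · intro a x _ hx
      rw [smul_eq_mul, mul_left_comm]
      exact Ideal.mul_mem_left _ _ hx
  -- Artinian
  have hfin : Module.Finite A N := Module.Finite.iff_fg.2 hN
  have hA : IsArtinian A (H1 (PS g) M) := by
    refine isArtinian_H1 (φ := N.subtype) ?_ ?_
      (Groth.Agent.Pi1C604.ArtinLC.isArtinian_H1 (m := m) g hg N)
    · intro i x
      obtain ⟨k, hk⟩ := hNl i x
      exact ⟨k, ⟨_, hk⟩, rfl⟩
    · intro i x hx
      exact ⟨0, 0, by rw [Subtype.ext (show x.1 = (0 : N).1 from hx), smul_zero, smul_zero]⟩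
  exact FormKill.isNoetherian_range m (K1 + K2) _ hA fun a ha => hM3 ha

end Groth.Agent.Pi1C.FormR
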