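import Groth.Agent.Pi1C.FormO
import Groth.Agent.Pi1C.FormR

set_option autoImplicit false

/-!
# Algebraization of a formal finite etale algebra on a punctured spectrum

`algebraize`: for `TraceSys f g C M πC πM ψ T` over a complete Noetherian ring the limit `B = lim M n`
satisfies `Alg f g 𝔠 B (M 0)`.
-/

universe u

namespace Groth.Agent.Pi1C.FormFin

open Groth.Agent.FormalA.CechSub Groth.Agent.FormalA.CechLC Groth.Agent.FormalA.LocSub
open Groth.Agent.FormalA.CompleteCx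
open FormLim FormSys FormCech FormKill FormR FormO

section LimAlg

variable {A : Type*} [CommRing A] {M : ℕ → Type*} [∀ n, CommRing (M n)] [∀ n, Algebra A (M n)]

/-- The limit algebra. -/
def limAlg (π : ∀ n, M (n + 1) →ₐ[A] M n) : Subalgebra A (∀ n, M n) where
  carrier := {x | ∀ n, π n (x (n + 1)) = x n}
  mul_mem' {x y} hx hy n := by
    change π n (x (n + 1) * y (n + 1)) = x n * y n
    rw [map_mul, hx n, hy n]
  add_mem' {x y} hx hy n := by
    change π n (x (n + 1) + y (n + 1)) = x n + y n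
    rw [map_add, hx n, hy n]
  algebraMap_mem' a n := (π n).commutes a

variable {π : ∀ n, M (n + 1) →ₐ[A] M n}

/-- the comparison with the limit of modules -/
def toLim (π : ∀ n, M (n + 1) →ₐ[A] M n) :
    limAlg π →ₗ[A] Lim (fun n => (π n).toLinearMap) where
  toFun x := ⟨x.1, x.2⟩
  map_add' _ _ := rfl
  map_smul' _ _ := rfl

/-- the inverse comparison -/
def ofLim (x : Lim (fun n => (π n).toLinearMap)) : limAlg π := ⟨x.1, x.2⟩

theorem ext_limAlg {x y : limAlg π} (h : ∀ n, x.1 n = y.1 n) : x = y := Subtype.ext (funext h)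

/-- The projection. -/
def ev (π : ∀ n, M (n + 1) →ₐ[A] M n) (n : ℕ) : limAlg π →ₐ[A] M n :=
  (Pi.evalAlgHom A M n).comp (limAlg π).val

end LimAlg

section Trace

variable {A : Type*} [CommRing A] {ι : Type*} {f : A} {g : ι → A}
  {C M : ℕ → Type*} [∀ n, CommRing (C n)] [∀ n, Algebra A (C n)] [∀ n, CommRing (M n)]
  [∀ n, Algebra A (M n)] {πC : ∀ n, C (n + 1) →ₐ[A] C n} {πM : ∀ n, M (n + 1) →ₐ[A] M n}
  {ψ : ∀ n, C n →ₐ[A] M n} {T : ∀ n, M n →ₗ[A] C n} (h : TraceSys f g C M πC πM ψ T)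

include h

theorem LS_alg (n : ℕ) : LS g (Algebra.linearMap A (C n)) := fun i x => by
  obtain ⟨k, a, ha⟩ := h.algC_surj n i x
  exact ⟨k, a, ha.symm⟩

theorem LK_alg (n : ℕ) : LK g (Algebra.linearMap A (C n)) (f ^ (n + 1)) := fun i x hx => by
  obtain ⟨k, b, hb⟩ := h.algC_ker n i x hx
  exact ⟨k, b, hb⟩

omit h in
theorem exists_common {X : Type*} [AddCommGroup X] [Module A X] (P : Submodule A X) (e : A)
    {κ : Type*} [Finite κ] (x : κ → X) (hx : ∀ j, ∃ k : ℕ, e ^ k • x j ∈ P) :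
    ∃ k : ℕ, ∀ j, e ^ k • x j ∈ P := by
  cases nonempty_fintype κ
  choose k hk using hx
  refine ⟨∑ j, k j, fun j => ?_⟩
  obtain ⟨l, hl⟩ := Nat.exists_eq_add_of_le
    (Finset.single_le_sum (f := k) (fun _ _ => Nat.zero_le _) (Finset.mem_univ j))
  rw [hl, pow_add, mul_comm, mul_smul]
  exact P.smul_mem _ (hk j)

/-- `M n` is locally generated by finitely many elements. -/
theorem exists_fg [Finite ι] (n : ℕ) :
    ∃ N : Submodule A (M n), N.FG ∧ ∀ i x, ∃ k : ℕ, g i ^ k • x ∈ N := by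
  choose r k a b hab using h.dual n
  refine ⟨Submodule.span A (Set.range fun s : Σ i, Fin (r i) => b s.1 s.2),
    Submodule.fg_span (Set.finite_range _), fun i x => ?_⟩
  obtain ⟨l, hl⟩ := exists_common (LinearMap.range (Algebra.linearMap A (C n))) (g i)
    (fun j => T n (a i j * x)) fun j => by
      obtain ⟨l, c, hc⟩ := h.algC_surj n i (T n (a i j * x))
      exact ⟨l, c, hc.symm⟩
  refine ⟨l + k i, ?_⟩
  rw [pow_add, mul_smul, hab, Finset.smul_sum]
  refine Submodule.sum_mem _ fun j _ => ?_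
  obtain ⟨c, hc⟩ := hl j
  have e1 : g i ^ l • (ψ n (T n (a i j * x)) * b i j) = c • b i j := by
    rw [← smul_mul_assoc, ← map_smul, ← hc, Algebra.smul_def]
    congr 1
    exact (ψ n).commutes c
  rw [e1]
  exact Submodule.smul_mem _ _ (Submodule.subset_span ⟨⟨i, j⟩, rfl⟩)

theorem factor (n : ℕ) (i : ι) : ∃ (r k : ℕ) (Φ : Fin r → M n →ₗ[A] C n) (Ψ : Fin r → C n →ₗ[A] M n),
    ∀ x, g i ^ k • x = ∑ j, Ψ j (Φ j x) := by
  obtain ⟨r, k, a, b, hab⟩ := h.dual n i
  exact ⟨r, k, fun j => T n ∘ₗ LinearMap.mulLeft A (a j),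
    fun j => LinearMap.mulRight A (b j) ∘ₗ (ψ n).toLinearMap, hab⟩

/-- The trace on the limits. -/
def TL : limAlg πM →ₗ[A] Lim (fun n => (πC n).toLinearMap) where
  toFun x := ⟨fun n => T n (x.1 n), fun n => (h.Tπ n (x.1 (n + 1))).trans
    (congrArg (T n) (x.2 n))⟩
  map_add' _ _ := Subtype.ext (funext fun n => map_add (T n) _ _)
  map_smul' _ _ := Subtype.ext (funext fun n => map_smul (T n) _ _)

omit h in
/-- `A → lim C n` -/
def αL (πC : ∀ n, C (n + 1) →ₐ[A] C n) : A →ₗ[A] Lim (fun n => (πC n).toLinearMap) where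
  toFun a := ⟨fun n => algebraMap A (C n) a, fun n => (πC n).commutes a⟩
  map_add' x y := Subtype.ext (funext fun n => map_add (algebraMap A (C n)) _ _)
  map_smul' a x := Subtype.ext (funext fun n => by
    change algebraMap A (C n) (a * x) = a • algebraMap A (C n) x
    rw [map_mul, Algebra.smul_def])

/-- Nondegeneracy of the trace on the limit. -/
theorem eq_zero_of_trace {κ : Type*} (a : κ → limAlg πM) (x : limAlg πM)
    (ha : ∀ y : M 0, (∀ s, T 0 ((a s).1 0 * y) = 0) → y = 0)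
    (hx : ∀ s, TL h (a s * x) = 0) : x = 0 := by
  have key : ∀ k : ℕ, ∃ y : limAlg πM, x = f ^ k • y ∧ ∀ s, TL h (a s * y) = 0 := by
    intro k
    induction k with
    | zero => exact ⟨x, by rw [pow_zero, one_smul], hx⟩
    | succ k ih =>
      obtain ⟨y, hy, hs⟩ := ih
      have h0 : y.1 0 = 0 := ha _ fun s => congr_fun (congrArg Subtype.val (hs s)) 0
      obtain ⟨z, hz⟩ := exists_of_proj_eq_zero h.sysM 0 (toLim πM y) h0
      have hyz : y = f • ofLim z := by
        refine ext_limAlg fun n => ?_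
        have := congrArg (proj _ n) hz
        rw [zero_add, pow_one] at this
        exact this
      refine ⟨ofLim z, by rw [hy, hyz, smul_smul, pow_succ], fun s => ?_⟩
      refine reg_lim h.sysC _ ?_
      rw [← map_smul, ← mul_smul_comm, ← hyz]
      exact hs s
  refine ext_limAlg fun n => ?_
  obtain ⟨y, hy, -⟩ := key (n + 1)
  rw [hy]
  exact h.sysM.tors n _

end Trace

variable {A : Type u} [CommRing A] [IsNoetherianRing A] (m : Ideal A) [hm : m.IsMaximal]
  {ι : Type*} [Finite ι] (g : ι → A) (hg : m.radical = (Ideal.span (Set.range g)).radical)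
  (f : A) (hfm : f ∈ m) (hreg : ∀ a : A, f * a = 0 → a = 0)

include hg hfm hreg in
omit hm [IsNoetherianRing A] [Finite ι] in
theorem ε_injective (a : A) (ha : ε (PS g) a = 0) : a = 0 := by
  have h1 : ∀ i, ∃ k : ℕ, g i ^ k * a = 0 := by
    intro i
    obtain ⟨_, ⟨k, rfl⟩, hk⟩ := (mkLinearMap_eq_zero_iff (S := PS g i) a).1 (congr_fun ha i)
    exact ⟨k, hk⟩
  choose k hk using h1
  have h2 : m ≤ (Ideal.span (Set.range fun i => g i ^ k i)).radical := by
    refine (Ideal.le_radical.trans hg.le).trans ?_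
    rw [← Ideal.radical_idem (Ideal.span (Set.range fun i => g i ^ k i))]
    refine Ideal.radical_mono ?_
    rw [Ideal.span_le]
    rintro _ ⟨i, rfl⟩
    exact ⟨k i, Ideal.subset_span ⟨i, rfl⟩⟩
  obtain ⟨n, hn⟩ := h2 hfm
  refine pow_reg (X := A) (f := f) hreg n _ ?_
  have h3 : Ideal.span (Set.range fun i => g i ^ k i) ≤
      LinearMap.ker (LinearMap.toSpanSingleton A A a) := by
    rw [Ideal.span_le]
    rintro _ ⟨i, rfl⟩
    exact hk i
  exact h3 hn

include hm hg hfm hreg in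
/-- Algebraization. -/
theorem algebraize_aux (hA : FC f A) (𝔠 : Ideal A)
    (h𝔠 : m ≤ (𝔠 ⊔ Ideal.span {f}).radical) (n0 : ℕ) (hk0 : ∀ a ∈ 𝔠, Kills0 g (f ^ n0 * a) A)
    (hk1 : ∀ a ∈ 𝔠, Kills1 g (f ^ n0 * a) A) (hk2 : ∀ a ∈ 𝔠, Kills2 g (f ^ n0 * a) A)
    {C M : ℕ → Type u} [∀ n, CommRing (C n)] [∀ n, Algebra A (C n)] [∀ n, CommRing (M n)]
    [∀ n, Algebra A (M n)] {πC : ∀ n, C (n + 1) →ₐ[A] C n} {πM : ∀ n, M (n + 1) →ₐ[A] M n}
    {ψ : ∀ n, C n →ₐ[A] M n} {T : ∀ n, M n →ₗ[A] C n} (h : TraceSys f g C M πC πM ψ T) :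
    Alg f g 𝔠 (limAlg πM) (M 0) (ev πM 0) := by
  obtain ⟨N, hN, hNl⟩ := exists_fg h (2 * n0)
  have hR := FormR.isNoetherian_range m g hg f hreg 𝔠 h𝔠 n0 hk1 hk2 (C (2 * n0))
    (Algebra.linearMap A (C (2 * n0))) (LS_alg h _) (LK_alg h _) (h.sysC.tors _) (M (2 * n0))
    (factor h _) N hN hNl
  have hG : ∀ n i (x : M n), ∃ (k : ℕ) (b : limAlg πM), b.1 n = g i ^ k • x := fun n i x => by
    obtain ⟨k, b, hb⟩ := exists_lift_loc h.sysM (2 * n0) hR n i x
    exact ⟨k, ofLim b, hb⟩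
  refine ⟨fun i x => ?_, fun b hb => ?_, fun b hb => ?_, ?_⟩
  · exact hG 0 i x
  · obtain ⟨z, hz⟩ := exists_of_proj_eq_zero h.sysM 0 (toLim πM b) hb
    refine ⟨ofLim z, ext_limAlg fun n => ?_⟩
    have := congrArg (proj _ n) hz
    rw [zero_add, pow_one] at this
    exact this
  · have := reg_lim h.sysM (toLim πM b) (by rw [← map_smul, hb, map_zero])
    exact ext_limAlg fun n => congrArg (proj _ n) this
  · -- the dual basis at level 0
    choose r k a b hab using h.dual 0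
    choose l a' ha' using fun (s : Σ i, Fin (r i)) => hG 0 s.1 (a s.1 s.2)
    have hnd : ∀ y : M 0, (∀ s, T 0 ((a' s).1 0 * y) = 0) → y = 0 := by
      intro y hy
      refine (h.sysM.closed 0).inj _ ?_
      funext i
      rw [ε_apply]
      refine (mkLinearMap_eq_zero_iff (S := PS g i) y).2 ?_
      have h1 : ∀ j, ∃ l : ℕ, g i ^ l • T 0 (a i j * y) ∈ (⊥ : Submodule A (C 0)) := fun j =>
        ⟨l ⟨i, j⟩, by
          rw [Submodule.mem_bot, ← map_smul, ← smul_mul_assoc, ← ha' ⟨i, j⟩]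
          exact hy _⟩
      obtain ⟨L, hL⟩ := exists_common ⊥ (g i) (fun j => T 0 (a i j * y)) h1
      refine ⟨g i ^ (L + k i), ⟨_, rfl⟩, ?_⟩
      rw [pow_add, mul_smul, hab, Finset.smul_sum]
      refine Finset.sum_eq_zero fun j _ => ?_
      rw [← smul_mul_assoc, ← map_smul, (Submodule.mem_bot A).1 (hL j), map_zero, zero_mul]
    let Θ : limAlg πM →ₗ[A] ((Σ i, Fin (r i)) → Lim (fun n => (πC n).toLinearMap)) :=
      LinearMap.pi fun s => TL h ∘ₗ LinearMap.mulLeft A (a' s)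
    let Γ : ((Σ i, Fin (r i)) → A) →ₗ[A] ((Σ i, Fin (r i)) → Lim (fun n => (πC n).toLinearMap)) :=
      LinearMap.pi fun s => αL πC ∘ₗ LinearMap.proj s
    have hΘ : ∀ x, Θ x = 0 → x = 0 := fun x hx =>
      eq_zero_of_trace h a' x hnd fun s => congr_fun hx s
    let P : Submodule A (limAlg πM) := (LinearMap.range Γ).comap Θ
    have hΓN : IsNoetherian A (LinearMap.range Γ) :=
      isNoetherian_of_surjective (f := Γ.rangeRestrict) Γ.range_rangeRestrict
    have hPN : IsNoetherian A P := by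
      refine isNoetherian_of_injective (LinearMap.codRestrict (LinearMap.range Γ)
        (Θ ∘ₗ P.subtype) fun x => x.2) ?_
      rw [injective_iff_map_eq_zero]
      intro x hx
      exact Subtype.ext (hΘ _ (congrArg Subtype.val hx))
    have hPfg : P.FG := Module.Finite.iff_fg.1 inferInstance
    obtain ⟨R, w, hw⟩ := Submodule.fg_iff_exists_fin_generating_family.1 hPfg
    intro t ht i
    refine ⟨R, w, fun x => ?_⟩
    rw [hw]
    have h2 : ∀ s, ∃ k : ℕ, (t * g i) ^ k • (Θ x s) ∈ LinearMap.range (αL πC) := by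
      intro s
      obtain ⟨k, c, hc⟩ := exists_alg h.sysC (fun n => Algebra.linearMap A (C n))
        (fun n c => (πC n).commutes c) (LS_alg h) (LK_alg h) hA hreg
        (ε_injective m g hg f hfm hreg) n0 t t (hk0 t ht) (hk1 t ht) i (Θ x s)
      refine ⟨k + 2, (t ^ k * g i ^ 2) * c, ext_proj _ fun n => ?_⟩
      rw [map_smul]
      change algebraMap A (C n) ((t ^ k * g i ^ 2) * c) = _
      have hc' : algebraMap A (C n) c = (t * t * g i ^ k) • (Θ x s).1 n := hc n
      rw [map_mul, hc', ← Algebra.smul_def, smul_smul]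
      congr 1
      ring
    obtain ⟨K, hK⟩ := exists_common (LinearMap.range (αL πC)) (t * g i) (fun s => Θ x s) h2
    refine ⟨K, ?_⟩
    choose c hc using hK
    exact ⟨c, funext fun s => (hc s).trans (by rw [map_smul]; rfl)⟩

include hm hg hfm hreg in
/-- Algebraization, with the local cohomology hypotheses. -/
theorem algebraize [IsAdicComplete (Ideal.span {f}) A] (𝔠 : Ideal A)
    (h𝔠 : m ≤ (𝔠 ⊔ Ideal.span {f}).radical) (n0 : ℕ)
    (hk : ∀ i ≤ 3, ∀ a ∈ 𝔠, ∀ x : LocCoh.H m i A, (f ^ n0 * a) • x = 0)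
    {C M : ℕ → Type u} [∀ n, CommRing (C n)] [∀ n, Algebra A (C n)] [∀ n, CommRing (M n)]
    [∀ n, Algebra A (M n)] {πC : ∀ n, C (n + 1) →ₐ[A] C n} {πM : ∀ n, M (n + 1) →ₐ[A] M n}
    {ψ : ∀ n, C n →ₐ[A] M n} {T : ∀ n, M n →ₗ[A] C n} (h : TraceSys f g C M πC πM ψ T) :
    Alg f g 𝔠 (limAlg πM) (M 0) (ev πM 0) :=
  algebraize_aux m g hg f hfm hreg FC.of_isAdicComplete 𝔠 h𝔠 n0
    (fun a ha => kills0_of_LocCoh g hg A _ (hk 1 (by norm_num) a ha))
    (fun a ha => kills1_of_LocCoh g hg A _ (hk 2 (by norm_num) a ha))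
    (fun a ha => kills2_of_LocCoh g hg A _ (hk 3 (by norm_num) a ha)) h

end Groth.Agent.Pi1C.FormFin
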