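import Groth.Agent.Pi1C.NbhdNil
import Groth.Agent.Pi1C.AnnihInput
import Groth.Agent.Localalg.LCRows
import Groth.Agent.FormalA.AdicFin

/-!
# Reduction of Stacks 0EK9 to the case of a nonzerodivisor `f`
-/

set_option autoImplicit false
universe u
attribute [local instance] HasDerivedCategory.standard

open AlgebraicGeometry CategoryTheory CategoryTheory.Limits IsLocalRing

namespace Groth.Agent.Pi1C.FormFinal

open NbhdExt

/-- The statement for a nonzerodivisor `f`, in terms of annihilators of local cohomology. -/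
def Core : Prop :=
  ∀ (A : Type u) [CommRing A] [IsNoetherianRing A] [IsLocalRing A] (f : A)
    (_ : f ∈ maximalIdeal A) [IsAdicComplete (Ideal.span {f}) A] (_ : ∀ a : A, f * a = 0 → a = 0)
    (c : Ideal A) (n : ℕ) (_ : c ≤ maximalIdeal A)
    (_ : (c ⊔ Ideal.span {f}).radical = maximalIdeal A)
    (_ : ∀ i ≤ 3, ∀ a ∈ c, ∀ x : LocCoh.H (maximalIdeal A) i A, (f ^ n * a) • x = 0), NbhdExt A f

/-- Killing torsion by Milnor squares. -/
def Milnor : Prop :=
  ∀ (A : Type u) [CommRing A] [IsNoetherianRing A] [IsLocalRing A] (f : A)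
    (_ : f ∈ maximalIdeal A) (T : Ideal A) [IsLocalRing (A ⧸ T)] (N : ℕ)
    (_ : ∀ t ∈ T, f ^ N * t = 0) (_ : T ⊓ Ideal.span {f ^ N} = ⊥)
    (_ : NbhdExt (A ⧸ T) (Ideal.Quotient.mk T f)), NbhdExt A f

/-- The `f`-power torsion. -/
def tors {A : Type u} [CommRing A] (f : A) : Ideal A where
  carrier := {t | ∃ n : ℕ, f ^ n * t = 0}
  add_mem' := by
    rintro a b ⟨n, hn⟩ ⟨m, hm⟩
    refine ⟨n + m, ?_⟩
    have : f ^ (n + m) * (a + b) = f ^ m * (f ^ n * a) + f ^ n * (f ^ m * b) := by ring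
    rw [this, hn, hm, mul_zero, mul_zero, add_zero]
  zero_mem' := ⟨0, by simp⟩
  smul_mem' := by
    rintro c a ⟨n, hn⟩
    refine ⟨n, ?_⟩
    have : f ^ n * (c • a) = c * (f ^ n * a) := by
      rw [smul_eq_mul]
      ring
    rw [this, hn, mul_zero]

theorem mem_tors {A : Type u} [CommRing A] {f t : A} : t ∈ tors f ↔ ∃ n : ℕ, f ^ n * t = 0 := Iff.rfl

theorem exists_bound {A : Type u} [CommRing A] [IsNoetherianRing A] (f : A) :
    ∃ N : ℕ, (∀ t ∈ tors f, f ^ N * t = 0) ∧ tors f ⊓ Ideal.span {f ^ N} = ⊥ := by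
  obtain ⟨N, hN⟩ : ∃ N : ℕ, ∀ t ∈ tors f, f ^ N * t = 0 := by
    obtain ⟨s, hs⟩ := (isNoetherian_def.1 (inferInstance : IsNoetherian A A)) (tors f)
    have h1 : ∀ t ∈ s, ∃ n : ℕ, f ^ n * t = 0 := fun t ht =>
      mem_tors.1 (hs ▸ Submodule.subset_span ht)
    choose! n hn using h1
    refine ⟨s.sup n, fun t ht => ?_⟩
    rw [← hs] at ht
    induction ht using Submodule.span_induction with
    | mem t ht =>
      obtain ⟨k, hk⟩ := Nat.exists_eq_add_of_le (Finset.le_sup (f := n) ht)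
      rw [hk, add_comm, pow_add, mul_assoc, hn t ht, mul_zero]
    | zero => rw [mul_zero]
    | add a b _ _ ha hb => rw [mul_add, ha, hb, add_zero]
    | smul a b _ hb => rw [smul_eq_mul, mul_left_comm, hb, mul_zero]
  refine ⟨N, hN, ?_⟩
  rw [eq_bot_iff]
  rintro t ⟨ht1, ht2⟩
  obtain ⟨a, rfl⟩ := Ideal.mem_span_singleton'.1 ht2
  obtain ⟨k, hk⟩ := mem_tors.1 ht1
  have ha : a ∈ tors f := mem_tors.2 ⟨k + N, by rw [pow_add, mul_assoc, mul_comm (f ^ N)]; exact hk⟩
  change a * f ^ N = 0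
  rw [mul_comm]
  exact hN a ha

theorem isAdicComplete_quotient {A : Type u} [CommRing A] [IsNoetherianRing A] (f : A)
    [IsAdicComplete (Ideal.span {f}) A] (T : Ideal A) :
    IsAdicComplete (Ideal.span {Ideal.Quotient.mk T f}) (A ⧸ T) := by
  have h1 : IsAdicComplete (Ideal.span {f}) (A ⧸ T) := FormalA.AdicFin.isAdicComplete_of_finite _
  have h2 : (Ideal.span {f}).map (algebraMap A (A ⧸ T)) = Ideal.span {Ideal.Quotient.mk T f} := by
    rw [Ideal.map_span, Set.image_singleton]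
    rfl
  rw [← h2]
  exact (IsAdicComplete.map_algebraMap_iff _ _).2 h1

/-- **Stacks 0EK9** from the core and the Milnor square. -/
theorem main (core : Core.{u}) (milnor : Milnor.{u}) (A : Type u) [CommRing A] [IsNoetherianRing A]
    [IsLocalRing A] (f : A) (hf : f ∈ IsLocalRing.maximalIdeal A)
    (hd : ∃ ω : Dual.D A, Dual.IsDualizing A ω) [IsAdicComplete (Ideal.span {f}) A]
    (hc : ((LocCoh.HasSk 2 (Localization.Away f) (Localization.Away f) ∧
        ∀ p : Ideal A, p ∈ minimalPrimes A → f ∉ p → (4 : WithBot ℕ∞) ≤ ringKrullDim (A ⧸ p)) ∨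
      (∀ p : Ideal A, ∀ _ : p.IsPrime, f ∉ p → (p ⊔ Ideal.span {f}).radical ≠ IsLocalRing.maximalIdeal A →
        (3 : WithBot ℕ∞) < (LocCoh.depth (Localization.AtPrime p) (Localization.AtPrime p) : WithBot ℕ∞) + ringKrullDim (A ⧸ p)))) :
    NbhdExt A f := by
  by_cases hnil : IsNilpotent f
  · exact nbhdExt_of_isNilpotent hnil
  obtain ⟨N, hN1, hN2⟩ := exists_bound f
  have hT : tors f ≠ ⊤ := by
    intro hT
    apply hnil
    have h1 : (1 : A) ∈ tors f := hT ▸ Submodule.mem_top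
    exact ⟨N, by rw [← mul_one (f ^ N)]; exact hN1 1 h1⟩
  have hnt : Nontrivial (A ⧸ tors f) := Ideal.Quotient.nontrivial_iff.2 hT
  have hloc : IsLocalRing (A ⧸ tors f) :=
    IsLocalRing.of_surjective' (Ideal.Quotient.mk (tors f)) Ideal.Quotient.mk_surjective
  have hlh : IsLocalHom (Ideal.Quotient.mk (tors f)) := Ideal.Quotient.mk_surjective.isLocalHom
  refine milnor A f hf (tors f) N hN1 hN2 ?_
  have hmax : (maximalIdeal A).map (algebraMap A (A ⧸ tors f)) = maximalIdeal (A ⧸ tors f) := by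
    apply le_antisymm
    · rw [Ideal.map_le_iff_le_comap]
      exact ((IsLocalRing.local_hom_TFAE (Ideal.Quotient.mk (tors f))).out 0 3).1 hlh
    · intro y hy
      obtain ⟨a, rfl⟩ := Ideal.Quotient.mk_surjective y
      refine Ideal.mem_map_of_mem _ ?_
      rw [mem_maximalIdeal, mem_nonunits_iff] at hy ⊢
      exact fun h => hy (h.map _)
  obtain ⟨c, n, hc1, hc2, hc3⟩ := AnnihInput.exists_annihilator_quotient hd f hf hc (tors f)
    (fun t ht => mem_tors.1 ht)
  have hcomp := isAdicComplete_quotient f (tors f)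
  refine core (A ⧸ tors f) (Ideal.Quotient.mk (tors f) f) ?_ ?_ (c.map (algebraMap A (A ⧸ tors f))) n ?_
    ?_ ?_
  · rw [← hmax]
    exact Ideal.mem_map_of_mem _ hf
  · intro y hy
    obtain ⟨a, rfl⟩ := Ideal.Quotient.mk_surjective y
    rw [← map_mul, Ideal.Quotient.eq_zero_iff_mem] at hy
    obtain ⟨k, hk⟩ := mem_tors.1 hy
    exact Ideal.Quotient.eq_zero_iff_mem.2 (mem_tors.2 ⟨k + 1, by rw [pow_succ, mul_assoc]; exact hk⟩)
  · rw [← hmax]
    exact Ideal.map_mono hc1
  · apply le_antisymm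
    · rw [(maximalIdeal.isMaximal (A ⧸ tors f)).isPrime.radical_le_iff, sup_le_iff,
        Ideal.span_singleton_le_iff_mem, ← hmax]
      exact ⟨Ideal.map_mono hc1, Ideal.mem_map_of_mem _ hf⟩
    · intro y hy
      rw [← hmax] at hy
      obtain ⟨a, ha, rfl⟩ := (Ideal.mem_map_iff_of_surjective _ Ideal.Quotient.mk_surjective).1 hy
      rw [← hc2] at ha
      obtain ⟨k, hk⟩ := ha
      refine ⟨k, ?_⟩
      rw [← map_pow]
      have h1 := Ideal.mem_map_of_mem (algebraMap A (A ⧸ tors f)) hk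
      rw [Ideal.map_sup, Ideal.map_span, Set.image_singleton] at h1
      exact h1
  · intro i hi a ha x
    obtain ⟨b, hb, rfl⟩ := (Ideal.mem_map_iff_of_surjective _ Ideal.Quotient.mk_surjective).1 ha
    have key : ∀ J : Ideal (A ⧸ tors f), (maximalIdeal A).map (algebraMap A (A ⧸ tors f)) = J →
        ∀ x : LocCoh.H J i (A ⧸ tors f), (algebraMap A (A ⧸ tors f) (f ^ n * b)) • x = 0 := by
      rintro J rfl x
      obtain ⟨e, he⟩ := Localalg.LCRows.nonempty_resEquiv (A := A) (B := A ⧸ tors f) (maximalIdeal A) i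
        (A ⧸ tors f)
      apply e.injective
      rw [he, map_zero, hc3 i hi b hb]
    have := key _ hmax x
    rw [map_mul, map_pow] at this
    exact this

end Groth.Agent.Pi1C.FormFinal
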