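import Groth.Agent.S0250
import Groth.Agent.Pi1A.PSPurityHolds
import Mathlib.RingTheory.Ideal.KrullsHeightTheorem
import Mathlib.AlgebraicGeometry.Noetherian

/-!
Extension of finite etale covers from a neighbourhood of `V(f)` in the punctured spectrum of a
Noetherian local ring `A` to the whole punctured spectrum, when purity holds for the local rings of
`A_f` at its maximal ideals.
-/

set_option autoImplicit false
universe u

open AlgebraicGeometry CategoryTheory CategoryTheory.Limits IsLocalRing

namespace Groth.Agent.Pi1C.PurityGlue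

/-- If `V(p) ∩ V(f)` is the closed point of the local ring `A`, then `pA_f` is maximal. -/
theorem isMaximal_map_away {A : Type u} [CommRing A] [IsNoetherianRing A] [IsLocalRing A] {f : A}
    (hf : f ∈ maximalIdeal A) (p : Ideal A) [hp : p.IsPrime] (hfp : f ∉ p)
    (h : ∀ r : Ideal A, r.IsPrime → p ≤ r → f ∈ r → r = maximalIdeal A) :
    (p.map (algebraMap A (Localization.Away f))).IsMaximal := by
  have hdisj : ∀ q : Ideal A, q.IsPrime → f ∉ q → Disjoint (Submonoid.powers f : Set A) (q : Set A) := by
    intro q hq hfq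
    rw [Set.disjoint_left]
    rintro _ ⟨n, rfl⟩ hn
    exact hfq (hq.mem_of_pow_mem n hn)
  have hpr : (p.map (algebraMap A (Localization.Away f))).IsPrime :=
    IsLocalization.isPrime_of_isPrime_disjoint (Submonoid.powers f) _ p hp (hdisj p hp hfp)
  have hcomap : (p.map (algebraMap A (Localization.Away f))).comap
      (algebraMap A (Localization.Away f)) = p :=
    IsLocalization.under_map_of_isPrime_disjoint (Submonoid.powers f) _ hp (hdisj p hp hfp)
  obtain ⟨Q, hQ, hle⟩ := Ideal.exists_le_maximal _ hpr.ne_top
  suffices p.map (algebraMap A (Localization.Away f)) = Q by rw [this]; exact hQ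
  have hQp : Q.IsPrime := hQ.isPrime
  let q : Ideal A := Q.comap (algebraMap A (Localization.Away f))
  have hq : q.IsPrime := inferInstance
  have hfq : f ∉ q := by
    intro hfq
    refine hQp.ne_top (Ideal.eq_top_of_isUnit_mem _ hfq ?_)
    exact IsLocalization.Away.algebraMap_isUnit f
  have hpq : p ≤ q := by
    rw [← hcomap]
    exact Ideal.comap_mono hle
  have hmapq : q.map (algebraMap A (Localization.Away f)) = Q :=
    IsLocalization.map_under (Submonoid.powers f) _ Q
  suffices p = q by rw [← hmapq, ← this]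
  by_contra hne
  have hpq' : p < q := lt_of_le_of_ne hpq hne
  have hqm : q < maximalIdeal A :=
    lt_of_le_of_ne (le_maximalIdeal hq.ne_top) (fun h => hfq (h ▸ hf))
  -- work in `A ⧸ p`
  let m' : Ideal (A ⧸ p) := (maximalIdeal A).map (Ideal.Quotient.mk p)
  let q' : Ideal (A ⧸ p) := q.map (Ideal.Quotient.mk p)
  have hker : RingHom.ker (Ideal.Quotient.mk p) = p := Ideal.mk_ker
  have hm'p : m'.IsPrime := Ideal.map_isPrime_of_surjective Ideal.Quotient.mk_surjective
    (by rw [hker]; exact le_maximalIdeal hp.ne_top)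
  have hq'p : q'.IsPrime := Ideal.map_isPrime_of_surjective Ideal.Quotient.mk_surjective
    (by rw [hker]; exact hpq)
  have hcq : q'.comap (Ideal.Quotient.mk p) = q := by
    rw [Ideal.comap_map_of_surjective _ Ideal.Quotient.mk_surjective, ← RingHom.ker_eq_comap_bot,
      hker, sup_eq_left.mpr hpq]
  have hcm : m'.comap (Ideal.Quotient.mk p) = maximalIdeal A := by
    rw [Ideal.comap_map_of_surjective _ Ideal.Quotient.mk_surjective, ← RingHom.ker_eq_comap_bot,
      hker, sup_eq_left.mpr (le_maximalIdeal hp.ne_top)]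
  have h1 : (⊥ : Ideal (A ⧸ p)) < q' := by
    rw [bot_lt_iff_ne_bot]
    intro h0
    apply hne
    rw [← hcq, h0, ← RingHom.ker_eq_comap_bot, hker]
  have h2 : q' < m' := by
    refine lt_of_le_of_ne (Ideal.map_mono hqm.le) (fun h0 => ?_)
    exact hqm.ne (by rw [← hcq, h0, hcm])
  have hbot : (⊥ : Ideal (A ⧸ p)).IsPrime := Ideal.isPrime_bot
  have hmin : m' ∈ (Ideal.span {Ideal.Quotient.mk p f}).minimalPrimes := by
    refine ⟨⟨hm'p, ?_⟩, fun r hr hrm => ?_⟩
    · rw [Ideal.span_le, Set.singleton_subset_iff]
      exact Ideal.mem_map_of_mem _ hf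
    · have hr1 : r.IsPrime := hr.1
      have := h (r.comap (Ideal.Quotient.mk p)) inferInstance
        (hker.symm.le.trans (Ideal.comap_mono bot_le))
        (hr.2 (Ideal.mem_span_singleton_self _))
      rw [← Ideal.map_comap_of_surjective _ Ideal.Quotient.mk_surjective r, this]
  have hht := Ideal.height_le_one_of_isPrincipal_of_mem_minimalPrimes
    (Ideal.span {Ideal.Quotient.mk p f}) m' hmin
  have h3 := Ideal.height_add_one_le_of_lt_of_isPrime h1
  have h4 := Ideal.height_add_one_le_of_lt_of_isPrime h2
  have h5 : (2 : ℕ∞) ≤ 1 := by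
    calc (2 : ℕ∞) = 0 + 1 + 1 := by norm_num
      _ ≤ (⊥ : Ideal (A ⧸ p)).height + 1 + 1 := by gcongr; exact zero_le
      _ ≤ q'.height + 1 := by gcongr
      _ ≤ m'.height := h4
      _ ≤ 1 := hht
  norm_num at h5

/-- The local ring of `A` at `p ∌ f` with `pA_f` maximal satisfies purity. -/
theorem purityHolds_atPrime {A : Type u} [CommRing A] {f : A} (p : Ideal A) [hp : p.IsPrime]
    (hfp : f ∉ p) (hmax : (p.map (algebraMap A (Localization.Away f))).IsMaximal)
    (hP : ∀ P : Ideal (Localization.Away f), ∀ _ : P.IsMaximal,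
      FEt.PurityHolds (Localization.AtPrime P)) :
    FEt.PurityHolds (Localization.AtPrime p) := by
  have hdisj : Disjoint (Submonoid.powers f : Set A) (p : Set A) := by
    rw [Set.disjoint_left]
    rintro _ ⟨n, rfl⟩ hn
    exact hfp (hp.mem_of_pow_mem n hn)
  have hcomap : (p.map (algebraMap A (Localization.Away f))).comap
      (algebraMap A (Localization.Away f)) = p :=
    IsLocalization.under_map_of_isPrime_disjoint (Submonoid.powers f) _ hp hdisj
  have h1 := hP _ hmax
  have : (p.map (algebraMap A (Localization.Away f))).IsPrime := hmax.isPrime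
  have e := IsLocalization.localizationLocalizationAtPrimeIsoLocalization (Submonoid.powers f)
    (p.map (algebraMap A (Localization.Away f)))
  have key : ∀ (q : Ideal A) (_ : q.IsPrime), q = p → FEt.PurityHolds (Localization.AtPrime q) →
      FEt.PurityHolds (Localization.AtPrime p) := by
    intro q _ hq h
    subst hq
    exact h
  exact key _ inferInstance hcomap
    (Pi1A.PSPurityHolds.purityHolds_of_ringEquiv e.symm.toRingEquiv h1)

/-- The stalk of `Spec A`. -/
noncomputable def stalkEquiv (A : Type u) [CommRing A] (p : PrimeSpectrum A) :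
    (Spec (CommRingCat.of A)).presheaf.stalk p ≃+* Localization.AtPrime p.asIdeal :=
  (StructureSheaf.stalkIso A p).symm.toRingEquiv

/-- Extension of finite etale covers over the closed points of the punctured spectrum off `V(f)`. -/
theorem exists_extension {A : Type u} [CommRing A] [IsNoetherianRing A] [IsLocalRing A] {f : A}
    (hf : f ∈ maximalIdeal A)
    (hP : ∀ P : Ideal (Localization.Away f), ∀ _ : P.IsMaximal,
      FEt.PurityHolds (Localization.AtPrime P))
    (W : (FEt.puncturedSpec A : Scheme.{u}).Opens)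
    (hW : ∀ x : (FEt.puncturedSpec A : Scheme.{u}),
      f ∈ PrimeSpectrum.asIdeal ((FEt.puncturedSpec A).ι x) → x ∈ W) :
    (FEt.restrict W.ι).EssSurj := by
  have : IsNoetherian (Spec (CommRingCat.of A)) := inferInstance
  have hl : IsLocallyNoetherian (FEt.puncturedSpec A : Scheme.{u}) := inferInstance
  have hc : CompactSpace (FEt.puncturedSpec A : Scheme.{u}) :=
    isCompact_iff_compactSpace.mp (TopologicalSpace.NoetherianSpace.isCompact
      (SetLike.coe (FEt.puncturedSpec A)))
  have : IsNoetherian (FEt.puncturedSpec A : Scheme.{u}) := { }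
  refine S0250.result W fun x hx => ?_
  let p : PrimeSpectrum A := (FEt.puncturedSpec A).ι x
  have hfp : f ∉ p.asIdeal := fun h => hx (hW x h)
  have hmax : (p.asIdeal.map (algebraMap A (Localization.Away f))).IsMaximal := by
    refine isMaximal_map_away hf p.asIdeal hfp fun r hr hpr hfr => ?_
    by_contra hne
    let r' : PrimeSpectrum A := ⟨r, hr⟩
    have hr' : r' ∈ FEt.puncturedSpec A := fun h => hne (congrArg PrimeSpectrum.asIdeal h)
    let y : (FEt.puncturedSpec A : Scheme.{u}) := ⟨r', hr'⟩
    have hy : y ∈ W := hW y hfr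
    have hxy : x ⤳ y := by
      rw [← (FEt.puncturedSpec A).ι.isOpenEmbedding.isInducing.specializes_iff]
      exact (PrimeSpectrum.le_iff_specializes p r').mp hpr
    exact hx (hxy.mem_open W.isOpen hy)
  have h1 := purityHolds_atPrime p.asIdeal hfp hmax hP
  have e1 : Localization.AtPrime p.asIdeal ≃+* (Spec (CommRingCat.of A)).presheaf.stalk p :=
    (stalkEquiv A p).symm
  have e2 := ((FEt.puncturedSpec A).stalkIso x).symm.commRingCatIsoToRingEquiv
  exact Pi1A.PSPurityHolds.purityHolds_of_ringEquiv (e1.trans e2) h1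

end Groth.Agent.Pi1C.PurityGlue
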