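import Groth.Agent.Pi1C.FormEt
import Groth.Agent.Pi1C.PurityGlue
import Groth.Agent.Pi1B.CISystem

/-!
# From algebras to finite étale covers near `V(f)`

`A` Noetherian, `U ⊆ Spec A` open, `V n` a compatible system of finite étale covers of the thickenings
`UU A f U n` of `U ∩ V(f)`. If `B` is an `A`-algebra, finite over `A` over `U`, such that `V n` is the
base change of `Spec B` for all `n`, then `Spec B` is finite étale over an open neighbourhood of
`U ∩ V(f)` in `U`.
-/

set_option autoImplicit false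
universe u

open AlgebraicGeometry CategoryTheory Limits TensorProduct

namespace Groth.Agent.Pi1C.FormGeo

section Local

/-- A property of `y` over the range of an open immersion. -/
theorem morphismRestrict_opensRange {P : MorphismProperty Scheme.{u}} [P.RespectsIso]
    {X Y Z Y' : Scheme.{u}} (y : Y ⟶ X) (i : Z ⟶ X) [IsOpenImmersion i] (g : Y' ⟶ Y) (w : Y' ⟶ Z)
    (h : IsPullback g w y i) (hw : P w) : P (y ∣_ i.opensRange) := by
  refine (P.arrow_mk_iso_iff (morphismRestrictOpensRange y i)).2 ?_
  rw [← P.cancel_left_of_respectsIso h.isoPullback.hom]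
  rwa [h.isoPullback_hom_snd]

theorem isPullback_restrict_le {X Y : Scheme.{u}} (y : Y ⟶ X) {W W' : X.Opens} (h : W' ≤ W) :
    IsPullback (Y.homOfLE (show y ⁻¹ᵁ W' ≤ y ⁻¹ᵁ W from fun _ hx => h hx)) (y ∣_ W') (y ∣_ W)
      (X.homOfLE h) := by
  refine IsPullback.of_right (h₁₂ := (y ⁻¹ᵁ W).ι) (h₂₂ := W.ι) (v₁₃ := y) ?_ ?_
    (isPullback_morphismRestrict y W).flip
  · rw [Scheme.homOfLE_ι, Scheme.homOfLE_ι]
    exact (isPullback_morphismRestrict y W').flip
  · rw [← cancel_mono W.ι]
    simp

/-- Properties local at the target over a union of opens. -/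
theorem morphismRestrict_iSup {P : MorphismProperty Scheme.{u}} [IsZariskiLocalAtTarget P]
    {X Y : Scheme.{u}} (y : Y ⟶ X) {ι : Type*} (W : ι → X.Opens) (h : ∀ i, P (y ∣_ W i)) :
    P (y ∣_ (⨆ i, W i)) := by
  refine IsZariskiLocalAtTarget.of_iSup_eq_top (fun i => (⨆ i, W i).ι ⁻¹ᵁ (W i)) ?_ fun i => ?_
  · rw [eq_top_iff]
    rintro ⟨x, hx⟩ _
    obtain ⟨i, hi⟩ := TopologicalSpace.Opens.mem_iSup.1 hx
    exact TopologicalSpace.Opens.mem_iSup.2 ⟨i, hi⟩
  · have e1 := morphismRestrictRestrict y (⨆ i, W i) ((⨆ i, W i).ι ⁻¹ᵁ (W i))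
    have e2 : (⨆ i, W i).ι ''ᵁ ((⨆ i, W i).ι ⁻¹ᵁ (W i)) = W i := by
      rw [Scheme.Hom.image_preimage_eq_opensRange_inf, Scheme.Opens.opensRange_ι]
      exact inf_eq_right.2 (le_iSup W i)
    refine (P.arrow_mk_iso_iff (e1 ≪≫ morphismRestrictEq y e2)).2 (h i)

end Local

section Etale

variable {A : Type u} [CommRing A] (x : A) (B : Type u) [CommRing B] [Algebra A B]

/-- The square of `Spec B` over `D(x)`. -/
theorem isPullback_away : IsPullback
    (Spec.map (CommRingCat.ofHom (Algebra.TensorProduct.includeRight (R := A)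
      (A := Localization.Away x) (B := B)).toRingHom))
    (Spec.map (CommRingCat.ofHom (algebraMap (Localization.Away x) (Localization.Away x ⊗[A] B))))
    (Spec.map (CommRingCat.ofHom (algebraMap A B)))
    (Spec.map (CommRingCat.ofHom (algebraMap A (Localization.Away x)))) :=
  (isPullback_SpecMap_of_isPushout _ _ _ _
    (CommRingCat.isPushout_tensorProduct A (Localization.Away x) B)).flip

theorem etale_cancel {A R S B : Type u} [CommRing A] [CommRing R] [CommRing S] [CommRing B]
    [Algebra A R] [Algebra R S] [Algebra A S] [IsScalarTower A R S] [Algebra A B]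
    (h : Algebra.Etale S (S ⊗[A] B)) : Algebra.Etale S (S ⊗[R] (R ⊗[A] B)) :=
  Algebra.Etale.of_equiv (A := S ⊗[A] B) (Algebra.TensorProduct.cancelBaseChange A R S S B).symm

theorem algebraMap_quot {A R P : Type u} [CommRing A] [CommRing R] [CommRing P] [Algebra A R]
    [Algebra A P] [Algebra R P] [IsScalarTower A R P] (J : Ideal P) (a : A) :
    algebraMap A (P ⧸ J) a = Ideal.Quotient.mk J (algebraMap R P (algebraMap A R a)) := by
  rw [← IsScalarTower.algebraMap_apply A R P]
  rfl

theorem isEtaleAt_aux {A R B : Type u} [CommRing A] [CommRing R] [CommRing B] [IsNoetherianRing R]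
    [Algebra A R] [Algebra A B] (x f : A) (hx : IsUnit (algebraMap A R x))
    [Module.Finite R (R ⊗[A] B)]
    (het : ∀ (n : ℕ) (S : Type u) [CommRing S] [Algebra A S], algebraMap A S f ^ (n + 1) = 0 →
      IsUnit (algebraMap A S x) → Algebra.Etale S (S ⊗[A] B))
    (p : Ideal R) [p.IsPrime] (hf : algebraMap A R f ∈ p) (q : Ideal (R ⊗[A] B)) [q.IsPrime]
    [q.LiesOver p] : Algebra.IsEtaleAt R q := by
  refine FormEt.isEtaleAt_of_quotients (algebraMap A R f) p hf (fun n => ?_) q
  refine etale_cancel (A := A) (R := R) (B := B) (het n _ ?_ ?_)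
  · rw [algebraMap_quot (R := R)]
    exact (map_pow (Ideal.Quotient.mk _) _ _).symm.trans
      (Ideal.Quotient.eq_zero_iff_mem.2 (Ideal.mem_span_singleton_self _))
  · rw [algebraMap_quot (R := R)]
    exact (hx.map _).map _

theorem isEtaleAt_aux_reg {A R B : Type u} [CommRing A] [CommRing R] [CommRing B] [IsNoetherianRing R]
    [Algebra A R] [Algebra A B] [Module.Flat A R] (x f : A) (hx : IsUnit (algebraMap A R x))
    [Module.Finite R (R ⊗[A] B)] (hreg : ∀ b : B, f • b = 0 → b = 0)
    (het : ∀ (S : Type u) [CommRing S] [Algebra A S], algebraMap A S f = 0 →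
      IsUnit (algebraMap A S x) → Algebra.Etale S (S ⊗[A] B))
    (p : Ideal R) [p.IsPrime] (hf : algebraMap A R f ∈ p) (q : Ideal (R ⊗[A] B)) [q.IsPrime]
    [q.LiesOver p] : Algebra.IsEtaleAt R q := by
  have hr : IsSMulRegular (R ⊗[A] B) (algebraMap A R f) := by
    have h1 : Function.Injective (LinearMap.lsmul A B f) := by
      rw [injective_iff_map_eq_zero]
      exact hreg
    have h2 := Module.Flat.lTensor_preserves_injective_linearMap (M := R) (LinearMap.lsmul A B f) h1
    have h3 : ∀ z : R ⊗[A] B, (LinearMap.lsmul A B f).lTensor R z = algebraMap A R f • z := by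
      intro z
      induction z with
      | zero => simp
      | add z w hz hw => rw [map_add, hz, hw, smul_add]
      | tmul r b =>
        rw [LinearMap.lTensor_tmul, LinearMap.lsmul_apply, TensorProduct.smul_tmul', smul_eq_mul,
          ← Algebra.smul_def, TensorProduct.smul_tmul]
    intro z w hzw
    apply h2
    rw [h3, h3]
    exact hzw
  refine Pi1B.CIGlue.isEtaleAt_of_quotient (algebraMap A R f) hr p hf ?_ q
  refine etale_cancel (A := A) (R := R) (B := B) (het _ ?_ ?_)
  · rw [algebraMap_quot (R := R)]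
    exact Ideal.Quotient.eq_zero_iff_mem.2 (Ideal.mem_span_singleton_self _)
  · rw [algebraMap_quot (R := R)]
    exact (hx.map _).map _

/-- Étaleness and finiteness of `Spec B ⟶ Spec A` over a neighbourhood of a point of `D(x) ∩ V(f)`. -/
theorem exists_open_aux [IsNoetherianRing A] (f : A)
    (hfin : Module.Finite (Localization.Away x) (Localization.Away x ⊗[A] B))
    (hetAt : ∀ (p : Ideal (Localization.Away x)) [p.IsPrime],
      algebraMap A (Localization.Away x) f ∈ p → ∀ (q : Ideal (Localization.Away x ⊗[A] B))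
      [q.IsPrime] [q.LiesOver p], Algebra.IsEtaleAt (Localization.Away x) q)
    (p : PrimeSpectrum A) (hfp : f ∈ p.asIdeal) (hxp : x ∉ p.asIdeal) :
    ∃ W : (Spec (CommRingCat.of A)).Opens, p ∈ W ∧ W ≤ PrimeSpectrum.basicOpen x ∧
      IsFinite (Spec.map (CommRingCat.ofHom (algebraMap A B)) ∣_ W) ∧
      Etale (Spec.map (CommRingCat.ofHom (algebraMap A B)) ∣_ W) := by
  let R := Localization.Away x
  let L := R ⊗[A] B
  have hR : IsNoetherianRing R := IsLocalization.isNoetherianRing (Submonoid.powers x) R inferInstance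
  let y : Spec (CommRingCat.of L) ⟶ Spec (CommRingCat.of R) :=
    Spec.map (CommRingCat.ofHom (algebraMap R L))
  have hy : IsFinite y := (IsFinite.SpecMap_iff _).2 (RingHom.finite_algebraMap.2 hfin)
  have hLfp : Algebra.FinitePresentation R L :=
    Algebra.FinitePresentation.of_finiteType.1 (inferInstance : Algebra.FiniteType R L)
  let Z : Set (Spec (CommRingCat.of R)) := y '' (Algebra.etaleLocus R L)ᶜ
  have hZc : IsClosed Z := y.isClosedMap _ Algebra.isOpen_etaleLocus.isClosed_compl
  let W : (Spec (CommRingCat.of R)).Opens := ⟨Zᶜ, hZc.isOpen_compl⟩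
  have hW : ∀ q : PrimeSpectrum L, q.comap (algebraMap R L) ∈ W → q ∈ Algebra.etaleLocus R L := by
    intro q hq
    by_contra h1
    exact hq ⟨q, h1, rfl⟩
  have h1 : Etale (y ∣_ W) := Pi1B.CIGlue.etale_morphismRestrict W hW
  have h2 : IsFinite (y ∣_ W) := inferInstance
  let j : Spec (CommRingCat.of R) ⟶ Spec (CommRingCat.of A) :=
    Spec.map (CommRingCat.ofHom (algebraMap A R))
  have hj : IsOpenImmersion j := inferInstance
  have hjr : Set.range j = (PrimeSpectrum.basicOpen x : Set (PrimeSpectrum A)) :=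
    PrimeSpectrum.localization_away_comap_range R x
  have sq := (isPullback_morphismRestrict y W).flip.paste_horiz (isPullback_away x B)
  refine ⟨(W.ι ≫ j).opensRange, ?_, ?_, ?_, ?_⟩
  · obtain ⟨p1, hp1⟩ : p ∈ Set.range j := by
      rw [hjr]
      exact hxp
    have hp1W : p1 ∈ W := by
      rintro ⟨q, hq, hqp⟩
      apply hq
      have hq' : PrimeSpectrum.comap (algebraMap R L) q = p1 := hqp
      have hp1' : PrimeSpectrum.comap (algebraMap A R) p1 = p := hp1
      have hf1 : algebraMap A R f ∈ p1.asIdeal := by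
        rw [← hp1'] at hfp
        exact hfp
      have hlo : q.asIdeal.LiesOver p1.asIdeal := ⟨by rw [← hq']; rfl⟩
      exact hetAt p1.asIdeal hf1 q.asIdeal
    exact ⟨⟨p1, hp1W⟩, hp1⟩
  · rintro _ ⟨z, rfl⟩
    have : (W.ι ≫ j) z ∈ Set.range j := ⟨W.ι z, rfl⟩
    rw [hjr] at this
    exact this
  · exact morphismRestrict_opensRange _ _ _ _ sq h2
  · exact morphismRestrict_opensRange _ _ _ _ sq h1

/-- Étaleness and finiteness of `Spec B ⟶ Spec A` over a neighbourhood of a point of `D(x) ∩ V(f)`;
`B` étale modulo all powers of `f`. -/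
theorem exists_open [IsNoetherianRing A] (f : A)
    (hfin : Module.Finite (Localization.Away x) (Localization.Away x ⊗[A] B))
    (het : ∀ (n : ℕ) (S : Type u) [CommRing S] [Algebra A S], algebraMap A S f ^ (n + 1) = 0 →
      IsUnit (algebraMap A S x) → Algebra.Etale S (S ⊗[A] B))
    (p : PrimeSpectrum A) (hfp : f ∈ p.asIdeal) (hxp : x ∉ p.asIdeal) :
    ∃ W : (Spec (CommRingCat.of A)).Opens, p ∈ W ∧ W ≤ PrimeSpectrum.basicOpen x ∧
      IsFinite (Spec.map (CommRingCat.ofHom (algebraMap A B)) ∣_ W) ∧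
      Etale (Spec.map (CommRingCat.ofHom (algebraMap A B)) ∣_ W) := by
  have hR : IsNoetherianRing (Localization.Away x) :=
    IsLocalization.isNoetherianRing (Submonoid.powers x) _ inferInstance
  exact exists_open_aux x B f hfin (fun p _ hp q _ _ =>
    isEtaleAt_aux x f (IsLocalization.Away.algebraMap_isUnit x) het p hp q) p hfp hxp

/-- Étaleness and finiteness of `Spec B ⟶ Spec A` over a neighbourhood of a point of `D(x) ∩ V(f)`;
`B` étale modulo `f`, `f` regular on `B`. -/
theorem exists_open_reg [IsNoetherianRing A] (f : A)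
    (hfin : Module.Finite (Localization.Away x) (Localization.Away x ⊗[A] B))
    (hreg : ∀ b : B, f • b = 0 → b = 0)
    (het : ∀ (S : Type u) [CommRing S] [Algebra A S], algebraMap A S f = 0 →
      IsUnit (algebraMap A S x) → Algebra.Etale S (S ⊗[A] B))
    (p : PrimeSpectrum A) (hfp : f ∈ p.asIdeal) (hxp : x ∉ p.asIdeal) :
    ∃ W : (Spec (CommRingCat.of A)).Opens, p ∈ W ∧ W ≤ PrimeSpectrum.basicOpen x ∧
      IsFinite (Spec.map (CommRingCat.ofHom (algebraMap A B)) ∣_ W) ∧
      Etale (Spec.map (CommRingCat.ofHom (algebraMap A B)) ∣_ W) := by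
  have hR : IsNoetherianRing (Localization.Away x) :=
    IsLocalization.isNoetherianRing (Submonoid.powers x) _ inferInstance
  have hfl : Module.Flat A (Localization.Away x) := IsLocalization.flat _ (Submonoid.powers x)
  exact exists_open_aux x B f hfin (fun p _ hp q _ _ =>
    isEtaleAt_aux_reg x f (IsLocalization.Away.algebraMap_isUnit x) hreg het p hp q) p hfp hxp

/-- Finite generation up to powers of `x`. -/
theorem finite_away {r : ℕ} (b : Fin r → B)
    (h : ∀ z : B, ∃ k : ℕ, x ^ k • z ∈ Submodule.span A (Set.range b)) :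
    Module.Finite (Localization.Away x) (Localization.Away x ⊗[A] B) := by
  refine ⟨Submodule.fg_def.2 ⟨Set.range fun i => 1 ⊗ₜ[A] b i, Set.finite_range _, ?_⟩⟩
  rw [eq_top_iff]
  rintro z -
  set N : Submodule (Localization.Away x) (Localization.Away x ⊗[A] B) :=
    Submodule.span (Localization.Away x) (Set.range fun i => 1 ⊗ₜ[A] b i) with hN
  have h1 : ∀ z ∈ Submodule.span A (Set.range b), (1 : Localization.Away x) ⊗ₜ[A] z ∈ N := by
    intro z hz
    induction hz using Submodule.span_induction with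
    | mem z hz =>
      obtain ⟨i, rfl⟩ := hz
      exact Submodule.subset_span ⟨i, rfl⟩
    | zero => rw [TensorProduct.tmul_zero]; exact N.zero_mem
    | add z w _ _ hz hw => rw [TensorProduct.tmul_add]; exact N.add_mem hz hw
    | smul a z _ hz =>
      rw [TensorProduct.tmul_smul, ← algebraMap_smul (Localization.Away x) a]
      exact N.smul_mem _ hz
  induction z with
  | zero => exact N.zero_mem
  | add z w hz hw => exact N.add_mem hz hw
  | tmul r z =>
    obtain ⟨k, hk⟩ := h z
    have h2 := h1 _ hk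
    rw [TensorProduct.tmul_smul, ← algebraMap_smul (Localization.Away x) (x ^ k)] at h2
    obtain ⟨u, hu⟩ := (IsLocalization.Away.algebraMap_isUnit (S := Localization.Away x) x).pow k
    rw [map_pow, ← hu] at h2
    have h3 : r ⊗ₜ[A] z = (r * (u⁻¹ : (Localization.Away x)ˣ)) • (u : Localization.Away x) •
        ((1 : Localization.Away x) ⊗ₜ[A] z) := by
      rw [smul_smul, mul_assoc, Units.inv_mul, mul_one, TensorProduct.smul_tmul', smul_eq_mul, mul_one]
    rw [h3]
    exact N.smul_mem _ h2

end Etale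

end Groth.Agent.Pi1C.FormGeo
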