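import Groth.Agent.Pi1C.FormCech
import Mathlib.RingTheory.HopkinsLevitzki

set_option autoImplicit false

/-!
# Annihilators of low degree Čech cohomology

`Kills0 g a N`, `Kills1 g a N`, `Kills2 g a N`: `a` kills `ker d0 / im ε`, `H¹`, `H²` of the Čech
complex of `N` for the family `g`.
-/

namespace Groth.Agent.Pi1C.FormKill

open Groth.Agent.FormalA.CechSub Groth.Agent.FormalA.CechLC Groth.Agent.FormalA.LocSub
open FormSys FormCech

section Defs

variable {A : Type*} [CommRing A] {ι : Type*} (g : ι → A) (a : A)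
  (N : Type*) [AddCommGroup N] [Module A N]

/-- `a` kills `ker d0 / im ε`. -/
def Kills0 : Prop := ∀ x : C0 (PS g) N, d0 (PS g) x = 0 → ∃ y : N, ε (PS g) y = a • x
/-- `a` kills `H¹`. -/
def Kills1 : Prop := ∀ x : C1 (PS g) N, d1 (PS g) x = 0 → ∃ y : C0 (PS g) N, d0 (PS g) y = a • x
/-- `a` kills `H²`. -/
def Kills2 : Prop := ∀ x : C2 (PS g) N, d2 (PS g) x = 0 → ∃ y : C1 (PS g) N, d1 (PS g) y = a • x

end Defs

variable {A : Type*} [CommRing A] {ι : Type*} {g : ι → A}
variable {P N : Type*} [AddCommGroup P] [Module A P] [AddCommGroup N] [Module A N]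

theorem Kills0.of_H (a : A) (h : ∀ x : H0' (PS g) N, a • x = 0) : Kills0 g a N := by
  intro x hx
  obtain ⟨y, hy⟩ := (Submodule.Quotient.mk_eq_zero _).1 (h (Submodule.Quotient.mk ⟨x, hx⟩))
  exact ⟨y, hy⟩

theorem Kills1.of_H (a : A) (h : ∀ x : H1 (PS g) N, a • x = 0) : Kills1 g a N := by
  intro x hx
  obtain ⟨y, hy⟩ := (Submodule.Quotient.mk_eq_zero _).1 (h (Submodule.Quotient.mk ⟨x, hx⟩))
  exact ⟨y, hy⟩

theorem Kills1.to_H {a : A} (h : Kills1 g a N) (x : H1 (PS g) N) : a • x = 0 := by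
  obtain ⟨⟨x, hx⟩, rfl⟩ := Submodule.Quotient.mk_surjective _ x
  obtain ⟨y, hy⟩ := h x hx
  exact (Submodule.Quotient.mk_eq_zero _).2 ⟨y, hy⟩

theorem Kills2.of_H (a : A) (h : ∀ x : H2 (PS g) N, a • x = 0) : Kills2 g a N := by
  intro x hx
  obtain ⟨y, hy⟩ := (Submodule.Quotient.mk_eq_zero _).1 (h (Submodule.Quotient.mk ⟨x, hx⟩))
  exact ⟨y, hy⟩

/-- the ideal of elements killing `H¹` -/
def kills1 (g : ι → A) (N : Type*) [AddCommGroup N] [Module A N] : Ideal A where
  carrier := {a | Kills1 g a N}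
  add_mem' {a b} ha hb x hx := by
    obtain ⟨y, hy⟩ := ha x hx
    obtain ⟨z, hz⟩ := hb x hx
    exact ⟨y + z, by rw [map_add, hy, hz, add_smul]⟩
  zero_mem' x _ := ⟨0, by rw [map_zero, zero_smul]⟩
  smul_mem' c a ha x hx := by
    obtain ⟨y, hy⟩ := ha x hx
    exact ⟨c • y, by rw [map_smul, hy, smul_eq_mul, mul_smul]⟩

theorem mem_kills1 {a : A} : a ∈ kills1 g N ↔ Kills1 g a N := Iff.rfl

section Loc

variable (g)

/-- locally surjective -/
def LS (φ : P →ₗ[A] N) : Prop := ∀ i x, ∃ (k : ℕ) (y : P), φ y = g i ^ k • x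
/-- locally, the kernel is contained in `e P` -/
def LK (φ : P →ₗ[A] N) (e : A) : Prop :=
  ∀ i x, φ x = 0 → ∃ (k : ℕ) (y : P), g i ^ k • x = e • y

variable {g} {φ : P →ₗ[A] N} {e : A}

theorem LS.lmap (h : LS g φ) (i : ι) (S : Submonoid A) (hS : PS g i ≤ S) :
    Function.Surjective (lmap S φ) :=
  lmap_surj _ fun x => by
    obtain ⟨k, y, hy⟩ := h i x
    exact ⟨_, hS ⟨k, rfl⟩, y, hy⟩

theorem LK.lmap (h : LK g φ e) (i : ι) (S : Submonoid A) (hS : PS g i ≤ S)
    (x : LocalizedModule S P) (hx : lmap S φ x = 0) : ∃ y, x = e • y :=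
  lmap_ker _ _ (fun x hx => by
    obtain ⟨k, y, hy⟩ := h i x hx
    exact ⟨_, hS ⟨k, rfl⟩, y, hy⟩) x hx

theorem LS.map0 (h : LS g φ) : Function.Surjective (map0 (PS g) φ) := fun y => by
  choose x hx using fun i => h.lmap i _ le_rfl (y i)
  exact ⟨x, funext hx⟩

theorem LS.map1 (h : LS g φ) : Function.Surjective (map1 (PS g) φ) := fun y => by
  choose x hx using fun i j => h.lmap i _ (le12 (PS g) i j) (y i j)
  exact ⟨x, funext fun i => funext (hx i)⟩

theorem LS.map2 (h : LS g φ) : Function.Surjective (map2 (PS g) φ) := fun y => by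
  choose x hx using fun i j k =>
    h.lmap i _ ((le12 (PS g) i j).trans (le123 (PS g) i j k)) (y i j k)
  exact ⟨x, funext fun i => funext fun j => funext (hx i j)⟩

theorem LK.map0 (h : LK g φ e) (x : C0 (PS g) P) (hx : map0 (PS g) φ x = 0) :
    ∃ y, x = e • y := by
  choose y hy using fun i => h.lmap i _ le_rfl (x i) (congr_fun hx i)
  exact ⟨y, funext hy⟩

theorem LK.map1 (h : LK g φ e) (x : C1 (PS g) P) (hx : map1 (PS g) φ x = 0) :
    ∃ y, x = e • y := by
  choose y hy using fun i j => h.lmap i _ (le12 (PS g) i j) (x i j) (congr_fun (congr_fun hx i) j)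
  exact ⟨y, funext fun i => funext (hy i)⟩

theorem LK.map2 (h : LK g φ e) (x : C2 (PS g) P) (hx : map2 (PS g) φ x = 0) :
    ∃ y, x = e • y := by
  choose y hy using fun i j k => h.lmap i _ ((le12 (PS g) i j).trans (le123 (PS g) i j k)) (x i j k)
    (congr_fun (congr_fun (congr_fun hx i) j) k)
  exact ⟨y, funext fun i => funext fun j => funext (hy i j)⟩

theorem reg_loc {S : Submonoid A} (hreg : ∀ x : P, e • x = 0 → x = 0) (x : LocalizedModule S P)
    (hx : e • x = 0) : x = 0 := by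
  obtain ⟨n, t, rfl⟩ := exists_eq_mk x
  rw [LocalizedModule.smul'_mk, mk_eq_zero_iff] at hx
  obtain ⟨u, hu, h⟩ := hx
  rw [mk_eq_zero_iff]
  exact ⟨u, hu, hreg _ (by rw [smul_comm]; exact h)⟩

end Loc

/-- Killing `H¹` of a quotient by a regular element. -/
theorem kills1_of_quot {φ : P →ₗ[A] N} {e s t : A} (hs : LS g φ) (hk : LK g φ e)
    (he : ∀ x, φ (e • x) = 0) (hreg : ∀ x : P, e • x = 0 → x = 0) (h1 : Kills1 g s P)
    (h2 : Kills2 g t P) : Kills1 g (s * t) N := by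
  intro x hx
  obtain ⟨x', rfl⟩ := hs.map1 x
  rw [← map2_d1] at hx
  obtain ⟨y, hy⟩ := hk.map2 _ hx
  have hdy : d2 (PS g) y = 0 := by
    have h3 : e • d2 (PS g) y = 0 := by rw [← map_smul, ← hy, d2_d1]
    funext i j k l
    refine reg_loc hreg _ ?_
    exact congr_fun (congr_fun (congr_fun (congr_fun h3 i) j) k) l
  obtain ⟨z, hz⟩ := h2 y hdy
  obtain ⟨w, hw⟩ := h1 (t • x' - e • z) (by
    rw [map_sub, map_smul, map_smul, hy, hz, smul_comm, sub_self])
  refine ⟨map0 (PS g) φ w, ?_⟩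
  rw [← map1_d0, hw, map_smul, map_sub, map_smul, mul_smul, smul_sub]
  have h4 : map1 (PS g) φ (e • z) = 0 := by
    funext i j
    obtain ⟨n, u, hu⟩ := exists_eq_mk (z i j)
    change lmap _ φ (e • z i j) = 0
    rw [hu, LocalizedModule.smul'_mk, lmap_mk, he, LocalizedModule.zero_mk]
  rw [h4, smul_zero, sub_zero]

theorem map0_sum {κ : Type*} (s : Finset κ) (Φ : κ → P →ₗ[A] N) (x : C0 (PS g) P) :
    map0 (PS g) (∑ j ∈ s, Φ j) x = ∑ j ∈ s, map0 (PS g) (Φ j) x := by
  classical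
  induction s using Finset.induction_on with
  | empty =>
    rw [Finset.sum_empty, Finset.sum_empty]
    funext i
    obtain ⟨n, u, hu⟩ := exists_eq_mk (x i)
    rw [map0_apply, hu, lmap_mk, LinearMap.zero_apply, LocalizedModule.zero_mk]
    rfl
  | insert a s ha ih =>
    rw [Finset.sum_insert ha, Finset.sum_insert ha, ← ih]
    funext i
    rw [map0_apply, lmap_add]
    rfl

theorem map1_sum {κ : Type*} (s : Finset κ) (Φ : κ → P →ₗ[A] N) (x : C1 (PS g) P) :
    map1 (PS g) (∑ j ∈ s, Φ j) x = ∑ j ∈ s, map1 (PS g) (Φ j) x := by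
  classical
  induction s using Finset.induction_on with
  | empty =>
    rw [Finset.sum_empty, Finset.sum_empty]
    funext i j
    obtain ⟨n, u, hu⟩ := exists_eq_mk (x i j)
    rw [map1_apply, hu, lmap_mk, LinearMap.zero_apply, LocalizedModule.zero_mk]
    rfl
  | insert a s ha ih =>
    rw [Finset.sum_insert ha, Finset.sum_insert ha, ← ih]
    funext i j
    rw [map1_apply, lmap_add]
    rfl

theorem map1_smul_id (a : A) (x : C1 (PS g) P) : map1 (PS g) (LinearMap.lsmul A P a) x = a • x := by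
  funext i j
  obtain ⟨n, u, hu⟩ := exists_eq_mk (x i j)
  rw [map1_apply, hu, lmap_mk]
  change _ = a • x i j
  rw [hu, LocalizedModule.smul'_mk]
  rfl

/-- Killing `H¹` of a module locally a direct summand. -/
theorem kills1_of_factor {κ : Type*} [Fintype κ] (Φ : κ → N →ₗ[A] P) (Ψ : κ → P →ₗ[A] N) {e a : A}
    (h : ∀ x, a • x = ∑ j, Ψ j (Φ j x)) (he : Kills1 g e P) : Kills1 g (e * a) N := by
  intro x hx
  have h1 : ∀ j, ∃ y : C0 (PS g) P, d0 (PS g) y = e • map1 (PS g) (Φ j) x := fun j =>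
    he _ (by rw [← map2_d1, hx, map_zero])
  choose y hy using h1
  refine ⟨∑ j, map0 (PS g) (Ψ j) (y j), ?_⟩
  rw [map_sum]
  have h2 : ∀ j, d0 (PS g) (map0 (PS g) (Ψ j) (y j)) = e • map1 (PS g) (Ψ j ∘ₗ Φ j) x := by
    intro j
    rw [← map1_d0, hy, map_smul, map1_comp]
  rw [Finset.sum_congr rfl fun j _ => h2 j, ← Finset.smul_sum, ← map1_sum, mul_smul,
    ← map1_smul_id a]
  have h3 : (∑ j, Ψ j ∘ₗ Φ j) = LinearMap.lsmul A N a := by
    ext z
    rw [LinearMap.lsmul_apply, h, LinearMap.sum_apply]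
    rfl
  rw [h3]

/-- Locally isomorphic modules: `H¹` is a quotient. -/
theorem isArtinian_H1 {φ : P →ₗ[A] N} (hs : LS g φ) (hk : LK g φ 0)
    (hA : IsArtinian A (H1 (PS g) P)) : IsArtinian A (H1 (PS g) N) := by
  have h1 : ∀ x : LinearMap.ker (d1 (N := P) (PS g)), map1 (PS g) φ x.1 ∈
      LinearMap.ker (d1 (N := N) (PS g)) := fun x => by
    rw [LinearMap.mem_ker, ← map2_d1, LinearMap.mem_ker.1 x.2, map_zero]
  let F : LinearMap.ker (d1 (N := P) (PS g)) →ₗ[A] LinearMap.ker (d1 (N := N) (PS g)) :=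
    LinearMap.codRestrict _ (map1 (PS g) φ ∘ₗ Submodule.subtype _) h1
  let G : H1 (PS g) P →ₗ[A] H1 (PS g) N := Submodule.mapQ _ _ F (by
    rintro ⟨_, hx⟩ ⟨y, rfl⟩
    exact ⟨map0 (PS g) φ y, (map1_d0 _ _ _).symm⟩)
  refine isArtinian_of_surjective _ G ?_
  intro x
  obtain ⟨⟨x, hx⟩, rfl⟩ := Submodule.Quotient.mk_surjective _ x
  obtain ⟨y, hy⟩ := hs.map1 x
  have hdy : d1 (PS g) y = 0 := by
    obtain ⟨z, hz⟩ := hk.map2 (d1 (PS g) y) (by rw [map2_d1, hy]; exact hx)
    rw [hz, zero_smul]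
  refine ⟨Submodule.Quotient.mk ⟨y, hdy⟩, ?_⟩
  change Submodule.Quotient.mk (F ⟨y, hdy⟩) = _
  congr 1
  exact Subtype.ext hy

/-- An Artinian module killed by a power of a maximal ideal is Noetherian. -/
theorem isNoetherian_of_pow [IsNoetherianRing A] (m : Ideal A) [hm : m.IsMaximal] (K : ℕ)
    {X : Type*} [AddCommGroup X] [Module A X] (hX : IsArtinian A X)
    (hK : ∀ a ∈ m ^ K, ∀ x : X, a • x = 0) : IsNoetherian A X := by
  let J := m ^ K
  let _ : Module (A ⧸ J) X := Module.IsTorsionBySet.module (I := J) (M := X) fun x a => hK a.1 a.2 x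
  have : IsScalarTower A (A ⧸ J) X := Module.IsTorsionBySet.isScalarTower (I := J) _
  have hAr : IsArtinianRing (A ⧸ J) := by
    rw [isArtinianRing_iff_isNoetherianRing_krullDimLE_zero]
    refine ⟨inferInstance, ?_⟩
    rw [Ideal.krullDimLE_zero_quotient_iff_forall_minimalPrimes_isMaximal]
    intro P hP
    have := hP.1.1
    have h1 : m ≤ P := Ideal.IsPrime.le_of_pow_le hP.1.2
    rwa [← hm.eq_of_le this.ne_top h1]
  have h1 : IsArtinian (A ⧸ J) X := isArtinian_of_tower A hX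
  have h2 : IsNoetherian (A ⧸ J) X := IsSemiprimaryRing.isNoetherian_iff_isArtinian.2 h1
  refine ⟨fun Y => ?_⟩
  let Y' : Submodule (A ⧸ J) X :=
    { carrier := Y
      add_mem' := Y.add_mem
      zero_mem' := Y.zero_mem
      smul_mem' := fun a x hx => by
        obtain ⟨a, rfl⟩ := Ideal.Quotient.mk_surjective a
        exact Y.smul_mem a hx }
  exact Submodule.FG.restrictScalars_of_surjective (S := Y') (h2.noetherian _)
    Ideal.Quotient.mk_surjective

/-- The condition of `FormCech.exists_lift`. -/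
theorem isNoetherian_range [IsNoetherianRing A] (m : Ideal A) [m.IsMaximal] (K : ℕ) (b : A)
    (hX : IsArtinian A (H1 (PS g) N)) (hK : ∀ a ∈ m ^ K, Kills1 g (b * a) N) :
    IsNoetherian A (LinearMap.range (LinearMap.lsmul A (H1 (PS g) N) b)) := by
  refine isNoetherian_of_pow m K (isArtinian_of_surjective _
    (LinearMap.lsmul A (H1 (PS g) N) b).rangeRestrict
    (LinearMap.surjective_rangeRestrict _)) ?_
  rintro a ha ⟨_, ⟨y, rfl⟩⟩
  apply Subtype.ext
  change a • b • y = 0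
  rw [smul_smul, mul_comm]
  exact (hK a ha).to_H y

end Groth.Agent.Pi1C.FormKill
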