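import Groth.Agent.Pi1C.FormFinal
import Groth.Agent.Pi1C.FormCover
import Groth.Agent.Pi1C.FormFin
import Groth.Agent.CalgB.MilRed

/-!
# Assembly of Stacks 0EK9
-/

set_option autoImplicit false
universe u
attribute [local instance] HasDerivedCategory.standard

open AlgebraicGeometry CategoryTheory CategoryTheory.Limits IsLocalRing

namespace Groth.Agent.Pi1C.FormMain

open NbhdExt FormSys FormFinal

/-- The trace system of a cover of the punctured spectrum of `A / f`. -/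
def HasTraceSys : Prop :=
  ∀ (A : Type u) [CommRing A] [IsNoetherianRing A] [IsLocalRing A] (f : A)
    (_ : f ∈ maximalIdeal A) (_ : ∀ a : A, f * a = 0 → a = 0) [IsLocalRing (A ⧸ Ideal.span {f})]
    (r : ℕ) (g : Fin r → A) (_ : ∀ i, g i ∈ maximalIdeal A)
    (_ : maximalIdeal A ≤ (Ideal.span (Set.range g)).radical)
    (V : FEt.Cat (FEt.puncturedSpec (A ⧸ Ideal.span {f}) : Scheme.{u})),
    ∃ (C M : ℕ → Type u) (_ : ∀ n, CommRing (C n)) (_ : ∀ n, Algebra A (C n))
      (_ : ∀ n, CommRing (M n)) (_ : ∀ n, Algebra A (M n)) (πC : ∀ n, C (n + 1) →ₐ[A] C n)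
      (πM : ∀ n, M (n + 1) →ₐ[A] M n) (ψ : ∀ n, C n →ₐ[A] M n) (T : ∀ n, M n →ₗ[A] C n)
      (e : M 0 ≃+* Γ(V.left, ⊤)),
      (∀ a, e (algebraMap A (M 0) a) =
        (V.hom ≫ (FEt.puncturedSpec (A ⧸ Ideal.span {f})).ι ≫ mk A f).appTop.hom
          ((Scheme.ΓSpecIso (CommRingCat.of A)).inv.hom a)) ∧
      TraceSys f g C M πC πM ψ T

theorem core (h : HasTraceSys.{u}) : Core.{u} := by
  intro A _ _ _ f hf _ hreg c n hc1 hc2 hc3
  have hne : Ideal.span {f} ≠ ⊤ := fun h1 => by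
    have := (maximalIdeal A).span_singleton_le_iff_mem.2 hf
    rw [h1] at this
    exact (maximalIdeal.isMaximal A).ne_top (top_le_iff.1 this)
  have : Nontrivial (A ⧸ Ideal.span {f}) := Ideal.Quotient.nontrivial_iff.2 hne
  have hloc : IsLocalRing (A ⧸ Ideal.span {f}) :=
    IsLocalRing.of_surjective' (Ideal.Quotient.mk (Ideal.span {f})) Ideal.Quotient.mk_surjective
  rw [FormCover.nbhdExt_iff]
  intro V
  obtain ⟨r, g, hg⟩ : ∃ (r : ℕ) (g : Fin r → A), Ideal.span (Set.range g) = maximalIdeal A :=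
    Submodule.fg_iff_exists_fin_generating_family.1 (IsNoetherian.noetherian (maximalIdeal A))
  have hg1 : ∀ i, g i ∈ maximalIdeal A := fun i => hg ▸ Ideal.subset_span ⟨i, rfl⟩
  have hg2 : maximalIdeal A ≤ (Ideal.span (Set.range g)).radical := hg ▸ Ideal.le_radical
  obtain ⟨C, M, _, _, _, _, πC, πM, ψ, T, e, he, hT⟩ := h A f hf hreg r g hg1 hg2 V
  have hA := FormFin.algebraize (maximalIdeal A) g (by rw [hg]) f hf hreg c hc2.ge n hc3 hT
  exact FormCover.extends_of_alg f g hg1 hg2 c hc2.ge V e he _ hA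

theorem milnor : Milnor.{u} := by
  intro A _ _ _ f hf T _ N hN1 hN2 h
  by_cases hN : N = 0
  · subst hN
    -- then `T = ⊥`
    refine Groth.Agent.CalgB.MilRed.nbhdExt_of_quotient f T 1 one_ne_zero ?_ h
    rw [eq_bot_iff]
    rintro t ⟨ht, -⟩
    have := hN1 t ht
    rwa [pow_zero, one_mul] at this
  · exact Groth.Agent.CalgB.MilRed.nbhdExt_of_quotient f T N hN hN2 h

end Groth.Agent.Pi1C.FormMain
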