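import Groth.Agent.Pi1C.FormKill

set_option autoImplicit false

/-!
# Formal functions

`C n` the functions on `U_n`, `A → C n` locally `A / f^(n+1)`, `A` complete. For `h, h' ∈ 𝔠` and
`c ∈ lim C n` some `h h' g_l^k c` comes from `A`.
-/

namespace Groth.Agent.Pi1C.FormO

open Groth.Agent.FormalA.CechSub Groth.Agent.FormalA.CechLC Groth.Agent.FormalA.LocSub
open Groth.Agent.FormalA.CompleteCx
open FormLim FormSys FormCech FormKill

variable {A : Type*} [CommRing A] {ι : Type*} {f : A} {g : ι → A}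
variable {C : ℕ → Type*} [∀ n, AddCommGroup (C n)] [∀ n, Module A (C n)]
  {π : ∀ n, C (n + 1) →ₗ[A] C n}

theorem reg_C0 (hreg : ∀ a : A, f * a = 0 → a = 0) (k : ℕ) (x : C0 (PS g) A) (hx : f ^ k • x = 0) :
    x = 0 := by
  funext i
  exact reg_loc (pow_reg hreg k) _ (congr_fun hx i)

theorem reg_C1 (hreg : ∀ a : A, f * a = 0 → a = 0) (k : ℕ) (x : C1 (PS g) A) (hx : f ^ k • x = 0) :
    x = 0 := by
  funext i j
  exact reg_loc (pow_reg hreg k) _ (congr_fun (congr_fun hx i) j)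

theorem reg_C2 (hreg : ∀ a : A, f * a = 0 → a = 0) (k : ℕ) (x : C2 (PS g) A) (hx : f ^ k • x = 0) :
    x = 0 := by
  funext i j l
  exact reg_loc (pow_reg hreg k) _ (congr_fun (congr_fun (congr_fun hx i) j) l)

theorem map0_smul_zero {N : Type*} [AddCommGroup N] [Module A N] {φ : A →ₗ[A] N} {e : A}
    (he : ∀ x : N, e • x = 0) (z : C0 (PS g) A) : e • map0 (PS g) φ z = 0 := by
  funext i
  exact smul_eq_zero_all e he _

/-- transition of `ε` -/
theorem trans_apply (c : Lim π) (n m : ℕ) (α : ∀ n, A →ₗ[A] C n)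
    (hα : ∀ n a, π n (α (n + 1) a) = α n a) (x : C0 (PS g) A)
    (hx : map0 (PS g) (α (n + m)) x = ε (PS g) (c.1 (n + m))) :
    map0 (PS g) (α n) x = ε (PS g) (c.1 n) := by
  induction m with
  | zero => exact hx
  | succ m ih =>
    refine ih ?_
    have h1 : map0 (PS g) (π (n + m)) (map0 (PS g) (α (n + (m + 1))) x) =
        map0 (PS g) (α (n + m)) x := by
      rw [map0_comp]
      congr 1
      congr 1
      ext
      exact hα (n + m) 1
    rw [← h1, hx, map0_ε]
    congr 1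
    exact c.2 (n + m)

theorem exists_of_smul (h : ModSys f g C π) (α : ∀ n, A →ₗ[A] C n)
    (hα : ∀ n a, π n (α (n + 1) a) = α n a) (hs : ∀ n, LS g (α n))
    (hk : ∀ n, LK g (α n) (f ^ (n + 1))) (hA : FC f A) (hreg : ∀ a : A, f * a = 0 → a = 0)
    (hε : ∀ a : A, ε (PS g) a = 0 → a = 0) (n0 : ℕ) (t t' : A) (h0 : Kills0 g (f ^ n0 * t') A)
    (h1 : Kills1 g (f ^ n0 * t) A) (c : Lim π) :
    ∃ a : A, ∀ n, α n a = (f ^ n0 * (t' * t)) • c.1 n := by
  -- lifts
  have hx : ∀ j, ∃ x : C0 (PS g) A, map0 (PS g) (α (j + n0)) x = ε (PS g) (c.1 (j + n0)) := fun j =>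
    (hs _).map0 _
  choose x hx using hx
  have hy : ∀ j, ∃ y : C1 (PS g) A, d0 (PS g) (x j) = f ^ (j + n0 + 1) • y := fun j =>
    (hk _).map1 _ (by rw [map1_d0, hx, d0_ε])
  choose y hy using hy
  have hdy : ∀ j, d1 (PS g) (y j) = 0 := fun j =>
    reg_C2 hreg (j + n0 + 1) _ (by rw [← map_smul, ← hy, d1_d0])
  have hz : ∀ j, ∃ z : C0 (PS g) A, d0 (PS g) z = (f ^ n0 * t) • y j := fun j => h1 _ (hdy j)
  choose z hz using hz
  let u : ℕ → C0 (PS g) A := fun j => t • x j - f ^ (j + 1) • z j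
  have hu : ∀ j, d0 (PS g) (u j) = 0 := by
    intro j
    change d0 (PS g) (t • x j - f ^ (j + 1) • z j) = 0
    rw [map_sub, map_smul, map_smul, hy, hz, smul_smul, smul_smul, sub_eq_zero]
    congr 1
    ring
  have ha : ∀ j, ∃ a : A, ε (PS g) a = (f ^ n0 * t') • u j := fun j => h0 _ (hu j)
  choose a ha using ha
  -- convergence
  have hstep : ∀ j, ∃ b : A, a (j + 1) - a j = f ^ (j + 1) * b := by
    intro j
    have hw : ∃ w : C0 (PS g) A, x (j + 1) - x j = f ^ (j + n0 + 1) • w := by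
      refine (hk (j + n0)).map0 _ ?_
      rw [map_sub, hx, sub_eq_zero]
      refine trans_apply c (j + n0) 1 α hα (x (j + 1)) ?_
      have := hx (j + 1)
      rw [show j + n0 + 1 = j + 1 + n0 by omega]
      exact this
    obtain ⟨w, hw⟩ := hw
    let v : C0 (PS g) A := (t * f ^ n0) • w - f • z (j + 1) + z j
    have huv : u (j + 1) - u j = f ^ (j + 1) • v := by
      change t • x (j + 1) - f ^ (j + 1 + 1) • z (j + 1) - (t • x j - f ^ (j + 1) • z j) =
        f ^ (j + 1) • ((t * f ^ n0) • w - f • z (j + 1) + z j)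
      have e1 : t • x (j + 1) = t • x j + (t * f ^ (j + n0 + 1)) • w := by
        rw [mul_smul, ← hw, smul_sub]
        abel
      rw [e1, smul_add, smul_sub, smul_smul, smul_smul,
        show f ^ (j + 1) * (t * f ^ n0) = t * f ^ (j + n0 + 1) by ring, ← pow_succ]
      abel
    have hdv : d0 (PS g) v = 0 := reg_C1 hreg (j + 1) _ (by
      rw [← map_smul, ← huv, map_sub, hu, hu, sub_self])
    obtain ⟨b, hb⟩ := h0 v hdv
    refine ⟨b, ?_⟩
    rw [← sub_eq_zero]
    refine hε _ ?_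
    have e2 : ε (PS g) (f ^ (j + 1) * b) = f ^ (j + 1) • ε (PS g) b := by
      rw [← map_smul, smul_eq_mul]
    rw [map_sub, map_sub, ha, ha, e2, hb, ← smul_sub, huv, smul_smul, smul_smul, mul_comm (f ^ (j + 1)),
      sub_self]
  choose b hb using hstep
  have hsum : ∀ n, a n = a 0 + f * ∑ k ∈ Finset.range n, f ^ k * b k := by
    intro n
    induction n with
    | zero => simp
    | succ n ih =>
      rw [Finset.sum_range_succ, mul_add, ← add_assoc, ← ih, ← mul_assoc, ← pow_succ', ← hb]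
      ring
  obtain ⟨s, hs'⟩ := hA.sum b
  refine ⟨a 0 + f * s, fun n => ?_⟩
  obtain ⟨r, hr⟩ := hs' n
  have e3 : a 0 + f * s = a n + f ^ (n + 1) * r := by
    rw [hsum n, hr]
    simp only [smul_eq_mul]
    ring
  rw [e3, map_add]
  have e4 : α n (f ^ (n + 1) * r) = 0 := by
    rw [← smul_eq_mul, map_smul, h.tors]
  rw [e4, add_zero, ← sub_eq_zero]
  refine (h.closed n).inj _ ?_
  rw [map_sub, map_smul, ← map0_ε, ha, sub_eq_zero]
  change map0 (PS g) (α n) ((f ^ n0 * t') • (t • x n - f ^ (n + 1) • z n)) = _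
  rw [map_smul, map_sub, map_smul, map_smul, map0_smul_zero (h.tors n), sub_zero, smul_smul]
  rw [trans_apply c n n0 α hα (x n) (hx n)]
  congr 1
  ring

/-- The main statement on formal functions. -/
theorem exists_alg (h : ModSys f g C π) (α : ∀ n, A →ₗ[A] C n)
    (hα : ∀ n a, π n (α (n + 1) a) = α n a) (hs : ∀ n, LS g (α n))
    (hk : ∀ n, LK g (α n) (f ^ (n + 1))) (hA : FC f A) (hreg : ∀ a : A, f * a = 0 → a = 0)
    (hε : ∀ a : A, ε (PS g) a = 0 → a = 0) (n0 : ℕ) (t t' : A) (h0 : Kills0 g (f ^ n0 * t') A)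
    (h1 : Kills1 g (f ^ n0 * t) A) (i : ι) (c : Lim π) :
    ∃ (k : ℕ) (a : A), ∀ n, α n a = (t' * t * g i ^ k) • c.1 n := by
  obtain ⟨k, a0, ha0⟩ := hs n0 i (c.1 n0)
  let c0 : Lim π := ⟨fun n => α n a0, fun n => hα n a0⟩
  obtain ⟨c1, hc1⟩ := exists_of_proj_eq_zero h n0 (g i ^ k • c - c0) (by
    rw [map_sub, map_smul, proj_apply, proj_apply]
    change g i ^ k • c.1 n0 - α n0 a0 = 0
    rw [ha0, sub_self])
  obtain ⟨a1, ha1⟩ := exists_of_smul h α hα hs hk hA hreg hε n0 t t' h0 h1 (f • c1)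
  refine ⟨k, (t' * t) • a0 + a1, fun n => ?_⟩
  have e1 : g i ^ k • c.1 n = α n a0 + f ^ (n0 + 1) • c1.1 n := by
    have := congrArg (proj π n) hc1
    rw [map_sub, map_smul, map_smul, sub_eq_iff_eq_add] at this
    exact this.trans (add_comm _ _)
  rw [map_add, map_smul, ha1, mul_smul (t' * t) (g i ^ k), e1, smul_add]
  congr 1
  change (f ^ n0 * (t' * t)) • f • c1.1 n = _
  rw [smul_smul, smul_smul]
  congr 1
  ring

end Groth.Agent.Pi1C.FormO
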