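import Groth.Agent.Pi1C.FormFin
import Mathlib.RingTheory.AdicCompletion.Noetherian

set_option autoImplicit false

/-!
# Change of base ring for the annihilator conditions

`N` an `A'`-module, `A → A'` a ring map: `Kills_i g a N` over `A` implies `Kills_i` over `A'` for the
images of `g`, `a`. Consequence: `algebraize_quotient`, the algebraization theorem over `A / T` with the
annihilator and completeness hypotheses over `A`.
-/

universe u

namespace Groth.Agent.Pi1C.FormTr

open Groth.Agent.FormalA.CechSub Groth.Agent.FormalA.CechLC Groth.Agent.FormalA.LocSub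
open Groth.Agent.FormalA.CompleteCx
open FormLim FormSys FormCech FormKill FormR FormO FormFin

section E

variable {A A' : Type*} [CommRing A] [CommRing A'] [Algebra A A'] {N : Type*} [AddCommGroup N]
  [Module A N] [Module A' N] [IsScalarTower A A' N]

/-- The comparison of localizations over `A` and `A'`. -/
noncomputable def E (S : Submonoid A) (S' : Submonoid A') (hS : S' = S.map (algebraMap A A')) :
    LocalizedModule S N →+ LocalizedModule S' N where
  toFun x := LocalizedModule.liftOn x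
    (fun p => LocalizedModule.mk p.1 ⟨algebraMap A A' p.2, hS ▸ ⟨_, p.2.2, rfl⟩⟩) (by
      rintro ⟨n, s⟩ ⟨n', s'⟩ ⟨u, hu⟩
      rw [LocalizedModule.mk_eq]
      refine ⟨⟨algebraMap A A' u, hS ▸ ⟨_, u.2, rfl⟩⟩, ?_⟩
      change algebraMap A A' u • algebraMap A A' s' • n = algebraMap A A' u • algebraMap A A' s • n'
      simp only [algebraMap_smul]
      exact hu)
  map_zero' := by
    rw [← LocalizedModule.zero_mk 1, LocalizedModule.liftOn_mk]
    exact LocalizedModule.zero_mk _
  map_add' x y := by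
    induction x using LocalizedModule.induction_on with
    | _ n s =>
    induction y using LocalizedModule.induction_on with
    | _ n' s' =>
    rw [LocalizedModule.mk_add_mk, LocalizedModule.liftOn_mk, LocalizedModule.liftOn_mk,
      LocalizedModule.liftOn_mk, LocalizedModule.mk_add_mk]
    congr 1
    · change (s' : A) • n + (s : A) • n' = algebraMap A A' s' • n + algebraMap A A' s • n'
      simp only [algebraMap_smul]
    · apply Subtype.ext
      exact map_mul (algebraMap A A') _ _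

variable {S T : Submonoid A} {S' T' : Submonoid A'} (hS : S' = S.map (algebraMap A A'))
  (hT : T' = T.map (algebraMap A A'))

theorem E_mk (n : N) (s : S) : E S S' hS (LocalizedModule.mk n s) =
    LocalizedModule.mk n ⟨algebraMap A A' s, hS ▸ ⟨_, s.2, rfl⟩⟩ := rfl

theorem E_bijective : Function.Bijective (E (N := N) S S' hS) := by
  constructor
  · rw [injective_iff_map_eq_zero]
    intro x hx
    obtain ⟨n, s, rfl⟩ := exists_eq_mk x
    rw [E_mk, mk_eq_zero_iff] at hx
    obtain ⟨u, hu, h⟩ := hx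
    rw [hS] at hu
    obtain ⟨v, hv, rfl⟩ := hu
    rw [mk_eq_zero_iff]
    refine ⟨v, hv, ?_⟩
    rw [← h]
    exact (algebraMap_smul A' v n).symm
  · intro x
    obtain ⟨n, ⟨s, hs⟩, rfl⟩ := exists_eq_mk x
    have hs' := hs
    rw [hS] at hs'
    obtain ⟨v, hv, rfl⟩ := hs'
    exact ⟨LocalizedModule.mk n ⟨v, hv⟩, rfl⟩

theorem E_smul (a : A) (x : LocalizedModule S N) :
    E S S' hS (a • x) = algebraMap A A' a • E S S' hS x := by
  obtain ⟨n, s, rfl⟩ := exists_eq_mk x
  rw [LocalizedModule.smul'_mk, E_mk, E_mk, LocalizedModule.smul'_mk, algebraMap_smul]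

theorem E_res (h : S ≤ T) (h' : S' ≤ T') (x : LocalizedModule S N) :
    E T T' hT (res h x) = res h' (E S S' hS x) := by
  obtain ⟨n, s, rfl⟩ := exists_eq_mk x
  rw [res_mk, E_mk, E_mk, res_mk]

end E

section Kills

variable {A A' : Type*} [CommRing A] [CommRing A'] [Algebra A A'] {N : Type*} [AddCommGroup N]
  [Module A N] [Module A' N] [IsScalarTower A A' N] {ι : Type*} (g : ι → A)

/-- the image family -/
abbrev gm (A' : Type*) [CommRing A'] [Algebra A A'] (g : ι → A) : ι → A' :=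
  fun i => algebraMap A A' (g i)

theorem PS1 (i : ι) : PS (gm A' g) i = (PS g i).map (algebraMap A A') :=
  (Submonoid.map_powers _ _).symm

theorem PS2 (i j : ι) : PS (gm A' g) i ⊔ PS (gm A' g) j =
    (PS g i ⊔ PS g j).map (algebraMap A A') := by
  rw [Submonoid.map_sup, PS1, PS1]

theorem PS3 (i j k : ι) : PS (gm A' g) i ⊔ PS (gm A' g) j ⊔ PS (gm A' g) k =
    (PS g i ⊔ PS g j ⊔ PS g k).map (algebraMap A A') := by
  rw [Submonoid.map_sup, PS2, PS1]

theorem PS4 (i j k l : ι) : PS (gm A' g) i ⊔ PS (gm A' g) j ⊔ PS (gm A' g) k ⊔ PS (gm A' g) l =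
    (PS g i ⊔ PS g j ⊔ PS g k ⊔ PS g l).map (algebraMap A A') := by
  rw [Submonoid.map_sup, PS3, PS1]

/-- comparison of `C0` -/
noncomputable def E0 (x : C0 (PS g) N) : C0 (PS (gm A' g)) N := fun i => E _ _ (PS1 g i) (x i)
/-- comparison of `C1` -/
noncomputable def E1 (x : C1 (PS g) N) : C1 (PS (gm A' g)) N := fun i j => E _ _ (PS2 g i j) (x i j)
/-- comparison of `C2` -/
noncomputable def E2 (x : C2 (PS g) N) : C2 (PS (gm A' g)) N :=
  fun i j k => E _ _ (PS3 g i j k) (x i j k)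
/-- comparison of `C3` -/
noncomputable def E3 (x : C3 (PS g) N) : C3 (PS (gm A' g)) N :=
  fun i j k l => E _ _ (PS4 g i j k l) (x i j k l)

theorem E0_surj (x : C0 (PS (gm A' g)) N) : ∃ y, E0 g y = x := by
  choose y hy using fun i => (E_bijective (PS1 g i)).2 (x i)
  exact ⟨y, funext hy⟩

theorem E1_surj (x : C1 (PS (gm A' g)) N) : ∃ y, E1 g y = x := by
  choose y hy using fun i j => (E_bijective (PS2 g i j)).2 (x i j)
  exact ⟨y, funext fun i => funext (hy i)⟩

theorem E2_surj (x : C2 (PS (gm A' g)) N) : ∃ y, E2 g y = x := by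
  choose y hy using fun i j k => (E_bijective (PS3 g i j k)).2 (x i j k)
  exact ⟨y, funext fun i => funext fun j => funext (hy i j)⟩

theorem E1_inj (x : C1 (PS g) N) (hx : E1 (A' := A') g x = 0) : x = 0 := by
  funext i j
  refine (E_bijective (A' := A') (PS2 g i j)).1 ?_
  rw [Pi.zero_apply, Pi.zero_apply, map_zero]
  exact congr_fun (congr_fun hx i) j

theorem E2_inj (x : C2 (PS g) N) (hx : E2 (A' := A') g x = 0) : x = 0 := by
  funext i j k
  refine (E_bijective (A' := A') (PS3 g i j k)).1 ?_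
  rw [Pi.zero_apply, Pi.zero_apply, Pi.zero_apply, map_zero]
  exact congr_fun (congr_fun (congr_fun hx i) j) k

theorem E3_inj (x : C3 (PS g) N) (hx : E3 (A' := A') g x = 0) : x = 0 := by
  funext i j k l
  refine (E_bijective (A' := A') (PS4 g i j k l)).1 ?_
  rw [Pi.zero_apply, Pi.zero_apply, Pi.zero_apply, Pi.zero_apply, map_zero]
  exact congr_fun (congr_fun (congr_fun (congr_fun hx i) j) k) l

theorem E0_ε (n : N) : E0 (A' := A') g (ε (PS g) n) = ε (PS (gm A' g)) n := by
  funext i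
  exact (E_mk (PS1 g i) n 1).trans (by congr 1; exact Subtype.ext (map_one _))

theorem E1_d0 (x : C0 (PS g) N) : E1 (A' := A') g (d0 (PS g) x) = d0 (PS (gm A' g)) (E0 g x) := by
  funext i j
  change E _ _ _ (d0 (PS g) x i j) = _
  rw [d0_apply, d0_apply, map_sub, E_res (PS1 g j) (PS2 g i j) _ (le22 _ i j),
    E_res (PS1 g i) (PS2 g i j) _ (le12 _ i j)]
  rfl

theorem E2_d1 (x : C1 (PS g) N) : E2 (A' := A') g (d1 (PS g) x) = d1 (PS (gm A' g)) (E1 g x) := by
  funext i j k
  change E _ _ _ (d1 (PS g) x i j k) = _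
  rw [d1_apply, d1_apply, map_add, map_sub, E_res (PS2 g j k) (PS3 g i j k) _ (le233 _ i j k),
    E_res (PS2 g i k) (PS3 g i j k) _ (le133 _ i j k),
    E_res (PS2 g i j) (PS3 g i j k) _ (le123 _ i j k)]
  rfl

theorem E3_d2 (x : C2 (PS g) N) : E3 (A' := A') g (d2 (PS g) x) = d2 (PS (gm A' g)) (E2 g x) := by
  funext i j k l
  change E _ _ _ (d2 (PS g) x i j k l) = _
  rw [d2_apply, d2_apply, map_sub, map_add, map_sub,
    E_res (PS3 g j k l) (PS4 g i j k l) _ (le2344 _ i j k l),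
    E_res (PS3 g i k l) (PS4 g i j k l) _ (le1344 _ i j k l),
    E_res (PS3 g i j l) (PS4 g i j k l) _ (le1244 _ i j k l),
    E_res (PS3 g i j k) (PS4 g i j k l) _ (le1234 _ i j k l)]
  rfl

theorem kills0_tr {a : A} (h : Kills0 g a N) : Kills0 (gm A' g) (algebraMap A A' a) N := by
  intro x hx
  obtain ⟨x, rfl⟩ := E0_surj g x
  obtain ⟨y, hy⟩ := h x (E1_inj (A' := A') g _ (by rw [E1_d0, hx]))
  refine ⟨y, ?_⟩
  rw [← E0_ε, hy]
  funext i
  exact E_smul _ _ _

theorem kills1_tr {a : A} (h : Kills1 g a N) : Kills1 (gm A' g) (algebraMap A A' a) N := by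
  intro x hx
  obtain ⟨x, rfl⟩ := E1_surj g x
  obtain ⟨y, hy⟩ := h x (E2_inj (A' := A') g _ (by rw [E2_d1, hx]))
  refine ⟨E0 g y, ?_⟩
  rw [← E1_d0, hy]
  funext i j
  exact E_smul _ _ _

theorem kills2_tr {a : A} (h : Kills2 g a N) : Kills2 (gm A' g) (algebraMap A A' a) N := by
  intro x hx
  obtain ⟨x, rfl⟩ := E2_surj g x
  obtain ⟨y, hy⟩ := h x (E3_inj (A' := A') g _ (by rw [E3_d2, hx]))
  refine ⟨E1 g y, ?_⟩
  rw [← E2_d1, hy]
  funext i j k
  exact E_smul _ _ _

end Kills

/-- The algebraization theorem over `A / T`. -/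
theorem algebraize_quotient {A : Type u} [CommRing A] [IsNoetherianRing A] (m : Ideal A)
    [hm : m.IsMaximal] {ι : Type*} [Finite ι] (g : ι → A)
    (hg : m.radical = (Ideal.span (Set.range g)).radical) (f : A) (hfm : f ∈ m)
    [IsAdicComplete (Ideal.span {f}) A] (T : Ideal A) (hTm : T ≤ m) (hreg : ∀ a : A, f * a ∈ T → a ∈ T)
    (𝔠 : Ideal A) (h𝔠 : m ≤ (𝔠 ⊔ Ideal.span {f}).radical) (n0 : ℕ)
    (hk : ∀ i ≤ 3, ∀ a ∈ 𝔠, ∀ x : LocCoh.H m i (A ⧸ T), (f ^ n0 * a) • x = 0)
    {C M : ℕ → Type u} [∀ n, CommRing (C n)] [∀ n, Algebra (A ⧸ T) (C n)] [∀ n, CommRing (M n)]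
    [∀ n, Algebra (A ⧸ T) (M n)] {πC : ∀ n, C (n + 1) →ₐ[A ⧸ T] C n}
    {πM : ∀ n, M (n + 1) →ₐ[A ⧸ T] M n} {ψ : ∀ n, C n →ₐ[A ⧸ T] M n}
    {Tr : ∀ n, M n →ₗ[A ⧸ T] C n}
    (h : TraceSys (Ideal.Quotient.mk T f) (fun i => Ideal.Quotient.mk T (g i)) C M πC πM ψ Tr) :
    Alg (Ideal.Quotient.mk T f) (fun i => Ideal.Quotient.mk T (g i)) (𝔠.map (Ideal.Quotient.mk T))
      (limAlg πM) (M 0) (ev πM 0) := by
  have hsur : Function.Surjective (Ideal.Quotient.mk T) := Ideal.Quotient.mk_surjective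
  have hker : RingHom.ker (Ideal.Quotient.mk T) ≤ m := by rwa [Ideal.mk_ker]
  have hm1 : (m.map (Ideal.Quotient.mk T)).IsMaximal := by
    have := Ideal.map_eq_top_or_isMaximal_of_surjective (Ideal.Quotient.mk T) hsur hm
    refine this.resolve_left fun htop => hm.ne_top ?_
    have h1 := Ideal.comap_map_of_surjective (Ideal.Quotient.mk T) hsur m
    rw [htop, Ideal.comap_top] at h1
    rw [eq_comm, sup_eq_left.2 ?_] at h1
    · exact h1
    · exact hker
  have hrad : ∀ I : Ideal A, (I.radical).map (Ideal.Quotient.mk T) ≤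
      (I.map (Ideal.Quotient.mk T)).radical := fun I => Ideal.map_radical_le _
  have hg1 : (m.map (Ideal.Quotient.mk T)).radical =
      (Ideal.span (Set.range fun i => Ideal.Quotient.mk T (g i))).radical := by
    have e1 : Ideal.span (Set.range fun i => Ideal.Quotient.mk T (g i)) =
        (Ideal.span (Set.range g)).map (Ideal.Quotient.mk T) := by
      rw [Ideal.map_span, ← Set.range_comp]
      rfl
    rw [e1]
    apply le_antisymm
    · rw [← Ideal.radical_idem ((Ideal.span (Set.range g)).map (Ideal.Quotient.mk T))]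
      refine Ideal.radical_mono ((Ideal.map_mono ?_).trans (hrad _))
      exact Ideal.le_radical.trans hg.le
    · refine Ideal.radical_mono (Ideal.map_mono ?_)
      exact Ideal.le_radical.trans (hg.ge.trans hm.isPrime.radical.le)
  have hreg1 : ∀ a : A ⧸ T, Ideal.Quotient.mk T f * a = 0 → a = 0 := by
    intro a ha
    obtain ⟨a, rfl⟩ := hsur a
    rw [← map_mul, Ideal.Quotient.eq_zero_iff_mem] at ha
    exact Ideal.Quotient.eq_zero_iff_mem.2 (hreg a ha)
  have h𝔠1 : m.map (Ideal.Quotient.mk T) ≤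
      (𝔠.map (Ideal.Quotient.mk T) ⊔ Ideal.span {Ideal.Quotient.mk T f}).radical := by
    refine (Ideal.map_mono h𝔠).trans ((hrad _).trans ?_)
    rw [Ideal.map_sup, Ideal.map_span, Set.image_singleton]
  have hkills : ∀ (P : A ⧸ T → Prop), (∀ a ∈ 𝔠, P (Ideal.Quotient.mk T a)) →
      ∀ a ∈ 𝔠.map (Ideal.Quotient.mk T), P a := by
    intro P hP a ha
    obtain ⟨b, hb, rfl⟩ := (Ideal.mem_map_iff_of_surjective _ hsur).1 ha
    exact hP b hb
  have hFC : FC (Ideal.Quotient.mk T f) (A ⧸ T) := by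
    constructor
    · intro x hx
      have hH : IsHausdorff (Ideal.span {f}) (A ⧸ T) :=
        IsHausdorff.of_le_jacobson _ _ (IsAdicComplete.le_jacobson_bot _)
      refine hH.haus x fun n => ?_
      rw [SModEq.zero, mem_span_pow_smul_top]
      obtain ⟨y, hy⟩ := hx n
      refine ⟨y, ?_⟩
      rw [hy, smul_eq_mul, ← map_pow, Algebra.smul_def]
      rfl
    · intro b
      choose b' hb' using fun n => hsur (b n)
      obtain ⟨s, hs⟩ := (FC.of_isAdicComplete (f := f) (M := A)).sum b'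
      refine ⟨Ideal.Quotient.mk T s, fun n => ?_⟩
      obtain ⟨y, hy⟩ := hs n
      refine ⟨Ideal.Quotient.mk T y, ?_⟩
      rw [hy]
      simp only [smul_eq_mul, map_add, map_mul, map_pow, map_sum, hb']
  refine algebraize_aux (m.map (Ideal.Quotient.mk T)) _ hg1 _ (Ideal.mem_map_of_mem _ hfm) hreg1 hFC
    _ h𝔠1 n0 (hkills _ fun a ha => ?_) (hkills _ fun a ha => ?_) (hkills _ fun a ha => ?_) h
  · rw [← map_pow, ← map_mul]
    exact kills0_tr (A' := A ⧸ T) g (kills0_of_LocCoh g hg (A ⧸ T) _ (hk 1 (by norm_num) a ha))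
  · rw [← map_pow, ← map_mul]
    exact kills1_tr (A' := A ⧸ T) g (kills1_of_LocCoh g hg (A ⧸ T) _ (hk 2 (by norm_num) a ha))
  · rw [← map_pow, ← map_mul]
    exact kills2_tr (A' := A ⧸ T) g (kills2_of_LocCoh g hg (A ⧸ T) _ (hk 3 (by norm_num) a ha))

end Groth.Agent.Pi1C.FormTr
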