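import Groth.Agent.Pi1B.CISystem
import Groth.Agent.Pi1C.EtTraceSch
import Groth.Agent.Pi1C.FormSys

/-!
# The trace system of the lifts of a finite étale cover of a punctured spectrum

`exists_traceSys`: a finite étale cover of the punctured spectrum of `A / f` lifts to the thickenings
`U_n`, and the global sections of the lifts form a `FormSys.TraceSys`.
-/

set_option autoImplicit false
universe u

open CategoryTheory CategoryTheory.Limits AlgebraicGeometry IsLocalRing

namespace Groth.Agent.Pi1C.FormTrace123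

open Groth.Agent.Pi1B Groth.Agent.Pi1B.CITower Groth.Agent.Pi1B.CISystem FormSys
open Groth.Agent.Pi1A.FEtAffine

section Sec

variable {A : Type u} [CommRing A] {W W' : Scheme.{u}}

/-- Global sections of `W`, as an algebra over `A` through `s : W ⟶ Spec A`. -/
def Sec (_s : W ⟶ Spec (CommRingCat.of A)) : Type u := Γ(W, ⊤)

noncomputable instance (s : W ⟶ Spec (CommRingCat.of A)) : CommRing (Sec s) :=
  inferInstanceAs (CommRing Γ(W, ⊤))

noncomputable instance (s : W ⟶ Spec (CommRingCat.of A)) : Algebra A (Sec s) := (str s).toAlgebra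

theorem algebraMap_sec (s : W ⟶ Spec (CommRingCat.of A)) (a : A) :
    algebraMap A (Sec s) a = str s a := rfl

theorem smul_sec (s : W ⟶ Spec (CommRingCat.of A)) (a : A) (x : Γ(W, ⊤)) :
    (a • (show Sec s from x) : Sec s) = (show Sec s from (str s a) * x) := Algebra.smul_def a _

/-- The map on sections over `A`. -/
noncomputable def mapSec {s : W ⟶ Spec (CommRingCat.of A)} {s' : W' ⟶ Spec (CommRingCat.of A)}
    (v : W ⟶ W') (hv : v ≫ s' = s) : Sec s' →ₐ[A] Sec s :=
  { v.appTop.hom with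
    commutes' := fun a => by
      change v.appTop (str s' a) = str s a
      rw [← str_comp, hv] }

theorem mapSec_apply {s : W ⟶ Spec (CommRingCat.of A)} {s' : W' ⟶ Spec (CommRingCat.of A)}
    (v : W ⟶ W') (hv : v ≫ s' = s) (x : Sec s') : mapSec v hv x = v.appTop x := rfl

/-- The trace over `A`. -/
noncomputable def trSec {s : W ⟶ Spec (CommRingCat.of A)} {s' : W' ⟶ Spec (CommRingCat.of A)}
    (h : W' ⟶ W) [IsFinite h] [Etale h] (hh : h ≫ s = s') : Sec s' →ₗ[A] Sec s where
  toFun x := EtTraceSch.tr h ⊤ x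
  map_add' x y := map_add (EtTraceSch.tr h ⊤) x y
  map_smul' a x := by
    subst hh
    have h1 : (a • x : Sec (h ≫ s)) = h.appTop (str s a) * (show Γ(W', ⊤) from x) := by
      rw [← str_comp]
      exact smul_sec _ _ _
    have h2 := EtTraceSch.tr_top_mul h (str s a) x
    refine (congrArg (EtTraceSch.tr h ⊤) h1).trans (h2.trans ?_)
    exact (smul_sec s a _).symm

theorem trSec_apply {s : W ⟶ Spec (CommRingCat.of A)} {s' : W' ⟶ Spec (CommRingCat.of A)}
    (h : W' ⟶ W) [IsFinite h] [Etale h] (hh : h ≫ s = s') (x : Sec s') :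
    trSec h hh x = EtTraceSch.tr h ⊤ x := rfl

end Sec

section Closed

variable {A : Type*} [CommRing A] {ι : Type*} (g : ι → A) (N : Type*) [AddCommGroup N] [Module A N]

theorem closed_of_cechDepth
    (h1 : ∀ b : N, CechDepth.aug g N b = 0 → b = 0)
    (h2 : ∀ s : CechDepth.C0 g N, CechDepth.d0 g N s = 0 → ∃ b, CechDepth.aug g N b = s) :
    Closed g N where
  inj x hx := h1 x hx
  glue x hx := h2 x hx

end Closed

section Open

variable {R : Type u} [CommRing R] {W : Scheme.{u}} (j : W ⟶ Spec (CommRingCat.of R))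
  [IsOpenImmersion j] (x : R)

theorem isIso_vres {X : Scheme.{u}} (j : W ⟶ X) [IsOpenImmersion j] (y : Γ(X, ⊤))
    (hy : X.basicOpen y ≤ j.opensRange) : IsIso (vres (v := j) y) := by
  have h1 : IsIso (j.app (X.basicOpen y)) := Scheme.Hom.isIso_app _ _ hy
  have h2 : W.basicOpen (j.appTop y) = j ⁻¹ᵁ (X.basicOpen y) := (Scheme.preimage_basicOpen_top j y).symm
  have h3 : IsIso (W.presheaf.map (homOfLE h2.le).op) := by
    have : (homOfLE h2.le) = eqToHom h2 := rfl
    rw [this]
    infer_instance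
  exact IsIso.comp_isIso' h1 h3

theorem basicOpen_inv : (Spec (CommRingCat.of R)).basicOpen
    ((Scheme.ΓSpecIso (CommRingCat.of R)).inv x) = PrimeSpectrum.basicOpen x :=
  basicOpen_eq_of_affine (R := CommRingCat.of R) x

variable (hx : ∀ y : PrimeSpectrum R, x ∉ y.asIdeal → y ∈ Set.range j)

include hx in
theorem exists_str_eq [CompactSpace W] [QuasiSeparatedSpace W] (c : Γ(W, ⊤)) :
    ∃ (k : ℕ) (a : R), str j x ^ k * c = str j a := by
  let xt : Γ(Spec (CommRingCat.of R), ⊤) := (Scheme.ΓSpecIso (CommRingCat.of R)).inv x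
  have : IsIso (vres (v := j) xt) := isIso_vres j xt (by
    intro y hy
    rw [basicOpen_inv] at hy
    exact hx y hy)
  obtain ⟨c', hc'⟩ := (ConcreteCategory.bijective_of_isIso (vres (v := j) xt)).2
    (res W (j.appTop xt) c)
  obtain ⟨n, y, hy⟩ := exists_res_eq _ xt c'
  have h1 := congrArg (vres (v := j) xt) hy
  rw [map_mul, map_pow, res_vres, res_vres, hc', ← map_pow, ← map_mul, ← sub_eq_zero, ← map_sub] at h1
  obtain ⟨k, hk⟩ := exists_pow_mul_eq_zero W _ _ h1
  rw [mul_sub, sub_eq_zero] at hk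
  refine ⟨k + n, x ^ k * (Scheme.ΓSpecIso (CommRingCat.of R)).hom y, ?_⟩
  have h2 : str j ((Scheme.ΓSpecIso (CommRingCat.of R)).hom y) = j.appTop y := by
    change j.appTop ((Scheme.ΓSpecIso (CommRingCat.of R)).inv
      ((Scheme.ΓSpecIso (CommRingCat.of R)).hom y)) = _
    congr 1
    simp
  rw [map_mul, h2, map_pow, pow_add, mul_assoc]
  exact hk.symm

include hx in
theorem exists_pow_mul_of_str_eq_zero (a : R) (ha : str j a = 0) : ∃ k : ℕ, x ^ k * a = 0 := by
  let xt : Γ(Spec (CommRingCat.of R), ⊤) := (Scheme.ΓSpecIso (CommRingCat.of R)).inv x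
  have : IsIso (vres (v := j) xt) := isIso_vres j xt (by
    intro y hy
    rw [basicOpen_inv] at hy
    exact hx y hy)
  have h1 : vres (v := j) xt (res _ xt ((Scheme.ΓSpecIso (CommRingCat.of R)).inv a)) = 0 := by
    rw [res_vres]
    have : j.appTop ((Scheme.ΓSpecIso (CommRingCat.of R)).inv a) = 0 := ha
    rw [this, map_zero]
  have h2 : res _ xt ((Scheme.ΓSpecIso (CommRingCat.of R)).inv a) = 0 :=
    (ConcreteCategory.bijective_of_isIso (vres (v := j) xt)).1 (by rw [h1, map_zero])
  obtain ⟨k, hk⟩ := exists_pow_mul_eq_zero _ _ _ h2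
  refine ⟨k, (ConcreteCategory.bijective_of_isIso (Scheme.ΓSpecIso (CommRingCat.of R)).inv).1 ?_⟩
  rw [map_mul, map_pow, map_zero]
  exact hk

end Open

section Lvl

variable (A : Type u) [CommRing A] [IsLocalRing A] (f : A)

/-- A flat scheme over `U_n` whose basic opens are affine. -/
structure Lvl (n : ℕ) {W : Scheme.{u}} (p : W ⟶ CISystem.T A f n) : Prop where
  flat : Flat p
  compact : CompactSpace W
  qs : QuasiSeparatedSpace W
  aff : ∀ x ∈ maximalIdeal A, IsAffineOpen (W.basicOpen (str p (Ideal.Quotient.mk _ x)))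
  mem : ∀ w : W, (p ≫ q A f n) w ∈ FEt.puncturedSpec A

theorem Lvl.of_cover [CompactSpace (FEt.puncturedSpec A : Scheme.{u})] {n : ℕ}
    (V : FEt.Cat (UU A f (FEt.puncturedSpec A) n)) : Lvl A f n (p V) where
  flat := inferInstance
  compact := inferInstance
  qs := inferInstance
  aff _ hx := isAffineOpen_basicOpen V (basicOpen_le A hx)
  mem w := by
    change s V w ∈ _
    rw [s_eq, Scheme.Hom.comp_apply]
    exact ((V.hom ≫ l A f (FEt.puncturedSpec A) n) w).2

theorem Lvl.base [CompactSpace (FEt.puncturedSpec A : Scheme.{u})] (n : ℕ) :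
    Lvl A f n (j A f (FEt.puncturedSpec A) n) := by
  let V : FEt.Cat (UU A f (FEt.puncturedSpec A) n) :=
    MorphismProperty.Over.mk _ (𝟙 (UU A f (FEt.puncturedSpec A) n))
      ⟨inferInstanceAs (IsFinite (𝟙 _)), inferInstanceAs (Etale (𝟙 _))⟩
  have h : p V = j A f (FEt.puncturedSpec A) n := Category.id_comp _
  have := Lvl.of_cover A f V
  rw [h] at this
  exact this

variable {A f}

theorem Lvl.iSup_basicOpen {n : ℕ} {W : Scheme.{u}} {p : W ⟶ CISystem.T A f n} (hL : Lvl A f n p)
    {s : W ⟶ Spec (CommRingCat.of A)} (hs : p ≫ q A f n = s) {ι : Type} (g : ι → A)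
    (hrad : maximalIdeal A ≤ (Ideal.span (Set.range g)).radical) :
    ⨆ i, W.basicOpen (str s (g i)) = ⊤ := by
  rw [eq_top_iff]
  intro y _
  have hy : s y ∈ FEt.puncturedSpec A := hs ▸ hL.mem y
  by_contra hcon
  apply hy
  have h1 : ∀ i, g i ∈ (s y).asIdeal := by
    intro i
    by_contra hi
    apply hcon
    rw [TopologicalSpace.Opens.mem_iSup]
    refine ⟨i, ?_⟩
    rw [basicOpen_str]
    exact hi
  have h2 : Ideal.span (Set.range g) ≤ (s y).asIdeal := by
    rw [Ideal.span_le]
    rintro _ ⟨i, rfl⟩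
    exact h1 i
  have h3 : IsLocalRing.maximalIdeal A ≤ (s y).asIdeal :=
    hrad.trans ((Ideal.IsPrime.radical_le_iff (s y).2).mpr h2)
  have h4 : IsLocalRing.maximalIdeal A = (s y).asIdeal :=
    (IsLocalRing.maximalIdeal.isMaximal A).eq_of_le (s y).2.ne_top h3
  exact PrimeSpectrum.ext h4.symm

omit [IsLocalRing A] in
theorem str_quot {n : ℕ} {W : Scheme.{u}} {p : W ⟶ CISystem.T A f n}
    {s : W ⟶ Spec (CommRingCat.of A)} (hs : p ≫ q A f n = s) (a : A) :
    str s a = str p (Ideal.Quotient.mk _ a) := by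
  rw [← hs, q, str_comp_spec]

theorem modSys (hreg : IsSMulRegular A f) {ι : Type} [Finite ι] (g : ι → A)
    (hg : ∀ i, g i ∈ maximalIdeal A)
    (hrad : maximalIdeal A ≤ (Ideal.span (Set.range g)).radical)
    (W : ℕ → Scheme.{u}) (p : ∀ n, W n ⟶ CISystem.T A f n)
    (s : ∀ n, W n ⟶ Spec (CommRingCat.of A)) (hs : ∀ n, p n ≫ q A f n = s n)
    (hL : ∀ n, Lvl A f n (p n)) (v : ∀ n, W n ⟶ W (n + 1))
    (hv : ∀ n, IsPullback (v n) (p n) (p (n + 1)) (t A f n))
    (hvs : ∀ n, v n ≫ s (n + 1) = s n) :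
    ModSys f g (fun n => Sec (s n)) (fun n => (mapSec (v n) (hvs n)).toLinearMap) where
  tors n x := by
    refine (smul_sec (s n) _ _).trans ?_
    rw [str_quot (hs n), Ideal.Quotient.eq_zero_iff_mem.mpr (Ideal.mem_span_singleton_self _),
      map_zero]
    exact zero_mul _
  lift n i x := by
    have := (hL n).compact
    have := (hL n).qs
    have := (hL (n + 1)).compact
    have := (hL (n + 1)).qs
    obtain ⟨k, y, hy⟩ := exists_lift (hv n) (φ_surj A f n) (Ideal.Quotient.mk _ (g i))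
      ((hL (n + 1)).aff _ (hg i)) x
    refine ⟨k, y, hy.trans ?_⟩
    refine Eq.trans ?_ (smul_sec (s n) _ _).symm
    rw [map_pow, str_quot (hs n)]
    rfl
  ker n i x hx := by
    have := (hL n).compact
    have := (hL n).qs
    have := (hL (n + 1)).compact
    have := (hL (n + 1)).qs
    obtain ⟨k, z, hz⟩ := ker_le (hv n) (φ_surj A f n) (Ideal.Quotient.mk _ (g i))
      ((hL (n + 1)).aff _ (hg i)) _ (φ_ker A f n) x hx
    refine ⟨k, z, ?_⟩
    refine (smul_sec (s (n + 1)) _ _).trans (Eq.trans ?_ (smul_sec (s (n + 1)) _ _).symm)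
    rw [map_pow, str_quot (hs (n + 1)), str_quot (hs (n + 1))]
    exact hz
  ftors n i x hx := by
    have := (hL n).compact
    have := (hL n).qs
    have := (hL n).flat
    have hx' : str (p n) (Ideal.Quotient.mk _ f) * (show Γ(W n, ⊤) from x) = 0 := by
      rw [← str_quot (hs n)]
      exact (smul_sec (s n) f x).symm.trans hx
    obtain ⟨k, z, hz⟩ := exists_of_mul_eq_zero (p n) (Ideal.Quotient.mk _ (g i))
      ((hL n).aff _ (hg i)) (Ideal.Quotient.mk _ f) (Ideal.Quotient.mk _ (f ^ n)) (by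
        intro y hy
        obtain ⟨y, rfl⟩ := Ideal.Quotient.mk_surjective y
        rw [← map_mul, Ideal.Quotient.eq_zero_iff_mem, Ideal.mem_span_singleton'] at hy
        obtain ⟨z, hz⟩ := hy
        refine ⟨Ideal.Quotient.mk _ z, ?_⟩
        rw [← map_mul]
        congr 1
        apply hreg
        change f * y = f * (f ^ n * z)
        rw [← hz]
        ring) (by
        rw [← map_mul, Ideal.Quotient.eq_zero_iff_mem, ← pow_succ']
        exact Ideal.mem_span_singleton_self _) x hx'
    refine ⟨k, z, ?_⟩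
    refine (smul_sec (s n) _ _).trans (Eq.trans ?_ (smul_sec (s n) _ _).symm)
    rw [map_pow, str_quot (hs n), str_quot (hs n)]
    exact hz
  closed n := by
    have := (hL n).compact
    have := (hL n).qs
    let _ : Algebra A Γ(W n, ⊤) := (str (s n)).toAlgebra
    have hcov : ⨆ i, (W n).basicOpen (algebraMap A Γ(W n, ⊤) (g i)) = ⊤ :=
      (hL n).iSup_basicOpen (hs n) g hrad
    exact closed_of_cechDepth g Γ(W n, ⊤) (CISheaf.aug_injective g hcov)
      (CISheaf.exists_aug_eq g hcov)

end Lvl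

section Main

/-- The trace system of a tower of lifts. -/
theorem traceSys_tower {A : Type u} [CommRing A] [IsNoetherianRing A] [IsLocalRing A] {f : A}
    (hreg : IsSMulRegular A f) {ι : Type} [Finite ι] (g : ι → A)
    (hg : ∀ i, g i ∈ maximalIdeal A)
    (hrad : maximalIdeal A ≤ (Ideal.span (Set.range g)).radical)
    (V : ∀ n, FEt.Cat (UU A f (FEt.puncturedSpec A) n))
    (v : ∀ n, (V n).left ⟶ (V (n + 1)).left)
    (hv : ∀ n, IsPullback (v n) (V n).hom (V (n + 1)).hom (i A f (FEt.puncturedSpec A) n))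
    (sU : ∀ n, UU A f (FEt.puncturedSpec A) n ⟶ Spec (CommRingCat.of A))
    (hsU : ∀ n, j A f (FEt.puncturedSpec A) n ≫ q A f n = sU n)
    (hi : ∀ n, i A f (FEt.puncturedSpec A) n ≫ sU (n + 1) = sU n)
    (hs : ∀ n, (V n).hom ≫ sU n = s (V n))
    (hvs : ∀ n, v n ≫ s (V (n + 1)) = s (V n)) :
    TraceSys f g (fun n => Sec (sU n)) (fun n => Sec (s (V n)))
      (fun n => mapSec (i A f (FEt.puncturedSpec A) n) (hi n)) (fun n => mapSec (v n) (hvs n))
      (fun n => mapSec (V n).hom (hs n)) (fun n => trSec (V n).hom (hs n)) := by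
  have := compactSpace_punctured A
  have hsq : ∀ n c, (v n).appTop ((V (n + 1)).hom.appTop c) =
      (V n).hom.appTop ((i A f (FEt.puncturedSpec A) n).appTop c) := by
    intro n c
    rw [← CommRingCat.comp_apply, ← CommRingCat.comp_apply, ← Scheme.Hom.comp_appTop,
      ← Scheme.Hom.comp_appTop, (hv n).w]
  constructor
  · exact modSys hreg g hg hrad _ (fun n => j A f (FEt.puncturedSpec A) n) sU hsU
      (fun n => Lvl.base A f n) _ (fun n => isPullback_i A f _ n) hi
  · exact modSys hreg g hg hrad _ (fun n => p (V n)) (fun n => s (V n)) (fun n => rfl)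
      (fun n => Lvl.of_cover A f (V n)) v
      (fun n => (hv n).paste_vert (isPullback_i A f _ n)) hvs
  · intro n k c
    have hL := Lvl.base A f n
    have := hL.compact
    have := hL.qs
    obtain ⟨m, a, ha⟩ := exists_str_eq (j A f (FEt.puncturedSpec A) n)
      (Ideal.Quotient.mk _ (g k)) (by
        intro y hy
        have h1 : Set.range (j A f (FEt.puncturedSpec A) n) =
            (q A f n) ⁻¹' (SetLike.coe (FEt.puncturedSpec A)) := by
          refine (Scheme.Pullback.range_fst _ _).trans ?_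
          rw [Scheme.Opens.range_ι]
        rw [h1]
        exact basicOpen_le A (hg k) (show g k ∉ ((q A f n) y).asIdeal from hy)) c
    obtain ⟨a, rfl⟩ := Ideal.Quotient.mk_surjective a
    refine ⟨m, a, (smul_sec (sU n) _ _).trans ?_⟩
    rw [algebraMap_sec, map_pow, str_quot (hsU n), str_quot (hsU n)]
    exact ha
  · intro n k a ha
    obtain ⟨m, hm⟩ := exists_pow_mul_of_str_eq_zero (j A f (FEt.puncturedSpec A) n)
      (Ideal.Quotient.mk _ (g k)) (by
        intro y hy
        have h1 : Set.range (j A f (FEt.puncturedSpec A) n) =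
            (q A f n) ⁻¹' (SetLike.coe (FEt.puncturedSpec A)) := by
          refine (Scheme.Pullback.range_fst _ _).trans ?_
          rw [Scheme.Opens.range_ι]
        rw [h1]
        exact basicOpen_le A (hg k) (show g k ∉ ((q A f n) y).asIdeal from hy))
      (Ideal.Quotient.mk _ a) (by rw [← str_quot (hsU n)]; exact ha)
    rw [← map_pow, ← map_mul, Ideal.Quotient.eq_zero_iff_mem, Ideal.mem_span_singleton'] at hm
    obtain ⟨b, hb⟩ := hm
    exact ⟨m, b, by rw [← hb, mul_comm]⟩
  · intro n c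
    exact hsq n c
  · intro n x
    exact (EtTraceSch.trTop_baseChange (hv n) x).symm
  · intro n c x
    exact EtTraceSch.tr_top_mul (V n).hom c x
  · intro n k
    have hT : IsNoetherian (CISystem.T A f n) := inferInstance
    have h1 : IsLocallyNoetherian (UU A f (FEt.puncturedSpec A) n) :=
      isLocallyNoetherian_of_isOpenImmersion (j A f (FEt.puncturedSpec A) n)
    have h2 : CompactSpace (UU A f (FEt.puncturedSpec A) n) := (Lvl.base A f n).compact
    have h3 : IsNoetherian (UU A f (FEt.puncturedSpec A) n) := {}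
    have h4 : IsNoetherian (V n).left := EtTraceSch.isNoetherian_of_isFinite
      (U := UU A f (FEt.puncturedSpec A) n) (V n).hom
    obtain ⟨r, m, a, b, hab⟩ := EtTraceSch.exists_dual_denom (V := (V n).left)
      (U := UU A f (FEt.puncturedSpec A) n) (V n).hom (str (sU n) (g k)) (by
      rw [str_quot (hsU n)]
      exact (Lvl.base A f n).aff _ (hg k))
    refine ⟨r, m, a, b, fun x => ?_⟩
    have h5 := hab x
    rw [← str_comp, hs] at h5
    refine (smul_sec (s (V n)) _ _).trans ?_
    rw [map_pow]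
    exact h5

/-- The trace system of a cover of `U_0`. -/
theorem exists_traceSys_zero (A : Type u) [CommRing A] [IsNoetherianRing A] [IsLocalRing A] (f : A)
    (hreg : IsSMulRegular A f) {ι : Type} [Finite ι] (g : ι → A)
    (hg : ∀ i, g i ∈ maximalIdeal A)
    (hrad : maximalIdeal A ≤ (Ideal.span (Set.range g)).radical)
    (V0 : FEt.Cat (UU A f (FEt.puncturedSpec A) 0)) :
    ∃ (C M : ℕ → Type u) (_ : ∀ n, CommRing (C n)) (_ : ∀ n, Algebra A (C n))
      (_ : ∀ n, CommRing (M n)) (_ : ∀ n, Algebra A (M n))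
      (πC : ∀ n, C (n + 1) →ₐ[A] C n) (πM : ∀ n, M (n + 1) →ₐ[A] M n)
      (ψ : ∀ n, C n →ₐ[A] M n) (T : ∀ n, M n →ₗ[A] C n)
      (eC : C 0 ≃+* Γ(UU A f (FEt.puncturedSpec A) 0, ⊤)) (eM : M 0 ≃+* Γ(V0.left, ⊤)),
      (∀ a, eC (algebraMap A (C 0) a) = str (j A f (FEt.puncturedSpec A) 0 ≫ q A f 0) a) ∧
      (∀ a, eM (algebraMap A (M 0) a) = str (s V0) a) ∧
      (∀ c, eM (ψ 0 c) = V0.hom.appTop (eC c)) ∧
      (∀ x, eC (T 0 x) = EtTraceSch.tr V0.hom ⊤ (eM x)) ∧
      TraceSys f g C M πC πM ψ T := by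
  obtain ⟨V, rfl, hV⟩ := exists_tower A f (FEt.puncturedSpec A) V0
  have hi : ∀ n, i A f (FEt.puncturedSpec A) n ≫ j A f (FEt.puncturedSpec A) (n + 1) ≫ q A f (n + 1)
      = j A f (FEt.puncturedSpec A) n ≫ q A f n := fun n => by
    rw [← Category.assoc, i_j, Category.assoc, t_q]
  have hs : ∀ n, (V n).hom ≫ j A f (FEt.puncturedSpec A) n ≫ q A f n = s (V n) := fun n => by
    rw [s, p, Category.assoc]
  have := traceSys_tower hreg g hg hrad V (fun n => CISystem.v (V n) (V (n + 1)) (hV n).some)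
    (fun n => isPullback_v _ _ _) (fun n => j A f (FEt.puncturedSpec A) n ≫ q A f n)
    (fun n => rfl) hi hs (fun n => v_s _ _ _)
  exact ⟨_, _, _, _, _, _, _, _, _, _, RingEquiv.refl _, RingEquiv.refl _, fun a => rfl,
    fun a => rfl, fun c => rfl, fun x => rfl, this⟩

/-- **[8a]** The trace system of a cover of the punctured spectrum of `A / f`. -/
theorem exists_traceSys (A : Type u) [CommRing A] [IsNoetherianRing A] [IsLocalRing A] (f : A)
    [IsLocalRing (A ⧸ Ideal.span {f})]
    (hreg : IsSMulRegular A f) {ι : Type} [Finite ι] (g : ι → A)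
    (hg : ∀ i, g i ∈ maximalIdeal A)
    (hrad : maximalIdeal A ≤ (Ideal.span (Set.range g)).radical)
    (V : FEt.Cat (FEt.puncturedSpec (A ⧸ Ideal.span {f}) : Scheme.{u})) :
    ∃ (C M : ℕ → Type u) (_ : ∀ n, CommRing (C n)) (_ : ∀ n, Algebra A (C n))
      (_ : ∀ n, CommRing (M n)) (_ : ∀ n, Algebra A (M n))
      (πC : ∀ n, C (n + 1) →ₐ[A] C n) (πM : ∀ n, M (n + 1) →ₐ[A] M n)
      (ψ : ∀ n, C n →ₐ[A] M n) (T : ∀ n, M n →ₗ[A] C n) (e : M 0 ≃+* Γ(V.left, ⊤)),
      (∀ a, e (algebraMap A (M 0) a) =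
        (V.hom ≫ (FEt.puncturedSpec (A ⧸ Ideal.span {f})).ι ≫
          Spec.map (CommRingCat.ofHom (Ideal.Quotient.mk (Ideal.span {f})))).appTop.hom
            ((Scheme.ΓSpecIso (CommRingCat.of A)).inv.hom a)) ∧
      TraceSys f g C M πC πM ψ T := by
  obtain ⟨C, M, iC, jC, iM, jM, πC, πM, ψ, T, eC, eM, h1, h2, h3, h4, h5⟩ :=
    exists_traceSys_zero A f hreg g hg hrad ((FEt.restrict (c A f).hom).obj V)
  obtain ⟨e, he⟩ := exists_equiv A f V _ rfl
  exact ⟨C, M, iC, jC, iM, jM, πC, πM, ψ, T, eM.trans e, fun a => by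
    rw [RingEquiv.trans_apply, h2]
    exact he a, h5⟩

end Main

end Groth.Agent.Pi1C.FormTrace123
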