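import Groth.Prelude.Def_Pi1X
import Mathlib.CategoryTheory.Galois.Basic
import Mathlib.CategoryTheory.Galois.Topology
import Mathlib.CategoryTheory.Galois.Equivalence
import Mathlib.Topology.Algebra.Group.Basic

/-!
Shared lemmas for the Galois category rows S1187, S1188, S1189, S1190:
general facts about a fibre functor `F` on a Galois category and the whiskering map.
-/

set_option autoImplicit false
universe u v w u₁ u₂ w'

open CategoryTheory PreGaloisCategory

namespace Groth.Agent.Pi1C.GalWhisker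

section one

variable {C : Type u₁} [Category.{u₂} C] [GaloisCategory C] (F : C ⥤ FintypeCat.{w}) [FiberFunctor F]

/-- An equivariant map of fibres comes from a unique morphism. -/
lemma exists_map_of_equivariant {X Y : C} (f : F.obj X → F.obj Y)
    (hf : ∀ (σ : Aut F) (x : F.obj X), f (σ • x) = σ • f x) :
    ∃ g : X ⟶ Y, ∀ x, F.map g x = f x := by
  let φ : (functorToAction F).obj X ⟶ (functorToAction F).obj Y :=
    { hom := FintypeCat.homMk f
      comm := by
        intro σ
        ext x
        exact hf σ x }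
  obtain ⟨g, hg⟩ := (functorToAction F).map_surjective φ
  refine ⟨g, fun x => ?_⟩
  have := congrArg (fun ψ => ψ.hom x) hg
  exact this

/-- An equivariant bijection of fibres comes from an isomorphism. -/
lemma exists_iso_of_equivariant {X Y : C} (f : F.obj X ≃ F.obj Y)
    (hf : ∀ (σ : Aut F) (x : F.obj X), f (σ • x) = σ • f x) :
    ∃ g : X ≅ Y, ∀ x, F.map g.hom x = f x := by
  obtain ⟨g, hg⟩ := exists_map_of_equivariant F f hf
  have : IsIso (F.map g) := by
    apply (ConcreteCategory.isIso_iff_bijective (F.map g)).mpr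
    have : (⇑(ConcreteCategory.hom (F.map g)) : F.obj X → F.obj Y) = f := funext hg
    rw [this]
    exact f.bijective
  have : IsIso g := isIso_of_reflects_iso g F
  exact ⟨asIso g, hg⟩

/-- From a connected object, there is a morphism taking a point to another point as soon as
the stabilizers are contained in each other. -/
lemma exists_map_of_stabilizer_le {A X : C} [IsConnected A] (a : F.obj A) (x : F.obj X)
    (h : ∀ σ : Aut F, σ • a = a → σ • x = x) :
    ∃ g : A ⟶ X, F.map g a = x := by
  classical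
  have htr : ∀ b : F.obj A, ∃ σ : Aut F, σ • a = b := fun b =>
    MulAction.exists_smul_eq (Aut F) a b
  choose s hs using htr
  have key : ∀ (σ τ : Aut F), σ • a = τ • a → σ • x = τ • x := by
    intro σ τ hστ
    have : (τ⁻¹ * σ) • a = a := by rw [mul_smul, hστ, inv_smul_smul]
    have h2 := h _ this
    rw [mul_smul, inv_smul_eq_iff] at h2
    exact h2
  obtain ⟨g, hg⟩ := exists_map_of_equivariant F (fun b => s b • x) (by
    intro σ b
    rw [← mul_smul]
    apply key
    rw [hs, mul_smul, hs])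
  refine ⟨g, ?_⟩
  rw [hg]
  have := key (s a) 1 (by rw [hs, one_smul])
  rw [this, one_smul]

omit [GaloisCategory C] [FiberFunctor F] in
/-- Morphisms are equivariant on the fibres. -/
lemma map_smul' {X Y : C} (f : X ⟶ Y) (σ : Aut F) (x : F.obj X) :
    F.map f (σ • x) = σ • F.map f x := (mulAction_naturality F σ f x).symm

/-- Finite discrete continuous sets come from objects. -/
lemma exists_obj_of_action (T : Type w) [Finite T] [MulAction (Aut F) T]
    (hT : ∀ t : T, IsOpen (MulAction.stabilizer (Aut F) t : Set (Aut F))) :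
    ∃ (X : C) (e : F.obj X ≃ T), ∀ (σ : Aut F) (x : F.obj X), e (σ • x) = σ • e x := by
  let _ : TopologicalSpace T := ⊥
  have _ : DiscreteTopology T := ⟨rfl⟩
  have hc : ContinuousSMul (Aut F) T := by
    constructor
    rw [continuous_prod_of_discrete_right]
    intro t
    rw [continuous_discrete_rng]
    intro s
    rw [isOpen_iff_mem_nhds]
    intro σ hσ
    have h1 : IsOpen ((fun τ : Aut F => σ⁻¹ * τ) ⁻¹' (MulAction.stabilizer (Aut F) t : Set (Aut F))) :=
      (hT t).preimage (continuous_const_mul _)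
    refine Filter.mem_of_superset (h1.mem_nhds ?_) ?_
    · simp only [Set.mem_preimage, inv_mul_cancel]
      exact one_mem _
    · intro τ hτ
      simp only [Set.mem_preimage, SetLike.mem_coe, MulAction.mem_stabilizer_iff, mul_smul,
        inv_smul_eq_iff] at hτ hσ ⊢
      rw [hτ]
      exact hσ
  let _ : Fintype T := Fintype.ofFinite T
  let X₀ : Action FintypeCat.{w} (Aut F) := Action.FintypeCat.ofMulAction (Aut F) (FintypeCat.of T)
  open scoped FintypeCatDiscrete in
  let X₁ : ContAction FintypeCat.{w} (Aut F) := ⟨X₀, hc⟩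
  let X : C := (functorToContAction F).objPreimage X₁
  let e : (functorToContAction F).obj X ≅ X₁ := (functorToContAction F).objObjPreimageIso X₁
  let e' : (functorToAction F).obj X ≅ X₀ := (ObjectProperty.ι _).mapIso e
  let e'' : F.obj X ≅ FintypeCat.of T := (Action.forget _ _).mapIso e'
  refine ⟨X, FintypeCat.equivEquivIso.symm e'', fun σ x => ?_⟩
  have h := e'.hom.comm σ
  exact ConcreteCategory.congr_hom h x

/-- The fibre of the terminal object is a singleton. -/
lemma nonempty_unique_fiber_terminal : Nonempty (Unique (F.obj (⊤_ C))) := by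
  have h := Limits.terminalIsTerminal.isTerminalObj (F ⋙ FintypeCat.incl) (⊤_ C)
  exact ⟨Limits.Types.isTerminalEquivUnique _ h⟩

/-- The fibre of a finite sum of copies of the terminal object. -/
lemma exists_equiv_fiber_sigma_terminal (n : ℕ) :
    ∃ _ : F.obj (∐ fun _ : Fin n => ⊤_ C) ≃ Fin n,
      ∀ (σ : Aut F) (x : F.obj (∐ fun _ : Fin n => ⊤_ C)), σ • x = x := by
  obtain ⟨hu⟩ := nonempty_unique_fiber_terminal F
  let hu' : Unique ((F ⋙ FintypeCat.incl).obj (⊤_ C)) := hu
  let i : (F ⋙ FintypeCat.incl).obj (∐ fun _ : Fin n => ⊤_ C) ≅ _ :=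
    Limits.PreservesCoproduct.iso (F ⋙ FintypeCat.incl) (fun _ : Fin n => ⊤_ C) ≪≫
      Limits.Types.coproductIso _
  let e := i.toEquiv
  refine ⟨e.trans (Equiv.sigmaUnique (Fin n) _), ?_⟩
  intro σ x
  obtain ⟨y, rfl⟩ := e.symm.surjective x
  obtain ⟨j, y⟩ := y
  have h1 : (F ⋙ FintypeCat.incl).map (Limits.Sigma.ι (fun _ : Fin n => ⊤_ C) j) y =
      e.symm ⟨j, y⟩ := by
    have h0 : (F ⋙ FintypeCat.incl).map (Limits.Sigma.ι (fun _ : Fin n => ⊤_ C) j) =
        (TypeCat.ofHom fun y => (⟨j, y⟩ : Σ _ : Fin n, (F ⋙ FintypeCat.incl).obj (⊤_ C))) ≫ i.inv := by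
      dsimp only [i, Iso.trans_inv]
      rw [← Category.assoc]
      erw [Limits.Types.coproductIso_mk_comp_inv
        (fun _ : Fin n => (F ⋙ FintypeCat.incl).obj (⊤_ C)) j]
      rw [Limits.PreservesCoproduct.inv_hom, Limits.ι_comp_sigmaComparison]
    rw [h0]
    rfl
  have h2 : (F.map (Limits.Sigma.ι (fun _ : Fin n => ⊤_ C) j) (y : F.obj (⊤_ C)) : F.obj _) =
      e.symm ⟨j, y⟩ := h1
  rw [← h2, ← map_smul' F]
  congr 1
  exact Subsingleton.elim _ _

/-- An object is a finite sum of copies of the terminal object iff the fundamental group acts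
trivially on the fibre. -/
lemma split_iff (Y : C) :
    (∃ n : ℕ, Nonempty (Y ≅ ∐ fun _ : Fin n => ⊤_ C)) ↔ ∀ (σ : Aut F) (y : F.obj Y), σ • y = y := by
  constructor
  · rintro ⟨n, ⟨i⟩⟩ σ y
    obtain ⟨-, h⟩ := exists_equiv_fiber_sigma_terminal F n
    have h1 := h σ (F.map i.hom y)
    rw [← map_smul' F] at h1
    have h2 := congrArg (F.map i.inv) h1
    have h3 : ∀ z, F.map i.inv (F.map i.hom z) = z := by
      intro z
      rw [← ConcreteCategory.comp_apply, ← F.map_comp]
      simp
    rwa [h3, h3] at h2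
  · intro h
    obtain ⟨n, ⟨e⟩⟩ := Finite.exists_equiv_fin (F.obj Y)
    obtain ⟨e', h'⟩ := exists_equiv_fiber_sigma_terminal F n
    obtain ⟨g, -⟩ := exists_iso_of_equivariant F (e.trans e'.symm) (by
      intro σ x
      rw [h, h'])
    exact ⟨n, ⟨g⟩⟩

/-- Membership in a closed subset of the fundamental group can be checked on Galois objects. -/
lemma mem_of_isClosed {S : Set (Aut F)} (hS : IsClosed S) (σ : Aut F)
    (h : ∀ (A : C) (a : F.obj A), IsGalois A → ∃ τ ∈ S, τ • a = σ • a) : σ ∈ S := by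
  by_contra hσ
  have h1 : ((fun g : Aut F => σ * g) ⁻¹' Sᶜ) ∈ nhds (1 : Aut F) := by
    refine IsOpen.mem_nhds (hS.isOpen_compl.preimage (continuous_const_mul σ)) ?_
    simpa using hσ
  obtain ⟨X, -, hX⟩ := (nhds_one_has_basis_stabilizers F).mem_iff.mp h1
  obtain ⟨τ, hτ, hτ'⟩ := h X.obj X.pt X.isGalois
  have h2 : σ⁻¹ * τ ∈ MulAction.stabilizer (Aut F) X.pt := by
    rw [MulAction.mem_stabilizer_iff, mul_smul, hτ', inv_smul_smul]
  have h3 := hX h2
  simp only [Set.mem_preimage, mul_inv_cancel_left, Set.mem_compl_iff] at h3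
  exact h3 hτ

end one

section whisk

variable {C : Type u} {C' : Type u} [Category.{v} C] [Category.{v} C'] 
  (H : C ⥤ C')
  (F' : C' ⥤ FintypeCat.{w}) 

lemma autWhisker_smul {X : C} (σ : Aut F') (x : F'.obj (H.obj X)) :
    (Pi1X.autWhisker H F' σ • (show (H ⋙ F').obj X from x) : (H ⋙ F').obj X) = σ • x := rfl

lemma continuous_autWhisker : Continuous (Pi1X.autWhisker H F') := by
  rw [Topology.IsInducing.continuous_iff (autEmbedding_isClosedEmbedding _).isInducing,
    continuous_pi_iff]
  intro X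
  change Continuous fun a ↦ (autEmbedding F' a (H.obj X))
  fun_prop

lemma isClosed_range_autWhisker : IsClosed (Set.range (Pi1X.autWhisker H F')) :=
  (isCompact_range (continuous_autWhisker H F')).isClosed

variable [GaloisCategory C] [GaloisCategory C'] [FiberFunctor F'] [FiberFunctor (H ⋙ F')]

omit [GaloisCategory C'] [FiberFunctor F'] in
include F' in
lemma faithful_of_fiberFunctor : H.Faithful := Functor.Faithful.of_comp H F'

lemma full_of_surjective (h : Function.Surjective (Pi1X.autWhisker H F')) : H.Full where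
  map_surjective {X Y} f := by
    obtain ⟨g, hg⟩ := exists_map_of_equivariant (H ⋙ F') (X := X) (Y := Y)
      (fun x => F'.map f x) (by
        intro σ x
        obtain ⟨τ, rfl⟩ := h σ
        exact map_smul' F' f τ x)
    refine ⟨g, F'.map_injective ?_⟩
    ext x
    exact hg x

/-- If `H` is full then the image of the fundamental group is everything. -/
lemma surjective_of_full [H.Full] :
    Function.Surjective (Pi1X.autWhisker H F') := by
  classical
  intro σ
  refine mem_of_isClosed (H ⋙ F') (isClosed_range_autWhisker H F') σ ?_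
  intro A a hA
  let a' : F'.obj (H.obj A) := a
  -- the two-point object
  let T : C := ∐ fun _ : Fin 2 => ⊤_ C
  obtain ⟨eT, hT⟩ := exists_equiv_fiber_sigma_terminal (H ⋙ F') 2
  -- characteristic function of the orbit of `a`
  let χ : F'.obj (H.obj A) → F'.obj (H.obj T) := fun b =>
    if ∃ τ : Aut F', τ • a' = b then eT.symm 0 else eT.symm 1
  obtain ⟨g, hg⟩ := exists_map_of_equivariant F' (X := H.obj A) (Y := H.obj T) χ (by
    intro τ x
    have h1 : τ • χ x = χ x := hT (Pi1X.autWhisker H F' τ) (χ x)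
    rw [h1]
    have h2 : (∃ τ' : Aut F', τ' • a' = τ • x) ↔ (∃ τ' : Aut F', τ' • a' = x) := by
      constructor
      · rintro ⟨τ', h⟩
        exact ⟨τ⁻¹ * τ', by rw [mul_smul, h, inv_smul_smul]⟩
      · rintro ⟨τ', h⟩
        exact ⟨τ * τ', by rw [mul_smul, h]⟩
    simp only [χ, h2])
  obtain ⟨g', rfl⟩ := H.map_surjective g
  let b' : F'.obj (H.obj A) := (σ • a : (H ⋙ F').obj A)
  have h3 : χ b' = χ a' := by
    rw [← hg, ← hg]
    have := map_smul' (H ⋙ F') g' σ a
    have h4 := hT σ ((H ⋙ F').map g' a)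
    exact this.trans h4
  have h5 : ∃ τ : Aut F', τ • a' = b' := by
    by_contra hne
    have h6 : χ b' = eT.symm 1 := if_neg hne
    have h7 : χ a' = eT.symm 0 := if_pos ⟨1, one_smul _ _⟩
    rw [h6, h7] at h3
    have := eT.symm.injective h3
    exact absurd this (by decide)
  obtain ⟨τ, hτ⟩ := h5
  exact ⟨_, ⟨τ, rfl⟩, hτ⟩

/-- If the map of fundamental groups is injective then connected objects are dominated. -/
lemma dominated_of_injective (h : Function.Injective (Pi1X.autWhisker H F')) (X' : C')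
    [IsConnected X'] :
    ∃ (X : C) (Y' : C') (p : Y' ⟶ X') (q : Y' ⟶ H.obj X), Epi p ∧ Mono q := by
  obtain ⟨x⟩ := nonempty_fiber_of_isConnected F' X'
  -- the stabilizer of `x`
  let S : Set (Aut F') := (MulAction.stabilizer (Aut F') x : Set (Aut F'))
  have hS : IsOpen S := stabilizer_isOpen (Aut F') x
  -- the image of the complement is closed and does not contain `1`
  have hcl : IsClosed (Pi1X.autWhisker H F' '' Sᶜ) :=
    (hS.isClosed_compl.isCompact.image (continuous_autWhisker H F')).isClosed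
  have h1 : (1 : Aut (H ⋙ F')) ∉ Pi1X.autWhisker H F' '' Sᶜ := by
    rintro ⟨σ, hσ, hσ'⟩
    have : σ = 1 := h (by rw [hσ', map_one])
    subst this
    exact hσ (one_mem _)
  have h2 : (Pi1X.autWhisker H F' '' Sᶜ)ᶜ ∈ nhds (1 : Aut (H ⋙ F')) :=
    hcl.isOpen_compl.mem_nhds h1
  obtain ⟨A, -, hA⟩ := (nhds_one_has_basis_stabilizers (H ⋙ F')).mem_iff.mp h2
  let a : F'.obj (H.obj A.obj) := A.pt
  obtain ⟨Y', i, y, hy, hcY, hm⟩ := fiber_in_connected_component F' (H.obj A.obj) a
  obtain ⟨p, hp⟩ := exists_map_of_stabilizer_le F' y x (by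
    intro σ hσ
    by_contra hne
    have h3 : σ • a = a := by
      rw [← hy, ← map_smul', hσ]
    have h4 : Pi1X.autWhisker H F' σ ∈ MulAction.stabilizer (Aut (H ⋙ F')) A.pt := h3
    exact hA h4 ⟨σ, hne, rfl⟩)
  refine ⟨A.obj, Y', p, i, ?_, hm⟩
  have : Nonempty (F'.obj Y') := ⟨y⟩
  exact epi_of_nonempty_of_isConnected F' p

omit [GaloisCategory C] [FiberFunctor (H ⋙ F')] in
/-- If connected objects are dominated then the map of fundamental groups is injective. -/
lemma injective_of_dominated (h : ∀ X' : C', IsConnected X' →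
    ∃ (X : C) (Y' : C') (p : Y' ⟶ X') (q : Y' ⟶ H.obj X), Epi p ∧ Mono q) :
    Function.Injective (Pi1X.autWhisker H F') := by
  rw [injective_iff_map_eq_one]
  intro σ hσ
  have key : ∀ X' : C', ∀ x : F'.obj X', σ • x = x := by
    intro X' x
    obtain ⟨Z, i, z, rfl, hZ, -⟩ := fiber_in_connected_component F' X' x
    rw [← map_smul']
    congr 1
    obtain ⟨X, Y', p, q, hp, hq⟩ := h Z hZ
    obtain ⟨y, rfl⟩ := surjective_on_fiber_of_epi F' p z
    rw [← map_smul']
    congr 1
    have hinj : Function.Injective (F'.map q) :=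
      ConcreteCategory.injective_of_mono_of_preservesPullback (F'.map q)
    apply hinj
    rw [map_smul']
    have h5 : Pi1X.autWhisker H F' σ • (show (H ⋙ F').obj X from F'.map q y) =
      (show (H ⋙ F').obj X from F'.map q y) := by rw [hσ, one_smul]
    exact h5
  apply autEmbedding_injective F'
  funext X
  ext x
  exact key X x

/-- If the map of fundamental groups is surjective, and its kernel acts trivially on the fibre
of `X'`, then `X'` comes from an object of `C`. -/
lemma exists_obj_of_ker_acts_trivially (h : Function.Surjective (Pi1X.autWhisker H F')) (X' : C')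
    (hX' : ∀ σ : Aut F', Pi1X.autWhisker H F' σ = 1 → ∀ x : F'.obj X', σ • x = x) :
    ∃ X : C, Nonempty (H.obj X ≅ X') := by
  let φ : Aut F' →* Equiv.Perm (F'.obj X') := MulAction.toPermHom (Aut F') (F'.obj X')
  have hker : (Pi1X.autWhisker H F').ker ≤ φ.ker := by
    intro σ hσ
    rw [MonoidHom.mem_ker] at hσ ⊢
    ext x
    exact hX' σ hσ x
  let ψ : Aut (H ⋙ F') →* Equiv.Perm (F'.obj X') :=
    (Pi1X.autWhisker H F').liftOfSurjective h ⟨φ, hker⟩
  have hψ : ∀ (σ : Aut F') (x : F'.obj X'), ψ (Pi1X.autWhisker H F' σ) x = σ • x := by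
    intro σ x
    have : ψ (Pi1X.autWhisker H F' σ) = φ σ :=
      (Pi1X.autWhisker H F').liftOfRightInverse_comp_apply _ _ ⟨φ, hker⟩ σ
    rw [this]
    rfl
  have hq : Topology.IsQuotientMap (Pi1X.autWhisker H F') :=
    (continuous_autWhisker H F').isClosedMap.isQuotientMap (continuous_autWhisker H F') h
  let _ : MulAction (Aut (H ⋙ F')) (F'.obj X') := MulAction.compHom _ ψ
  have hsm : ∀ (σ : Aut F') (x : F'.obj X'),
      (Pi1X.autWhisker H F' σ) • x = σ • x := hψ
  obtain ⟨X, e, he⟩ := exists_obj_of_action (H ⋙ F') (F'.obj X') (by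
    intro t
    rw [← hq.isOpen_preimage]
    have : (Pi1X.autWhisker H F') ⁻¹' (MulAction.stabilizer (Aut (H ⋙ F')) t : Set _) =
        (MulAction.stabilizer (Aut F') t : Set (Aut F')) := by
      ext σ
      simp only [Set.mem_preimage, SetLike.mem_coe, MulAction.mem_stabilizer_iff, hsm]
    rw [this]
    exact stabilizer_isOpen (Aut F') t)
  obtain ⟨g, -⟩ := exists_iso_of_equivariant F' (X := H.obj X) (Y := X') e (by
    intro σ x
    have h1 := he (Pi1X.autWhisker H F' σ) x
    rw [hsm] at h1
    exact h1)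
  exact ⟨X, ⟨g⟩⟩

end whisk

section exact

variable {C C' C'' : Type u} [Category.{v} C] [Category.{v} C'] [Category.{v} C'']
    [GaloisCategory C] [GaloisCategory C'] [GaloisCategory C'']
    (H : C ⥤ C') 
    (H' : C' ⥤ C'') 
    (F'' : C'' ⥤ FintypeCat.{w}) [FiberFunctor F''] [FiberFunctor (H' ⋙ F'')] [FiberFunctor (H ⋙ (H' ⋙ F''))]

omit [GaloisCategory C] [GaloisCategory C'] [FiberFunctor (H' ⋙ F'')] [FiberFunctor (H ⋙ (H' ⋙ F''))] in
/-- Triviality of the composition. -/
lemma comp_trivial_iff : 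
    (∀ σ : Aut F'', Pi1X.autWhisker H (H' ⋙ F'') (Pi1X.autWhisker H' F'' σ) = 1) ↔
      ∀ X : C, ∃ n : ℕ, Nonempty (H'.obj (H.obj X) ≅ ∐ fun _ : Fin n => ⊤_ C'') := by
  constructor
  · intro h X
    rw [split_iff F'']
    intro σ y
    have := congrArg (fun τ : Aut (H ⋙ (H' ⋙ F'')) => τ • (show (H ⋙ (H' ⋙ F'')).obj X from y)) (h σ)
    exact this
  · intro h σ
    apply autEmbedding_injective
    funext X
    ext x
    exact (split_iff F'' _).mp (h X) σ x

/-- The quotient of a fibre by a normal subgroup of the fundamental group is a fibre. -/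
lemma exists_quotient_by_normal {C : Type u₁} [Category.{u₂} C] [GaloisCategory C]
    (F : C ⥤ FintypeCat.{w}) [FiberFunctor F] (N : Subgroup (Aut F)) [N.Normal] (A : C) :
    ∃ (X : C) (q : F.obj A → F.obj X), (∀ (σ : Aut F) a, q (σ • a) = σ • q a) ∧
      Function.Surjective q ∧ (∀ a b, q a = q b ↔ ∃ n ∈ N, n • a = b) := by
  let r : Setoid (F.obj A) :=
    { r := fun a b => ∃ n ∈ N, n • a = b
      iseqv :=
        { refl := fun a => ⟨1, one_mem _, one_smul _ _⟩
          symm := by
            rintro a b ⟨n, hn, rfl⟩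
            exact ⟨n⁻¹, inv_mem hn, inv_smul_smul _ _⟩
          trans := by
            rintro a b c ⟨n, hn, rfl⟩ ⟨m, hm, rfl⟩
            exact ⟨m * n, mul_mem hm hn, mul_smul _ _ _⟩ } }
  let T : Type w := Quotient r
  have : Finite T := Quotient.finite _
  let _ : MulAction (Aut F) T :=
    { smul := fun σ => Quotient.map' (fun a => σ • a) (by
        rintro a b ⟨n, hn, rfl⟩
        refine ⟨σ * n * σ⁻¹, Subgroup.Normal.conj_mem inferInstance n hn σ, ?_⟩
        rw [mul_smul, mul_smul, inv_smul_smul])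
      one_smul := by
        rintro ⟨a⟩
        exact congrArg (Quotient.mk r) (one_smul _ a)
      mul_smul := by
        rintro σ τ ⟨a⟩
        exact congrArg (Quotient.mk r) (mul_smul σ τ a) }
  have hsm : ∀ (σ : Aut F) (a : F.obj A), σ • (Quotient.mk r a : T) = Quotient.mk r (σ • a) :=
    fun _ _ => rfl
  obtain ⟨X, e, he⟩ := exists_obj_of_action F T (by
    rintro ⟨a⟩
    refine Subgroup.isOpen_mono (H₁ := MulAction.stabilizer (Aut F) a) ?_
      (stabilizer_isOpen (Aut F) a)
    intro σ hσ
    exact congrArg (Quotient.mk r) hσ)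
  refine ⟨X, fun a => e.symm (Quotient.mk r a), ?_, ?_, ?_⟩
  · intro σ a
    rw [Equiv.symm_apply_eq, he, Equiv.apply_symm_apply, hsm]
  · intro x
    obtain ⟨a, ha⟩ := Quotient.exists_rep (e x)
    exact ⟨a, by rw [Equiv.symm_apply_eq, ha]⟩
  · intro a b
    rw [e.symm.injective.eq_iff, Quotient.eq]
    rfl

omit [GaloisCategory C] [FiberFunctor (H ⋙ H' ⋙ F'')] in
/-- Main lemma. -/
lemma ker_eq_of_essImage [H.Full]
    (hess : ∀ X' : C', (∃ X : C, Nonempty (H.obj X ≅ X')) ↔
      ∃ n : ℕ, Nonempty (H'.obj X' ≅ ∐ fun _ : Fin n => ⊤_ C'')) :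
    (Pi1X.autWhisker H (H' ⋙ F'')).ker =
      (Subgroup.normalClosure (Set.range (Pi1X.autWhisker H' F''))).topologicalClosure := by
  have htriv : ∀ σ : Aut F'', Pi1X.autWhisker H (H' ⋙ F'') (Pi1X.autWhisker H' F'' σ) = 1 :=
    (comp_trivial_iff H H' F'').mpr (fun X => (hess (H.obj X)).mp ⟨X, ⟨Iso.refl _⟩⟩)
  apply le_antisymm
  · intro σ hσ
    rw [MonoidHom.mem_ker] at hσ
    refine mem_of_isClosed (H' ⋙ F'') (S := ((Subgroup.normalClosure
      (Set.range (Pi1X.autWhisker H' F''))).topologicalClosure : Set (Aut (H' ⋙ F''))))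
      (Subgroup.isClosed_topologicalClosure _) σ ?_
    intro A a _
    have hN : (Subgroup.normalClosure (Set.range (Pi1X.autWhisker H' F''))).topologicalClosure.Normal :=
      Subgroup.is_normal_topologicalClosure _
    obtain ⟨X', q, hq1, hq2, hq3⟩ := exists_quotient_by_normal (H' ⋙ F'')
      (Subgroup.normalClosure (Set.range (Pi1X.autWhisker H' F''))).topologicalClosure A
    have hs : ∃ n : ℕ, Nonempty (H'.obj X' ≅ ∐ fun _ : Fin n => ⊤_ C'') := by
      rw [split_iff F'']
      intro ρ y
      obtain ⟨b, rfl⟩ := hq2 y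
      have h1 := hq1 (Pi1X.autWhisker H' F'' ρ) b
      have h2 : q (Pi1X.autWhisker H' F'' ρ • b) = q b := by
        symm
        rw [hq3]
        refine ⟨_, ?_, rfl⟩
        apply Subgroup.le_topologicalClosure
        apply Subgroup.subset_normalClosure
        exact ⟨ρ, rfl⟩
      rw [h2] at h1
      exact h1.symm
    obtain ⟨X, ⟨i⟩⟩ := (hess X').mpr hs
    have h3 : q (σ • a) = q a := by
      rw [hq1]
      have h4 : (H' ⋙ F'').map i.hom ((H' ⋙ F'').map i.inv (q a)) = q a := by
        rw [← ConcreteCategory.comp_apply, ← Functor.map_comp]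
        simp
      rw [← h4, ← map_smul']
      congr 1
      have h5 : Pi1X.autWhisker H (H' ⋙ F'') σ •
        (show (H ⋙ (H' ⋙ F'')).obj X from (H' ⋙ F'').map i.inv (q a)) =
          (show (H ⋙ (H' ⋙ F'')).obj X from (H' ⋙ F'').map i.inv (q a)) := by
        rw [hσ, one_smul]
      exact h5
    obtain ⟨n, hn, hn'⟩ := (hq3 _ _).mp h3.symm
    exact ⟨n, hn, hn'⟩
  · apply Subgroup.topologicalClosure_minimal
    · apply Subgroup.normalClosure_le_normal
      rintro _ ⟨σ, rfl⟩
      exact htriv σ
    · exact isClosed_singleton.preimage (continuous_autWhisker H (H' ⋙ F''))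

end exact


end Groth.Agent.Pi1C.GalWhisker
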