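import Groth.Agent.Pi1C.GrSec
import Groth.Agent.Pi1C.FormSys
import Groth.Agent.Pi1C.Cone

/-!
# The ring of twisted sections as a closed module

`closed_of`: a criterion for `FormSys.Closed`, applied to `GrSec.M D` over any ring `A` with elements
`g i` acting as the coordinates.
-/

set_option autoImplicit false
universe u
open AlgebraicGeometry CategoryTheory
open Groth.Agent.VarietyB.ProjGlue
open scoped DirectSum

namespace Groth.Agent.Pi1C.GrClosed

open TwistSec GrSec LaurentPolynomial
open Groth.Agent.FormalA.CechSub Groth.Agent.FormalA.CechLC Groth.Agent.FormalA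
open FlatB.PushRing (IsLocAway)

theorem isUnit_algebraMap_of_mem_sup {A : Type*} [CommRing A] {ι : Type*} (g : ι → A) {N : Type*}
    [CommRing N] (φ : A →+* N) (i j : ι) (hi : IsUnit (φ (g i))) (hj : IsUnit (φ (g j))) {w : A}
    (hw : w ∈ PS g i ⊔ PS g j) : IsUnit (φ w) := by
  obtain ⟨_, ⟨a, rfl⟩, _, ⟨b, rfl⟩, rfl⟩ := Submonoid.mem_sup.mp hw
  rw [map_mul, map_pow, map_pow]
  exact (hi.pow a).mul (hj.pow b)

theorem closed_of {A : Type*} [CommRing A] {ι : Type*} (g : ι → A) {N : Type*} [CommRing N]
    [Algebra A N] {L : ι → Type*} [∀ i, CommRing (L i)] {L2 : ι → ι → Type*}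
    [∀ i j, CommRing (L2 i j)] (c : ∀ i, N →+* L i)
    (hc : ∀ i, IsLocAway (c i) (algebraMap A N (g i)))
    (l : ∀ i j, L i →+* L2 i j) (r : ∀ i j, L j →+* L2 i j)
    (hlr : ∀ i j z, l i j (c i z) = r i j (c j z))
    (hu : ∀ i j, IsUnit (l i j (c i (algebraMap A N (g j)))))
    (inj : ∀ z, (∀ i, c i z = 0) → z = 0)
    (glue : ∀ z : ∀ i, L i, (∀ i j, l i j (z i) = r i j (z j)) → ∃ y, ∀ i, c i y = z i) :
    FormSys.Closed g N where
  inj x hx := by
    apply inj
    intro i
    have h := congrFun hx i
    rw [ε_apply] at h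
    obtain ⟨_, ⟨n, rfl⟩, hn⟩ := (LocSub.mkLinearMap_eq_zero_iff x).mp h
    rw [Algebra.smul_def, map_pow] at hn
    have h2 := congrArg (c i) hn
    rw [map_mul, map_pow, map_zero] at h2
    exact ((hc i).unit.pow n).mul_right_eq_zero.mp h2
  glue x hx := by
    choose n s hs using fun i => LocSub.exists_eq_mk (x i)
    choose a ha using fun i => (s i).2
    have hz : ∀ i, ∃ z : L i, c i (algebraMap A N (g i)) ^ a i * z = c i (n i) := by
      intro i
      obtain ⟨v, hv⟩ := (hc i).unit.pow (a i)
      exact ⟨↑v⁻¹ * c i (n i), by rw [← hv, ← mul_assoc, Units.mul_inv, one_mul]⟩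
    choose z hz using hz
    have hcomp : ∀ i j, l i j (z i) = r i j (z j) := by
      intro i j
      have h := congrFun (congrFun hx i) j
      rw [d0_apply, hs i, hs j, LocSub.res_mk, LocSub.res_mk] at h
      have h' := sub_eq_zero.mp (show _ - _ = (0 : LocalizedModule (PS g i ⊔ PS g j) N) from h)
      obtain ⟨w, hw⟩ := LocalizedModule.mk_eq.mp h'
      simp only [Submonoid.smul_def] at hw
      rw [← ha i, ← ha j] at hw
      have h3 := congrArg (fun t => l i j (c i t)) hw
      simp only [Algebra.smul_def, map_mul, map_pow] at h3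
      have hwu : IsUnit (l i j (c i (algebraMap A N w))) :=
        isUnit_algebraMap_of_mem_sup g (((l i j).comp (c i)).comp (algebraMap A N)) i j
          ((hc i).unit.map (l i j)) (hu i j) w.2
      have h4 := hwu.mul_left_cancel h3
      have h5 : l i j (c i (algebraMap A N (g i))) ^ a i * l i j (z i) = l i j (c i (n i)) := by
        rw [← map_pow, ← map_mul, hz]
      have h6 : l i j (c i (algebraMap A N (g j))) ^ a j * r i j (z j) = l i j (c i (n j)) := by
        rw [hlr, hlr, ← map_pow, ← map_mul, hz]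
      rw [← h5, ← h6] at h4
      have hu1 : IsUnit (l i j (c i (algebraMap A N (g i))) ^ a i) :=
        ((hc i).unit.map (l i j)).pow _
      have hu2 := (hu i j).pow (a j)
      apply (hu1.mul hu2).mul_left_cancel
      linear_combination -h4
    obtain ⟨y, hy⟩ := glue z hcomp
    refine ⟨y, ?_⟩
    funext i
    rw [ε_apply, LocalizedModule.mkLinearMap_apply, hs i]
    have h7 : c i (algebraMap A N (g i) ^ a i * y) = c i (n i) := by
      rw [map_mul, map_pow, hy, hz]
    obtain ⟨m, hm⟩ := (hc i).eq _ _ h7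
    rw [LocalizedModule.mk_eq]
    refine ⟨⟨g i ^ m, m, rfl⟩, ?_⟩
    simp only [Submonoid.smul_def, OneMemClass.coe_one, one_smul]
    rw [← ha i, Algebra.smul_def, Algebra.smul_def, Algebra.smul_def, map_pow, map_pow]
    exact hm

section Closed

variable {X : Scheme.{u}} {I : Type} (D : CoordData X I)
variable (hU : ∀ i, IsAffineOpen (D.U i)) (hb : ∀ i j, X.basicOpen (D.f i j) = D.U i ⊓ D.U j)

include hU hb in
theorem closed [Finite I] {A : Type*} [CommRing A] [Algebra A (M D)] (g : I → A)
    (hg : ∀ i, algebraMap A (M D) (g i) = coord D i) : FormSys.Closed g (M D) := by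
  refine closed_of g (chart D) (fun i => by rw [hg]; exact isLocAway_chart D hU hb i)
    (fun i j => lmap (resL D i j)) (fun i j => (theta (u D i j)).comp (lmap (resR D i j)))
    (fun i j z => lmap_chart D i j z) ?_ (fun z hz => ext_chart D fun i => by rw [hz, map_zero])
    (fun z hz => exists_glue D z hz)
  intro i j
  rw [hg, chart_coord, lmap_C_mul_T, ← u_val]
  exact ((u D i j).isUnit.map C).mul (isUnit_T 1)

end Closed

end Groth.Agent.Pi1C.GrClosed
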