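import Groth.Agent.Pi1C.GrClosed

/-!
# The cone ring and the ring of twisted sections

`toM D p : Cone.R D p → M D`, the algebra structures on `M (pull D g)` and the transition maps.
-/

set_option autoImplicit false
universe u
open AlgebraicGeometry CategoryTheory
open Groth.Agent.VarietyB.ProjGlue
open scoped DirectSum

namespace Groth.Agent.Pi1C.GrCone

open TwistSec GrSec LaurentPolynomial

section

variable {X : Scheme.{u}} {r : ℕ} (D : CoordData X (Fin (r + 1))) {k : Type u} [Field k]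
  (p : X ⟶ Spec (CommRingCat.of k))

theorem const_mem (c : k) : (fun i => CoordData.baseHom p (D.U i) c) ∈ Sec D 0 := by
  intro i j
  have h1 := congrArg (fun φ : k →+* _ => φ c)
    (CoordData.baseHom_map p (inf_le_left : D.U i ⊓ D.U j ≤ D.U i))
  have h2 := congrArg (fun φ : k →+* _ => φ c)
    (CoordData.baseHom_map p (inf_le_right : D.U i ⊓ D.U j ≤ D.U j))
  rw [zpow_zero, Units.val_one, one_mul]
  exact h1.trans h2.symm

theorem chart_hom_mk {I : Type} (D : CoordData X I) (i : I) (a : ℤ) (e : ∀ i, Γ(X, D.U i))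
    (he : e ∈ Sec D a) : chart D i (hom D a ⟨e, he⟩) = C (e i) * T a := chart_hom D i a ⟨e, he⟩

/-- The constants. -/
noncomputable def const : k →+* M D where
  toFun c := hom D 0 ⟨fun i => CoordData.baseHom p (D.U i) c, const_mem D p c⟩
  map_one' := by
    apply ext_chart
    intro i
    rw [chart_hom_mk, map_one, map_one, T_zero, mul_one, map_one]
  map_zero' := by
    apply ext_chart
    intro i
    rw [chart_hom_mk, map_zero, map_zero, zero_mul, map_zero]
  map_mul' a b := by
    apply ext_chart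
    intro i
    rw [map_mul, chart_hom_mk, chart_hom_mk, chart_hom_mk, map_mul, map_mul, T_zero, mul_one,
      mul_one, mul_one]
  map_add' a b := by
    apply ext_chart
    intro i
    rw [map_add, chart_hom_mk, chart_hom_mk, chart_hom_mk, map_add, map_add, T_zero, mul_one,
      mul_one, mul_one]

theorem chart_const (i : Fin (r + 1)) (c : k) :
    chart D i (const D p c) = C (CoordData.baseHom p (D.U i) c) := by
  change chart D i (hom D 0 _) = _
  rw [chart_hom, T_zero, mul_one]

/-- The map from the polynomial ring. -/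
noncomputable def polyM : MvPolynomial (Fin (r + 1)) k →+* M D :=
  MvPolynomial.eval₂Hom (const D p) (coord D)

theorem chart_polyM (i : Fin (r + 1)) (F : MvPolynomial (Fin (r + 1)) k) :
    chart D i (polyM D p F) = Cone.rho D p i F := by
  have h : (chart D i).comp (polyM D p) = Cone.rho D p i := by
    apply MvPolynomial.ringHom_ext
    · intro c
      rw [RingHom.comp_apply, polyM, MvPolynomial.eval₂Hom_C, chart_const, Cone.rho,
        MvPolynomial.eval₂Hom_C]
      rfl
    · intro j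
      rw [RingHom.comp_apply, polyM, MvPolynomial.eval₂Hom_X', chart_coord, Cone.rho_X, mul_comm]
  exact congrArg (fun φ : _ →+* _ => φ F) h

/-- The map from the cone ring. -/
noncomputable def toM : Cone.R D p →+* M D :=
  Ideal.Quotient.lift (Cone.J D p) (polyM D p) (fun F hF => by
    apply ext_chart
    intro i
    rw [chart_polyM, map_zero]
    exact (Cone.mem_J D p F).mp hF i)

theorem chart_toM (i : Fin (r + 1)) (a : Cone.R D p) :
    chart D i (toM D p a) = Cone.chart D p i a := by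
  obtain ⟨F, rfl⟩ := Ideal.Quotient.mk_surjective a
  exact chart_polyM D p i F

theorem toM_x (j : Fin (r + 1)) : toM D p (Cone.x D p j) = coord D j := by
  apply ext_chart
  intro i
  rw [chart_toM, Cone.chart_x, chart_coord, mul_comm]

theorem toM_C (c : k) : toM D p (Ideal.Quotient.mk _ (MvPolynomial.C c)) = const D p c :=
  MvPolynomial.eval₂Hom_C _ _ _

theorem toM_injective : Function.Injective (toM D p) := by
  intro a b h
  apply Cone.ext_chart D p
  intro i
  rw [← chart_toM, ← chart_toM, h]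

/-- The image of a homogeneous polynomial. -/
theorem polyM_of_isHomogeneous {F : MvPolynomial (Fin (r + 1)) k} {n : ℕ} (hF : F.IsHomogeneous n)
    (b : ℤ) (hb : b ≠ n) : polyM D p F b = 0 := by
  apply Subtype.ext
  funext i
  rw [← lc_chart, chart_polyM, Cone.rho_of_isHomogeneous D p i hF, lc_C_mul_T,
    if_neg (Ne.symm hb)]
  rfl

theorem polyM_apply (F : MvPolynomial (Fin (r + 1)) k) (b : ℤ) (hb : b < 0) :
    polyM D p F b = 0 := by
  apply Subtype.ext
  funext i
  rw [← lc_chart, chart_polyM]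
  exact Cone.coeff_rho_neg D p i F b hb

theorem toM_apply (a : Cone.R D p) (b : ℤ) (hb : b < 0) : toM D p a b = 0 := by
  obtain ⟨F, rfl⟩ := Ideal.Quotient.mk_surjective a
  exact polyM_apply D p F b hb

end

section Pull

variable {X : Scheme.{u}} {I : Type} (D : CoordData X I)

/-- The map on graded rings defined by `g : P ⟶ X`. -/
noncomputable def pullM {P : Scheme.{u}} (g : P ⟶ X) : M D →+* M (pull D g) :=
  mapRing D (pull D g) (appU D g) (fun _ _ h => appU_mem_Sec D g h)

theorem chart_pullM {P : Scheme.{u}} (g : P ⟶ X) (z : M D) (i : I) :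
    chart (pull D g) i (pullM D g z) = lmap (appU D g i) (chart D i z) :=
  chart_mapRing _ _ _ _ _ _

theorem pullM_coord {P : Scheme.{u}} (g : P ⟶ X) (j : I) :
    pullM D g (coord D j) = coord (pull D g) j :=
  mapRing_coord _ _ _ _ (fun _ _ => rfl) j

theorem pullM_hom {P : Scheme.{u}} (g : P ⟶ X) (a : ℤ) (σ : Sec D a) :
    pullM D g (hom D a σ) = hom (pull D g) a ⟨fun i => appU D g i (σ.1 i), appU_mem_Sec D g σ.2⟩ :=
  mapRing_hom _ _ _ _ _ _

theorem pullM_apply {P : Scheme.{u}} (g : P ⟶ X) (z : M D) (a : ℤ) (i : I) :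
    (pullM D g z a).1 i = appU D g i ((z a).1 i) :=
  mapRing_apply _ _ _ _ _ _ _

/-- Sections on charts, transition map for `h : P' ⟶ P` over `X`. -/
noncomputable def trU {P P' : Scheme.{u}} (g : P ⟶ X) (g' : P' ⟶ X) (h : P' ⟶ P) (w : h ≫ g = g')
    (i : I) : Γ(P, (pull D g).U i) →+* Γ(P', (pull D g').U i) :=
  (h.appLE ((pull D g).U i) ((pull D g').U i) (by subst w; exact le_rfl)).hom

theorem trU_eq {P P' : Scheme.{u}} (g : P ⟶ X) (h : P' ⟶ P) (i : I) :
    trU D g (h ≫ g) h rfl i = appU (pull D g) h i :=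
  congrArg CommRingCat.Hom.hom (Scheme.Hom.appLE_eq_app (f := h) (U := (pull D g).U i))

theorem trU_mem {P P' : Scheme.{u}} (g : P ⟶ X) (g' : P' ⟶ X) (h : P' ⟶ P) (w : h ≫ g = g')
    {a : ℤ} {e : ∀ i, Γ(P, (pull D g).U i)} (he : e ∈ Sec (pull D g) a) :
    (fun i => trU D g g' h w i (e i)) ∈ Sec (pull D g') a := by
  subst w
  simp only [trU_eq]
  exact appU_mem_Sec (pull D g) h he

/-- The transition map on graded rings. -/
noncomputable def trM {P P' : Scheme.{u}} (g : P ⟶ X) (g' : P' ⟶ X) (h : P' ⟶ P) (w : h ≫ g = g') :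
    M (pull D g) →+* M (pull D g') :=
  mapRing (pull D g) (pull D g') (trU D g g' h w) (fun _ _ he => trU_mem D g g' h w he)

theorem chart_trM {P P' : Scheme.{u}} (g : P ⟶ X) (g' : P' ⟶ X) (h : P' ⟶ P) (w : h ≫ g = g')
    (z : M (pull D g)) (i : I) :
    chart (pull D g') i (trM D g g' h w z) = lmap (trU D g g' h w i) (chart (pull D g) i z) :=
  chart_mapRing _ _ _ _ _ _

theorem trM_apply {P P' : Scheme.{u}} (g : P ⟶ X) (g' : P' ⟶ X) (h : P' ⟶ P) (w : h ≫ g = g')
    (z : M (pull D g)) (a : ℤ) (i : I) :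
    (trM D g g' h w z a).1 i = trU D g g' h w i ((z a).1 i) :=
  mapRing_apply _ _ _ _ _ _ _

theorem trM_hom {P P' : Scheme.{u}} (g : P ⟶ X) (g' : P' ⟶ X) (h : P' ⟶ P) (w : h ≫ g = g')
    (a : ℤ) (σ : Sec (pull D g) a) :
    trM D g g' h w (hom (pull D g) a σ) =
      hom (pull D g') a ⟨fun i => trU D g g' h w i (σ.1 i), trU_mem D g g' h w σ.2⟩ :=
  mapRing_hom _ _ _ _ _ _

theorem trU_appU {P P' : Scheme.{u}} (g : P ⟶ X) (g' : P' ⟶ X) (h : P' ⟶ P) (w : h ≫ g = g')
    (i : I) (e : Γ(X, D.U i)) : trU D g g' h w i (appU D g i e) = appU D g' i e := by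
  subst w
  rw [trU_eq]
  rfl

theorem trU_f {P P' : Scheme.{u}} (g : P ⟶ X) (g' : P' ⟶ X) (h : P' ⟶ P) (w : h ≫ g = g')
    (i j : I) : trU D g g' h w i ((pull D g).f i j) = (pull D g').f i j :=
  trU_appU D g g' h w i (D.f i j)

theorem trM_pullM {P P' : Scheme.{u}} (g : P ⟶ X) (g' : P' ⟶ X) (h : P' ⟶ P) (w : h ≫ g = g')
    (z : M D) : trM D g g' h w (pullM D g z) = pullM D g' z := by
  apply ext_M
  intro a i
  rw [trM_apply, pullM_apply, pullM_apply, trU_appU]

theorem trU_trU {P P' P'' : Scheme.{u}} (g : P ⟶ X) (g' : P' ⟶ X) (g'' : P'' ⟶ X) (h : P' ⟶ P)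
    (w : h ≫ g = g') (h' : P'' ⟶ P') (w' : h' ≫ g' = g'') (i : I) (e : Γ(P, (pull D g).U i)) :
    trU D g' g'' h' w' i (trU D g g' h w i e) =
      trU D g g'' (h' ≫ h) (by rw [Category.assoc, w, w']) i e := by
  subst w
  subst w'
  rw [trU_eq, trU_eq]
  have : trU D g (h' ≫ h ≫ g) (h' ≫ h) (by rw [Category.assoc]) i =
      trU D g ((h' ≫ h) ≫ g) (h' ≫ h) rfl i := rfl
  rw [this, trU_eq]
  rfl

theorem trU_congr {P P' : Scheme.{u}} (g : P ⟶ X) (g' : P' ⟶ X) {h h' : P' ⟶ P} (e : h = h')
    (w : h ≫ g = g') (i : I) (z : Γ(P, (pull D g).U i)) :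
    trU D g g' h w i z = trU D g g' h' (by rw [← e, w]) i z := by
  subst e
  rfl

end Pull

end Groth.Agent.Pi1C.GrCone
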