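import Groth.Agent.Pi1C.CoordFactor
import Groth.Agent.Pi1C.CoordPull
import Groth.Agent.VarietyB.ProjStd

/-!
# The scheme over `X` given by a graded algebra

Let `D` be coordinate data on `X` over `p : X ⟶ Spec k` embedding `X` in projective space, `𝒜` an `ℕ`-graded ring
with `y i ∈ 𝒜 1` and compatible maps `φ i : Γ(X, D.U i) → 𝒜_(y i)`.  Then the open subscheme
`P = ⋃ D_+(y i)` of `Proj 𝒜` maps to `X` with `q⁻¹(D.U i) = D_+(y i)` and `φ i` on functions.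
-/

set_option autoImplicit false
universe u
open AlgebraicGeometry CategoryTheory HomogeneousLocalization

namespace Groth.Agent.Pi1C.GrGlue

open Groth.Agent.VarietyB.ProjGlue Groth.Agent.VarietyB.ProjHom

section ring

variable {B : Type u} [CommRing B] (𝒜 : ℕ → AddSubgroup B) [GradedRing 𝒜] {I : Type} (y : I → B)
  (hy : ∀ i, y i ∈ 𝒜 1)

/-- the element `b / y_i^n` of `𝒜_(y_i)`. -/
noncomputable def fr (i : I) (n : ℕ) (b : B) (hb : b ∈ 𝒜 n) : Away 𝒜 (y i) :=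
  Away.mk 𝒜 (hy i) n b (by simpa using hb)

lemma fr_val (i : I) (n : ℕ) (b : B) (hb : b ∈ 𝒜 n) :
    (fr 𝒜 y hy i n b hb).val = Localization.mk b (⟨y i ^ n, n, rfl⟩ : Submonoid.powers (y i)) := by
  rw [fr, Away.val_mk]

lemma fr_surjective (i : I) (z : Away 𝒜 (y i)) : ∃ (n : ℕ) (b : B) (hb : b ∈ 𝒜 n), fr 𝒜 y hy i n b hb = z := by
  obtain ⟨n, a, ha, rfl⟩ := Away.mk_surjective 𝒜 (hy i) z
  exact ⟨n, a, by simpa using ha, rfl⟩

lemma fr_self (i : I) : fr 𝒜 y hy i 1 (y i) (hy i) = 1 := by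
  apply HomogeneousLocalization.val_injective
  rw [fr_val, HomogeneousLocalization.val_one, ← Localization.mk_one, Localization.mk_eq_mk_iff,
    Localization.r_iff_exists]
  exact ⟨1, by simp⟩

/-- the section of `Proj 𝒜` over `D_+(y_i)` -/
noncomputable def sec (i : I) : Away 𝒜 (y i) →+* Γ(Proj 𝒜, Proj.basicOpen 𝒜 (y i)) :=
  (Proj.awayToSection 𝒜 (y i)).hom

lemma sec_fr_apply (i : I) (n : ℕ) (b : B) (hb : b ∈ 𝒜 n) (q : Proj.basicOpen 𝒜 (y i)) :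
    ((sec 𝒜 y i (fr 𝒜 y hy i n b hb)).val q).val =
      Localization.mk b (⟨y i ^ n, fun h => q.2 (q.1.isPrime.mem_of_pow_mem _ h)⟩ :
        q.1.asHomogeneousIdeal.toIdeal.primeCompl) := by
  rw [sec, fr]
  change Localization.mk _ _ = _
  congr 1

/-- The twisted compatibility of the fractions. -/
lemma sec_fr_compat (i j : I) (n : ℕ) (b : B) (hb : b ∈ 𝒜 n) :
    (Proj 𝒜).presheaf.map (homOfLE (inf_le_left : Proj.basicOpen 𝒜 (y i) ⊓ Proj.basicOpen 𝒜 (y j) ≤ _)).op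
      (sec 𝒜 y i (fr 𝒜 y hy i n b hb)) =
    ((Proj 𝒜).presheaf.map (homOfLE (inf_le_left : Proj.basicOpen 𝒜 (y i) ⊓ Proj.basicOpen 𝒜 (y j) ≤ _)).op
      (sec 𝒜 y i (fr 𝒜 y hy i 1 (y j) (hy j)))) ^ n *
    (Proj 𝒜).presheaf.map (homOfLE (inf_le_right : Proj.basicOpen 𝒜 (y i) ⊓ Proj.basicOpen 𝒜 (y j) ≤ _)).op
      (sec 𝒜 y j (fr 𝒜 y hy j n b hb)) := by
  apply Subtype.ext
  funext q
  apply HomogeneousLocalization.val_injective
  have e1 := sec_fr_apply 𝒜 y hy i n b hb ⟨q.1, q.2.1⟩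
  have e2 := sec_fr_apply 𝒜 y hy i 1 (y j) (hy j) ⟨q.1, q.2.1⟩
  have e3 := sec_fr_apply 𝒜 y hy j n b hb ⟨q.1, q.2.2⟩
  refine e1.trans (Eq.trans ?_ (HomogeneousLocalization.val_mul _ _).symm)
  refine Eq.trans ?_ (congrArg₂ (· * ·) ((HomogeneousLocalization.val_pow _ _).trans (congrArg (· ^ n) e2)) e3).symm
  simp only [Localization.mk_pow, Localization.mk_mul]
  rw [Localization.mk_eq_mk_iff, Localization.r_iff_exists]
  exact ⟨1, by simp; ring⟩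

lemma basicOpenToSpec_awayι (i : I) : Proj.basicOpenToSpec 𝒜 (y i) ≫ Proj.awayι 𝒜 (y i) (hy i) Nat.one_pos =
    (Proj.basicOpen 𝒜 (y i)).ι := by
  rw [Proj.awayι, ← Proj.basicOpenIsoSpec_hom 𝒜 (y i) (hy i) Nat.one_pos, Iso.hom_inv_id_assoc]

lemma ι_preimage_sec (i : I) (z : Away 𝒜 (y i)) :
    (Proj.basicOpen 𝒜 (y i)).ι ⁻¹ᵁ (Proj 𝒜).basicOpen (sec 𝒜 y i z) =
      Proj.basicOpenToSpec 𝒜 (y i) ⁻¹ᵁ PrimeSpectrum.basicOpen z :=
  (Scheme.Opens.toSpecΓ_preimage_basicOpen _ _).symm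

lemma basicOpen_sec (i j : I) :
    (Proj 𝒜).basicOpen (sec 𝒜 y i (fr 𝒜 y hy i 1 (y j) (hy j))) =
      Proj.basicOpen 𝒜 (y i) ⊓ Proj.basicOpen 𝒜 (y j) := by
  have h1 : (Proj.basicOpen 𝒜 (y i)).ι ⁻¹ᵁ
      (Proj 𝒜).basicOpen (sec 𝒜 y i (fr 𝒜 y hy i 1 (y j) (hy j))) =
      (Proj.basicOpen 𝒜 (y i)).ι ⁻¹ᵁ (Proj.basicOpen 𝒜 (y j)) := by
    rw [ι_preimage_sec, ← basicOpenToSpec_awayι 𝒜 y hy i, Scheme.Hom.comp_preimage,
      Proj.awayι_preimage_basicOpen 𝒜 (hy i) Nat.one_pos (hy j) Nat.one_pos]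
    congr 2
    apply HomogeneousLocalization.val_injective
    rw [fr_val, Away.val_mk]
    simp
  ext x
  constructor
  · intro hx
    have hx1 : x ∈ Proj.basicOpen 𝒜 (y i) := (Proj 𝒜).basicOpen_le _ hx
    have h2 : (⟨x, hx1⟩ : (Proj.basicOpen 𝒜 (y i))) ∈ (Proj.basicOpen 𝒜 (y i)).ι ⁻¹ᵁ
      (Proj 𝒜).basicOpen (sec 𝒜 y i (fr 𝒜 y hy i 1 (y j) (hy j))) := hx
    rw [h1] at h2
    exact ⟨hx1, h2⟩
  · intro hx
    have h2 : (⟨x, hx.1⟩ : (Proj.basicOpen 𝒜 (y i))) ∈ (Proj.basicOpen 𝒜 (y i)).ι ⁻¹ᵁ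
      (Proj.basicOpen 𝒜 (y j)) := hx.2
    rw [← h1] at h2
    exact h2

/-- The union of the `D_+(y_i)`. -/
noncomputable def O : (Proj 𝒜).Opens := ⨆ i, Proj.basicOpen 𝒜 (y i)

lemma le_O (i : I) : Proj.basicOpen 𝒜 (y i) ≤ O 𝒜 y := le_iSup (fun i => Proj.basicOpen 𝒜 (y i)) i

/-- The coordinate data on the union of the `D_+(y_i)`. -/
noncomputable def data : CoordData (O 𝒜 y).toScheme I where
  U i := (O 𝒜 y).ι ⁻¹ᵁ Proj.basicOpen 𝒜 (y i)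
  iSup_U := by
    rw [← Scheme.Hom.preimage_iSup]
    exact (O 𝒜 y).ι_preimage_self
  f i j := (O 𝒜 y).ι.app (Proj.basicOpen 𝒜 (y i)) (sec 𝒜 y i (fr 𝒜 y hy i 1 (y j) (hy j)))
  f_self i := by rw [fr_self, map_one, map_one]
  f_mul i j k := by
    have h := congrArg ((O 𝒜 y).ι.app (Proj.basicOpen 𝒜 (y i) ⊓ Proj.basicOpen 𝒜 (y j)))
      (sec_fr_compat 𝒜 y hy i j 1 (y k) (hy k))
    rw [map_mul, pow_one] at h
    have h1 : ∀ z, (O 𝒜 y).ι.app (Proj.basicOpen 𝒜 (y i) ⊓ Proj.basicOpen 𝒜 (y j))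
        ((Proj 𝒜).presheaf.map (homOfLE inf_le_left).op z) = _ :=
      fun z => TwistSec.app_res (O 𝒜 y).ι inf_le_left z
    have h2 : ∀ z, (O 𝒜 y).ι.app (Proj.basicOpen 𝒜 (y i) ⊓ Proj.basicOpen 𝒜 (y j))
        ((Proj 𝒜).presheaf.map (homOfLE inf_le_right).op z) = _ :=
      fun z => TwistSec.app_res (O 𝒜 y).ι inf_le_right z
    rw [h1, h1, h2] at h
    exact h

lemma data_basicOpen (i j : I) : (O 𝒜 y).toScheme.basicOpen ((data 𝒜 y hy).f i j) =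
    (data 𝒜 y hy).U i ⊓ (data 𝒜 y hy).U j :=
  (Scheme.preimage_basicOpen (O 𝒜 y).ι _).symm.trans
    (congrArg (fun W => (O 𝒜 y).ι ⁻¹ᵁ W) (basicOpen_sec 𝒜 y hy i j))

lemma data_isAffineOpen (i : I) : IsAffineOpen ((data 𝒜 y hy).U i) :=
  (Proj.isAffineOpen_basicOpen 𝒜 (y i) (hy i) Nat.one_pos).preimage_of_isOpenImmersion (O 𝒜 y).ι
    (by rw [Scheme.Opens.opensRange_ι]; exact le_O 𝒜 y i)

/-- Functions on the charts. -/
noncomputable def chart (i : I) : Away 𝒜 (y i) ≃+* Γ((O 𝒜 y).toScheme, (data 𝒜 y hy).U i) :=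
  (Proj.basicOpenIsoAway 𝒜 (y i) (hy i) Nat.one_pos).commRingCatIsoToRingEquiv.trans
    (have := (O 𝒜 y).ι.isIso_app (Proj.basicOpen 𝒜 (y i))
      (by rw [Scheme.Opens.opensRange_ι]; exact le_O 𝒜 y i)
    (asIso ((O 𝒜 y).ι.app (Proj.basicOpen 𝒜 (y i)))).commRingCatIsoToRingEquiv)

lemma chart_apply (i : I) (z : Away 𝒜 (y i)) :
    chart 𝒜 y hy i z = (O 𝒜 y).ι.app (Proj.basicOpen 𝒜 (y i)) (sec 𝒜 y i z) := rfl

lemma chart_mem_Sec (n : ℕ) (b : B) (hb : b ∈ 𝒜 n) :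
    (fun i => chart 𝒜 y hy i (fr 𝒜 y hy i n b hb)) ∈ TwistSec.Sec (data 𝒜 y hy) n := by
  intro i j
  have h := congrArg ((O 𝒜 y).ι.app (Proj.basicOpen 𝒜 (y i) ⊓ Proj.basicOpen 𝒜 (y j)))
    (sec_fr_compat 𝒜 y hy i j n b hb)
  rw [map_mul, map_pow] at h
  have h1 : ∀ z, (O 𝒜 y).ι.app (Proj.basicOpen 𝒜 (y i) ⊓ Proj.basicOpen 𝒜 (y j))
      ((Proj 𝒜).presheaf.map (homOfLE inf_le_left).op z) = _ :=
    fun z => TwistSec.app_res (O 𝒜 y).ι inf_le_left z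
  have h2 : ∀ z, (O 𝒜 y).ι.app (Proj.basicOpen 𝒜 (y i) ⊓ Proj.basicOpen 𝒜 (y j))
      ((Proj 𝒜).presheaf.map (homOfLE inf_le_right).op z) = _ :=
    fun z => TwistSec.app_res (O 𝒜 y).ι inf_le_right z
  rw [h1, h1, h2] at h
  rw [zpow_natCast, Units.val_pow_eq_pow_val, TwistSec.u_val]
  exact h

end ring

section base

variable {B : Type u} [CommRing B] (𝒜 : ℕ → AddSubgroup B) [GradedRing 𝒜] {I : Type} (y : I → B)
  (hy : ∀ i, y i ∈ 𝒜 1) {k : Type u} [CommRing k] (κ : k →+* B) (hκ : ∀ c, κ c ∈ 𝒜 0)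

/-- The structure map to degree zero. -/
def κ0 : k →+* 𝒜 0 where
  toFun c := ⟨κ c, hκ c⟩
  map_one' := Subtype.ext (map_one κ)
  map_mul' a b := Subtype.ext (map_mul κ a b)
  map_zero' := Subtype.ext (map_zero κ)
  map_add' a b := Subtype.ext (map_add κ a b)

/-- The structure morphism. -/
noncomputable def toBase : (O 𝒜 y).toScheme ⟶ Spec (CommRingCat.of k) :=
  (O 𝒜 y).ι ≫ Proj.toSpecZero 𝒜 ≫ Spec.map (CommRingCat.ofHom (κ0 𝒜 κ hκ))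

lemma baseHom_comp {X X' : Scheme.{u}} (p : X ⟶ Spec (CommRingCat.of k)) (g : X' ⟶ X) (V : X.Opens) :
    CoordData.baseHom (g ≫ p) (g ⁻¹ᵁ V) = (g.app V).hom.comp (CoordData.baseHom p V) := by
  have h : X.presheaf.map (homOfLE (le_top : V ≤ ⊤)).op ≫ g.app V =
      g.appTop ≫ X'.presheaf.map (homOfLE le_top).op := by
    rw [g.naturality]
    rfl
  ext a
  have h2 := congrArg (fun φ => φ.hom (p.appTop.hom ((Scheme.ΓSpecIso (CommRingCat.of k)).inv.hom a))) h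
  exact h2.symm

lemma baseHom_toBase (i : I) (c : k) :
    CoordData.baseHom (toBase 𝒜 y κ hκ) ((data 𝒜 y hy).U i) c =
      chart 𝒜 y hy i (fr 𝒜 y hy i 0 (κ c) (hκ c)) := by
  have h1 : CoordData.baseHom (Proj.toSpecZero 𝒜 ≫ Spec.map (CommRingCat.ofHom (κ0 𝒜 κ hκ)))
      (Proj.basicOpen 𝒜 (y i)) = (Proj.awayToSection 𝒜 (y i)).hom.comp
        ((fromZeroRingHom 𝒜 _).comp (κ0 𝒜 κ hκ)) := by
    apply VarietyB.ProjStd.toSpecΓ_map_injective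
    rw [VarietyB.ProjStd.toSpecΓ_baseHom, ← Category.assoc, VarietyB.ProjStd.ι_toSpecZero _ (hy i)
      Nat.one_pos]
    simp only [Category.assoc, ← Spec.map_comp]
    rfl
  have h2 : (fromZeroRingHom 𝒜 (Submonoid.powers (y i))) (κ0 𝒜 κ hκ c) =
      fr 𝒜 y hy i 0 (κ c) (hκ c) := by
    apply HomogeneousLocalization.val_injective
    rw [fr_val]
    change Localization.mk _ _ = _
    congr 1
    apply Subtype.ext
    simp
  rw [toBase, chart_apply]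
  have h3 := baseHom_comp (Proj.toSpecZero 𝒜 ≫ Spec.map (CommRingCat.ofHom (κ0 𝒜 κ hκ))) (O 𝒜 y).ι
    (Proj.basicOpen 𝒜 (y i))
  refine (congrArg (fun ψ => ψ c) h3).trans ?_
  rw [RingHom.comp_apply, h1, RingHom.comp_apply, RingHom.comp_apply, h2]
  rfl

end base

section main

variable {X : Scheme.{u}} {r : ℕ} (D : CoordData X (Fin (r + 1)))
  (hU : ∀ i, IsAffineOpen (D.U i)) (hb : ∀ i j, X.basicOpen (D.f i j) = D.U i ⊓ D.U j)
  {k : Type u} [Field k] (p : X ⟶ Spec (CommRingCat.of k)) (hs : ∀ i, Function.Surjective (D.hom p i))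
  {B : Type u} [CommRing B] (𝒜 : ℕ → AddSubgroup B) [GradedRing 𝒜] (y : Fin (r + 1) → B)
  (hy : ∀ i, y i ∈ 𝒜 1) (κ : k →+* B) (hκ : ∀ c, κ c ∈ 𝒜 0)
  (φ : ∀ i, Γ(X, D.U i) →+* Away 𝒜 (y i))
  (hφf : ∀ i j, φ i (D.f i j) = fr 𝒜 y hy i 1 (y j) (hy j))
  (hφk : ∀ i c, φ i (CoordData.baseHom p (D.U i) c) = fr 𝒜 y hy i 0 (κ c) (hκ c))

lemma Sec_congr {P : Scheme.{u}} {I : Type} (D₁ D₂ : CoordData P I) (h : D₁ = D₂) (n : ℤ)
    (s : ∀ i, Γ(P, D₁.U i)) (hs : s ∈ TwistSec.Sec D₁ n) :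
    (fun i => P.presheaf.map (eqToHom (congrArg (fun D => Opposite.op (D.U i)) h)) (s i)) ∈
      TwistSec.Sec D₂ n := by
  subst h
  simpa using hs

lemma coordData_ext {P : Scheme.{u}} {I : Type} (D₁ D₂ : CoordData P I) (hU : ∀ i, D₁.U i = D₂.U i)
    (hf : ∀ i j, P.presheaf.map (eqToHom (congrArg Opposite.op (hU i))) (D₁.f i j) = D₂.f i j) :
    D₁ = D₂ := by
  obtain ⟨U₁, h₁, f₁, s₁, m₁⟩ := D₁
  obtain ⟨U₂, h₂, f₂, s₂, m₂⟩ := D₂
  obtain rfl : U₁ = U₂ := funext hU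
  obtain rfl : f₁ = f₂ := by
    funext i j
    simpa using hf i j
  rfl

include hU hb hs hφf hφk hκ in
/-- The scheme over `X` given by the graded algebra. -/
theorem exists_model : ∃ (P : Scheme.{u}) (q : P ⟶ X) (_ : IsAffineHom q)
    (σ : ∀ i, Γ(P, q ⁻¹ᵁ D.U i) ≃+* Away 𝒜 (y i)),
    (∀ i a, σ i (q.app (D.U i) a) = φ i a) ∧
    ∀ (n : ℕ) (b : B) (hb : b ∈ 𝒜 n),
      (fun i => (σ i).symm (fr 𝒜 y hy i n b hb)) ∈ TwistSec.Sec (TwistSec.pull D q) n := by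
  set D' := data 𝒜 y hy with hD'
  let p' := toBase 𝒜 y κ hκ
  let φ' : ∀ i, Γ(X, D.U i) →+* Γ((O 𝒜 y).toScheme, D'.U i) := fun i =>
    (chart 𝒜 y hy i).toRingHom.comp (φ i)
  have hφ' : ∀ i, (φ' i).comp (D.hom p i) = D'.hom p' i := by
    intro i
    refine MvPolynomial.ringHom_ext (fun a => ?_) (fun j => ?_)
    · have h1 : D'.hom p' i (MvPolynomial.C a) = CoordData.baseHom p' (D'.U i) a :=
        MvPolynomial.eval₂Hom_C _ _ _
      have h2 : D.hom p i (MvPolynomial.C a) = CoordData.baseHom p (D.U i) a :=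
        MvPolynomial.eval₂Hom_C _ _ _
      rw [h1, RingHom.comp_apply, h2, baseHom_toBase 𝒜 y hy κ hκ]
      change chart 𝒜 y hy i (φ i _) = _
      rw [hφk]
    · rw [RingHom.comp_apply, CoordData.hom_X, CoordData.hom_X]
      change chart 𝒜 y hy i (φ i _) = _
      rw [hφf]
      rfl
  have hmono : Mono (D.toProjSpace p) := by
    have := CoordData.isClosedImmersion_toProjSpace D hb p hU hs
    infer_instance
  obtain ⟨q, hq, -⟩ := CoordFactor.exists_hom D D' p p' hU φ' hφ' hmono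
  have hpre : ∀ i, q ⁻¹ᵁ (D.U i) = D'.U i := fun i =>
    CoordFactor.preimage_eq D D' φ' q hq hb (data_basicOpen 𝒜 y hy)
      (fun i j => congrArg (chart 𝒜 y hy i) (hφf i j)) i
  have happ : ∀ i a, (O 𝒜 y).toScheme.presheaf.map (eqToHom (congrArg Opposite.op (hpre i)))
      (q.app (D.U i) a) = φ' i a := by
    intro i a
    have h := CoordFactor.appLE_eq D D' φ' q hq i
    have h' := congrArg (fun ψ => ψ.hom a) h
    refine Eq.trans ?_ h'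
    rw [Scheme.Hom.appLE]
    rfl
  have hpull : TwistSec.pull D q = D' := coordData_ext _ _ hpre fun i j =>
    (happ i (D.f i j)).trans (congrArg (chart 𝒜 y hy i) (hφf i j))
  let e : ∀ i, Γ((O 𝒜 y).toScheme, q ⁻¹ᵁ D.U i) ≃+* Γ((O 𝒜 y).toScheme, D'.U i) := fun i =>
    ((O 𝒜 y).toScheme.presheaf.mapIso (eqToIso (congrArg Opposite.op (hpre i)))).commRingCatIsoToRingEquiv
  refine ⟨(O 𝒜 y).toScheme, q, ?_, fun i => (e i).trans (chart 𝒜 y hy i).symm, fun i a => ?_,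
    fun n b hb' => ?_⟩
  · refine isAffineHom_of_forall_exists_isAffineOpen q fun x => ?_
    obtain ⟨i, hi⟩ : ∃ i, x ∈ D.U i := by
      have : x ∈ (⨆ i, D.U i) := by rw [D.iSup_U]; trivial
      simpa using this
    refine ⟨D.U i, hi, hU i, ?_⟩
    rw [hpre i]
    exact data_isAffineOpen 𝒜 y hy i
  · change (chart 𝒜 y hy i).symm (e i (q.app (D.U i) a)) = _
    rw [RingEquiv.symm_apply_eq]
    exact happ i a
  · exact Sec_congr D' (TwistSec.pull D q) hpull.symm n _ (chart_mem_Sec 𝒜 y hy n b hb')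

end main

end Groth.Agent.Pi1C.GrGlue
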