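import Groth.Agent.Pi1C.GrCone

/-!
# Graded module systems

For a sequence `P n ⟶ P (n+1)` of schemes affine over `X` which is locally a `t`-adic system, the rings
`M (pull D (g n))` form a `FormSys.ModSys` over the cone ring.
-/

set_option autoImplicit false
universe u
open AlgebraicGeometry CategoryTheory
open Groth.Agent.VarietyB.ProjGlue
open scoped DirectSum

namespace Groth.Agent.Pi1C.GrModSys

open TwistSec GrSec GrCone LaurentPolynomial
open FlatB.PushRing (IsLocAway)

section Loc

variable {N N' L L' : Type*} [CommRing N] [CommRing N'] [CommRing L] [CommRing L']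
  {c : N →+* L} {c' : N' →+* L'} {s : N} {s' : N'}

theorem loc_lift (hc : IsLocAway c s) (hc' : IsLocAway c' s') (φ : N →+* N') (ψ : L →+* L')
    (comm : ∀ z, c' (φ z) = ψ (c z)) (hs : φ s = s') (hψ : Function.Surjective ψ) (x : N') :
    ∃ (k : ℕ) (y : N), φ y = s' ^ k * x := by
  obtain ⟨z, hz⟩ := hψ (c' x)
  obtain ⟨n, y, hy⟩ := hc.surj z
  have h1 : c' (φ y) = c' (s' ^ n * x) := by
    rw [comm, ← hy, map_mul, hz, map_pow, ← comm, hs, map_mul, map_pow]
    ring
  obtain ⟨m, hm⟩ := hc'.eq _ _ h1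
  exact ⟨m + n, s ^ m * y, by rw [map_mul, map_pow, hs, hm, pow_add]; ring⟩

theorem loc_div (hc : IsLocAway c s) (e x : N) (h : ∃ z, c x = c e * z) :
    ∃ (k : ℕ) (y : N), s ^ k * x = e * y := by
  obtain ⟨z, hz⟩ := h
  obtain ⟨n, y, hy⟩ := hc.surj z
  have h1 : c (s ^ n * x) = c (e * y) := by
    rw [map_mul, map_mul, map_pow, hz, ← hy]
    ring
  obtain ⟨m, hm⟩ := hc.eq _ _ h1
  exact ⟨m + n, s ^ m * y, by
    rw [pow_add, mul_assoc, hm]
    ring⟩

end Loc

section Laurent

variable {E E' : Type u} [CommRing E] [CommRing E']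

/-- Construct a Laurent polynomial from coefficients. -/
theorem exists_lc (s : Finset ℤ) (e : ℤ → E) :
    ∃ z : LaurentPolynomial E, ∀ d, lc E d z = if d ∈ s then e d else 0 := by
  classical
  refine ⟨∑ d ∈ s, C (e d) * T d, fun d => ?_⟩
  rw [map_sum]
  have h1 : ∀ a ∈ s, lc E d (C (e a) * T a) = if a = d then e a else 0 := fun a _ => lc_C_mul_T _ _ _
  rw [Finset.sum_congr rfl h1, Finset.sum_ite_eq']

theorem lmap_surjective (φ : E →+* E') (h : Function.Surjective φ) :
    Function.Surjective (lmap φ) := by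
  classical
  intro z
  obtain ⟨s, hs⟩ := lc_support z
  choose e he using h
  obtain ⟨w, hw⟩ := exists_lc s (fun d => e (lc E' d z))
  refine ⟨w, ?_⟩
  apply ext_lc
  intro d
  rw [lc_lmap, hw]
  split_ifs with h1
  · rw [he]
  · rw [map_zero, hs d h1]

theorem exists_div (z : LaurentPolynomial E) (a : E) (h : ∀ d, ∃ e, lc E d z = a * e) :
    ∃ w, z = C a * w := by
  classical
  obtain ⟨s, hs⟩ := lc_support z
  choose e he using h
  obtain ⟨w, hw⟩ := exists_lc s e
  refine ⟨w, ?_⟩
  apply ext_lc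
  intro d
  rw [lc_C_mul, hw]
  split_ifs with h1
  · rw [he]
  · rw [mul_zero, hs d h1]

end Laurent

variable {X : Scheme.{u}} {r : ℕ} (D : CoordData X (Fin (r + 1))) {k : Type u} [Field k]
  (p : X ⟶ Spec (CommRingCat.of k))

/-- The algebra structure over the cone ring. -/
noncomputable instance algM {P : Scheme.{u}} (g : P ⟶ X) : Algebra (Cone.R D p) (M (pull D g)) :=
  ((pullM D g).comp (toM D p)).toAlgebra

theorem algebraMap_eq {P : Scheme.{u}} (g : P ⟶ X) (a : Cone.R D p) :
    algebraMap (Cone.R D p) (M (pull D g)) a = pullM D g (toM D p a) := rfl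

theorem algebraMap_x {P : Scheme.{u}} (g : P ⟶ X) (j : Fin (r + 1)) :
    algebraMap (Cone.R D p) (M (pull D g)) (Cone.x D p j) = coord (pull D g) j := by
  rw [algebraMap_eq, toM_x, pullM_coord]

/-- The transition map as an algebra map. -/
noncomputable def trA {P P' : Scheme.{u}} (g : P ⟶ X) (g' : P' ⟶ X) (h : P' ⟶ P) (w : h ≫ g = g') :
    M (pull D g) →ₐ[Cone.R D p] M (pull D g') :=
  { trM D g g' h w with
    commutes' := fun a => by
      change trM D g g' h w (pullM D g (toM D p a)) = pullM D g' (toM D p a)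
      rw [trM_pullM] }

theorem trA_apply {P P' : Scheme.{u}} (g : P ⟶ X) (g' : P' ⟶ X) (h : P' ⟶ P) (w : h ≫ g = g')
    (z : M (pull D g)) : trA D p g g' h w z = trM D g g' h w z := rfl

variable (hU : ∀ i, IsAffineOpen (D.U i)) (hb : ∀ i j, X.basicOpen (D.f i j) = D.U i ⊓ D.U j)

include hU hb in
theorem isLocAway {P : Scheme.{u}} (g : P ⟶ X) [IsAffineHom g] (i : Fin (r + 1)) :
    IsLocAway (chart (pull D g) i) (coord (pull D g) i) :=
  isLocAway_chart (pull D g) (pull_isAffineOpen D g hU) (pull_basicOpen D g hb) i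

include hU hb in
theorem closed {P : Scheme.{u}} (g : P ⟶ X) [IsAffineHom g] :
    FormSys.Closed (Cone.x D p) (M (pull D g)) :=
  GrClosed.closed (pull D g) (pull_isAffineOpen D g hU) (pull_basicOpen D g hb) (Cone.x D p)
    (fun i => algebraMap_x D p g i)

/-- A sequence of schemes over `X` which is locally a `x_0`-adic system. -/
structure LocSys (P : ℕ → Scheme.{u}) (g : ∀ n, P n ⟶ X) (h : ∀ n, P n ⟶ P (n + 1))
    (w : ∀ n, h n ≫ g (n + 1) = g n) : Prop where
  aff : ∀ n, IsAffineHom (g n)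
  tors : ∀ n i, (pull D (g n)).f i 0 ^ (n + 1) = 0
  surj : ∀ n i, Function.Surjective (trU D (g (n + 1)) (g n) (h n) (w n) i)
  ker : ∀ n i e, trU D (g (n + 1)) (g n) (h n) (w n) i e = 0 →
    ∃ e', e = (pull D (g (n + 1))).f i 0 ^ (n + 1) * e'
  ftors : ∀ n i e, (pull D (g n)).f i 0 * e = 0 → ∃ e', e = (pull D (g n)).f i 0 ^ n * e'

variable {D} in
theorem chart_coord_pow {P : Scheme.{u}} (g : P ⟶ X) (i : Fin (r + 1)) (n : ℕ) :
    chart (pull D g) i (coord (pull D g) 0 ^ n) = C ((pull D g).f i 0 ^ n) * T n := by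
  rw [map_pow, chart_coord, mul_pow, ← map_pow, T_pow, mul_one]

include hU hb in
theorem modSys {P : ℕ → Scheme.{u}} {g : ∀ n, P n ⟶ X} {h : ∀ n, P n ⟶ P (n + 1)}
    {w : ∀ n, h n ≫ g (n + 1) = g n} (S : LocSys D P g h w) :
    FormSys.ModSys (Cone.x D p 0) (Cone.x D p) (fun n => M (pull D (g n)))
      (fun n => (trA D p (g (n + 1)) (g n) (h n) (w n)).toLinearMap) where
  tors n x := by
    rw [Algebra.smul_def, map_pow, algebraMap_x]
    have : coord (pull D (g n)) 0 ^ (n + 1) = 0 := by
      apply ext_chart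
      intro i
      rw [chart_coord_pow, S.tors, map_zero, zero_mul, map_zero]
    rw [this, zero_mul]
  lift n i x := by
    have := S.aff n
    have := S.aff (n + 1)
    obtain ⟨m, y, hy⟩ := loc_lift (isLocAway D hU hb (g (n + 1)) i) (isLocAway D hU hb (g n) i)
      (trM D (g (n + 1)) (g n) (h n) (w n)) (lmap (trU D (g (n + 1)) (g n) (h n) (w n) i))
      (fun z => chart_trM D _ _ _ _ z i)
      (mapRing_coord _ _ _ _ (fun i j => trU_f D _ _ _ _ i j) i)
      (lmap_surjective _ (S.surj n i)) x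
    refine ⟨m, y, ?_⟩
    rw [Algebra.smul_def, map_pow, algebraMap_x]
    exact hy
  ker n i x hx := by
    have := S.aff n
    have := S.aff (n + 1)
    have h1 : ∃ z, chart (pull D (g (n + 1))) i x =
        chart (pull D (g (n + 1))) i (coord (pull D (g (n + 1))) 0 ^ (n + 1)) * z := by
      have h2 : ∀ d, ∃ e, lc _ d (chart (pull D (g (n + 1))) i x) =
          (pull D (g (n + 1))).f i 0 ^ (n + 1) * e := by
        intro d
        apply S.ker n i
        rw [← lc_lmap, ← chart_trM]
        change lc _ d (chart _ i ((trA D p (g (n + 1)) (g n) (h n) (w n)).toLinearMap x)) = 0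
        rw [hx, map_zero, map_zero]
      obtain ⟨z, hz⟩ := exists_div _ _ h2
      refine ⟨T (-(n + 1 : ℕ)) * z, ?_⟩
      rw [chart_coord_pow, hz, mul_assoc, ← mul_assoc (T _) (T _), ← T_add, add_neg_cancel, T_zero,
        one_mul]
    obtain ⟨m, y, hy⟩ := loc_div (isLocAway D hU hb (g (n + 1)) i) _ x h1
    refine ⟨m, y, ?_⟩
    rw [Algebra.smul_def, Algebra.smul_def, map_pow, map_pow, algebraMap_x, algebraMap_x]
    exact hy
  ftors n i x hx := by
    have := S.aff n
    rw [Algebra.smul_def, algebraMap_x] at hx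
    have h1 : ∃ z, chart (pull D (g n)) i x =
        chart (pull D (g n)) i (coord (pull D (g n)) 0 ^ n) * z := by
      have h2 : ∀ d, ∃ e, lc _ d (chart (pull D (g n)) i x) = (pull D (g n)).f i 0 ^ n * e := by
        intro d
        apply S.ftors n i
        have h3 := congrArg (fun z => lc _ (d + 1) (chart (pull D (g n)) i z)) hx
        simp only [map_mul, map_zero, chart_coord] at h3
        rw [mul_assoc, mul_comm (T 1), lc_C_mul, lc_mul_T, add_sub_cancel_right] at h3
        exact h3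
      obtain ⟨z, hz⟩ := exists_div _ _ h2
      refine ⟨T (-(n : ℕ)) * z, ?_⟩
      rw [chart_coord_pow, hz, mul_assoc, ← mul_assoc (T _) (T _), ← T_add, add_neg_cancel, T_zero,
        one_mul]
    obtain ⟨m, y, hy⟩ := loc_div (isLocAway D hU hb (g n) i) _ x h1
    refine ⟨m, y, ?_⟩
    rw [Algebra.smul_def, Algebra.smul_def, map_pow, map_pow, algebraMap_x, algebraMap_x]
    exact hy
  closed n := by
    have := S.aff n
    exact closed D p hU hb (g n)

end Groth.Agent.Pi1C.GrModSys
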