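import Groth.Agent.Pi1C.CoordPull
import Groth.Agent.FlatB.PushRing
import Mathlib.Algebra.DirectSum.Internal
import Mathlib.Algebra.MonoidAlgebra.MapDomain

/-!
# The graded ring of twisted sections

`M D = ⨁ a : ℤ, Sec D a`, with the chart maps `chart D i : M D → Γ(X, U i)[T;T⁻¹]`, localization at
`x_i`.
-/

set_option autoImplicit false
universe u
open AlgebraicGeometry CategoryTheory
open Groth.Agent.VarietyB.ProjGlue
open scoped DirectSum

namespace Groth.Agent.Pi1C.GrSec

open TwistSec LaurentPolynomial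

section Laurent

/-- The coefficient of a Laurent polynomial as an additive map. -/
noncomputable def lc (A : Type u) [CommRing A] (d : ℤ) : LaurentPolynomial A →+ A where
  toFun z := z.coeff d
  map_zero' := rfl
  map_add' _ _ := rfl

theorem lc_C_mul_T {A : Type u} [CommRing A] (a : A) (n d : ℤ) :
    lc A d (LaurentPolynomial.C a * LaurentPolynomial.T n) = if n = d then a else 0 := by
  rw [← LaurentPolynomial.single_eq_C_mul_T]
  change (AddMonoidAlgebra.single n a : LaurentPolynomial A).coeff d = _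
  rw [AddMonoidAlgebra.coeff_single, Finsupp.single_apply]

theorem ext_lc {A : Type u} [CommRing A] {z w : LaurentPolynomial A} (h : ∀ d, lc A d z = lc A d w) :
    z = w := LaurentPolynomial.ext h

theorem lc_mul_T {A : Type u} [CommRing A] (z : LaurentPolynomial A) (n d : ℤ) :
    lc A d (z * T n) = lc A (d - n) z := by
  induction z using LaurentPolynomial.induction_on' with
  | add z w hz hw => rw [add_mul, map_add, map_add, hz, hw]
  | C_mul_T m a =>
    rw [mul_assoc, ← T_add, lc_C_mul_T, lc_C_mul_T]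
    congr 1
    exact propext ⟨fun h => by omega, fun h => by omega⟩

theorem lc_C_mul {A : Type u} [CommRing A] (z : LaurentPolynomial A) (a : A) (d : ℤ) :
    lc A d (C a * z) = a * lc A d z := by
  induction z using LaurentPolynomial.induction_on' with
  | add z w hz hw => rw [mul_add, map_add, map_add, hz, hw, mul_add]
  | C_mul_T m b =>
    rw [← mul_assoc, ← map_mul, lc_C_mul_T, lc_C_mul_T]
    split_ifs <;> simp

theorem lc_support {A : Type u} [CommRing A] (z : LaurentPolynomial A) :
    ∃ s : Finset ℤ, ∀ d, d ∉ s → lc A d z = 0 :=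
  ⟨z.coeff.support, fun _ hd => Finsupp.notMem_support_iff.mp hd⟩

/-- The map on Laurent polynomials induced by a ring map. -/
noncomputable def lmap {A B : Type u} [CommRing A] [CommRing B] (f : A →+* B) :
    LaurentPolynomial A →+* LaurentPolynomial B :=
  AddMonoidAlgebra.mapRingHom ℤ f

theorem lmap_C_mul_T {A B : Type u} [CommRing A] [CommRing B] (f : A →+* B) (a : A) (n : ℤ) :
    lmap f (C a * T n) = C (f a) * T n := by
  rw [← single_eq_C_mul_T, ← single_eq_C_mul_T]
  exact AddMonoidAlgebra.mapRingHom_single f n a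

theorem lmap_C {A B : Type u} [CommRing A] [CommRing B] (f : A →+* B) (a : A) :
    lmap f (C a) = C (f a) := by
  have := lmap_C_mul_T f a 0
  rwa [T_zero, mul_one, T_zero, mul_one] at this

theorem lmap_T {A B : Type u} [CommRing A] [CommRing B] (f : A →+* B) (n : ℤ) :
    lmap f (T n) = T n := by
  have := lmap_C_mul_T f 1 n
  rwa [map_one, one_mul, map_one, map_one, one_mul] at this

theorem lc_lmap {A B : Type u} [CommRing A] [CommRing B] (f : A →+* B) (z : LaurentPolynomial A)
    (d : ℤ) : lc B d (lmap f z) = f (lc A d z) := by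
  induction z using LaurentPolynomial.induction_on' with
  | add z w hz hw => rw [map_add, map_add, map_add, map_add, hz, hw]
  | C_mul_T m b =>
    rw [lmap_C_mul_T, lc_C_mul_T, lc_C_mul_T]
    split_ifs <;> simp

/-- The unit `v T`. -/
noncomputable def vT {A : Type u} [CommRing A] (v : Aˣ) : (LaurentPolynomial A)ˣ :=
  (Units.map (LaurentPolynomial.C : A →+* LaurentPolynomial A).toMonoidHom v) *
    ⟨T 1, T (-1), by rw [← T_add]; simp, by rw [← T_add]; simp⟩

theorem vT_zpow {A : Type u} [CommRing A] (v : Aˣ) (n : ℤ) :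
    ((vT v ^ n : (LaurentPolynomial A)ˣ) : LaurentPolynomial A) = C ((v ^ n : Aˣ) : A) * T n := by
  rw [vT, mul_zpow, Units.val_mul, ← map_zpow]
  congr 1
  have key : ∀ m : ℕ, (((⟨T 1, T (-1), by rw [← T_add]; simp, by rw [← T_add]; simp⟩ :
      (LaurentPolynomial A)ˣ) ^ m : (LaurentPolynomial A)ˣ) : LaurentPolynomial A) = T m := by
    intro m
    rw [Units.val_pow_eq_pow_val]
    change (T 1 : LaurentPolynomial A) ^ m = T m
    rw [T_pow, mul_one]
  rcases Int.le_total 0 n with hn | hn
  · lift n to ℕ using hn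
    rw [zpow_natCast, key]
  · obtain ⟨m, rfl⟩ := Int.exists_eq_neg_ofNat hn
    rw [zpow_neg, zpow_natCast]
    refine (Units.isUnit _).mul_left_cancel ((Units.mul_inv _).trans ?_)
    rw [key, ← T_add, add_neg_cancel, T_zero]

/-- The substitution `T ↦ v T`. -/
noncomputable def theta {A : Type u} [CommRing A] (v : Aˣ) :
    LaurentPolynomial A →+* LaurentPolynomial A :=
  LaurentPolynomial.eval₂ LaurentPolynomial.C (vT v)

theorem theta_C_mul_T {A : Type u} [CommRing A] (v : Aˣ) (a : A) (n : ℤ) :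
    theta v (C a * T n) = C (((v ^ n : Aˣ) : A) * a) * T n := by
  rw [theta, eval₂_C_mul_T, vT_zpow, map_mul]
  ring

theorem lc_theta {A : Type u} [CommRing A] (v : Aˣ) (z : LaurentPolynomial A) (d : ℤ) :
    lc A d (theta v z) = ((v ^ d : Aˣ) : A) * lc A d z := by
  induction z using LaurentPolynomial.induction_on' with
  | add z w hz hw => rw [map_add, map_add, map_add, hz, hw, mul_add]
  | C_mul_T m b =>
    rw [theta_C_mul_T, lc_C_mul_T, lc_C_mul_T]
    split_ifs with h
    · rw [h]
    · rw [mul_zero]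

end Laurent

section Ring

variable {X : Scheme.{u}} {I : Type} (D : CoordData X I)

instance : SetLike.GradedMonoid (Sec D) where
  one_mem := one_mem D
  mul_mem _ _ _ _ := mul_mem D

/-- The graded ring of twisted sections. -/
abbrev M : Type u := ⨁ a : ℤ, Sec D a

/-- The homogeneous element of degree `a` defined by a twisted section. -/
noncomputable def hom (a : ℤ) : Sec D a →+ M D := DirectSum.of (fun a => Sec D a) a

theorem hom_mul_hom {a b : ℤ} (σ : Sec D a) (τ : Sec D b) :
    hom D a σ * hom D b τ = hom D (a + b) ⟨σ.1 * τ.1, mul_mem D σ.2 τ.2⟩ :=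
  DirectSum.of_mul_of _ _

/-- The coordinates. -/
noncomputable def coord (j : I) : M D := hom D 1 ⟨fun i => D.f i j, coord_mem D j⟩

theorem induction_on {P : M D → Prop} (z : M D) (h0 : P 0) (h1 : ∀ a (σ : Sec D a), P (hom D a σ))
    (h2 : ∀ z w, P z → P w → P (z + w)) : P z :=
  DirectSum.induction_on z h0 (fun a σ => h1 a σ) h2

theorem ext_M {z w : M D} (h : ∀ a i, (z a).1 i = (w a).1 i) : z = w := by
  apply DFinsupp.ext
  intro a
  exact Subtype.ext (funext fun i => h a i)

theorem hom_apply (a b : ℤ) (σ : Sec D a) (i : I) :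
    (hom D a σ b).1 i = if a = b then σ.1 i else 0 := by
  classical
  split_ifs with h
  · subst h
    rw [hom, DirectSum.of_eq_same]
  · rw [hom, DirectSum.of_eq_of_ne _ _ _ (Ne.symm h)]
    rfl

/-- The chart maps. -/
noncomputable def chart (i : I) : M D →+* LaurentPolynomial Γ(X, D.U i) :=
  DirectSum.toSemiring (fun a =>
    { toFun := fun σ => C (σ.1 i) * T a
      map_zero' := by simp
      map_add' := fun σ τ => by
        change C (σ.1 i + τ.1 i) * T a = _
        rw [map_add, add_mul] })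
    (by
      change C ((1 : ∀ i, Γ(X, D.U i)) i) * T 0 = 1
      simp)
    (fun {a b} σ τ => by
      change C (σ.1 i * τ.1 i) * T (a + b) = (C (σ.1 i) * T a) * (C (τ.1 i) * T b)
      rw [map_mul, T_add]
      ring)

theorem chart_hom (i : I) (a : ℤ) (σ : Sec D a) : chart D i (hom D a σ) = C (σ.1 i) * T a :=
  DirectSum.toSemiring_of _ _ _ _ _

theorem chart_coord (i j : I) : chart D i (coord D j) = C (D.f i j) * T 1 := chart_hom D i 1 _

theorem chart_coord_self (i : I) : chart D i (coord D i) = T 1 := by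
  rw [chart_coord, D.f_self, map_one, one_mul]

theorem lc_chart (i : I) (z : M D) (a : ℤ) : lc _ a (chart D i z) = (z a).1 i := by
  classical
  induction z using induction_on with
  | h0 => rw [map_zero, map_zero]; rfl
  | h1 b σ => rw [chart_hom, lc_C_mul_T, hom_apply]
  | h2 z w hz hw => rw [map_add, map_add, hz, hw]; rfl

theorem ext_chart {z w : M D} (h : ∀ i, chart D i z = chart D i w) : z = w := by
  apply ext_M
  intro a i
  rw [← lc_chart, ← lc_chart, h]

theorem coord_pow (j : I) (n : ℕ) :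
    coord D j ^ n = hom D n ⟨fun i => D.f i j ^ n, coord_pow_mem D j n⟩ := by
  apply ext_chart
  intro i
  rw [map_pow, chart_coord, chart_hom, mul_pow, ← map_pow, T_pow, mul_one]

/-- The charts are compatible. -/
theorem lmap_chart (i j : I) (z : M D) :
    lmap (resL D i j) (chart D i z) = theta (u D i j) (lmap (resR D i j) (chart D j z)) := by
  apply ext_lc
  intro a
  rw [lc_lmap, lc_theta, lc_lmap, lc_chart, lc_chart]
  exact (z a).2 i j

/-- Compatible families of Laurent polynomials glue. -/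
theorem exists_glue [Finite I] (z : ∀ i, LaurentPolynomial Γ(X, D.U i))
    (h : ∀ i j, lmap (resL D i j) (z i) = theta (u D i j) (lmap (resR D i j) (z j))) :
    ∃ y : M D, ∀ i, chart D i y = z i := by
  classical
  have := Fintype.ofFinite I
  choose s hs using fun i => lc_support (z i)
  have hmem : ∀ a, (fun i => lc _ a (z i)) ∈ Sec D a := by
    intro a i j
    rw [← lc_lmap, h i j, lc_theta, lc_lmap]
  let t : Finset ℤ := Finset.univ.biUnion s
  refine ⟨∑ a ∈ t, hom D a ⟨fun i => lc _ a (z i), hmem a⟩, fun i => ?_⟩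
  apply ext_lc
  intro d
  rw [map_sum, map_sum]
  have h1 : ∀ a ∈ t, lc _ d (chart D i (hom D a ⟨fun i => lc _ a (z i), hmem a⟩)) =
      if a = d then lc _ a (z i) else 0 := by
    intro a _
    rw [chart_hom, lc_C_mul_T]
  rw [Finset.sum_congr rfl h1, Finset.sum_ite_eq']
  split_ifs with h2
  · rfl
  · symm
    apply hs i d
    intro hd
    exact h2 (Finset.mem_biUnion.mpr ⟨i, Finset.mem_univ i, hd⟩)

theorem exists_finset (z : M D) : ∃ s : Finset ℤ, z = ∑ a ∈ s, hom D a (z a) := by
  classical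
  exact ⟨DFinsupp.support z, (DirectSum.sum_support_of z).symm⟩

section affine

variable (hU : ∀ i, IsAffineOpen (D.U i)) (hb : ∀ i j, X.basicOpen (D.f i j) = D.U i ⊓ D.U j)

include hU hb in
theorem exists_pow_mul_hom_eq_zero [Finite I] (i : I) {a : ℤ} (σ : Sec D a) (h : σ.1 i = 0) :
    ∃ N : ℕ, coord D i ^ N * hom D a σ = 0 := by
  obtain ⟨N, hN⟩ := exists_pow_mul_eq_zero_of_apply D hU hb σ.2 i h
  refine ⟨N, ?_⟩
  apply ext_chart
  intro j
  rw [map_mul, map_pow, chart_coord, chart_hom, map_zero, mul_pow, ← map_pow, mul_assoc,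
    mul_comm (T 1 ^ N), ← mul_assoc, ← mul_assoc, ← map_mul, hN, map_zero, zero_mul, zero_mul]

include hU hb in
theorem chart_eq_zero [Finite I] (i : I) (z : M D) (h : chart D i z = 0) :
    ∃ N : ℕ, coord D i ^ N * z = 0 := by
  classical
  have h1 : ∀ a, ∃ N : ℕ, coord D i ^ N * hom D a (z a) = 0 := by
    intro a
    apply exists_pow_mul_hom_eq_zero D hU hb
    rw [← lc_chart, h, map_zero]
  choose N hN using h1
  obtain ⟨s, hs⟩ := exists_finset D z
  refine ⟨∑ a ∈ s, N a, ?_⟩
  rw [hs, Finset.mul_sum]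
  refine Finset.sum_eq_zero fun a ha => ?_
  rw [← Nat.sub_add_cancel (Finset.single_le_sum (f := N) (fun _ _ => Nat.zero_le _) ha), pow_add,
    mul_assoc, hN, mul_zero]

include hU hb in
/-- Every Laurent polynomial on a chart extends, up to a power of `T`. -/
theorem chart_surj [Finite I] (i : I) (z : LaurentPolynomial Γ(X, D.U i)) :
    ∃ (N : ℕ) (a : M D), z * T N = chart D i a := by
  induction z using LaurentPolynomial.induction_on' with
  | add z₁ z₂ h₁ h₂ =>
    obtain ⟨N₁, a₁, h₁⟩ := h₁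
    obtain ⟨N₂, a₂, h₂⟩ := h₂
    refine ⟨N₁ + N₂, coord D i ^ N₂ * a₁ + coord D i ^ N₁ * a₂, ?_⟩
    rw [map_add, map_mul, map_mul, map_pow, map_pow, chart_coord_self, ← h₁, ← h₂,
      LaurentPolynomial.T_pow, LaurentPolynomial.T_pow, mul_one, mul_one, Nat.cast_add,
      LaurentPolynomial.T_add]
    ring
  | C_mul_T d c =>
    obtain ⟨N₀, σ, hσ, rfl⟩ := exists_sec D hU hb i c
    refine ⟨N₀ + d.natAbs, coord D i ^ (d + d.natAbs).toNat * hom D N₀ ⟨σ, hσ⟩, ?_⟩
    rw [map_mul, map_pow, chart_coord_self, chart_hom, T_pow, mul_one]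
    have : ((d + d.natAbs).toNat : ℤ) = d + d.natAbs := Int.toNat_of_nonneg (by omega)
    rw [this, mul_comm (T _), mul_assoc, mul_assoc, ← T_add, ← T_add]
    congr 2
    push_cast
    ring

include hU hb in
theorem isLocAway_chart [Finite I] (i : I) :
    FlatB.PushRing.IsLocAway (chart D i) (coord D i) where
  unit := by
    rw [chart_coord_self]
    exact LaurentPolynomial.isUnit_T 1
  surj z := by
    obtain ⟨N, a, h⟩ := chart_surj D hU hb i z
    exact ⟨N, a, by rw [chart_coord_self, T_pow, mul_one, h]⟩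
  eq a b h := by
    obtain ⟨N, hN⟩ := chart_eq_zero D hU hb i (a - b) (by rw [map_sub, h, sub_self])
    exact ⟨N, by rwa [mul_sub, sub_eq_zero] at hN⟩

end affine

end Ring

section Map

variable {X X' : Scheme.{u}} {I : Type} (D : CoordData X I) (D' : CoordData X' I)

/-- The additive map on `M` induced by compatible additive maps on the charts. -/
noncomputable def mapAdd (φ : ∀ i, Γ(X, D.U i) →+ Γ(X', D'.U i))
    (h : ∀ (a : ℤ), ∀ e ∈ Sec D a, (fun i => φ i (e i)) ∈ Sec D' a) : M D →+ M D' :=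
  DirectSum.map fun a =>
    { toFun := fun σ => ⟨fun i => φ i (σ.1 i), h a σ.1 σ.2⟩
      map_zero' := Subtype.ext (funext fun i => map_zero (φ i))
      map_add' := fun σ τ => Subtype.ext (funext fun i => map_add (φ i) (σ.1 i) (τ.1 i)) }

theorem mapAdd_apply (φ : ∀ i, Γ(X, D.U i) →+ Γ(X', D'.U i))
    (h : ∀ (a : ℤ), ∀ e ∈ Sec D a, (fun i => φ i (e i)) ∈ Sec D' a) (z : M D) (a : ℤ) (i : I) :
    (mapAdd D D' φ h z a).1 i = φ i ((z a).1 i) := by
  rw [mapAdd, DirectSum.map_apply]
  rfl

theorem mapAdd_hom (φ : ∀ i, Γ(X, D.U i) →+ Γ(X', D'.U i))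
    (h : ∀ (a : ℤ), ∀ e ∈ Sec D a, (fun i => φ i (e i)) ∈ Sec D' a) (a : ℤ) (σ : Sec D a) :
    mapAdd D D' φ h (hom D a σ) = hom D' a ⟨fun i => φ i (σ.1 i), h a σ.1 σ.2⟩ := by
  rw [mapAdd, hom, DirectSum.map_of]
  rfl

/-- The ring map on `M` induced by compatible ring maps on the charts. -/
noncomputable def mapRing (φ : ∀ i, Γ(X, D.U i) →+* Γ(X', D'.U i))
    (h : ∀ (a : ℤ), ∀ e ∈ Sec D a, (fun i => φ i (e i)) ∈ Sec D' a) : M D →+* M D' :=
  { mapAdd D D' (fun i => (φ i).toAddMonoidHom) h with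
    map_one' := by
      apply ext_M
      intro a i
      change (mapAdd D D' (fun i => (φ i).toAddMonoidHom) h (hom D 0 ⟨1, one_mem D⟩) a).1 i =
        (hom D' 0 ⟨1, one_mem D'⟩ a).1 i
      rw [mapAdd_apply, hom_apply, hom_apply]
      split_ifs
      · exact map_one (φ i)
      · exact map_zero (φ i)
    map_mul' := by
      intro z w
      change mapAdd D D' (fun i => (φ i).toAddMonoidHom) h (z * w) =
        mapAdd D D' (fun i => (φ i).toAddMonoidHom) h z *
          mapAdd D D' (fun i => (φ i).toAddMonoidHom) h w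
      induction z using induction_on with
      | h0 => rw [zero_mul, map_zero, zero_mul]
      | h2 z z' hz hz' => rw [add_mul, map_add, map_add, add_mul, hz, hz']
      | h1 a σ =>
        induction w using induction_on with
        | h0 => rw [mul_zero, map_zero, mul_zero]
        | h2 w w' hw hw' => rw [mul_add, map_add, map_add, mul_add, hw, hw']
        | h1 b τ =>
          rw [hom_mul_hom, mapAdd_hom, mapAdd_hom, mapAdd_hom, hom_mul_hom]
          congr 1
          exact Subtype.ext (funext fun i => map_mul (φ i) (σ.1 i) (τ.1 i)) }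

theorem mapRing_apply (φ : ∀ i, Γ(X, D.U i) →+* Γ(X', D'.U i))
    (h : ∀ (a : ℤ), ∀ e ∈ Sec D a, (fun i => φ i (e i)) ∈ Sec D' a) (z : M D) (a : ℤ) (i : I) :
    (mapRing D D' φ h z a).1 i = φ i ((z a).1 i) :=
  mapAdd_apply D D' (fun i => (φ i).toAddMonoidHom) h z a i

theorem mapRing_hom (φ : ∀ i, Γ(X, D.U i) →+* Γ(X', D'.U i))
    (h : ∀ (a : ℤ), ∀ e ∈ Sec D a, (fun i => φ i (e i)) ∈ Sec D' a) (a : ℤ) (σ : Sec D a) :
    mapRing D D' φ h (hom D a σ) = hom D' a ⟨fun i => φ i (σ.1 i), h a σ.1 σ.2⟩ :=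
  mapAdd_hom D D' (fun i => (φ i).toAddMonoidHom) h a σ

theorem chart_mapRing (φ : ∀ i, Γ(X, D.U i) →+* Γ(X', D'.U i))
    (h : ∀ (a : ℤ), ∀ e ∈ Sec D a, (fun i => φ i (e i)) ∈ Sec D' a) (z : M D) (i : I) :
    chart D' i (mapRing D D' φ h z) = lmap (φ i) (chart D i z) := by
  apply ext_lc
  intro a
  rw [lc_chart, mapRing_apply, lc_lmap, lc_chart]

theorem mapRing_coord (φ : ∀ i, Γ(X, D.U i) →+* Γ(X', D'.U i))
    (h : ∀ (a : ℤ), ∀ e ∈ Sec D a, (fun i => φ i (e i)) ∈ Sec D' a)
    (hf : ∀ i j, φ i (D.f i j) = D'.f i j) (j : I) :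
    mapRing D D' φ h (coord D j) = coord D' j := by
  apply ext_chart
  intro i
  rw [chart_mapRing, chart_coord, chart_coord, lmap_C_mul_T, hf]

end Map

end Groth.Agent.Pi1C.GrSec
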