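import Groth.Agent.Pi1C.HomScheme

/-!
# Elementary bijections between Hom sets of base changes
-/

set_option autoImplicit false
set_option backward.isDefEq.respectTransparency false
set_option backward.defeqAttrib.useBackward true
universe u
open CategoryTheory Limits AlgebraicGeometry

namespace Groth.Agent.Pi1C.HomEquiv

open HomGlue HomScheme

variable {X : Scheme.{u}}

/-- Maps `T ×_X U → V` over `X` are maps `U ×_X T → V ×_X T` over `T`. -/
noncomputable def pbEquiv {U V T : Scheme.{u}} (a : U ⟶ X) (b : V ⟶ X) (g : T ⟶ X) :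
    {φ : pullback g a ⟶ V // φ ≫ b = pullback.fst g a ≫ g} ≃
      {ψ : pullback a g ⟶ pullback b g // ψ ≫ pullback.snd b g = pullback.snd a g} where
  toFun φ := ⟨pullback.lift ((pullbackSymmetry a g).hom ≫ φ.1) (pullback.snd a g) (by
      rw [Category.assoc, φ.2, ← Category.assoc, pullbackSymmetry_hom_comp_fst]),
    pullback.lift_snd _ _ _⟩
  invFun ψ := ⟨(pullbackSymmetry g a).hom ≫ ψ.1 ≫ pullback.fst b g, by
    rw [Category.assoc, Category.assoc, pullback.condition, reassoc_of% ψ.2, ← Category.assoc,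
      pullbackSymmetry_hom_comp_snd]⟩
  left_inv φ := by
    apply Subtype.ext
    simp only [pullback.lift_fst]
    rw [← Category.assoc]
    have : (pullbackSymmetry g a).hom ≫ (pullbackSymmetry a g).hom = 𝟙 _ := by
      apply pullback.hom_ext <;> simp
    rw [this, Category.id_comp]
  right_inv ψ := by
    apply Subtype.ext
    apply pullback.hom_ext
    · simp only [pullback.lift_fst]
      rw [← Category.assoc]
      have : (pullbackSymmetry a g).hom ≫ (pullbackSymmetry g a).hom = 𝟙 _ := by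
        apply pullback.hom_ext <;> simp
      rw [this, Category.id_comp]
    · rw [pullback.lift_snd, ψ.2]

/-- Underlying object of `Over X`. -/
noncomputable abbrev toO {X : Scheme.{u}} (U : FEt.Cat X) : Over X := Over.mk U.hom

/-- Sections of the internal hom object. -/
def secEquiv {X : Scheme.{u}} (W : Over X) {T : Scheme.{u}} (g : T ⟶ X) :
    {s : T ⟶ W.left // s ≫ W.hom = g} ≃ (Over.mk g ⟶ W) where
  toFun s := Over.homMk s.1 s.2
  invFun a := ⟨a.left, Over.w a⟩
  left_inv _ := rfl
  right_inv _ := by ext1; rfl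

/-- Base change of homs, first step. -/
noncomputable def bcEquiv₁ {X : Scheme.{u}} (U V : FEt.Cat X) {T : Scheme.{u}} (g : T ⟶ X) :
    ((Q (toO U)).obj (Over.mk g) ⟶ toO V) ≃
      {φ : pullback g U.hom ⟶ V.left // φ ≫ V.hom = pullback.fst g U.hom ≫ g} where
  toFun φ := ⟨φ.left, Over.w φ⟩
  invFun φ := Over.homMk φ.1 φ.2
  left_inv _ := by ext1; rfl
  right_inv _ := rfl

/-- Base change of homs, last step. -/
noncomputable def bcEquiv₂ {X : Scheme.{u}} (U V : FEt.Cat X) {T : Scheme.{u}} (g : T ⟶ X) :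
    {ψ : pullback U.hom g ⟶ pullback V.hom g //
      ψ ≫ pullback.snd V.hom g = pullback.snd U.hom g} ≃
      ((FEt.restrict g).obj U ⟶ (FEt.restrict g).obj V) where
  toFun ψ := MorphismProperty.Over.homMk ψ.1 ψ.2 trivial
  invFun ψ := ⟨ψ.left, MorphismProperty.Over.w ψ⟩
  left_inv _ := rfl
  right_inv _ := MorphismProperty.Over.Hom.ext rfl

/-- Base change of homs. -/
noncomputable def bcEquiv {X : Scheme.{u}} (U V : FEt.Cat X) {T : Scheme.{u}} (g : T ⟶ X) :
    ((Q (toO U)).obj (Over.mk g) ⟶ toO V) ≃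
      ((FEt.restrict g).obj U ⟶ (FEt.restrict g).obj V) :=
  ((bcEquiv₁ U V g).trans (pbEquiv U.hom V.hom g)).trans (bcEquiv₂ U V g)

/-- The scheme of homomorphisms between finite étale covers (Stacks 0BL7). -/
theorem exists_homCover {X : Scheme.{u}} (U V : FEt.Cat X) :
    ∃ W : FEt.Cat X, ∀ (T : Scheme.{u}) (g : T ⟶ X),
      Nonempty ({s : T ⟶ W.left // s ≫ W.hom = g} ≃
        ((FEt.restrict g).obj U ⟶ (FEt.restrict g).obj V)) := by
  have hU1 : IsFinite (toO U).hom := U.prop.1
  have hU2 : Etale (toO U).hom := U.prop.2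
  have hV1 : IsFinite (toO V).hom := V.prop.1
  have hV2 : Etale (toO V).hom := V.prop.2
  obtain ⟨W, ev, hW1, hW2, hUP⟩ := exists_homObj (toO U) (toO V)
  refine ⟨MorphismProperty.Over.mk ⊤ W.hom ⟨hW1, hW2⟩, fun T g => ⟨?_⟩⟩
  exact ((secEquiv W g).trans (Equiv.ofBijective _ (hUP (Over.mk g)))).trans (bcEquiv U V g)

end Groth.Agent.Pi1C.HomEquiv
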