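import Mathlib.AlgebraicGeometry.RelativeGluing
import Mathlib.AlgebraicGeometry.Morphisms.Affine
import Mathlib.AlgebraicGeometry.Restrict

/-!
# Gluing representing objects of `T ↦ Hom_X(T ×_X U, V)`

`Q U : Over X ⥤ Over X` is `T ↦ T ×_X U`. If for every affine open `i` of `X` the functor
`T ↦ Hom_X(T ×_X U, V)` is represented on affine `T` over `i` by an affine scheme, then it is
representable.
-/

set_option autoImplicit false
set_option backward.isDefEq.respectTransparency false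
set_option backward.defeqAttrib.useBackward true
universe u
open CategoryTheory Limits AlgebraicGeometry

namespace Groth.Agent.Pi1C.HomGlue

variable {X : Scheme.{u}}

/-- `T ↦ T ×_X U` as an endofunctor of `Over X`. -/
noncomputable def Q (U : Over X) : Over X ⥤ Over X where
  obj T := Over.mk (pullback.fst T.hom U.hom ≫ T.hom)
  map {T T'} a := Over.homMk (pullback.lift (pullback.fst T.hom U.hom ≫ a.left)
    (pullback.snd T.hom U.hom) (by simp [pullback.condition])) (by simp)
  map_id T := by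
    ext1
    apply pullback.hom_ext <;> simp
  map_comp {T T' T''} a b := by
    ext1
    apply pullback.hom_ext <;> simp

/-- First projection. -/
noncomputable def qFst (U T : Over X) : ((Q U).obj T).left ⟶ T.left := pullback.fst T.hom U.hom

/-- Second projection. -/
noncomputable def qSnd (U T : Over X) : ((Q U).obj T).left ⟶ U.left := pullback.snd T.hom U.hom

lemma q_condition (U T : Over X) : qFst U T ≫ T.hom = qSnd U T ≫ U.hom := pullback.condition

@[reassoc (attr := simp)]
lemma q_map_fst (U : Over X) {T T' : Over X} (a : T ⟶ T') :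
    ((Q U).map a).left ≫ qFst U T' = qFst U T ≫ a.left := pullback.lift_fst _ _ _

@[reassoc (attr := simp)]
lemma q_map_snd (U : Over X) {T T' : Over X} (a : T ⟶ T') :
    ((Q U).map a).left ≫ qSnd U T' = qSnd U T := pullback.lift_snd _ _ _

lemma q_hom (U T : Over X) : ((Q U).obj T).hom = qFst U T ≫ T.hom := rfl

lemma q_isPullback (U T : Over X) : IsPullback (qFst U T) (qSnd U T) T.hom U.hom :=
  IsPullback.of_hasPullback _ _

lemma q_hom_ext {U T : Over X} {Y : Scheme.{u}} (a b : Y ⟶ ((Q U).obj T).left)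
    (h1 : a ≫ qFst U T = b ≫ qFst U T) (h2 : a ≫ qSnd U T = b ≫ qSnd U T) : a = b :=
  pullback.hom_ext h1 h2

/-- Lift to `T ×_X U`. -/
noncomputable def qLift {U T : Over X} {Y : Scheme.{u}} (a : Y ⟶ T.left) (b : Y ⟶ U.left)
    (h : a ≫ T.hom = b ≫ U.hom) : Y ⟶ ((Q U).obj T).left := pullback.lift a b h

@[reassoc (attr := simp)]
lemma qLift_fst {U T : Over X} {Y : Scheme.{u}} (a : Y ⟶ T.left) (b : Y ⟶ U.left)
    (h : a ≫ T.hom = b ≫ U.hom) : qLift a b h ≫ qFst U T = a := pullback.lift_fst _ _ _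

@[reassoc (attr := simp)]
lemma qLift_snd {U T : Over X} {Y : Scheme.{u}} (a : Y ⟶ T.left) (b : Y ⟶ U.left)
    (h : a ≫ T.hom = b ≫ U.hom) : qLift a b h ≫ qSnd U T = b := pullback.lift_snd _ _ _

/-- `ev` is universal for `T`. -/
def UP {U V W : Over X} (ev : (Q U).obj W ⟶ V) (T : Over X) : Prop :=
  Function.Bijective (fun a : T ⟶ W => (Q U).map a ≫ ev)

lemma UP.of_iso {U V W : Over X} {ev : (Q U).obj W ⟶ V} {T T' : Over X} (e : T ≅ T')
    (h : UP ev T) : UP ev T' := by
  have e1 : (Q U).map e.hom ≫ (Q U).map e.inv = 𝟙 _ := by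
    rw [← (Q U).map_comp, e.hom_inv_id, (Q U).map_id]
  have e2 : (Q U).map e.inv ≫ (Q U).map e.hom = 𝟙 _ := by
    rw [← (Q U).map_comp, e.inv_hom_id, (Q U).map_id]
  have : (fun a : T' ⟶ W => (Q U).map a ≫ ev) =
      (fun b : (Q U).obj T ⟶ V => (Q U).map e.inv ≫ b) ∘ (fun a : T ⟶ W => (Q U).map a ≫ ev) ∘
      (fun a : T' ⟶ W => e.hom ≫ a) := by
    funext a
    simp only [Function.comp_apply, (Q U).map_comp, Category.assoc]
    rw [reassoc_of% e2]
  unfold UP
  rw [this]
  refine Function.Bijective.comp ?_ (h.comp ?_)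
  · constructor
    · intro x y hxy
      have := congrArg (fun z => (Q U).map e.hom ≫ z) hxy
      dsimp only at this
      rwa [reassoc_of% e1, reassoc_of% e1] at this
    · intro y
      exact ⟨(Q U).map e.hom ≫ y, by dsimp only; rw [reassoc_of% e2]⟩
  · constructor
    · intro x y hxy
      exact (cancel_epi e.hom).1 hxy
    · intro y
      exact ⟨e.inv ≫ y, by simp⟩

section Sheaf

variable (U : Over X) (T : Over X) (𝒯 : T.left.OpenCover)

/-- Component of a cover of `T` as an object over `X`. -/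
noncomputable def cObj (k : 𝒯.I₀) : Over X := Over.mk (𝒯.f k ≫ T.hom)

/-- The map from a component. -/
noncomputable def cMap (k : 𝒯.I₀) : cObj T 𝒯 k ⟶ T := Over.homMk (𝒯.f k)

@[simp] lemma cMap_left (k : 𝒯.I₀) : (cMap T 𝒯 k).left = 𝒯.f k := rfl

/-- Double intersections. -/
noncomputable def cObj₂ (k l : 𝒯.I₀) : Over X :=
  Over.mk (pullback.fst (𝒯.f k) (𝒯.f l) ≫ 𝒯.f k ≫ T.hom)

/-- First projection. -/
noncomputable def cFst (k l : 𝒯.I₀) : cObj₂ T 𝒯 k l ⟶ cObj T 𝒯 k :=
  Over.homMk (pullback.fst (𝒯.f k) (𝒯.f l))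

/-- Second projection. -/
noncomputable def cSnd (k l : 𝒯.I₀) : cObj₂ T 𝒯 k l ⟶ cObj T 𝒯 l :=
  Over.homMk (pullback.snd (𝒯.f k) (𝒯.f l)) (by
    change _ ≫ 𝒯.f l ≫ T.hom = _ ≫ _ ≫ _
    rw [← Category.assoc, ← pullback.condition, Category.assoc])

@[simp] lemma cFst_left (k l : 𝒯.I₀) : (cFst T 𝒯 k l).left = pullback.fst (𝒯.f k) (𝒯.f l) := rfl
@[simp] lemma cSnd_left (k l : 𝒯.I₀) : (cSnd T 𝒯 k l).left = pullback.snd (𝒯.f k) (𝒯.f l) := rfl

lemma cFst_cMap (k l : 𝒯.I₀) : cFst T 𝒯 k l ≫ cMap T 𝒯 k = cSnd T 𝒯 k l ≫ cMap T 𝒯 l := by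
  ext1
  exact pullback.condition

lemma hom_ext_of_cover {W : Over X} (a b : T ⟶ W)
    (h : ∀ k, cMap T 𝒯 k ≫ a = cMap T 𝒯 k ≫ b) : a = b := by
  ext1
  refine Scheme.Cover.hom_ext 𝒯 _ _ fun k => ?_
  exact congrArg (fun z => z.left) (h k)

lemma exists_glue {W : Over X} (a : ∀ k, cObj T 𝒯 k ⟶ W)
    (h : ∀ k l, cFst T 𝒯 k l ≫ a k = cSnd T 𝒯 k l ≫ a l) :
    ∃ b : T ⟶ W, ∀ k, cMap T 𝒯 k ≫ b = a k := by
  have hcomp : ∀ k l : 𝒯.I₀, pullback.fst (𝒯.f k) (𝒯.f l) ≫ (a k).left =
      pullback.snd (𝒯.f k) (𝒯.f l) ≫ (a l).left := fun k l =>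
    congrArg (fun z => z.left) (h k l)
  have hg := Scheme.Cover.ι_glueMorphisms 𝒯 (fun k => (a k).left) hcomp
  have hb : 𝒯.glueMorphisms (fun k => (a k).left) hcomp ≫ W.hom = T.hom := by
    refine Scheme.Cover.hom_ext 𝒯 _ _ fun k => ?_
    rw [← Category.assoc, hg]
    exact Over.w (a k)
  refine ⟨Over.homMk (𝒯.glueMorphisms (fun k => (a k).left) hcomp) hb, fun k => ?_⟩
  ext1
  exact hg k

/-- The induced cover of `T ×_X U`. -/
noncomputable def qCover : ((Q U).obj T).left.OpenCover where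
  I₀ := 𝒯.I₀
  X k := ((Q U).obj (cObj T 𝒯 k)).left
  f k := ((Q U).map (cMap T 𝒯 k)).left
  mem₀ := by
    have hf : ∀ k, (Scheme.Pullback.openCoverOfLeft 𝒯 T.hom U.hom).f k =
        ((Q U).map (cMap T 𝒯 k)).left := by
      intro k
      rw [Scheme.Pullback.openCoverOfLeft_f]
      apply pullback.hom_ext
      · rw [pullback.map, pullback.lift_fst]
        exact (q_map_fst U (cMap T 𝒯 k)).symm
      · rw [pullback.map, pullback.lift_snd, Category.comp_id]
        exact (q_map_snd U (cMap T 𝒯 k)).symm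
    have := (Scheme.Pullback.openCoverOfLeft 𝒯 T.hom U.hom).mem₀
    rw [Scheme.presieve₀_mem_precoverage_iff] at this ⊢
    refine ⟨fun x => ?_, fun k => ?_⟩
    · obtain ⟨k, hk⟩ := this.1 x
      refine ⟨k, ?_⟩
      rw [hf] at hk
      exact hk
    · have := this.2 k
      rw [hf] at this
      exact this

lemma qCover_f (k : 𝒯.I₀) : (qCover U T 𝒯).f k = ((Q U).map (cMap T 𝒯 k)).left := rfl

lemma Q_hom_ext_of_cover {V : Over X} (φ ψ : (Q U).obj T ⟶ V)
    (h : ∀ k, (Q U).map (cMap T 𝒯 k) ≫ φ = (Q U).map (cMap T 𝒯 k) ≫ ψ) : φ = ψ := by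
  ext1
  refine Scheme.Cover.hom_ext (qCover U T 𝒯) _ _ fun k => ?_
  exact congrArg (fun z => z.left) (h k)

lemma q_pull_aux (k l : 𝒯.I₀) : ∃ r : pullback ((Q U).map (cMap T 𝒯 k)).left
    ((Q U).map (cMap T 𝒯 l)).left ⟶ ((Q U).obj (cObj₂ T 𝒯 k l)).left,
      r ≫ ((Q U).map (cFst T 𝒯 k l)).left = pullback.fst _ _ ∧
      r ≫ ((Q U).map (cSnd T 𝒯 k l)).left = pullback.snd _ _ := by
  have hc := pullback.condition (f := ((Q U).map (cMap T 𝒯 k)).left)
    (g := ((Q U).map (cMap T 𝒯 l)).left)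
  have hc1 : (pullback.fst ((Q U).map (cMap T 𝒯 k)).left ((Q U).map (cMap T 𝒯 l)).left ≫
      qFst U (cObj T 𝒯 k)) ≫ 𝒯.f k =
      (pullback.snd ((Q U).map (cMap T 𝒯 k)).left ((Q U).map (cMap T 𝒯 l)).left ≫
      qFst U (cObj T 𝒯 l)) ≫ 𝒯.f l := by
    have := congrArg (fun z => z ≫ qFst U T) hc
    simpa only [Category.assoc, q_map_fst, cMap_left] using this
  have hc2 : pullback.fst ((Q U).map (cMap T 𝒯 k)).left ((Q U).map (cMap T 𝒯 l)).left ≫
      qSnd U (cObj T 𝒯 k)  =
      pullback.snd ((Q U).map (cMap T 𝒯 k)).left ((Q U).map (cMap T 𝒯 l)).left ≫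
      qSnd U (cObj T 𝒯 l) := by
    have := congrArg (fun z => z ≫ qSnd U T) hc
    simpa only [Category.assoc, q_map_snd, cMap_left] using this
  refine ⟨qLift (pullback.lift _ _ hc1) (pullback.fst _ _ ≫ qSnd U (cObj T 𝒯 k)) ?_, ?_, ?_⟩
  · have h1 : (cObj₂ T 𝒯 k l).hom = pullback.fst (𝒯.f k) (𝒯.f l) ≫ (cObj T 𝒯 k).hom := rfl
    rw [h1]
    erw [pullback.lift_fst_assoc]
    rw [Category.assoc, Category.assoc, q_condition]
  · apply q_hom_ext
    · rw [Category.assoc, q_map_fst, qLift_fst_assoc, cFst_left]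
      exact pullback.lift_fst _ _ _
    · rw [Category.assoc, q_map_snd, qLift_snd]
  · apply q_hom_ext
    · rw [Category.assoc, q_map_fst, qLift_fst_assoc, cSnd_left]
      exact pullback.lift_snd _ _ _
    · rw [Category.assoc, q_map_snd, qLift_snd]
      exact hc2

lemma Q_exists_glue {V : Over X} (φ : ∀ k, (Q U).obj (cObj T 𝒯 k) ⟶ V)
    (h : ∀ k l, (Q U).map (cFst T 𝒯 k l) ≫ φ k = (Q U).map (cSnd T 𝒯 k l) ≫ φ l) :
    ∃ ψ : (Q U).obj T ⟶ V, ∀ k, (Q U).map (cMap T 𝒯 k) ≫ ψ = φ k := by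
  have hcomp : ∀ k l : 𝒯.I₀, pullback.fst ((Q U).map (cMap T 𝒯 k)).left
        ((Q U).map (cMap T 𝒯 l)).left ≫ (φ k).left =
      pullback.snd ((Q U).map (cMap T 𝒯 k)).left ((Q U).map (cMap T 𝒯 l)).left ≫
        (φ l).left := by
    intro k l
    obtain ⟨r, hr1, hr2⟩ := q_pull_aux U T 𝒯 k l
    have := congrArg (fun z => r ≫ z.left) (h k l)
    simp only [Over.comp_left] at this
    rw [← Category.assoc, ← Category.assoc, hr1, hr2] at this
    exact this
  have hg := Scheme.Cover.ι_glueMorphisms (qCover U T 𝒯) (fun k => (φ k).left) hcomp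
  have hb : (qCover U T 𝒯).glueMorphisms (fun k => (φ k).left) hcomp ≫ V.hom =
      ((Q U).obj T).hom := by
    refine Scheme.Cover.hom_ext (qCover U T 𝒯) _ _ fun k => ?_
    rw [← Category.assoc, hg]
    exact (Over.w (φ k)).trans (Over.w ((Q U).map (cMap T 𝒯 k))).symm
  refine ⟨Over.homMk ((qCover U T 𝒯).glueMorphisms (fun k => (φ k).left) hcomp) hb, fun k => ?_⟩
  ext1
  exact hg k

end Sheaf

/-- Universality can be checked on a class `𝒮` of objects such that every object has an open cover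
by objects of `𝒮`. -/
theorem UP_of_local {U V W : Over X} (ev : (Q U).obj W ⟶ V) (𝒮 : Over X → Prop)
    (h𝒮 : ∀ T, 𝒮 T → UP ev T)
    (hcov : ∀ T : Over X, ∃ 𝒯 : T.left.OpenCover.{u}, ∀ k, 𝒮 (cObj T 𝒯 k)) (T : Over X) :
    UP ev T := by
  have inj : ∀ T : Over X, Function.Injective (fun a : T ⟶ W => (Q U).map a ≫ ev) := by
    intro T a b hab
    obtain ⟨𝒯, h𝒯⟩ := hcov T
    refine hom_ext_of_cover T 𝒯 a b fun k => ?_
    apply (h𝒮 _ (h𝒯 k)).1
    dsimp only at hab ⊢
    rw [(Q U).map_comp, (Q U).map_comp, Category.assoc, Category.assoc, hab]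
  refine ⟨inj T, fun φ => ?_⟩
  obtain ⟨𝒯, h𝒯⟩ := hcov T
  choose a ha using fun k => (h𝒮 _ (h𝒯 k)).2 ((Q U).map (cMap T 𝒯 k) ≫ φ)
  obtain ⟨b, hb⟩ := exists_glue T 𝒯 a (fun k l => by
    apply inj
    dsimp only at ha ⊢
    rw [(Q U).map_comp, (Q U).map_comp, Category.assoc, Category.assoc, ha, ha,
      ← Category.assoc, ← Category.assoc, ← (Q U).map_comp, ← (Q U).map_comp, cFst_cMap])
  refine ⟨b, Q_hom_ext_of_cover U T 𝒯 _ _ fun k => ?_⟩
  dsimp only at ha ⊢
  rw [← Category.assoc, ← (Q U).map_comp, hb, ha]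

/-- `X_i` as an object over `X`. -/
noncomputable def oObj (i : X.affineOpens) : Over X := Over.mk i.1.ι

instance (i : X.affineOpens) : Mono (oObj i).hom := inferInstanceAs (Mono i.1.ι)

/-- Inclusion of affine opens. -/
noncomputable def oMap {i j : X.affineOpens} (h : i ≤ j) : oObj i ⟶ oObj j :=
  Over.homMk (X.homOfLE h) (by exact X.homOfLE_ι h)

@[simp] lemma oMap_left {i j : X.affineOpens} (h : i ≤ j) : (oMap h).left = X.homOfLE h := rfl

/-- A representing object over an affine open. -/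
structure LocalRep (U V : Over X) (i : X.affineOpens) where
  /-- the object -/
  W : Over X
  /-- its structure map -/
  w : W ⟶ oObj i
  aff : IsAffine W.left
  /-- evaluation -/
  ev : (Q U).obj W ⟶ V
  up : ∀ T : Over X, IsAffine T.left → (T ⟶ oObj i) → UP ev T

section Glue

variable {U V : Over X} (D : ∀ i : X.affineOpens, LocalRep U V i)

lemma W_hom_ext {i : X.affineOpens} {T : Over X} (hT : IsAffine T.left) (t : T ⟶ oObj i)
    {a b : T ⟶ (D i).W} (h : (Q U).map a ≫ (D i).ev = (Q U).map b ≫ (D i).ev) : a = b :=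
  ((D i).up T hT t).1 h

lemma exists_lift {i : X.affineOpens} {T : Over X} (hT : IsAffine T.left) (t : T ⟶ oObj i)
    (φ : (Q U).obj T ⟶ V) : ∃ a : T ⟶ (D i).W, (Q U).map a ≫ (D i).ev = φ :=
  ((D i).up T hT t).2 φ

/-- transition maps -/
noncomputable def tr {i j : X.affineOpens} (h : i ≤ j) : (D i).W ⟶ (D j).W :=
  (exists_lift D (D i).aff ((D i).w ≫ oMap h) (D i).ev).choose

lemma tr_ev {i j : X.affineOpens} (h : i ≤ j) : (Q U).map (tr D h) ≫ (D j).ev = (D i).ev :=
  (exists_lift D (D i).aff ((D i).w ≫ oMap h) (D i).ev).choose_spec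

lemma tr_id (i : X.affineOpens) : tr D (le_refl i) = 𝟙 _ := by
  apply W_hom_ext D (D i).aff (D i).w
  rw [tr_ev, (Q U).map_id, Category.id_comp]

lemma tr_comp {i j k : X.affineOpens} (h : i ≤ j) (h' : j ≤ k) :
    tr D (h.trans h') = tr D h ≫ tr D h' := by
  apply W_hom_ext D (D i).aff ((D i).w ≫ oMap (h.trans h'))
  rw [tr_ev, (Q U).map_comp, Category.assoc, tr_ev, tr_ev]

lemma tr_w {i j : X.affineOpens} (h : i ≤ j) : tr D h ≫ (D j).w = (D i).w ≫ oMap h := by
  ext1
  rw [← cancel_mono (oObj j).hom, Over.comp_left, Over.comp_left, Category.assoc, Category.assoc,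
    Over.w, Over.w, Over.w, Over.w]

lemma tr_isPullback {i j : X.affineOpens} (h : i ≤ j) :
    IsPullback (tr D h).left (D i).w.left (D j).w.left (X.homOfLE h) := by
  have hiA : IsAffine (oObj i).left := i.2
  have hjA : IsAffine (oObj j).left := j.2
  have hWj : IsAffine (D j).W.left := (D j).aff
  have : IsAffine (pullback (D j).w.left (oMap h).left) := inferInstance
  let p1 := pullback.fst (D j).w.left (oMap h).left
  let p2 := pullback.snd (D j).w.left (oMap h).left
  have hp : p1 ≫ (D j).w.left = p2 ≫ (oMap h).left := pullback.condition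
  let P : Over X := Over.mk (p2 ≫ (oObj i).hom)
  let tP : P ⟶ oObj i := Over.homMk p2 rfl
  let b : P ⟶ (D j).W := Over.homMk p1 (by
    change p1 ≫ (D j).W.hom = p2 ≫ (oObj i).hom
    rw [← Over.w (D j).w, ← Category.assoc, hp, Category.assoc, Over.w])
  obtain ⟨c, hc⟩ := exists_lift D (i := i) (T := P) this tP ((Q U).map b ≫ (D j).ev)
  have hcomm : (tr D h).left ≫ (D j).w.left = (D i).w.left ≫ (oMap h).left :=
    congrArg (fun z => z.left) (tr_w D h)
  let d : (D i).W ⟶ P := Over.homMk (pullback.lift (tr D h).left (D i).w.left hcomm) (by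
    change pullback.lift (tr D h).left (D i).w.left hcomm ≫ p2 ≫ (oObj i).hom = (D i).W.hom
    rw [← Category.assoc, pullback.lift_snd, Over.w])
  have hd1 : d ≫ b = tr D h := by
    ext1
    exact pullback.lift_fst _ _ _
  have hd2 : d.left ≫ p2 = (D i).w.left := pullback.lift_snd _ _ _
  have hcb : c ≫ tr D h = b := by
    apply W_hom_ext D (i := j) (T := P) this (tP ≫ oMap h)
    rw [(Q U).map_comp, Category.assoc, tr_ev, hc]
  have hdc : d ≫ c = 𝟙 _ := by
    apply W_hom_ext D (D i).aff (D i).w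
    rw [(Q U).map_comp, Category.assoc, hc, ← Category.assoc, ← (Q U).map_comp, hd1, tr_ev,
      (Q U).map_id, Category.id_comp]
  have hcd : c ≫ d = 𝟙 _ := by
    ext1
    apply pullback.hom_ext
    · change (c.left ≫ d.left) ≫ p1 = 𝟙 _ ≫ p1
      have : d.left ≫ p1 = (tr D h).left := congrArg (fun z => z.left) hd1
      rw [Category.assoc, this, Category.id_comp]
      exact congrArg (fun z => z.left) hcb
    · change (c.left ≫ d.left) ≫ p2 = 𝟙 _ ≫ p2
      rw [Category.assoc, hd2, Category.id_comp, ← cancel_mono (oObj i).hom, Category.assoc,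
        Over.w, Over.w]
      rfl
  let e : (D i).W.left ≅ pullback (D j).w.left (oMap h).left :=
    { hom := d.left
      inv := c.left
      hom_inv_id := congrArg (fun z => z.left) hdc
      inv_hom_id := congrArg (fun z => z.left) hcd }
  exact IsPullback.of_iso_pullback ⟨hcomm⟩ e (congrArg (fun z => z.left) hd1) hd2

/-- The functor of local representing objects. -/
noncomputable def glueFunctor : X.directedAffineCover.I₀ ⥤ Scheme.{u} where
  obj i := (D i).W.left
  map f := (tr D (leOfHom f)).left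
  map_id i := congrArg (fun z => z.left) (tr_id D i)
  map_comp f g := congrArg (fun z => z.left) (tr_comp D (leOfHom f) (leOfHom g))

/-- The structure maps. -/
noncomputable def glueNat : glueFunctor D ⟶ X.directedAffineCover.functorOfLocallyDirected where
  app i := (D i).w.left
  naturality _ _ f := congrArg (fun z => z.left) (tr_w D (leOfHom f))

/-- The relative gluing datum. -/
noncomputable def glueData : Scheme.Cover.RelativeGluingData X.directedAffineCover where
  functor := glueFunctor D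
  natTrans := glueNat D
  equifibered := fun _ _ f => tr_isPullback D (leOfHom f)

instance : Quiver.IsThin X.directedAffineCover.I₀ :=
  inferInstanceAs (Quiver.IsThin X.affineOpens)

/-- The glued scheme over `X`. -/
noncomputable def glued : Over X := Over.mk (glueData D).toBase

/-- The open cover of the glued scheme. -/
noncomputable def gCover : (glued D).left.OpenCover := (glueData D).cover

/-- Index of the cover. -/
noncomputable def gIdx (i : X.affineOpens) : (gCover D).I₀ := i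

lemma gCover_f_toBase (i : X.affineOpens) :
    (gCover D).f (gIdx D i) ≫ (glued D).hom = (D i).W.hom := by
  have h1 : (gCover D).f (gIdx D i) ≫ (glued D).hom = (D i).w.left ≫ (oObj i).hom :=
    (glueData D).ι_toBase i
  rw [h1, Over.w]

/-- Comparison of the component of the cover with the local representing object. -/
noncomputable def σ (i : X.affineOpens) : cObj (glued D) (gCover D) (gIdx D i) ≅ (D i).W :=
  Over.isoMk (Iso.refl _) (by
    change 𝟙 _ ≫ (D i).W.hom = (gCover D).f (gIdx D i) ≫ (glued D).hom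
    rw [gCover_f_toBase, Category.id_comp])

/-- The inclusion of `W i`. -/
noncomputable def inc (i : X.affineOpens) : (D i).W ⟶ glued D :=
  (σ D i).inv ≫ cMap (glued D) (gCover D) (gIdx D i)

lemma inc_left (i : X.affineOpens) : (inc D i).left = colimit.ι (glueData D).functor i := by
  change 𝟙 _ ≫ _ = _
  exact Category.id_comp _

lemma σ_inc (i : X.affineOpens) :
    (σ D i).hom ≫ inc D i = cMap (glued D) (gCover D) (gIdx D i) := by
  rw [inc, Iso.hom_inv_id_assoc]

lemma tr_inc {i j : X.affineOpens} (h : i ≤ j) : tr D h ≫ inc D j = inc D i := by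
  ext1
  rw [Over.comp_left, inc_left, inc_left]
  exact colimit.w (glueData D).functor (homOfLE h : (i : X.directedAffineCover.I₀) ⟶ j)

lemma inc_isPullback (i : X.affineOpens) :
    IsPullback (D i).w.left (inc D i).left (oObj i).hom (glued D).hom := by
  rw [inc_left]
  exact (glueData D).isPullback_natTrans_ι_toBase i

/-- Maps to the glued object over an object over `X_i` factor through `W i`. -/
lemma exists_factor {i : X.affineOpens} {T : Over X} (t : T ⟶ oObj i) (a : T ⟶ glued D) :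
    ∃ a' : T ⟶ (D i).W, a' ≫ inc D i = a := by
  have h := inc_isPullback D i
  have hw : t.left ≫ (oObj i).hom = a.left ≫ (glued D).hom := by rw [Over.w, Over.w]
  refine ⟨Over.homMk (h.lift t.left a.left hw) ?_, ?_⟩
  · have : (D i).W.hom = (D i).w.left ≫ (oObj i).hom := (Over.w _).symm
    rw [this, IsPullback.lift_fst_assoc, Over.w]
  · ext1
    exact h.lift_snd _ _ _

lemma ev_agree (i j : (gCover D).I₀) (k : (gCover D).I₀) (f : (show X.affineOpens from k) ≤ i)
    (g : (show X.affineOpens from k) ≤ j)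
    (π₁ : (D k).W ⟶ cObj (glued D) (gCover D) i)
    (h₁ : π₁ ≫ (σ D i).hom = tr D f)
    (π₂ : (D k).W ⟶ cObj (glued D) (gCover D) j)
    (h₂ : π₂ ≫ (σ D j).hom = tr D g) :
    (Q U).map π₁ ≫ (Q U).map (σ D i).hom ≫ (D i).ev =
      (Q U).map π₂ ≫ (Q U).map (σ D j).hom ≫ (D j).ev := by
  rw [← Category.assoc, ← Category.assoc, ← (Q U).map_comp, ← (Q U).map_comp, h₁, h₂]
  exact (tr_ev D f).trans (tr_ev D g).symm

lemma exists_ev : ∃ ev : (Q U).obj (glued D) ⟶ V, ∀ i, (Q U).map (inc D i) ≫ ev = (D i).ev := by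
  obtain ⟨ev, hev⟩ := Q_exists_glue U (glued D) (gCover D)
    (fun i => (Q U).map (σ D i).hom ≫ (D i).ev) (fun i j => by
      let 𝒱 : (cObj₂ (glued D) (gCover D) i j).left.OpenCover :=
        (glueData D).cover.intersectionOfLocallyDirected i j
      refine Q_hom_ext_of_cover U (cObj₂ (glued D) (gCover D) i j) 𝒱 _ _ fun k => ?_
      obtain ⟨k, f, g⟩ := k
      have hf : (show X.affineOpens from k) ≤ (show X.affineOpens from i) :=
        leOfHom (X := X.affineOpens) f
      have hg : (show X.affineOpens from k) ≤ (show X.affineOpens from j) :=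
        leOfHom (X := X.affineOpens) g
      have hl1 : 𝒱.f ⟨k, f, g⟩ ≫ pullback.fst ((gCover D).f i) ((gCover D).f j) =
        (tr D hf).left := pullback.lift_fst _ _ _
      have hl2 : 𝒱.f ⟨k, f, g⟩ ≫ pullback.snd ((gCover D).f i) ((gCover D).f j) =
        (tr D hg).left := pullback.lift_snd _ _ _
      have hK : (D k).W.hom = (cObj (cObj₂ (glued D) (gCover D) i j) 𝒱 ⟨k, f, g⟩).hom := by
        change _ = 𝒱.f ⟨k, f, g⟩ ≫ pullback.fst ((gCover D).f i) ((gCover D).f j) ≫
          (gCover D).f i ≫ (glued D).hom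
        rw [← Category.assoc, hl1]
        have h1 : (gCover D).f i ≫ (glued D).hom = (D i).W.hom := gCover_f_toBase D i
        have h2 := Over.w (tr D hf)
        rw [← h1] at h2
        exact h2.symm
      let ρ : (D k).W ≅ cObj (cObj₂ (glued D) (gCover D) i j) 𝒱 ⟨k, f, g⟩ :=
        Over.isoMk (Iso.refl _) ((Category.id_comp _).trans hK.symm)
      have e1 : (Q U).map ρ.inv ≫ (Q U).map ρ.hom = 𝟙 _ := by
        rw [← (Q U).map_comp, ρ.inv_hom_id, (Q U).map_id]
      have := ev_agree D i j k hf hg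
        (ρ.hom ≫ cMap _ 𝒱 ⟨k, f, g⟩ ≫ cFst (glued D) (gCover D) i j) (by
          ext1
          change (𝟙 _ ≫ 𝒱.f ⟨k, f, g⟩ ≫ pullback.fst ((gCover D).f i) ((gCover D).f j)) ≫ 𝟙 _ = _
          rw [Category.id_comp, hl1]
          exact Category.comp_id _)
        (ρ.hom ≫ cMap _ 𝒱 ⟨k, f, g⟩ ≫ cSnd (glued D) (gCover D) i j) (by
          ext1
          change (𝟙 _ ≫ 𝒱.f ⟨k, f, g⟩ ≫ pullback.snd ((gCover D).f i) ((gCover D).f j)) ≫ 𝟙 _ = _
          rw [Category.id_comp, hl2]
          exact Category.comp_id _)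
      have := congrArg (fun z => (Q U).map ρ.inv ≫ z) this
      simp only [(Q U).map_comp, Category.assoc] at this
      rw [reassoc_of% e1, reassoc_of% e1] at this
      exact this)
  refine ⟨ev, fun i => ?_⟩
  have h1 := hev (gIdx D i)
  have e1 : (Q U).map (σ D i).inv ≫ (Q U).map (σ D i).hom = 𝟙 _ := by
    rw [← (Q U).map_comp, (σ D i).inv_hom_id, (Q U).map_id]
  rw [inc, (Q U).map_comp, Category.assoc, h1]
  exact (Category.assoc _ _ _).symm.trans ((congrArg (fun z => z ≫ (D i).ev) e1).trans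
    (Category.id_comp _))

/-- The class of affine objects lying over an affine open. -/
def Sm (T : Over X) : Prop := IsAffine T.left ∧ ∃ i : X.affineOpens, Nonempty (T ⟶ oObj i)

lemma exists_small_cover (T : Over X) :
    ∃ 𝒯 : T.left.OpenCover.{u}, ∀ k, Sm (cObj T 𝒯 k) := by
  have h1 : ∀ x : T.left, ∃ (O : T.left.Opens) (i : X.affineOpens),
      IsAffineOpen O ∧ x ∈ O ∧ O ≤ T.hom ⁻¹ᵁ i.1 := by
    intro x
    obtain ⟨i, hi, hxi, -⟩ := exists_isAffineOpen_mem_and_subset (x := T.hom.base x)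
      (U := ⊤) trivial
    obtain ⟨O, hO, hxO, hle⟩ := exists_isAffineOpen_mem_and_subset (x := x)
      (U := T.hom ⁻¹ᵁ i) hxi
    exact ⟨O, ⟨i, hi⟩, hO, hxO, hle⟩
  choose O i hO hx hle using h1
  have hcov : TopologicalSpace.IsOpenCover O := by
    rw [TopologicalSpace.IsOpenCover, eq_top_iff]
    intro x _
    exact TopologicalSpace.Opens.mem_iSup.mpr ⟨x, hx x⟩
  refine ⟨T.left.openCoverOfIsOpenCover O hcov, fun x => ⟨hO x, i x, ⟨?_⟩⟩⟩
  refine Over.homMk (IsOpenImmersion.lift (i x).1.ι ((O x).ι ≫ T.hom) ?_) ?_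
  · rintro _ ⟨y, rfl⟩
    exact ⟨⟨_, hle x y.2⟩, rfl⟩
  · exact IsOpenImmersion.lift_fac _ _ _

/-- **Gluing**: the internal hom exists if it exists over affine opens. -/
theorem glued_UP (ev : (Q U).obj (glued D) ⟶ V) (hev : ∀ i, (Q U).map (inc D i) ≫ ev = (D i).ev)
    (T : Over X) : UP ev T := by
  refine UP_of_local ev Sm ?_ exists_small_cover T
  rintro T ⟨hT, i, ⟨t⟩⟩
  constructor
  · intro a b hab
    obtain ⟨a', rfl⟩ := exists_factor D t a
    obtain ⟨b', rfl⟩ := exists_factor D t b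
    dsimp only at hab
    rw [(Q U).map_comp, (Q U).map_comp, Category.assoc, Category.assoc, hev] at hab
    rw [W_hom_ext D hT t hab]
  · intro φ
    obtain ⟨a, ha⟩ := exists_lift D hT t φ
    exact ⟨a ≫ inc D i, by dsimp only; rw [(Q U).map_comp, Category.assoc, hev, ha]⟩

end Glue

end Groth.Agent.Pi1C.HomGlue
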