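import Groth.Agent.Pi1C.WeilAlg
import Groth.Agent.Pi1C.HomGlue
import Mathlib.AlgebraicGeometry.Morphisms.FlatRank
import Mathlib.AlgebraicGeometry.Morphisms.Etale

/-!
# Local existence of `T ↦ Hom_X(T ×_X U, V)` over affine opens
-/

set_option autoImplicit false
set_option backward.isDefEq.respectTransparency false
set_option backward.defeqAttrib.useBackward true
universe u
open CategoryTheory Limits AlgebraicGeometry TensorProduct

namespace Groth.Agent.Pi1C.HomLocal

open HomGlue WeilAlg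

/-- `Spec` of an algebra map. -/
noncomputable abbrev spm (R S : Type u) [CommRing R] [CommRing S] [Algebra R S] :
    Spec (CommRingCat.of S) ⟶ Spec (CommRingCat.of R) :=
  Spec.map (CommRingCat.ofHom (algebraMap R S))

/-- `Spec` of an algebra hom. -/
noncomputable abbrev spa {R S T : Type u} [CommRing R] [CommRing S] [CommRing T] [Algebra R S]
    [Algebra R T] (f : S →ₐ[R] T) : Spec (CommRingCat.of T) ⟶ Spec (CommRingCat.of S) :=
  Spec.map (CommRingCat.ofHom f.toRingHom)

lemma spa_spm {R S T : Type u} [CommRing R] [CommRing S] [CommRing T] [Algebra R S]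
    [Algebra R T] (f : S →ₐ[R] T) : spa f ≫ spm R S = spm R T := by
  rw [← Spec.map_comp, ← CommRingCat.ofHom_comp]
  congr 2
  exact f.comp_algebraMap

lemma spa_comp {R S T W : Type u} [CommRing R] [CommRing S] [CommRing T] [CommRing W]
    [Algebra R S] [Algebra R T] [Algebra R W] (f : S →ₐ[R] T) (g : T →ₐ[R] W) :
    spa (g.comp f) = spa g ≫ spa f := by
  rw [← Spec.map_comp, ← CommRingCat.ofHom_comp]
  rfl

lemma spa_injective {R S T : Type u} [CommRing R] [CommRing S] [CommRing T] [Algebra R S]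
    [Algebra R T] {f g : S →ₐ[R] T} (h : spa f = spa g) : f = g := by
  have := Spec.map_injective h
  have h2 := congrArg (fun z => z.hom) this
  ext x
  exact congrArg (fun z : S →+* T => z x) h2

lemma exists_spa {R S T : Type u} [CommRing R] [CommRing S] [CommRing T] [Algebra R S]
    [Algebra R T] (g : Spec (CommRingCat.of T) ⟶ Spec (CommRingCat.of S))
    (h : g ≫ spm R S = spm R T) : ∃ f : S →ₐ[R] T, spa f = g := by
  obtain ⟨φ, rfl⟩ := Spec.map_surjective g
  rw [← Spec.map_comp] at h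
  have h2 := congrArg (fun z => z.hom) (Spec.map_injective h)
  refine ⟨⟨φ.hom, fun r => ?_⟩, ?_⟩
  · exact congrArg (fun z : R →+* T => z r) h2
  · rfl

variable {X : Scheme.{u}} {A : Type u} [CommRing A] (s : Spec (CommRingCat.of A) ⟶ X)

/-- `Spec T'` as an object over `X`. -/
noncomputable abbrev XT (T' : Type u) [CommRing T'] [Algebra A T'] : Over X :=
  Over.mk (spm A T' ≫ s)

section Main

variable (U V : Over X) (B C : Type u) [CommRing B] [CommRing C] [Algebra A B] [Algebra A C]
  (bU : Spec (CommRingCat.of B) ⟶ U.left) (hU : IsPullback bU (spm A B) U.hom s)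
  (cV : Spec (CommRingCat.of C) ⟶ V.left) (hV : IsPullback cV (spm A C) V.hom s)

include hU in
lemma θ_isPullback (T' : Type u) [CommRing T'] [Algebra A T'] :
    IsPullback (spa (Algebra.TensorProduct.includeRight : B →ₐ[A] T' ⊗[A] B) ≫ bU)
      (Spec.map (CommRingCat.ofHom
        (Algebra.TensorProduct.includeLeftRingHom : T' →+* T' ⊗[A] B))) U.hom (spm A T' ≫ s) :=
  IsPullback.paste_horiz (isPullback_SpecMap_of_isPushout _ _ _ _
      (CommRingCat.isPushout_tensorProduct A T' B)).flip hU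

/-- `Spec (T' ⊗ B) ≅ T ×_X U`. -/
noncomputable def θ (T' : Type u) [CommRing T'] [Algebra A T'] :
    Spec (CommRingCat.of (T' ⊗[A] B)) ⟶ ((Q U).obj (XT s T')).left :=
  qLift (U := U) (T := XT s T') (Spec.map (CommRingCat.ofHom
        (Algebra.TensorProduct.includeLeftRingHom : T' →+* T' ⊗[A] B)))
    (spa (Algebra.TensorProduct.includeRight : B →ₐ[A] T' ⊗[A] B) ≫ bU)
    (θ_isPullback s U B bU hU T').w.symm

lemma θ_fst (T' : Type u) [CommRing T'] [Algebra A T'] :
    θ s U B bU hU T' ≫ qFst U (XT s T') = Spec.map (CommRingCat.ofHom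
        (Algebra.TensorProduct.includeLeftRingHom : T' →+* T' ⊗[A] B)) := qLift_fst _ _ _

lemma θ_snd (T' : Type u) [CommRing T'] [Algebra A T'] :
    θ s U B bU hU T' ≫ qSnd U (XT s T') =
      spa (Algebra.TensorProduct.includeRight : B →ₐ[A] T' ⊗[A] B) ≫ bU := qLift_snd _ _ _

lemma θ_isIso (T' : Type u) [CommRing T'] [Algebra A T'] : IsIso (θ s U B bU hU T') := by
  have h1 := (θ_isPullback s U B bU hU T').flip
  have h2 := q_isPullback U (XT s T')
  have : θ s U B bU hU T' = (h1.isoIsPullback _ _ h2).hom := by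
    apply q_hom_ext
    · rw [θ_fst]
      exact (h1.isoIsPullback_hom_fst _ _ h2).symm
    · rw [θ_snd]
      exact (h1.isoIsPullback_hom_snd _ _ h2).symm
  rw [this]
  infer_instance

lemma θ_hom (T' : Type u) [CommRing T'] [Algebra A T'] :
    θ s U B bU hU T' ≫ ((Q U).obj (XT s T')).hom = spm A (T' ⊗[A] B) ≫ s := by
  rw [q_hom, ← Category.assoc, θ_fst]
  change Spec.map _ ≫ spm A T' ≫ s = _
  rw [← Category.assoc]
  congr 1
  exact spa_spm (Algebra.TensorProduct.includeLeft : T' →ₐ[A] T' ⊗[A] B)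

lemma θ_nat {T' T'' : Type u} [CommRing T'] [Algebra A T'] [CommRing T''] [Algebra A T'']
    (h : T' →ₐ[A] T'') (a : XT s T'' ⟶ XT s T') (ha : a.left = spa h) :
    θ s U B bU hU T'' ≫ ((Q U).map a).left =
      spa (Algebra.TensorProduct.map h (AlgHom.id A B)) ≫ θ s U B bU hU T' := by
  apply q_hom_ext
  · rw [Category.assoc, q_map_fst, ← Category.assoc, θ_fst, Category.assoc, θ_fst, ha,
      ← Spec.map_comp, ← Spec.map_comp, ← CommRingCat.ofHom_comp, ← CommRingCat.ofHom_comp]
    congr 2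
  · rw [Category.assoc, q_map_snd, θ_snd, Category.assoc, θ_snd, ← Category.assoc]
    congr 1
    rw [← spa_comp]
    congr 1
    ext x
    simp

/-- Morphisms `T ×_X U → V` from algebra maps. -/
noncomputable def mkφ (T' : Type u) [CommRing T'] [Algebra A T'] (f : C →ₐ[A] T' ⊗[A] B) :
    (Q U).obj (XT s T') ⟶ V :=
  haveI := θ_isIso s U B bU hU T'
  Over.homMk (inv (θ s U B bU hU T') ≫ spa f ≫ cV) (by
    rw [← cancel_epi (θ s U B bU hU T'), Category.assoc, Category.assoc, IsIso.hom_inv_id_assoc,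
      θ_hom, hV.w, ← Category.assoc, spa_spm])

lemma θ_mkφ (T' : Type u) [CommRing T'] [Algebra A T'] (f : C →ₐ[A] T' ⊗[A] B) :
    θ s U B bU hU T' ≫ (mkφ s U V B C bU hU cV hV T' f).left = spa f ≫ cV := by
  have := θ_isIso s U B bU hU T'
  exact IsIso.hom_inv_id_assoc _ _

lemma mkφ_bijective (T' : Type u) [CommRing T'] [Algebra A T'] :
    Function.Bijective (mkφ s U V B C bU hU cV hV T') := by
  have := θ_isIso s U B bU hU T'
  constructor
  · intro f g hfg
    have h1 : spa f ≫ cV = spa g ≫ cV := by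
      rw [← θ_mkφ s U V B C bU hU cV hV T' f, ← θ_mkφ s U V B C bU hU cV hV T' g, hfg]
    apply spa_injective
    apply hV.hom_ext h1
    rw [spa_spm, spa_spm]
  · intro φ
    have hw : (θ s U B bU hU T' ≫ φ.left) ≫ V.hom = spm A (T' ⊗[A] B) ≫ s := by
      rw [Category.assoc, Over.w, θ_hom]
    obtain ⟨f, hf⟩ := exists_spa (R := A) (S := C) (T := T' ⊗[A] B)
      (hV.lift _ _ hw) (hV.lift_snd _ _ hw)
    refine ⟨f, ?_⟩
    ext1
    rw [← cancel_epi (θ s U B bU hU T'), θ_mkφ, hf, hV.lift_fst]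

/-- Morphisms between `Spec`s from algebra maps. -/
noncomputable def mkh {T' T'' : Type u} [CommRing T'] [Algebra A T'] [CommRing T'']
    [Algebra A T''] (h : T' →ₐ[A] T'') : XT s T'' ⟶ XT s T' :=
  Over.homMk (spa h) (by
    change spa h ≫ spm A T' ≫ s = spm A T'' ≫ s
    rw [← Category.assoc, spa_spm])

lemma mkh_bijective [Mono s] (T' T'' : Type u) [CommRing T'] [Algebra A T'] [CommRing T'']
    [Algebra A T''] : Function.Bijective (mkh s : (T' →ₐ[A] T'') → _) := by
  constructor
  · intro f g hfg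
    exact spa_injective (congrArg (fun z => z.left) hfg)
  · intro a
    have hw : a.left ≫ spm A T' = spm A T'' := by
      rw [← cancel_mono s, Category.assoc]
      exact Over.w a
    obtain ⟨f, hf⟩ := exists_spa (R := A) (S := T') (T := T'') a.left hw
    exact ⟨f, by ext1; exact hf⟩

lemma mkφ_nat {T' T'' : Type u} [CommRing T'] [Algebra A T'] [CommRing T'']
    [Algebra A T''] (h : T' →ₐ[A] T'') (f : C →ₐ[A] T' ⊗[A] B) :
    (Q U).map (mkh s h) ≫ mkφ s U V B C bU hU cV hV T' f =
      mkφ s U V B C bU hU cV hV T'' (push f h) := by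
  have := θ_isIso s U B bU hU T''
  ext1
  rw [← cancel_epi (θ s U B bU hU T''), θ_mkφ, Over.comp_left, ← Category.assoc,
    θ_nat s U B bU hU h (mkh s h) rfl, Category.assoc, θ_mkφ, push, spa_comp, Category.assoc]

theorem UP_mkφ [Mono s] {W : Type u} [CommRing W] [Algebra A W] {ev : C →ₐ[A] W ⊗[A] B}
    (hev : IsRep ev) (T' : Type u) [CommRing T'] [Algebra A T'] :
    UP (mkφ s U V B C bU hU cV hV W ev) (XT s T') := by
  have h1 : ((fun a : XT s T' ⟶ XT s W => (Q U).map a ≫ mkφ s U V B C bU hU cV hV W ev) ∘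
      (mkh s : (W →ₐ[A] T') → _)) = mkφ s U V B C bU hU cV hV T' ∘ (fun h => push ev h) := by
    funext h
    exact mkφ_nat s U V B C bU hU cV hV h ev
  have h2 : Function.Bijective ((fun a : XT s T' ⟶ XT s W =>
      (Q U).map a ≫ mkφ s U V B C bU hU cV hV W ev) ∘ (mkh s : (W →ₐ[A] T') → _)) := by
    rw [h1]
    exact (mkφ_bijective s U V B C bU hU cV hV T').comp (hev T')
  exact (Function.Bijective.of_comp_iff _ (mkh_bijective s W T')).1 h2

lemma exists_XT_iso (T : Over X) (hT : IsAffine T.left) (t : T ⟶ Over.mk s) :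
    ∃ (T' : Type u) (_ : CommRing T') (_ : Algebra A T'), Nonempty (XT s T' ≅ T) := by
  obtain ⟨ψ, hψ⟩ := Spec.map_surjective (R := CommRingCat.of A) (T.left.isoSpec.inv ≫ t.left)
  let _ : Algebra A Γ(T.left, ⊤) := ψ.hom.toAlgebra
  refine ⟨Γ(T.left, ⊤), inferInstance, inferInstance, ⟨Over.isoMk T.left.isoSpec.symm ?_⟩⟩
  have h1 : spm A Γ(T.left, ⊤) = T.left.isoSpec.inv ≫ t.left := hψ
  change T.left.isoSpec.inv ≫ T.hom = spm A Γ(T.left, ⊤) ≫ s
  rw [h1, Category.assoc]
  congr 1
  exact (Over.w t).symm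

theorem UP_affine [Mono s] {W : Type u} [CommRing W] [Algebra A W] {ev : C →ₐ[A] W ⊗[A] B}
    (hev : IsRep ev) (T : Over X) (hT : IsAffine T.left) (t : T ⟶ Over.mk s) :
    UP (mkφ s U V B C bU hU cV hV W ev) T := by
  obtain ⟨T', _, _, ⟨e⟩⟩ := exists_XT_iso s T hT t
  exact (UP_mkφ s U V B C bU hU cV hV hev T').of_iso e

end Main

/-- Affine pullbacks are `Spec` of algebras. -/
lemma exists_alg_of_isAffineHom {Y : Scheme.{u}} (f : Y ⟶ X) [IsAffineHom f] :
    ∃ (B : Type u) (_ : CommRing B) (_ : Algebra A B) (b : Spec (CommRingCat.of B) ⟶ Y),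
      IsPullback b (spm A B) f s := by
  have : IsAffine (pullback f s) := isAffine_of_isAffineHom (pullback.snd f s)
  obtain ⟨ψ, hψ⟩ := Spec.map_surjective (R := CommRingCat.of A)
    ((pullback f s).isoSpec.inv ≫ pullback.snd f s)
  let _ : Algebra A Γ(pullback f s, ⊤) := ψ.hom.toAlgebra
  have h1 : spm A Γ(pullback f s, ⊤) = (pullback f s).isoSpec.inv ≫ pullback.snd f s := hψ
  refine ⟨Γ(pullback f s, ⊤), inferInstance, inferInstance,
    (pullback f s).isoSpec.inv ≫ pullback.fst f s, ?_⟩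
  refine IsPullback.of_iso_pullback ⟨?_⟩ (pullback f s).isoSpec.symm rfl h1.symm
  rw [Category.assoc, pullback.condition, h1, Category.assoc]

lemma finite_of_isPullback {Y : Scheme.{u}} (f : Y ⟶ X) [IsFinite f] {B : Type u} [CommRing B]
    [Algebra A B] {b : Spec (CommRingCat.of B) ⟶ Y} (h : IsPullback b (spm A B) f s) :
    Module.Finite A B := by
  have : IsFinite (spm A B) := MorphismProperty.of_isPullback (P := @IsFinite) h inferInstance
  rw [IsFinite.SpecMap_iff] at this
  exact RingHom.finite_algebraMap.1 this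

lemma etale_of_isPullback {Y : Scheme.{u}} (f : Y ⟶ X) [Etale f] {B : Type u} [CommRing B]
    [Algebra A B] {b : Spec (CommRingCat.of B) ⟶ Y} (h : IsPullback b (spm A B) f s) :
    Algebra.Etale A B := by
  have : Etale (spm A B) := MorphismProperty.of_isPullback (P := @Etale) h inferInstance
  rw [HasRingHomProperty.Spec_iff (P := @Etale)] at this
  exact (RingHom.etale_algebraMap).1 this

end Groth.Agent.Pi1C.HomLocal
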