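import Groth.Agent.Pi1C.HomLocal
import Groth.Prelude.Def_FEt

/-!
# The scheme of homomorphisms between finite étale covers
-/

set_option autoImplicit false
set_option backward.isDefEq.respectTransparency false
set_option backward.defeqAttrib.useBackward true
universe u
open CategoryTheory Limits AlgebraicGeometry TensorProduct

namespace Groth.Agent.Pi1C.HomScheme

open HomGlue WeilAlg HomLocal

variable {X : Scheme.{u}}

/-- The inclusion `Spec Γ(X, i) ≅ X_i → X`. -/
noncomputable abbrev sp (i : X.affineOpens) : Spec (CommRingCat.of Γ(X, i.1)) ⟶ X :=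
  i.2.fromSpec

/-- Comparison. -/
noncomputable def spIso (i : X.affineOpens) : Over.mk (sp i) ≅ oObj i :=
  Over.isoMk i.2.isoSpec.symm (by
    change i.2.isoSpec.inv ≫ i.1.ι = i.2.fromSpec
    exact i.2.isoSpec_inv_ι)

lemma projective_of_etale (A B : Type u) [CommRing A] [CommRing B] [Algebra A B]
    [Module.Finite A B] [Algebra.Etale A B] : Module.Projective A B := by
  have : Module.FinitePresentation A B :=
    Module.FinitePresentation.of_finite_of_finitePresentation A B
  exact Module.Flat.projective_of_finitePresentation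

theorem exists_localRep (U V : Over X) [IsFinite U.hom] [Etale U.hom] [IsFinite V.hom]
    [Etale V.hom] (i : X.affineOpens) :
    ∃ D : LocalRep U V i, ∀ n : ℕ, (∀ x : X, x ∈ i.1 → U.hom.finrank x = n) →
      IsFinite D.w.left ∧ Etale D.w.left := by
  obtain ⟨B, _, _, bU, hU⟩ := exists_alg_of_isAffineHom (sp i) U.hom
  obtain ⟨C, _, _, cV, hV⟩ := exists_alg_of_isAffineHom (sp i) V.hom
  have := finite_of_isPullback (sp i) U.hom hU
  have := finite_of_isPullback (sp i) V.hom hV
  have := etale_of_isPullback (sp i) U.hom hU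
  have := etale_of_isPullback (sp i) V.hom hV
  have := projective_of_etale Γ(X, i.1) B
  obtain ⟨W, _, _, ev, hev⟩ := exists_isRep Γ(X, i.1) B C
  let w0 : XT (sp i) W ⟶ Over.mk (sp i) := Over.homMk (spm Γ(X, i.1) W) rfl
  let D : LocalRep U V i :=
    { W := XT (sp i) W
      w := w0 ≫ (spIso i).hom
      aff := inferInstanceAs (IsAffine (Spec _))
      ev := mkφ (sp i) U V B C bU hU cV hV W ev
      up := fun T hT t => UP_affine (sp i) U V B C bU hU cV hV hev T hT (t ≫ (spIso i).inv) }
  refine ⟨D, fun n hn => ?_⟩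
  have hrank : Module.rankAtStalk (R := Γ(X, i.1)) B = n := by
    funext p
    rw [← Scheme.Hom.finrank_SpecMap_algebraMap, Scheme.Hom.finrank_of_isPullback _ _ _ _ hU]
    apply hn
    have : Set.range (sp i).base = (i.1 : Set X) := i.2.range_fromSpec
    rw [← SetLike.mem_coe, ← this]
    exact ⟨p, rfl⟩
  obtain ⟨h1, h2⟩ := hev.finite_etale hrank
  have h3 : IsFinite (spm Γ(X, i.1) W) := by
    rw [IsFinite.SpecMap_iff]
    exact RingHom.finite_algebraMap.2 h1
  have h4 : Etale (spm Γ(X, i.1) W) := by
    rw [HasRingHomProperty.Spec_iff (P := @Etale)]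
    exact RingHom.etale_algebraMap.2 h2
  have : IsIso (spIso i).hom.left := inferInstance
  change IsFinite (spm Γ(X, i.1) W ≫ (spIso i).hom.left) ∧
    Etale (spm Γ(X, i.1) W ≫ (spIso i).hom.left)
  exact ⟨inferInstance, inferInstance⟩

/-- Existence of the internal hom object in `Over X`. -/
theorem exists_homObj (U V : Over X) [IsFinite U.hom] [Etale U.hom] [IsFinite V.hom]
    [Etale V.hom] : ∃ (W : Over X) (ev : (Q U).obj W ⟶ V), IsFinite W.hom ∧ Etale W.hom ∧
      ∀ T : Over X, UP ev T := by
  choose D hD using exists_localRep U V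
  obtain ⟨ev, hev⟩ := exists_ev D
  have hloc : ∀ x : X, ∃ i : X.affineOpens, x ∈ i.1 ∧ IsFinite (D i).w.left ∧
      Etale (D i).w.left := by
    intro x
    have hlc := Scheme.Hom.isLocallyConstant_finrank (f := U.hom)
    obtain ⟨O, hO, hxO, hconst⟩ := hlc.exists_open x
    obtain ⟨i, hi, hxi, hle⟩ := exists_isAffineOpen_mem_and_subset (x := x)
      (U := ⟨O, hO⟩) hxO
    exact ⟨⟨i, hi⟩, hxi, hD ⟨i, hi⟩ (U.hom.finrank x) (fun y hy => hconst y (hle hy))⟩
  choose i hxi hfin het using hloc
  have hcov : TopologicalSpace.IsOpenCover (fun x => (i x).1) := by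
    rw [TopologicalSpace.IsOpenCover, eq_top_iff]
    intro x _
    exact TopologicalSpace.Opens.mem_iSup.mpr ⟨x, hxi x⟩
  let 𝒰 := X.openCoverOfIsOpenCover (fun x => (i x).1) hcov
  refine ⟨glued D, ev, ?_, ?_, glued_UP D ev hev⟩
  · rw [IsZariskiLocalAtTarget.iff_of_openCover (P := @IsFinite) 𝒰]
    intro x
    have h1 : IsPullback (D (i x)).w.left (inc D (i x)).left (𝒰.f x) (glued D).hom :=
      inc_isPullback D (i x)
    have h2 := h1.flip.isoPullback_hom_snd
    have : IsFinite (h1.flip.isoPullback.inv ≫ (D (i x)).w.left) := by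
      have := hfin x
      infer_instance
    rwa [h1.flip.isoPullback_inv_snd] at this
  · rw [IsZariskiLocalAtTarget.iff_of_openCover (P := @Etale) 𝒰]
    intro x
    have h1 : IsPullback (D (i x)).w.left (inc D (i x)).left (𝒰.f x) (glued D).hom :=
      inc_isPullback D (i x)
    have : Etale (h1.flip.isoPullback.inv ≫ (D (i x)).w.left) := by
      have := het x
      infer_instance
    rwa [h1.flip.isoPullback_inv_snd] at this

end Groth.Agent.Pi1C.HomScheme
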