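import Mathlib.RingTheory.HopkinsLevitzki
import Mathlib.RingTheory.Idempotents
import Mathlib.RingTheory.Ideal.IdempotentFG
import Mathlib.RingTheory.Henselian
import Mathlib.Algebra.Algebra.Subalgebra.Pointwise
import Groth.Agent.Pi1C.DenseDescent

/-!
# Idempotents: lifting over ideals killed by powers of the maximal ideal, and descent from the completion

The main result `exists_idempotent` is the commutative algebra behind Stacks 0BLI: let `A` be Noetherian local,
`f ∈ m` such that idempotents of finite `A`-algebras `B` lift along `B → B/fB`, and `A → A'` faithfully flat with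
dense image (e.g. the completion).  Let `φ : N → N₀` be a map of `A`-algebras with `N` containing a finite subalgebra with
`m`-power torsion cokernel, and such that elements of `ker φ` are divisible by `f` up to powers of each `g ∈ m`.  Then an idempotent
of `N₀` whose image in `A' ⊗ N₀` lifts to `A' ⊗ N` lifts to `N`.
-/

set_option autoImplicit false

open TensorProduct

namespace Groth.Agent.Pi1C.IdemDescent

universe u v w

/-- Lifting idempotents over an ideal `J` of a Noetherian ring killed by an ideal `𝔞` with Artinian quotient. -/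
theorem exists_lift_of_mul_eq_bot {D : Type u} [CommRing D] [IsNoetherianRing D] (J 𝔞 : Ideal D)
    [IsArtinianRing (D ⧸ 𝔞)] (h : 𝔞 * J = ⊥) (e : D) (he : e * e - e ∈ J) :
    ∃ e' : D, IsIdempotentElem e' ∧ e' - e ∈ J := by
  -- stabilisation of the powers of `J` modulo `𝔞`
  have hst : ∃ n : ℕ, (J ^ n).map (Ideal.Quotient.mk 𝔞) = (J ^ (n + 1)).map (Ideal.Quotient.mk 𝔞) := by
    let F : ℕ →o (Submodule (D ⧸ 𝔞) (D ⧸ 𝔞))ᵒᵈ :=
      { toFun := fun n => OrderDual.toDual ((J ^ n).map (Ideal.Quotient.mk 𝔞))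
        monotone' := fun a b hab => OrderDual.toDual_le_toDual.2
          (Ideal.map_mono (Ideal.pow_le_pow_right hab)) }
    obtain ⟨n, hn⟩ := IsArtinian.monotone_stabilizes F
    refine ⟨n, ?_⟩
    have := hn (n + 1) (Nat.le_succ n)
    exact this
  obtain ⟨n, hn⟩ := hst
  have h1 : J ^ n ⊔ 𝔞 = J ^ (n + 1) ⊔ 𝔞 := by
    have := congrArg (Ideal.comap (Ideal.Quotient.mk 𝔞)) hn
    rwa [Ideal.comap_map_of_surjective _ Ideal.Quotient.mk_surjective,
      Ideal.comap_map_of_surjective _ Ideal.Quotient.mk_surjective,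
      ← RingHom.ker_eq_comap_bot, Ideal.mk_ker] at this
  have h2 : J ^ (n + 1) = J ^ (n + 2) := by
    have := congrArg (fun K => K * J) h1
    simp only [Ideal.sup_mul, h, sup_bot_eq] at this
    simpa [pow_succ] using this
  have h3 : ∀ k, J ^ (n + 1) = J ^ (n + 1 + k) := by
    intro k
    induction k with
    | zero => rfl
    | succ k ih =>
      rw [show n + 1 + (k + 1) = (n + 1 + k) + 1 by ring, pow_succ (n := n + 1 + k), ← ih, ← pow_succ]
      exact h2
  have h4 : IsIdempotentElem (J ^ (n + 1)) := by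
    unfold IsIdempotentElem
    rw [← pow_add]
    exact (h3 (n + 1)).symm
  obtain ⟨ε, hε, hε'⟩ := (Ideal.isIdempotentElem_iff_of_fg _ (IsNoetherian.noetherian _)).1 h4
  -- lift first modulo `J ^ (n+1)`
  let q : D ⧸ J ^ (n + 1) →+* D ⧸ J := Ideal.Quotient.factor (Ideal.pow_le_self (Nat.succ_ne_zero n))
  have hker : ∀ x ∈ RingHom.ker q, IsNilpotent x := by
    intro x hx
    obtain ⟨x, rfl⟩ := Ideal.Quotient.mk_surjective x
    have hx' : x ∈ J := by
      rw [RingHom.mem_ker] at hx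
      simpa [q, Ideal.Quotient.eq_zero_iff_mem] using hx
    refine ⟨n + 1, ?_⟩
    rw [← map_pow, Ideal.Quotient.eq_zero_iff_mem]
    exact Ideal.pow_mem_pow hx' _
  have hid : IsIdempotentElem (Ideal.Quotient.mk J e) := by
    unfold IsIdempotentElem
    rw [← map_mul, Ideal.Quotient.eq]
    exact he
  obtain ⟨e₁, he₁, he₁'⟩ := exists_isIdempotentElem_eq_of_ker_isNilpotent q hker (Ideal.Quotient.mk J e)
    ⟨Ideal.Quotient.mk _ e, by simp [q]⟩ hid
  obtain ⟨e₂, rfl⟩ := Ideal.Quotient.mk_surjective e₁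
  have h5 : e₂ * e₂ - e₂ ∈ Ideal.span {ε} := by
    have : e₂ * e₂ - e₂ ∈ J ^ (n + 1) := by
      rw [← Ideal.Quotient.eq, map_mul]; exact he₁
    rw [hε'] at this
    simpa using this
  obtain ⟨c, hc⟩ := Ideal.mem_span_singleton'.1 h5
  refine ⟨(1 - ε) * e₂, ?_, ?_⟩
  · unfold IsIdempotentElem
    have h6 : ε * ε = ε := hε
    have h7 : e₂ * e₂ = e₂ + c * ε := by rw [hc]; ring
    calc (1 - ε) * e₂ * ((1 - ε) * e₂) = (1 - 2 * ε + ε * ε) * (e₂ * e₂) := by ring
      _ = (1 - 2 * ε + ε) * (e₂ + c * ε) := by rw [h6, h7]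
      _ = (1 - ε) * e₂ + c * ε - c * (ε * ε) := by ring
      _ = (1 - ε) * e₂ := by rw [h6]; ring
  · have h8 : e₂ - e ∈ J := by
      rw [← Ideal.Quotient.eq]
      simpa [q] using he₁'
    have h9 : ε ∈ J := by
      have : ε ∈ J ^ (n + 1) := by rw [hε']; exact Submodule.mem_span_singleton_self ε
      exact Ideal.pow_le_self (Nat.succ_ne_zero n) this
    have : (1 - ε) * e₂ - e = (e₂ - e) - e₂ * ε := by ring
    rw [this]
    exact J.sub_mem h8 (J.mul_mem_left _ h9)

/-- For `D` finite over the Noetherian local ring `A`, `D/m^K D` is Artinian. -/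
theorem isArtinianRing_quotient {A : Type u} [CommRing A] [IsLocalRing A] [IsNoetherianRing A]
    (D : Type v) [CommRing D] [Algebra A D] [Module.Finite A D] (K : ℕ) :
    IsArtinianRing (D ⧸ ((IsLocalRing.maximalIdeal A) ^ K).map (algebraMap A D)) := by
  have hN : IsNoetherianRing D := IsNoetherianRing.of_finite A D
  set 𝔞 := ((IsLocalRing.maximalIdeal A) ^ K).map (algebraMap A D) with h𝔞
  rw [isArtinianRing_iff_krullDimLE_zero, Ring.krullDimLE_zero_iff]
  intro P hP
  have : Algebra.IsIntegral A (D ⧸ 𝔞) := inferInstance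
  apply Ideal.isMaximal_of_isIntegral_of_isMaximal_comap (R := A)
  have hle : IsLocalRing.maximalIdeal A ≤ P.comap (algebraMap A (D ⧸ 𝔞)) := by
    apply Ideal.IsPrime.le_of_pow_le (n := K)
    intro x hx
    rw [Ideal.mem_comap]
    have : algebraMap A (D ⧸ 𝔞) x = Ideal.Quotient.mk 𝔞 (algebraMap A D x) := rfl
    rw [this, Ideal.Quotient.eq_zero_iff_mem.2 (Ideal.mem_map_of_mem _ hx)]
    exact P.zero_mem
  have hne : P.comap (algebraMap A (D ⧸ 𝔞)) ≠ ⊤ := Ideal.IsPrime.ne_top (hP.comap _)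
  have := (IsLocalRing.maximalIdeal.isMaximal A).eq_of_le hne hle
  rw [← this]
  infer_instance

/-- Lifting idempotents along `C → C/J` if `J ⊇ fC` and `J/fC` is `m`-power torsion, given that idempotents lift along
`C → C/fC`. -/
theorem exists_lift_of_torsion {A : Type u} [CommRing A] [IsLocalRing A] [IsNoetherianRing A] (f : A)
    (C : Type v) [CommRing C] [Algebra A C] [Module.Finite A C]
    (hlift : ∀ e : C, e * e - e ∈ Ideal.span {algebraMap A C f} → ∃ e' : C, IsIdempotentElem e' ∧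
      e' - e ∈ Ideal.span {algebraMap A C f})
    (J : Ideal C) (hfJ : algebraMap A C f ∈ J)
    (hJ : ∀ x ∈ J, ∃ K : ℕ, ∀ a ∈ IsLocalRing.maximalIdeal A ^ K, a • x ∈ Ideal.span {algebraMap A C f})
    (e : C) (he : e * e - e ∈ J) : ∃ e' : C, IsIdempotentElem e' ∧ e' - e ∈ J := by
  have hN : IsNoetherianRing C := IsNoetherianRing.of_finite A C
  set F : Ideal C := Ideal.span {algebraMap A C f} with hF
  have hFJ : F ≤ J := by rw [hF, Ideal.span_le]; simpa using hfJ
  -- a uniform exponent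
  obtain ⟨K, hK⟩ : ∃ K : ℕ, ∀ x ∈ J, ∀ a ∈ IsLocalRing.maximalIdeal A ^ K, a • x ∈ F := by
    obtain ⟨s, hs⟩ := IsNoetherian.noetherian J
    choose! k hk using hJ
    refine ⟨s.sup k, ?_⟩
    have : ∀ x ∈ Submodule.span C (s : Set C), ∀ a ∈ IsLocalRing.maximalIdeal A ^ (s.sup k), a • x ∈ F := by
      intro x hx a ha
      induction hx using Submodule.span_induction with
      | mem x hx =>
        have hxJ : x ∈ J := by rw [← hs]; exact Submodule.subset_span hx
        exact hk x hxJ a (Ideal.pow_le_pow_right (Finset.le_sup hx) ha)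
      | zero => simp
      | add x y _ _ hx hy => rw [smul_add]; exact F.add_mem hx hy
      | smul c x _ hx => rw [smul_comm]; exact F.smul_mem c hx
    intro x hx
    rw [← hs] at hx
    exact this x hx
  let q : C →+* C ⧸ F := Ideal.Quotient.mk F
  have hq : Function.Surjective q := Ideal.Quotient.mk_surjective
  have : Module.Finite A (C ⧸ F) := inferInstance
  have hN' : IsNoetherianRing (C ⧸ F) := inferInstance
  have := isArtinianRing_quotient (A := A) (C ⧸ F) K
  obtain ⟨e₁, he₁, he₁'⟩ := exists_lift_of_mul_eq_bot (D := C ⧸ F) (J.map q)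
    (((IsLocalRing.maximalIdeal A) ^ K).map (algebraMap A (C ⧸ F))) (by
      rw [eq_bot_iff, Ideal.mul_le]
      intro r hr s hs
      refine Submodule.span_induction ?_ ?_ ?_ ?_ hr
      · rintro _ ⟨a, ha, rfl⟩
        obtain ⟨x, hx, rfl⟩ := (Ideal.mem_map_iff_of_surjective q hq).1 hs
        have h1 : algebraMap A (C ⧸ F) a * q x = q (a • x) := by
          rw [Algebra.smul_def, map_mul]; rfl
        rw [h1, Ideal.mem_bot]
        exact Ideal.Quotient.eq_zero_iff_mem.2 (hK x hx a ha)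
      · simp
      · intro x y _ _ hx hy
        rw [add_mul]; exact Ideal.add_mem _ hx hy
      · intro c x _ hx
        rw [smul_eq_mul, mul_assoc]; exact Ideal.mul_mem_left _ _ hx) (q e) (by
      rw [← map_mul, ← map_sub]; exact Ideal.mem_map_of_mem _ he)
  obtain ⟨e₂, rfl⟩ := hq e₁
  obtain ⟨e₃, he₃, he₃'⟩ := hlift e₂ (by
    rw [← Ideal.Quotient.eq, map_mul]; exact he₁)
  refine ⟨e₃, he₃, ?_⟩
  have h1 : e₂ - e ∈ J := by
    rw [← map_sub] at he₁'
    obtain ⟨y, hy, hy'⟩ := (Ideal.mem_map_iff_of_surjective q hq).1 he₁'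
    have h2 : (e₂ - e) - y ∈ F := by
      rw [← Ideal.Quotient.eq]; exact hy'.symm
    have h3 := J.add_mem (hFJ h2) hy
    simpa using h3
  have := J.add_mem (hFJ he₃') h1
  simpa using this

section Main

open DenseDescent

variable {A : Type u} [CommRing A] [IsLocalRing A] [IsNoetherianRing A]
  {A' : Type v} [CommRing A'] [Algebra A A'] [Module.FaithfullyFlat A A']

/-- **Descent of idempotents from the completion.** -/
theorem exists_idempotent (f : A)
    (hd : Dense (IsLocalRing.maximalIdeal A) A')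
    {N N₀ : Type u} [CommRing N] [CommRing N₀] [Algebra A N] [Algebra A N₀] (φ : N →ₐ[A] N₀)
    (hlift : ∀ C : Subalgebra A N, Module.Finite A C → ∀ e : C, e * e - e ∈ Ideal.span {algebraMap A C f} →
      ∃ e' : C, IsIdempotentElem e' ∧ e' - e ∈ Ideal.span {algebraMap A C f})
    (C₀ : Subalgebra A N) (hC₀ : Module.Finite A C₀)
    (hC₀' : ∀ n : N, ∃ k : ℕ, ∀ a ∈ IsLocalRing.maximalIdeal A ^ k, a • n ∈ C₀)
    (hf₀ : algebraMap A N₀ f = 0)
    (hφ : ∀ x : N, φ x = 0 → ∀ g ∈ IsLocalRing.maximalIdeal A, ∃ (k : ℕ) (y : N), (g ^ k) • x = f • y)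
    (e' : A' ⊗[A] N) (he' : IsIdempotentElem e') (e₀ : N₀) (he₀ : IsIdempotentElem e₀)
    (h : Algebra.TensorProduct.map (AlgHom.id A' A') φ e' = (1 : A') ⊗ₜ[A] e₀) :
    ∃ e : N, IsIdempotentElem e ∧ φ e = e₀ := by
  -- the finite `A'`-subalgebra of `A' ⊗ N` generated by `C₀` and `e'`
  let D : Subalgebra A' (A' ⊗[A] N) := (Algebra.TensorProduct.map (AlgHom.id A' A') C₀.val).range
  let E : Subalgebra A' (A' ⊗[A] N) := Algebra.adjoin A' {e'}
  have hDfg : (Subalgebra.toSubmodule D).FG := by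
    have h1 : Subalgebra.toSubmodule D = Submodule.map
        (Algebra.TensorProduct.map (AlgHom.id A' A') C₀.val).toLinearMap ⊤ := by
      ext x
      simp only [Submodule.mem_map, Submodule.mem_top, true_and, Subalgebra.mem_toSubmodule, D, AlgHom.mem_range]
      rfl
    rw [h1]
    exact Submodule.FG.map _ Module.Finite.fg_top
  have hEfg : (Subalgebra.toSubmodule E).FG := by
    apply IsIntegral.fg_adjoin_singleton
    refine ⟨Polynomial.X ^ 2 - Polynomial.X, ?_, ?_⟩
    · have : (Polynomial.X ^ 2 - Polynomial.X : Polynomial A') = Polynomial.X ^ 2 + (-Polynomial.X) := by ring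
      nontriviality A'
      apply Polynomial.monic_X_pow_sub
      rw [Polynomial.degree_X]; norm_num
    · have h1 : e' * e' = e' := he'
      simp [pow_two, h1]
  let M : Submodule A' (A' ⊗[A] N) := Subalgebra.toSubmodule (D ⊔ E)
  have hMfg : M.FG := by
    change (Subalgebra.toSubmodule (D ⊔ E)).FG
    rw [← Subalgebra.mul_toSubmodule]
    exact hDfg.mul hEfg
  have hMt : ∀ n : N, ∃ k : ℕ, ∀ a ∈ (IsLocalRing.maximalIdeal A) ^ k, (1 : A') ⊗ₜ[A] (a • n) ∈ M := by
    intro n
    obtain ⟨k, hk⟩ := hC₀' n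
    refine ⟨k, fun a ha => ?_⟩
    have h1 : (1 : A') ⊗ₜ[A] (a • n) ∈ D := ⟨(1 : A') ⊗ₜ[A] (⟨a • n, hk a ha⟩ : C₀), by simp⟩
    exact (le_sup_left : D ≤ D ⊔ E) h1
  -- the preimage `C` of `M` in `N`
  let C : Subalgebra A N :=
    { carrier := {n | (1 : A') ⊗ₜ[A] n ∈ (D ⊔ E)}
      mul_mem' := fun {a b} ha hb => by
        have : (1 : A') ⊗ₜ[A] (a * b) = ((1 : A') ⊗ₜ[A] a) * ((1 : A') ⊗ₜ[A] b) := by simp
        change (1 : A') ⊗ₜ[A] (a * b) ∈ (D ⊔ E)
        rw [this]; exact (D ⊔ E).mul_mem ha hb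
      add_mem' := fun {a b} ha hb => by
        change (1 : A') ⊗ₜ[A] (a + b) ∈ (D ⊔ E)
        rw [TensorProduct.tmul_add]; exact (D ⊔ E).add_mem ha hb
      algebraMap_mem' := fun r => by
        change (1 : A') ⊗ₜ[A] (algebraMap A N r) ∈ (D ⊔ E)
        have : (1 : A') ⊗ₜ[A] (algebraMap A N r) = algebraMap A' (A' ⊗[A] N) (algebraMap A A' r) := by
          rw [Algebra.algebraMap_eq_smul_one, Algebra.algebraMap_eq_smul_one (R := A) (A := A')]
          rw [TensorProduct.tmul_smul]
          rw [Algebra.TensorProduct.algebraMap_apply]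
          rw [TensorProduct.smul_tmul']
          simp
        rw [this]; exact (D ⊔ E).algebraMap_mem _ }
  have hCpre : Subalgebra.toSubmodule C = pre M := rfl
  have hCfin : Module.Finite A C := finite_pre hd M hMt hMfg
  have hC₀C : C₀ ≤ C := fun n hn => (le_sup_left : D ≤ D ⊔ E) ⟨(1 : A') ⊗ₜ[A] (⟨n, hn⟩ : C₀), by simp⟩
  have heM : e' ∈ M := (le_sup_right : E ≤ D ⊔ E) (Algebra.subset_adjoin rfl)
  rw [← range_baseChange_pre hd M hMt] at heM
  obtain ⟨t, ht⟩ := heM
  -- `e₀` is in the image of `C`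
  have he₀C : e₀ ∈ (pre M).map φ.toLinearMap := by
    apply mem_of_one_tmul_mem_range (A' := A')
    rw [← h, ← ht]
    have h2 : ∀ t : A' ⊗[A] (pre M), Algebra.TensorProduct.map (AlgHom.id A' A') φ ((pre M).subtype.baseChange A' t) ∈
        LinearMap.range (((pre M).map φ.toLinearMap).subtype.baseChange A') := by
      intro t
      induction t with
      | zero => simp
      | tmul x n =>
        refine ⟨x ⊗ₜ[A] ⟨φ n, ⟨n, n.2, rfl⟩⟩, ?_⟩
        simp
      | add x y hx hy =>
        rw [map_add, map_add]; exact Submodule.add_mem _ hx hy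
    exact h2 t
  obtain ⟨c, hcC, hc⟩ := he₀C
  have hc' : φ c = e₀ := hc
  let c₁ : C := ⟨c, hcC⟩
  let J : Ideal C := RingHom.ker ((φ.comp C.val).toRingHom)
  have hmemJ : ∀ x : C, x ∈ J ↔ φ (x : N) = 0 := fun x => Iff.rfl
  have hfspan : ∀ (x : C) (y : N) (hy : y ∈ C), (x : N) = f • y → x ∈ Ideal.span {algebraMap A C f} := by
    intro x y hy hxy
    rw [Ideal.mem_span_singleton']
    refine ⟨⟨y, hy⟩, ?_⟩
    apply Subtype.ext
    rw [hxy, Algebra.smul_def, mul_comm]; rfl
  obtain ⟨e₁, he₁, he₁'⟩ := exists_lift_of_torsion f C (hlift C hCfin) J (by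
      rw [hmemJ]
      change φ (algebraMap A N f) = 0
      rw [AlgHom.commutes, hf₀]) (by
      intro x hx
      rw [hmemJ] at hx
      -- the ideal of `a` with `a x ∈ fC`
      let 𝔟 : Ideal A := (Ideal.span {algebraMap A C f}).restrictScalars A |>.comap (LinearMap.toSpanSingleton A C x)
      have hb : ∀ a, a ∈ 𝔟 ↔ a • x ∈ Ideal.span {algebraMap A C f} := fun a => Iff.rfl
      have hrad : IsLocalRing.maximalIdeal A ≤ 𝔟.radical := by
        intro g hg
        obtain ⟨k, y, hy⟩ := hφ x hx g hg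
        obtain ⟨l, hl⟩ := hC₀' y
        refine ⟨k + l, ?_⟩
        rw [hb]
        apply hfspan _ (g ^ l • y) (hC₀C (hl _ (Ideal.pow_mem_pow hg l)))
        change g ^ (k + l) • (x : N) = _
        rw [add_comm, pow_add, mul_smul, hy, smul_comm]
      obtain ⟨K, hK⟩ := Ideal.exists_pow_le_of_le_radical_of_fg hrad (IsNoetherian.noetherian _)
      exact ⟨K, fun a ha => hK ha⟩) c₁ (by
      rw [hmemJ]
      change φ (c * c - c) = 0
      rw [map_sub, map_mul, hc']
      have : e₀ * e₀ = e₀ := he₀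
      rw [this, sub_self])
  refine ⟨e₁, ?_, ?_⟩
  · have : e₁ * e₁ = e₁ := he₁
    have := congrArg (Subtype.val) this
    exact this
  · rw [hmemJ] at he₁'
    change φ ((e₁ : N) - c) = 0 at he₁'
    rw [map_sub, hc', sub_eq_zero] at he₁'
    exact he₁'

end Main

end Groth.Agent.Pi1C.IdemDescent
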