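import Mathlib.LinearAlgebra.Basis.VectorSpace
import Mathlib.LinearAlgebra.Dimension.Finite
import Mathlib.RingTheory.Flat.TorsionFree
import Mathlib.RingTheory.Ideal.Height
import Mathlib.RingTheory.Ideal.KrullsHeightTheorem
import Mathlib.RingTheory.IntegralClosure.IntegrallyClosed
import Mathlib.RingTheory.KrullDimension.Field
import Mathlib.RingTheory.Localization.BaseChange
import Mathlib.RingTheory.Localization.FractionRing
import Mathlib.RingTheory.Localization.Integer
import Mathlib.RingTheory.TensorProduct.Basic

set_option autoImplicit false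

open IsLocalRing TensorProduct

namespace Groth.Agent.Pi1C.NormalHartogs

/-- Algebraic Hartogs at the closed point of a normal Noetherian local domain of dimension at least
two: an element of the fraction field which lies in `A[1/a]` for all `a` in the maximal ideal
lies in `A`. -/
lemma mem_range_of_forall_pow {A K : Type*} [CommRing A] [IsDomain A] [IsNoetherianRing A] [IsLocalRing A]
    [IsIntegrallyClosed A] [Field K] [Algebra A K] [IsFractionRing A K]
    (hdim : (2 : WithBot ℕ∞) ≤ ringKrullDim A) (x : K)
    (h : ∀ a ∈ maximalIdeal A, ∃ n : ℕ, algebraMap A K a ^ n * x ∈ (algebraMap A K).range) :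
    x ∈ (algebraMap A K).range := by
  -- the conductor ideal
  let M : Submodule A K := LinearMap.range (Algebra.linearMap A K)
  let I : Ideal A := M.comap (LinearMap.toSpanSingleton A K x)
  have hI (a : A) : a ∈ I ↔ a • x ∈ (algebraMap A K).range := by
    simp only [I, M, Submodule.mem_comap, LinearMap.toSpanSingleton_apply]
    rfl
  have hmI : maximalIdeal A ≤ I.radical := by
    intro a ha
    obtain ⟨n, hn⟩ := h a ha
    exact ⟨n, by rw [hI, Algebra.smul_def, map_pow]; exact hn⟩
  have hex : ∃ N, maximalIdeal A ^ N ≤ I :=
    Ideal.exists_pow_le_of_le_radical_of_fg hmI (IsNoetherian.noetherian _)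
  by_contra hx
  have hIx : (1 : A) ∉ I := by rwa [hI, one_smul]
  -- choose minimal `N`
  classical
  have hk : maximalIdeal A ^ (Nat.find hex) ≤ I := Nat.find_spec hex
  have hk0 : Nat.find hex ≠ 0 := by
    intro h0
    rw [h0, pow_zero, Ideal.one_eq_top] at hk
    exact hIx (hk trivial)
  obtain ⟨k', hk'⟩ := Nat.exists_eq_succ_of_ne_zero hk0
  have hk'' : ¬ maximalIdeal A ^ k' ≤ I := Nat.find_min hex (by omega)
  obtain ⟨a, ha, haI⟩ := Set.not_subset.mp hk''
  set y : K := a • x with hy
  have hyA : y ∉ (algebraMap A K).range := by rwa [← hI]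
  have hmy (t : A) (ht : t ∈ maximalIdeal A) : t • y ∈ (algebraMap A K).range := by
    rw [hy, smul_smul, ← hI]
    apply hk
    rw [hk', pow_succ, mul_comm (maximalIdeal A ^ k')]
    exact Ideal.mul_mem_mul ht ha
  -- case distinction
  by_cases hc : ∀ t ∈ maximalIdeal A, ∃ c ∈ maximalIdeal A, t • y = algebraMap A K c
  · -- then `y` is integral
    have hint : IsIntegral A y := by
      let P : Submodule A K := Submodule.map (Algebra.linearMap A K) (maximalIdeal A)
      have hPfg : P.FG := Submodule.FG.map _ (IsNoetherian.noetherian _)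
      have hm : maximalIdeal A ≠ ⊥ := by
        intro hbot
        have hf : IsField A := IsLocalRing.isField_iff_maximalIdeal_eq.mpr hbot
        have := ringKrullDim_eq_zero_of_isField hf
        rw [this] at hdim
        exact absurd hdim (by decide)
      obtain ⟨t, ht, ht0⟩ := Submodule.exists_mem_ne_zero_of_ne_bot hm
      refine isIntegral_of_smul_mem_submodule (M := K) P ?_ hPfg y ?_
      · intro hbot
        have h0 : algebraMap A K t ∈ P := ⟨t, ht, rfl⟩
        rw [hbot, Submodule.mem_bot] at h0
        exact ht0 (by simpa using h0)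
      · rintro _ ⟨t, ht, rfl⟩
        obtain ⟨c, hc, hce⟩ := hc t ht
        refine ⟨c, hc, ?_⟩
        rw [Algebra.linearMap_apply, ← hce, Algebra.linearMap_apply, Algebra.smul_def, smul_eq_mul, mul_comm]
    obtain ⟨z, hz⟩ := IsIntegrallyClosed.isIntegral_iff.mp hint
    exact hyA ⟨z, hz⟩
  · push Not at hc
    obtain ⟨t, ht, hct⟩ := hc
    obtain ⟨u, hu⟩ := hmy t ht
    have huu : IsUnit u := by
      by_contra hnu
      exact hct u ((mem_maximalIdeal _).mpr hnu) hu.symm
    -- maximal ideal is principal
    have hprin : maximalIdeal A = Ideal.span {t} := by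
      apply le_antisymm
      · intro b hb
        obtain ⟨c, hc⟩ := hmy b hb
        rw [Ideal.mem_span_singleton]
        have h1 : algebraMap A K (b * u) = algebraMap A K (t * c) := by
          rw [map_mul, map_mul, hu, hc, Algebra.smul_def, Algebra.smul_def]
          ring
        have h2 : b * u = t * c := IsFractionRing.injective A K h1
        obtain ⟨v, rfl⟩ := huu
        exact ⟨c * ↑v⁻¹, by rw [← mul_assoc, ← h2, mul_assoc, Units.mul_inv, mul_one]⟩
      · rw [Ideal.span_singleton_le_iff_mem]; exact ht
    have hht : (maximalIdeal A).height ≤ 1 := by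
      have hmin : maximalIdeal A ∈ (Ideal.span {t}).minimalPrimes := by
        rw [hprin]
        have : (Ideal.span {t}).IsPrime := by rw [← hprin]; infer_instance
        rw [Ideal.minimalPrimes_eq_subsingleton_self]
        rfl
      exact Ideal.height_le_one_of_isPrincipal_of_mem_minimalPrimes (Ideal.span {t}) _ hmin
    have := IsLocalRing.maximalIdeal_height_eq_ringKrullDim (R := A)
    rw [← this] at hdim
    have h3 : ((maximalIdeal A).height : WithBot ℕ∞) ≤ 1 := by exact_mod_cast hht
    have h4 := hdim.trans h3
    exact absurd h4 (by decide)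

/-- A torsion free module `B` over a Noetherian domain which differs from a finitely generated submodule
`N` only along a locus at which the Hartogs property holds for the base is finitely generated. -/
lemma finite_of_hartogs {A : Type*} (K : Type*) [CommRing A] [IsDomain A] [IsNoetherianRing A]
    [Field K] [Algebra A K] [IsFractionRing A K] (S : Set A) (s₀ : A) (hs₀ : s₀ ∈ S) (hs₀' : s₀ ≠ 0)
    (hH : ∀ x : K, (∀ s ∈ S, ∃ n : ℕ, algebraMap A K s ^ n * x ∈ (algebraMap A K).range) → x ∈ (algebraMap A K).range)
    {B : Type*} [AddCommGroup B] [Module A B] [Module.IsTorsionFree A B]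
    (N : Submodule A B) (hN : N.FG) (h : ∀ s ∈ S, ∀ b : B, ∃ n : ℕ, s ^ n • b ∈ N) : Module.Finite A B := by
  classical
  obtain ⟨G, hG⟩ := hN
  let f : B →ₗ[A] K ⊗[A] B := TensorProduct.mk A K B 1
  have hf : Function.Injective f := by
    have : IsLocalizedModule (nonZeroDivisors A) f :=
      (isLocalizedModule_iff_isBaseChange (nonZeroDivisors A) K f).mpr (TensorProduct.isBaseChange A B K)
    rw [injective_iff_map_eq_zero]
    intro b hb
    obtain ⟨c, hc⟩ := (IsLocalizedModule.eq_zero_iff (nonZeroDivisors A) f).mp hb
    exact (smul_eq_zero_iff_right (nonZeroDivisors.coe_ne_zero c)).mp hc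
  -- `L` is finite dimensional
  have hspan : Submodule.span K (f '' (G : Set B)) = ⊤ := by
    rw [eq_top_iff]
    rintro z -
    induction z with
    | zero => exact zero_mem _
    | add x y hx hy => exact add_mem hx hy
    | tmul k b =>
      obtain ⟨n, hn⟩ := h s₀ hs₀ b
      have h1 : k ⊗ₜ[A] b = (k * (algebraMap A K s₀ ^ n)⁻¹) • f (s₀ ^ n • b) := by
        simp only [f, TensorProduct.mk_apply, TensorProduct.tmul_smul, TensorProduct.smul_tmul', smul_eq_mul]
        congr 1
        rw [Algebra.smul_def, map_pow, mul_one, mul_assoc, inv_mul_cancel₀, mul_one]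
        exact pow_ne_zero _ (by simpa using hs₀')
      rw [h1]
      apply Submodule.smul_mem
      generalize s₀ ^ n • b = y at hn
      rw [← hG] at hn
      induction hn using Submodule.span_induction with
      | mem x hx => exact Submodule.subset_span ⟨x, hx, rfl⟩
      | zero => rw [map_zero]; exact zero_mem _
      | add x y _ _ hx hy => rw [map_add]; exact add_mem hx hy
      | smul a x _ hx => 
        rw [map_smul, ← IsScalarTower.algebraMap_smul K a (f x)]
        exact Submodule.smul_mem _ _ hx
  have hfin : Module.Finite K (K ⊗[A] B) := ⟨⟨G.image f, by simpa using hspan⟩⟩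
  let v := Module.finBasis K (K ⊗[A] B)
  let c (i) : K ⊗[A] B →ₗ[A] K := (v.coord i).restrictScalars A
  obtain ⟨d, hd⟩ := IsLocalization.exist_integer_multiples_of_finset (nonZeroDivisors A)
    ((Finset.univ ×ˢ G).image fun p => c p.1 (f p.2))
  have hd0 : algebraMap A K (d : A) ≠ 0 := by simp
  -- on `N` the coordinates times `d` are in `A`
  have hN' (i) (x : B) (hx : x ∈ N) : (d : A) • c i (f x) ∈ (algebraMap A K).range := by
    rw [← hG] at hx
    induction hx using Submodule.span_induction with
    | mem x hx => 
      exact hd _ (Finset.mem_image.mpr ⟨(i, x), by simpa using hx, rfl⟩)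
    | zero => simp
    | add x y _ _ hx hy => rw [map_add, map_add, smul_add]; exact add_mem hx hy
    | smul a x _ hx => 
      rw [map_smul, map_smul, smul_comm, Algebra.smul_def a]
      exact mul_mem ⟨a, rfl⟩ hx
  have hB' (i) (x : B) : (d : A) • c i (f x) ∈ (algebraMap A K).range := by
    apply hH
    intro s hs
    obtain ⟨n, hn⟩ := h s hs x
    refine ⟨n, ?_⟩
    have := hN' i _ hn
    rwa [map_smul, map_smul, smul_comm, Algebra.smul_def, map_pow] at this
  let g : B →ₗ[A] (Fin (Module.finrank K (K ⊗[A] B)) → K) := 
    LinearMap.pi fun i => (d : A) • (c i ∘ₗ f)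
  have hg : Function.Injective g := by
    intro x y hxy
    apply hf
    apply v.ext_elem
    intro i
    have := congrFun hxy i
    simp only [g, LinearMap.pi_apply, LinearMap.smul_apply, LinearMap.comp_apply, Algebra.smul_def] at this
    exact mul_left_cancel₀ hd0 this
  let P : Submodule A (Fin (Module.finrank K (K ⊗[A] B)) → K) := 
    LinearMap.range (LinearMap.pi (R := A) (φ := fun _ : Fin (Module.finrank K (K ⊗[A] B)) => K)
      (M₂ := Fin (Module.finrank K (K ⊗[A] B)) → A) fun i => (Algebra.linearMap A K) ∘ₗ LinearMap.proj i)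
  have hP : Module.Finite A P := Module.Finite.range _
  have hgP (b : B) : g b ∈ P := by
    choose w hw using hB'
    refine ⟨fun i => w i b, ?_⟩
    ext i
    simp [g, hw]
  exact Module.Finite.of_injective (g.codRestrict P hgP) (by
    intro x y hxy
    apply hg
    exact congrArg Subtype.val hxy)

end Groth.Agent.Pi1C.NormalHartogs
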