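import Groth.Agent.Pi1C.FEtExtend
import Groth.Agent.Pi1C.NormalHartogs

set_option autoImplicit false
universe u

open AlgebraicGeometry CategoryTheory CategoryTheory.Limits
open Groth.Agent.Pi1C.SectionsOverAffine

namespace Groth.Agent.Pi1C.PuncturedNormal

lemma exists_pow_mul_eq {A B Aₐ Bₐ : Type*} [CommRing A] [CommRing B] [CommRing Aₐ] [CommRing Bₐ]
    [Algebra A B] [Algebra A Aₐ] [Algebra Aₐ Bₐ] [Algebra B Bₐ] [Algebra A Bₐ] [IsScalarTower A B Bₐ]
    [IsScalarTower A Aₐ Bₐ] (a : A) [IsLocalization.Away a Aₐ] [IsLocalization.Away (algebraMap A B a) Bₐ]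
    (h : Function.Surjective (algebraMap Aₐ Bₐ)) (b : B) : 
    ∃ (n : ℕ) (c : A), algebraMap A B a ^ n * b = algebraMap A B c := by
  obtain ⟨x, hx⟩ := h (algebraMap B Bₐ b)
  obtain ⟨⟨c, ⟨_, k, rfl⟩⟩, hc⟩ := IsLocalization.surj (Submonoid.powers a) x
  have h1 : algebraMap B Bₐ (algebraMap A B a ^ k * b) = algebraMap B Bₐ (algebraMap A B c) := by
    rw [map_mul, ← hx, map_pow, ← IsScalarTower.algebraMap_apply, ← IsScalarTower.algebraMap_apply,
      IsScalarTower.algebraMap_apply A Aₐ Bₐ, IsScalarTower.algebraMap_apply A Aₐ Bₐ, ← hc, map_mul, 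
      mul_comm]
    simp
  obtain ⟨⟨_, l, rfl⟩, hl⟩ := (IsLocalization.eq_iff_exists (Submonoid.powers (algebraMap A B a)) Bₐ).mp h1
  refine ⟨l + k, a ^ l * c, ?_⟩
  rw [map_mul, map_pow, pow_add, mul_assoc]
  exact hl

lemma isIso_ι_app {R : CommRingCat.{u}} (U : (Spec R).Opens) (a : R)
    (ha : PrimeSpectrum.basicOpen a ≤ U) : IsIso (U.ι.app (PrimeSpectrum.basicOpen a)) := 
  Scheme.Hom.isIso_app _ _ (by simp only [Scheme.Opens.opensRange_ι]; exact ha)

lemma exists_pow_mul_eq_of_le {R : CommRingCat.{u}} (U : (Spec R).Opens) [CompactSpace U] (a : R)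
    (ha : PrimeSpectrum.basicOpen a ≤ U) (b : Γ(U, ⊤)) : 
    ∃ (n : ℕ) (c : R), toΓ U.ι a ^ n * b = toΓ U.ι c := by
  let p := U.ι
  let _ := (toΓ p).toAlgebra
  let Bₐ := Γ(U, p ⁻¹ᵁ (PrimeSpectrum.basicOpen a))
  let _ : Algebra Γ(Spec R, PrimeSpectrum.basicOpen a) Bₐ := (p.app (PrimeSpectrum.basicOpen a)).hom.toAlgebra
  let _ : Algebra Γ(U, ⊤) Bₐ := ((U : Scheme.{u}).presheaf.map (homOfLE le_top).op).hom.toAlgebra
  let _ : Algebra R Bₐ := ((algebraMap Γ(Spec R, PrimeSpectrum.basicOpen a) Bₐ).comp (algebraMap R _)).toAlgebra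
  have : IsScalarTower R Γ(Spec R, PrimeSpectrum.basicOpen a) Bₐ := .of_algebraMap_eq fun _ => rfl
  have : IsScalarTower R Γ(U, ⊤) Bₐ := .of_algebraMap_eq fun x => (toΓ_map_eq p a x).symm
  have : IsLocalization.Away (algebraMap R Γ(U, ⊤) a) Bₐ := isLocalization_toΓ p a
  refine exists_pow_mul_eq (A := R) (Aₐ := Γ(Spec R, PrimeSpectrum.basicOpen a)) (Bₐ := Bₐ) a ?_ b
  have h1 := isIso_ι_app U a ha
  exact (ConcreteCategory.bijective_of_isIso (C := CommRingCat) (p.app (PrimeSpectrum.basicOpen a))).2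


/-- If every element of a domain `B` becomes an element of `A` after multiplication by a power of a
nonzero element of `A`, then the fraction field of `B` is a fraction field of `A`. -/
lemma isFractionRing_of_exists_pow {A B K : Type*} [CommRing A] [IsDomain A] [CommRing B] [IsDomain B] [Algebra A B]
    [Field K] [Algebra B K] [Algebra A K] [IsScalarTower A B K] [IsFractionRing B K]
    (hinj : Function.Injective (algebraMap A B)) (a : A) (ha : a ≠ 0)
    (h : ∀ b : B, ∃ (n : ℕ) (c : A), algebraMap A B a ^ n * b = algebraMap A B c) : IsFractionRing A K := by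
  have hK : Function.Injective (algebraMap A K) := by
    rw [IsScalarTower.algebraMap_eq A B K]
    exact (IsFractionRing.injective B K).comp hinj
  have haK : algebraMap A K a ≠ 0 := by rwa [Ne, map_eq_zero_iff _ hK]
  refine ⟨fun y => ?_, fun z => ?_, fun {x y} hxy => ⟨1, by rw [hK hxy]⟩⟩
  · rw [isUnit_iff_ne_zero, Ne, map_eq_zero_iff _ hK]
    exact nonZeroDivisors.coe_ne_zero y
  · obtain ⟨b, b', hb', rfl⟩ := IsFractionRing.div_surjective (A := B) z
    obtain ⟨n, c, hc⟩ := h b
    obtain ⟨n', c', hc'⟩ := h b'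
    have hb'0 : algebraMap B K b' ≠ 0 := by 
      rw [Ne, map_eq_zero_iff _ (IsFractionRing.injective B K)]
      exact nonZeroDivisors.ne_zero hb'
    have hc1 := congrArg (algebraMap B K) hc
    have hc1' := congrArg (algebraMap B K) hc'
    simp only [map_mul, map_pow, ← IsScalarTower.algebraMap_apply] at hc1 hc1'
    have hc'0 : c' ≠ 0 := by
      rintro rfl
      rw [map_zero] at hc1'
      exact mul_ne_zero (pow_ne_zero _ haK) hb'0 hc1'
    refine ⟨⟨a ^ n' * c, ⟨a ^ n * c', mem_nonZeroDivisors_of_ne_zero (mul_ne_zero (pow_ne_zero _ ha) hc'0)⟩⟩, ?_⟩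
    simp only [map_mul, map_pow, ← hc1, ← hc1']
    field_simp

variable (A : Type u) [CommRing A] 

open IsLocalRing

lemma mem_puncturedSpec_iff [IsLocalRing A] (x : Spec (CommRingCat.of A)) : 
    x ∈ FEt.puncturedSpec A ↔ x ≠ closedPoint A := Iff.rfl

lemma basicOpen_le_puncturedSpec [IsLocalRing A] (a : A) (ha : a ∈ maximalIdeal A) : 
    (PrimeSpectrum.basicOpen a : (Spec (CommRingCat.of A)).Opens) ≤ FEt.puncturedSpec A := by
  intro x hx h0
  obtain rfl : x = closedPoint A := h0
  exact hx ha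

lemma exists_mem_basicOpen [IsLocalRing A] (x : Spec (CommRingCat.of A)) (hx : x ∈ FEt.puncturedSpec A) : 
    ∃ a ∈ maximalIdeal A, x ∈ (PrimeSpectrum.basicOpen a : (Spec (CommRingCat.of A)).Opens) := by
  by_contra! h
  apply hx
  ext1
  apply le_antisymm
  · exact le_maximalIdeal x.2.ne_top
  · intro a ha
    by_contra hax
    exact h a ha hax


instance compactSpace_puncturedSpec [IsLocalRing A] [IsNoetherianRing A] : 
    CompactSpace (FEt.puncturedSpec A : Scheme.{u}) := by
  have : TopologicalSpace.NoetherianSpace (Spec (CommRingCat.of A)) := 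
    inferInstanceAs (TopologicalSpace.NoetherianSpace (PrimeSpectrum A))
  exact isCompact_iff_compactSpace.mp (TopologicalSpace.NoetherianSpace.isCompact 
    ((FEt.puncturedSpec A : (Spec (CommRingCat.of A)).Opens) : Set (Spec (CommRingCat.of A))))

lemma nonempty_puncturedSpec [IsDomain A] [IsLocalRing A] (h : ¬ IsField A) : 
    Nonempty (FEt.puncturedSpec A : Scheme.{u}) := by
  refine ⟨⟨(⟨⊥, Ideal.isPrime_bot⟩ : PrimeSpectrum A), ?_⟩⟩
  intro h0
  apply h
  rw [IsLocalRing.isField_iff_maximalIdeal_eq]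
  exact (congrArg PrimeSpectrum.asIdeal h0).symm

theorem isIso_appTop_puncturedSpec [IsDomain A] [IsNoetherianRing A]
    [IsLocalRing A] [IsIntegrallyClosed A] (hdim : (2 : WithBot ℕ∞) ≤ ringKrullDim A) :
    IsIso (FEt.puncturedSpec A).ι.appTop := by
  have hA : ¬ IsField A := by
    intro h
    rw [ringKrullDim_eq_zero_of_isField h] at hdim
    exact absurd hdim (by decide)
  have hne := nonempty_puncturedSpec A hA
  have hint : IsIntegral (Spec (CommRingCat.of A)) := inferInstance
  have hint' : IsIntegral (FEt.puncturedSpec A : Scheme.{u}) := isIntegral_of_isOpenImmersion (FEt.puncturedSpec A).ι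
  let B := Γ(FEt.puncturedSpec A, ⊤)
  let φ : A →+* B := toΓ (FEt.puncturedSpec A).ι
  suffices h : Function.Bijective φ by
    have h1 : IsIso (CommRingCat.ofHom φ) := 
      (ConcreteCategory.isIso_iff_bijective (C := CommRingCat) _).mpr h
    have h2 : (FEt.puncturedSpec A).ι.appTop = (Scheme.ΓSpecIso (CommRingCat.of A)).hom ≫ CommRingCat.ofHom φ := by
      ext x
      simp [φ]
    rw [h2]
    infer_instance
  have hBd : IsDomain B := inferInstance
  let _ := φ.toAlgebra
  have hinj : Function.Injective (algebraMap A B) := by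
    rw [injective_iff_map_eq_zero]
    intro c hc
    by_contra hc0
    have hfl (a : A) (ha : a ∈ maximalIdeal A) : 
        ((FEt.puncturedSpec A).ι.app (PrimeSpectrum.basicOpen a)).hom.Flat := by
      have h1 := isIso_ι_app (R := CommRingCat.of A) _ a (basicOpen_le_puncturedSpec A a ha)
      exact RingHom.Flat.of_bijective ((ConcreteCategory.isIso_iff_bijective (C := CommRingCat) _).mp h1)
    have := eq_zero_of_toΓ_mul_eq_zero (R := CommRingCat.of A) (FEt.puncturedSpec A).ι (maximalIdeal A) 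
      (fun z => exists_mem_basicOpen A _ z.2) hfl c hc0 1 (by rw [mul_one]; exact hc)
    exact one_ne_zero this
  have hb (a : A) (ha : a ∈ maximalIdeal A) (b : B) : ∃ (n : ℕ) (c : A), algebraMap A B a ^ n * b = algebraMap A B c :=
    exists_pow_mul_eq_of_le (R := CommRingCat.of A) (FEt.puncturedSpec A) a (basicOpen_le_puncturedSpec A a ha) b
  obtain ⟨a₀, ha₀, ha₀'⟩ : ∃ a ∈ maximalIdeal A, a ≠ 0 := 
    Submodule.exists_mem_ne_zero_of_ne_bot (fun h => hA (IsLocalRing.isField_iff_maximalIdeal_eq.mpr h))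
  have hK : IsFractionRing A (FractionRing B) := isFractionRing_of_exists_pow (B := B) hinj a₀ ha₀' (hb a₀ ha₀)
  refine ⟨hinj, fun b => ?_⟩
  obtain ⟨c, hc⟩ := NormalHartogs.mem_range_of_forall_pow hdim (algebraMap B (FractionRing B) b) (fun a ha => by
    obtain ⟨n, c, hc⟩ := hb a ha b
    refine ⟨n, c, ?_⟩
    rw [IsScalarTower.algebraMap_apply A B (FractionRing B), ← hc, map_mul, map_pow, 
      ← IsScalarTower.algebraMap_apply A B (FractionRing B)])
  refine ⟨c, IsFractionRing.injective B (FractionRing B) ?_⟩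
  exact hc


lemma finite_app_of_le {X : Scheme.{u}} (U : X.Opens) {V : Scheme.{u}} (q : V ⟶ U) [IsFinite q] (W : X.Opens)
    (hW : IsAffineOpen W) (ha : W ≤ U) : ((q ≫ U.ι).app W).hom.Finite := by
  have h1 : IsIso (U.ι.app W) := Scheme.Hom.isIso_app _ _ (by simp only [Scheme.Opens.opensRange_ι]; exact ha)
  have haff : IsAffineOpen (U.ι ⁻¹ᵁ W) := hW.preimage_of_isOpenImmersion U.ι (by simpa using ha)
  change ((q.app (U.ι ⁻¹ᵁ W)).hom.comp (U.ι.app W).hom).Finite
  exact RingHom.Finite.comp (q.finite_app _ haff)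
    (RingHom.Finite.of_surjective _ (ConcreteCategory.bijective_of_isIso (C := CommRingCat) _).2)

lemma flat_app_of_le {X : Scheme.{u}} (U : X.Opens) {V : Scheme.{u}} (q : V ⟶ U) [IsAffineHom q] 
    [Flat q] (W : X.Opens)
    (hW : IsAffineOpen W) (ha : W ≤ U) : ((q ≫ U.ι).app W).hom.Flat := by
  have h1 : IsIso (U.ι.app W) := Scheme.Hom.isIso_app _ _ (by simp only [Scheme.Opens.opensRange_ι]; exact ha)
  have haff : IsAffineOpen (U.ι ⁻¹ᵁ W) := hW.preimage_of_isOpenImmersion U.ι (by simpa using ha)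
  change ((q.app (U.ι ⁻¹ᵁ W)).hom.comp (U.ι.app W).hom).Flat
  refine RingHom.Flat.comp ?_ ?_
  · exact RingHom.Flat.of_bijective (ConcreteCategory.bijective_of_isIso (C := CommRingCat) _)
  · rw [Scheme.Hom.app_eq_appLE]
    exact q.flat_appLE haff (haff.preimage q) _

theorem finite_toΓ_of_finite_flat [IsDomain A] [IsNoetherianRing A]
    [IsLocalRing A] [IsIntegrallyClosed A] (hdim : (2 : WithBot ℕ∞) ≤ ringKrullDim A)
    {V : Scheme.{u}} (q : V ⟶ FEt.puncturedSpec A) [IsFinite q] [Flat q] : 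
    (toΓ (R := CommRingCat.of A) (q ≫ (FEt.puncturedSpec A).ι)).Finite := by
  classical
  have hA : ¬ IsField A := by
    intro h
    rw [ringKrullDim_eq_zero_of_isField h] at hdim
    exact absurd hdim (by decide)
  let U := FEt.puncturedSpec A
  let p := q ≫ U.ι
  have hVc : CompactSpace V := QuasiCompact.compactSpace_of_compactSpace q
  have hVq : QuasiSeparatedSpace V := quasiSeparatedSpace_of_quasiSeparated q
  let _ : Algebra A Γ(V, ⊤) := (toΓ p).toAlgebra
  have htf : Module.IsTorsionFree A Γ(V, ⊤) := by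
    refine ⟨fun c hc x y hxy => ?_⟩
    have h1 : toΓ p c * (x - y) = 0 := by
      have : c • (x - y) = 0 := by rw [smul_sub]; exact sub_eq_zero.mpr hxy
      exact this
    have := eq_zero_of_toΓ_mul_eq_zero (R := CommRingCat.of A) p (maximalIdeal A) 
      (fun z => exists_mem_basicOpen A (p z) (q z).2) (fun a ha => flat_app_of_le U q _ (IsAffineOpen.Spec_basicOpen (R := CommRingCat.of A) a) 
        (basicOpen_le_puncturedSpec A a ha)) c (hc.ne_zero) _ h1
    exact sub_eq_zero.mp this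
  have hfin (a : A) (ha : a ∈ maximalIdeal A) := exists_finset_span_Γ (R := CommRingCat.of A) p a 
    (finite_app_of_le U q _ (IsAffineOpen.Spec_basicOpen (R := CommRingCat.of A) a) (basicOpen_le_puncturedSpec A a ha))
  obtain ⟨a₀, ha₀, ha₀'⟩ : ∃ a ∈ maximalIdeal A, a ≠ 0 := 
    Submodule.exists_mem_ne_zero_of_ne_bot (fun h => hA (IsLocalRing.isField_iff_maximalIdeal_eq.mpr h))
  obtain ⟨T, hT⟩ := IsNoetherian.noetherian (maximalIdeal A)
  choose F hF using hfin
  have hTm (t : A) (ht : t ∈ T) : t ∈ maximalIdeal A := by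
    rw [← hT]; exact Submodule.subset_span ht
  let G : Finset Γ(V, ⊤) := F a₀ ha₀ ∪ T.attach.biUnion fun t => F t.1 (hTm t.1 t.2)
  have := NormalHartogs.finite_of_hartogs (A := A) (FractionRing A) (insert a₀ (T : Set A)) a₀ (Set.mem_insert _ _) ha₀' ?_ (B := Γ(V, ⊤)) 
    (Submodule.span A (G : Set Γ(V, ⊤))) ⟨G, rfl⟩ ?_
  · exact this
  · intro x hx
    apply NormalHartogs.mem_range_of_forall_pow hdim x
    intro a ha
    rw [← hT] at ha
    let M : Submodule A (FractionRing A) := LinearMap.range (Algebra.linearMap A (FractionRing A))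
    let I : Ideal A := M.comap (LinearMap.toSpanSingleton A _ x)
    have hI (a : A) : a ∈ I ↔ a • x ∈ (algebraMap A (FractionRing A)).range := by
      simp only [I, M, Submodule.mem_comap, LinearMap.toSpanSingleton_apply]
      rfl
    have : Ideal.span (T : Set A) ≤ I.radical := by
      rw [Ideal.span_le]
      intro t ht
      obtain ⟨n, hn⟩ := hx t (Set.mem_insert_of_mem _ ht)
      exact ⟨n, by rw [hI, Algebra.smul_def, map_pow]; exact hn⟩
    obtain ⟨n, hn⟩ := this ha
    exact ⟨n, by rw [hI, Algebra.smul_def, map_pow] at hn; exact hn⟩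
  · rintro s (rfl | hs) b
    · obtain ⟨n, hn⟩ := hF s ha₀ b
      refine ⟨n, Submodule.span_mono ?_ hn⟩
      intro x hx
      exact Finset.mem_coe.mpr (Finset.mem_union_left _ hx)
    · obtain ⟨n, hn⟩ := hF s (hTm s hs) b
      refine ⟨n, Submodule.span_mono ?_ hn⟩
      intro x hx
      refine Finset.mem_coe.mpr (Finset.mem_union_right _ (Finset.mem_biUnion.mpr ⟨⟨s, hs⟩, Finset.mem_attach _ _, hx⟩))

end Groth.Agent.Pi1C.PuncturedNormal
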