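import Groth.Agent.Pi1C.HyperComplAlg
import Groth.Agent.Pi1C.PuncturedSections2
import Groth.Agent.Pi1C.PuncturedNormal
import Groth.Agent.Pi1C.IdemDescent
import Mathlib.AlgebraicGeometry.Pullbacks

/-!
# Idempotents of finite covers of the punctured spectrum: comparison with the completion

Geometric core of Stacks 0BLI.
-/

set_option autoImplicit false

universe u

open CategoryTheory CategoryTheory.Limits AlgebraicGeometry TopologicalSpace TensorProduct

namespace Groth.Agent.Pi1C.HyperCompl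

open Groth.Agent.Pi1C.PuncturedSections Groth.Agent.Pi1C.SectionsOverAffine
  Groth.Agent.Pi1C.PuncturedNormal Groth.Agent.Pi1C.DenseDescent Groth.Agent.Pi1C.IdemDescent
  Groth.Agent.Pi1C.HyperComplAlg

/-- Kernel of restriction of sections to the closed subscheme `f = 0`, up to powers of `a` where the part over `D(a)` is
affine. -/
theorem exists_pow_smul_eq {A : CommRingCat.{u}} (f : A) {Z Z₀ : Scheme.{u}}
    [CompactSpace Z] [QuasiSeparatedSpace Z] (z : Z ⟶ Spec A)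
    (i : Z₀ ⟶ Z) (z₀ : Z₀ ⟶ Spec (CommRingCat.of (A ⧸ Ideal.span {f})))
    (H : IsPullback i z₀ z (Spec.map (CommRingCat.ofHom (Ideal.Quotient.mk (Ideal.span {f})))))
    (a : A) (haff : IsAffineOpen (z ⁻¹ᵁ (PrimeSpectrum.basicOpen a)))
    (x : Γ(Z, ⊤)) (hx : i.appTop x = 0) :
    ∃ (k : ℕ) (y : Γ(Z, ⊤)), (toΓ z a) ^ k * x = toΓ z f * y := by
  let W : Z.Opens := z ⁻¹ᵁ (PrimeSpectrum.basicOpen a)
  have e1 : (⊤ : (Spec (CommRingCat.of (A ⧸ Ideal.span {f}))).Opens) ≤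
    Spec.map (CommRingCat.ofHom (Ideal.Quotient.mk (Ideal.span {f}))) ⁻¹ᵁ (⊤ : (Spec A).Opens) := fun _ _ => trivial
  have e2 : W ≤ z ⁻¹ᵁ (⊤ : (Spec A).Opens) := fun _ _ => trivial
  have e3 : i ⁻¹ᵁ W = i ⁻¹ᵁ W ⊓ z₀ ⁻¹ᵁ (⊤ : (Spec (CommRingCat.of (A ⧸ Ideal.span {f}))).Opens) := by
    ext x; simp
  have h1 := isIso_pushoutSection_of_isAffineOpen H (US := ⊤) (UT := ⊤)
    (UX := W) (UY := i ⁻¹ᵁ W) e1 e2 e3 (isAffineOpen_top _) (isAffineOpen_top _) haff
  have h2 := (isIso_pushoutSection_iff ..).mp h1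
  -- the quotient `Γ(Z, W) / f`
  let B := Γ(Z, W)
  let fB : B := z.appLE ⊤ W e2 ((Scheme.ΓSpecIso A).inv f)
  let q : B ⟶ CommRingCat.of (B ⧸ Ideal.span {fB}) := CommRingCat.ofHom (Ideal.Quotient.mk _)
  let r : A ⟶ CommRingCat.of (B ⧸ Ideal.span {fB}) := (Scheme.ΓSpecIso A).inv ≫ z.appLE ⊤ W e2 ≫ q
  have hr : r f = 0 := by
    change Ideal.Quotient.mk _ fB = 0
    rw [Ideal.Quotient.eq_zero_iff_mem]
    exact Ideal.mem_span_singleton_self _
  let r' : CommRingCat.of (A ⧸ Ideal.span {f}) ⟶ CommRingCat.of (B ⧸ Ideal.span {fB}) :=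
    CommRingCat.ofHom (Ideal.Quotient.lift _ r.hom (fun y hy => by
      obtain ⟨c, rfl⟩ := Ideal.mem_span_singleton'.1 hy
      rw [map_mul]
      have : r.hom f = 0 := hr
      rw [this, mul_zero]))
  have hrr' : CommRingCat.ofHom (Ideal.Quotient.mk (Ideal.span {f})) ≫ r' = r := by
    ext x
    rfl
  let s : Γ(Spec (CommRingCat.of (A ⧸ Ideal.span {f})), ⊤) ⟶ CommRingCat.of (B ⧸ Ideal.span {fB}) :=
    (Scheme.ΓSpecIso (CommRingCat.of (A ⧸ Ideal.span {f}))).hom ≫ r'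
  have hcomm : z.appLE ⊤ W e2 ≫ q =
      (Spec.map (CommRingCat.ofHom (Ideal.Quotient.mk (Ideal.span {f})))).appLE ⊤ ⊤ e1 ≫ s := by
    rw [appLE_top]
    simp only [s]
    rw [Scheme.ΓSpecIso_naturality_assoc, hrr']
    exact (Iso.hom_inv_id_assoc (Scheme.ΓSpecIso A) _).symm
  have h3 : i.appLE W (i ⁻¹ᵁ W) (by simp) ≫ h2.desc q s hcomm = q := h2.inl_desc _ _ _
  have h4 : q (Z.presheaf.map (homOfLE (le_top : W ≤ ⊤)).op x) = 0 := by
    rw [← h3]
    rw [CommRingCat.comp_apply]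
    have h5 : i.appLE W (i ⁻¹ᵁ W) (by simp) (Z.presheaf.map (homOfLE (le_top : W ≤ ⊤)).op x) = 0 := by
      have h6 : Z.presheaf.map (homOfLE (le_top : W ≤ ⊤)).op ≫ i.appLE W (i ⁻¹ᵁ W) (by simp) =
          i.appTop ≫ Z₀.presheaf.map (homOfLE (le_top : i ⁻¹ᵁ W ≤ ⊤)).op := by
        rw [Scheme.Hom.map_appLE]
        rw [Scheme.Hom.appLE]
        rfl
      have h7 := congr($h6 x)
      rw [CommRingCat.comp_apply, CommRingCat.comp_apply, hx, map_zero] at h7
      exact h7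
    rw [h5, map_zero]
  have h5 : Z.presheaf.map (homOfLE (le_top : W ≤ ⊤)).op x ∈ Ideal.span {fB} :=
    Ideal.Quotient.eq_zero_iff_mem.1 h4
  obtain ⟨y, hy⟩ := Ideal.mem_span_singleton'.1 h5
  -- now clear denominators
  let _ : Algebra Γ(Z, ⊤) B := (Z.presheaf.map (homOfLE (le_top : W ≤ ⊤)).op).hom.toAlgebra
  have hloc : IsLocalization.Away (toΓ z a) B := isLocalization_toΓ z a
  obtain ⟨⟨y₁, ⟨_, k, rfl⟩⟩, hy₁⟩ := IsLocalization.surj (Submonoid.powers (toΓ z a)) y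
  have hfB : fB = algebraMap Γ(Z, ⊤) B (toΓ z f) := by
    change z.appLE ⊤ W e2 ((Scheme.ΓSpecIso A).inv f) = Z.presheaf.map (homOfLE (le_top : W ≤ ⊤)).op (z.appTop ((Scheme.ΓSpecIso A).inv f))
    rw [Scheme.Hom.appLE]
    rfl
  have h6 : algebraMap Γ(Z, ⊤) B ((toΓ z a) ^ k * x) = algebraMap Γ(Z, ⊤) B (toΓ z f * y₁) := by
    rw [map_mul, map_mul, ← hy₁, ← hfB]
    have : algebraMap Γ(Z, ⊤) B x = y * fB := hy.symm
    rw [this]
    ring
  obtain ⟨⟨_, l, rfl⟩, hl⟩ := (IsLocalization.eq_iff_exists (Submonoid.powers (toΓ z a)) B).1 h6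
  refine ⟨l + k, (toΓ z a) ^ l * y₁, ?_⟩
  have hl' : (toΓ z a) ^ l * ((toΓ z a) ^ k * x) = (toΓ z a) ^ l * (toΓ z f * y₁) := hl
  rw [pow_add, mul_assoc, hl']
  ring

/-- **Geometric core of 0BLI.** -/
theorem core (A A' : Type u) [CommRing A] [IsNoetherianRing A] [IsLocalRing A] [CommRing A'] [Algebra A A']
    [Module.FaithfullyFlat A A'] (hd : DenseDescent.Dense (IsLocalRing.maximalIdeal A) A') (f : A)
    (hlift : ∀ (C : Type u) [CommRing C] [Algebra A C], Module.Finite A C → ∀ e : C,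
      e * e - e ∈ Ideal.span {algebraMap A C f} →
      ∃ e' : C, IsIdempotentElem e' ∧ e' - e ∈ Ideal.span {algebraMap A C f})
    {V V₀ V' V₀' : Scheme.{u}} (v : V ⟶ FEt.puncturedSpec A) [IsFinite v]
    (i : V₀ ⟶ V) (v₀ : V₀ ⟶ Spec (CommRingCat.of (A ⧸ Ideal.span {f})))
    (H₀ : IsPullback i v₀ (v ≫ (FEt.puncturedSpec A).ι)
      (Spec.map (CommRingCat.ofHom (Ideal.Quotient.mk (Ideal.span {f})))))
    (p : V' ⟶ V) (v' : V' ⟶ Spec (CommRingCat.of A'))
    (H' : IsPullback p v' (v ≫ (FEt.puncturedSpec A).ι) (Spec.map (CommRingCat.ofHom (algebraMap A A'))))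
    (i' : V₀' ⟶ V') (p₀ : V₀' ⟶ V₀) (w : IsPullback p₀ i' i p)
    (h1 : ∀ e : Γ(V', ⊤), e * e = e → i'.appTop e = 0 → e = 0)
    (h2 : ∀ e : Γ(V₀', ⊤), e * e = e → ∃ e' : Γ(V', ⊤), e' * e' = e' ∧ i'.appTop e' = e) :
    (∀ e : Γ(V, ⊤), e * e = e → i.appTop e = 0 → e = 0) ∧
    (∀ e : Γ(V₀, ⊤), e * e = e → ∃ e' : Γ(V, ⊤), e' * e' = e' ∧ i.appTop e' = e) := by
  let z := v ≫ (FEt.puncturedSpec A).ι
  let α : CommRingCat.of A ⟶ CommRingCat.of A' := CommRingCat.ofHom (algebraMap A A')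
  have hflat : Flat (Spec.map α) := by
    rw [Flat.SpecMap_iff]
    exact RingHom.flat_algebraMap_iff.mpr inferInstance
  have hVc : CompactSpace V := QuasiCompact.compactSpace_of_compactSpace v
  have hVq : QuasiSeparatedSpace V := quasiSeparatedSpace_of_quasiSeparated v
  have hicl : IsClosedImmersion i := MorphismProperty.of_isPullback H₀.flip (by
    exact IsClosedImmersion.spec_of_surjective _ Ideal.Quotient.mk_surjective)
  have hV₀c : CompactSpace V₀ := QuasiCompact.compactSpace_of_compactSpace i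
  have hV₀q : QuasiSeparatedSpace V₀ := quasiSeparatedSpace_of_quasiSeparated i
  have hpo : IsPushout ((Scheme.ΓSpecIso _).inv ≫ z.appTop) α p.appTop
      ((Scheme.ΓSpecIso _).inv ≫ v'.appTop) := isPushout_sections α z p v' H'
  have hpo₀ : IsPushout ((Scheme.ΓSpecIso _).inv ≫ (i ≫ z).appTop) α p₀.appTop
      ((Scheme.ΓSpecIso _).inv ≫ (i' ≫ v').appTop) :=
    isPushout_sections α (i ≫ z) p₀ (i' ≫ v') (w.paste_vert H')
  -- algebra structures
  let N := Γ(V, ⊤)
  let N₀ := Γ(V₀, ⊤)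
  let N' := Γ(V', ⊤)
  let N₀' := Γ(V₀', ⊤)
  let γ : CommRingCat.of A ⟶ N := (Scheme.ΓSpecIso _).inv ≫ z.appTop
  let γ₀ : CommRingCat.of A ⟶ N₀ := (Scheme.ΓSpecIso _).inv ≫ (i ≫ z).appTop
  let γ' : CommRingCat.of A' ⟶ N' := (Scheme.ΓSpecIso _).inv ≫ v'.appTop
  let γ₀' : CommRingCat.of A' ⟶ N₀' := (Scheme.ΓSpecIso _).inv ≫ (i' ≫ v').appTop
  let _ : Algebra A N := γ.hom.toAlgebra
  let _ : Algebra A N₀ := γ₀.hom.toAlgebra
  let _ : Algebra A' N' := γ'.hom.toAlgebra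
  let _ : Algebra A' N₀' := γ₀'.hom.toAlgebra
  let _ : Algebra N N' := p.appTop.hom.toAlgebra
  let _ : Algebra N₀ N₀' := p₀.appTop.hom.toAlgebra
  let _ : Algebra A N' := (α ≫ γ').hom.toAlgebra
  let _ : Algebra A N₀' := (α ≫ γ₀').hom.toAlgebra
  have _ : IsScalarTower A A' N' := .of_algebraMap_eq (fun _ => rfl)
  have _ : IsScalarTower A A' N₀' := .of_algebraMap_eq (fun _ => rfl)
  have _ : IsScalarTower A N N' := .of_algebraMap_eq (fun x => congr($(hpo.w.symm) x))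
  have _ : IsScalarTower A N₀ N₀' := .of_algebraMap_eq (fun x => congr($(hpo₀.w.symm) x))
  have _ : Algebra.IsPushout A A' N N' := by
    rw [← CommRingCat.isPushout_iff_isPushout]
    exact hpo.flip
  have _ : Algebra.IsPushout A A' N₀ N₀' := by
    rw [← CommRingCat.isPushout_iff_isPushout]
    exact hpo₀.flip
  let E : A' ⊗[A] N ≃ₐ[A'] N' := Algebra.IsPushout.equiv A A' N N'
  let E₀ : A' ⊗[A] N₀ ≃ₐ[A'] N₀' := Algebra.IsPushout.equiv A A' N₀ N₀'
  have hγ : γ ≫ i.appTop = γ₀ := by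
    simp only [γ, γ₀, Category.assoc, Scheme.Hom.comp_appTop]
  let φ : N →ₐ[A] N₀ := { i.appTop.hom with commutes' := fun x => congr($hγ x) }
  have hφ : ∀ x, φ x = i.appTop x := fun _ => rfl
  have hnat : ∀ t : A' ⊗[A] N, i'.appTop (E t) = E₀ (Algebra.TensorProduct.map (AlgHom.id A' A') φ t) := by
    intro t
    induction t with
    | zero => simp
    | tmul x n =>
      rw [Algebra.TensorProduct.map_tmul]
      simp only [E, E₀, Algebra.IsPushout.equiv_tmul, map_mul]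
      refine congrArg₂ (· * ·) ?_ ?_
      · change i'.appTop (v'.appTop ((Scheme.ΓSpecIso _).inv x)) = (i' ≫ v').appTop ((Scheme.ΓSpecIso _).inv x)
        rw [Scheme.Hom.comp_appTop]; rfl
      · change i'.appTop (p.appTop n) = p₀.appTop (i.appTop n)
        have h := congr(($(w.w)).appTop n)
        rw [Scheme.Hom.comp_appTop, Scheme.Hom.comp_appTop] at h
        exact h.symm
    | add x y hx hy => rw [map_add, map_add, map_add, map_add, hx, hy]
  have hinj : Function.Injective (fun n : N => (1 : A') ⊗ₜ[A] n) :=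
    Module.FaithfullyFlat.tensorProduct_mk_injective (A := A) (B := A') N
  refine ⟨?_, ?_⟩
  · intro e he h0
    have h3 : p.appTop e = 0 := by
      apply h1
      · rw [← map_mul, he]
      · have h := congr(($(w.w)).appTop e)
        rw [Scheme.Hom.comp_appTop, Scheme.Hom.comp_appTop, CommRingCat.comp_apply, CommRingCat.comp_apply, h0,
          map_zero] at h
        exact h.symm
    have h4 : E ((1 : A') ⊗ₜ[A] (e : N)) = 0 := by
      simp only [E, Algebra.IsPushout.equiv_tmul, map_one, one_mul]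
      exact h3
    have h5 : (1 : A') ⊗ₜ[A] (e : N) = 0 := by
      apply E.injective; rw [h4, map_zero]
    have h6 : (fun n : N => (1 : A') ⊗ₜ[A] n) e = (fun n : N => (1 : A') ⊗ₜ[A] n) 0 := by
      simpa using h5
    exact hinj h6
  · intro e₀ he₀
    obtain ⟨e₁, he₁, he₁'⟩ := h2 (p₀.appTop e₀) (by rw [← map_mul, he₀])
    have hfin : ∀ a ∈ IsLocalRing.maximalIdeal A, ∃ F : Finset N, ∀ b : N, ∃ n : ℕ,
        a ^ n • b ∈ Submodule.span A (F : Set N) := fun a ha =>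
      exists_finset_span_Γ (R := CommRingCat.of A) z a
        (finite_app_of_le (FEt.puncturedSpec A) v _ (IsAffineOpen.Spec_basicOpen (R := CommRingCat.of A) a)
          (basicOpen_le_puncturedSpec A a ha))
    obtain ⟨C₀, hC₀, hC₀'⟩ := exists_finite_subalgebra (IsLocalRing.maximalIdeal A) hfin
    have hf₀ : algebraMap A N₀ f = 0 := by
      have h3 : γ₀ f = 0 := by
        have h4 : i ≫ z = v₀ ≫ Spec.map (CommRingCat.ofHom (Ideal.Quotient.mk (Ideal.span {f}))) := H₀.w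
        simp only [γ₀]
        rw [h4, Scheme.Hom.comp_appTop]
        have h5 : (Scheme.ΓSpecIso (CommRingCat.of A)).inv ≫
            (Spec.map (CommRingCat.ofHom (Ideal.Quotient.mk (Ideal.span {f})))).appTop =
            CommRingCat.ofHom (Ideal.Quotient.mk (Ideal.span {f})) ≫
              (Scheme.ΓSpecIso (CommRingCat.of (A ⧸ Ideal.span {f}))).inv := by
          exact (Scheme.ΓSpecIso_inv_naturality _).symm
        rw [reassoc_of% h5]
        have h6 : (CommRingCat.ofHom (Ideal.Quotient.mk (Ideal.span {f}))) f = 0 :=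
          Ideal.Quotient.eq_zero_iff_mem.2 (Ideal.mem_span_singleton_self f)
        rw [CommRingCat.comp_apply, h6, map_zero]
      exact h3
    obtain ⟨e, he, he'⟩ := exists_idempotent f hd φ (fun C hC => hlift C hC) C₀ hC₀ hC₀' hf₀ (by
      intro x hx g hg
      obtain ⟨k, y, hy⟩ := exists_pow_smul_eq (A := CommRingCat.of A) f z i v₀ H₀ g (by
        have h3 := (IsAffineOpen.Spec_basicOpen (R := CommRingCat.of A) g).preimage_of_isOpenImmersion
          (FEt.puncturedSpec A).ι (by simp only [Scheme.Opens.opensRange_ι]; exact basicOpen_le_puncturedSpec A g hg)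
        exact h3.preimage v) x hx
      refine ⟨k, y, ?_⟩
      rw [Algebra.smul_def, Algebra.smul_def, map_pow]
      exact hy) (E.symm e₁) (by
      unfold IsIdempotentElem
      rw [← map_mul, he₁]) e₀ he₀ (by
      apply E₀.injective
      rw [← hnat, AlgEquiv.apply_symm_apply, he₁']
      simp only [E₀, Algebra.IsPushout.equiv_tmul, map_one, one_mul]
      rfl)
    exact ⟨e, he, he'⟩

end Groth.Agent.Pi1C.HyperCompl
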