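import Mathlib.RingTheory.Finiteness.Ideal
import Mathlib.RingTheory.Noetherian.Basic
import Mathlib.RingTheory.LocalRing.MaximalIdeal.Basic
import Mathlib.Algebra.Algebra.Subalgebra.Pointwise
import Mathlib.Algebra.Algebra.Operations

/-!
# A finite subalgebra with `m`-power torsion cokernel
-/

set_option autoImplicit false

namespace Groth.Agent.Pi1C.HyperComplAlg

open Pointwise

universe u v


/-- If `N` is, up to powers of each `a ∈ I`, a finite module, then there is a finite subalgebra `C₀` of
`N` such that `N/C₀` is `I`-power torsion. -/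
theorem exists_finite_subalgebra {A : Type u} [CommRing A] [IsNoetherianRing A] (I : Ideal A)
    {N : Type v} [CommRing N] [Algebra A N]
    (h : ∀ a ∈ I, ∃ F : Finset N, ∀ b : N, ∃ n : ℕ, a ^ n • b ∈ Submodule.span A (F : Set N)) :
    ∃ C₀ : Subalgebra A N, Module.Finite A C₀ ∧ ∀ n : N, ∃ k : ℕ, ∀ a ∈ I ^ k, a • n ∈ C₀ := by
  classical
  obtain ⟨T, hT⟩ := IsNoetherian.noetherian I
  have hTI : ∀ t ∈ T, t ∈ I := fun t ht => by rw [← hT]; exact Submodule.subset_span ht
  choose! F hF using h
  let G : Finset N := T.biUnion F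
  let M : Submodule A N := Submodule.span A (G : Set N)
  have hMfg : M.FG := ⟨G, rfl⟩
  have hM : ∀ b : N, ∃ k : ℕ, ∀ a ∈ I ^ k, a • b ∈ M := by
    intro b
    let J : Ideal A := M.comap (LinearMap.toSpanSingleton A N b)
    have hJ : ∀ a, a ∈ J ↔ a • b ∈ M := fun a => Iff.rfl
    have h1 : I ≤ J.radical := by
      rw [← hT, Submodule.span_le]
      intro t ht
      obtain ⟨n, hn⟩ := hF t (hTI t ht) b
      refine ⟨n, (hJ _).2 (Submodule.span_mono ?_ hn)⟩
      intro x hx
      exact Finset.mem_coe.2 (Finset.mem_biUnion.2 ⟨t, ht, hx⟩)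
    obtain ⟨n, hn⟩ := Ideal.exists_pow_le_of_le_radical_of_fg h1 (IsNoetherian.noetherian I)
    exact ⟨n, fun a ha => (hJ a).1 (hn ha)⟩
  choose k hk using hM
  let K : ℕ := (G ×ˢ G).sup (fun p => k (p.1 * p.2))
  have hK : ∀ a ∈ I ^ K, ∀ z ∈ M * M, a • z ∈ M := by
    intro a ha z hz
    have h1 : M * M = Submodule.span A ((G : Set N) * (G : Set N)) := by
      simp only [M]
      rw [Submodule.span_mul_span]
    rw [h1] at hz
    induction hz using Submodule.span_induction with
    | mem z hz =>
      obtain ⟨x, hx, y, hy, rfl⟩ := hz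
      refine hk (x * y) a (Ideal.pow_le_pow_right ?_ ha)
      exact Finset.le_sup (f := fun p : N × N => k (p.1 * p.2)) (b := (x, y))
        (Finset.mem_product.2 ⟨hx, hy⟩)
    | zero => simp
    | add x y _ _ hx hy => rw [smul_add]; exact M.add_mem hx hy
    | smul c x _ hx => rw [smul_comm]; exact M.smul_mem c hx
  let S : Submodule A N := (I ^ K) • M
  have hSM : S ≤ M := Submodule.smul_le_right
  have hSfg : S.FG := Submodule.FG.smul (IsNoetherian.noetherian _) hMfg
  have hSS : ∀ x ∈ S, ∀ y ∈ S, x * y ∈ S := by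
    intro x hx y hy
    refine Submodule.smul_induction_on hx ?_ ?_
    · intro a ha z hz
      refine Submodule.smul_induction_on hy ?_ ?_
      · intro b hb w hw
        rw [smul_mul_smul_comm, mul_smul]
        exact Submodule.smul_mem_smul ha (hK b hb _ (Submodule.mul_mem_mul hz hw))
      · intro y y' hy hy'
        rw [mul_add]; exact S.add_mem hy hy'
    · intro x x' hx hx'
      rw [add_mul]; exact S.add_mem hx hx'
  let C₀ : Subalgebra A N := Submodule.toSubalgebra ((1 : Submodule A N) ⊔ S)
    (Submodule.mem_sup_left (Submodule.mem_one.2 ⟨1, map_one _⟩)) (by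
      intro x y hx hy
      obtain ⟨x₁, hx₁, x₂, hx₂, rfl⟩ := Submodule.mem_sup.1 hx
      obtain ⟨y₁, hy₁, y₂, hy₂, rfl⟩ := Submodule.mem_sup.1 hy
      obtain ⟨a, rfl⟩ := Submodule.mem_one.1 hx₁
      obtain ⟨b, rfl⟩ := Submodule.mem_one.1 hy₁
      have : (algebraMap A N a + x₂) * (algebraMap A N b + y₂) =
          algebraMap A N (a * b) + (a • y₂ + b • x₂ + x₂ * y₂) := by
        rw [Algebra.smul_def, Algebra.smul_def, map_mul]; ring
      rw [this]
      exact Submodule.add_mem _ (Submodule.mem_sup_left (Submodule.mem_one.2 ⟨_, rfl⟩))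
        (Submodule.mem_sup_right (S.add_mem (S.add_mem (S.smul_mem _ hy₂) (S.smul_mem _ hx₂))
          (hSS _ hx₂ _ hy₂))))
  have hC₀ : Subalgebra.toSubmodule C₀ = (1 : Submodule A N) ⊔ S := rfl
  refine ⟨C₀, ?_, ?_⟩
  · change Module.Finite A (Subalgebra.toSubmodule C₀)
    rw [Module.Finite.iff_fg, hC₀]
    refine Submodule.FG.sup ?_ hSfg
    rw [Submodule.one_eq_span]
    exact Submodule.fg_span_singleton _
  · intro b
    refine ⟨K + k b, fun a ha => ?_⟩
    have h1 : ∀ a ∈ I ^ (K + k b), a • b ∈ S := by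
      intro a ha
      rw [pow_add] at ha
      refine Submodule.mul_induction_on ha ?_ ?_
      · intro a ha a' ha'
        rw [mul_smul]
        exact Submodule.smul_mem_smul ha (hk b a' ha')
      · intro x y hx hy
        rw [add_smul]; exact S.add_mem hx hy
    exact Submodule.mem_sup_right (h1 a ha)

end Groth.Agent.Pi1C.HyperComplAlg
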