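import Groth.Prelude.Def_FEt
import Mathlib.AlgebraicGeometry.QuasiAffine
import Mathlib.AlgebraicGeometry.Morphisms.Flat
import Mathlib.RingTheory.Localization.Finiteness
import Mathlib.RingTheory.Flat.TorsionFree
import Mathlib.RingTheory.Flat.Localization

set_option autoImplicit false
universe u

open AlgebraicGeometry CategoryTheory CategoryTheory.Limits

namespace Groth.Agent.Pi1C.SectionsOverAffine

section Algebra

lemma exists_finset_span {A B Aₐ Bₐ : Type*} [CommRing A] [CommRing B] [CommRing Aₐ] [CommRing Bₐ]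
    [Algebra A B] [Algebra A Aₐ] [Algebra Aₐ Bₐ] [Algebra B Bₐ] [Algebra A Bₐ] [IsScalarTower A B Bₐ]
    [IsScalarTower A Aₐ Bₐ] (a : A) [IsLocalization.Away a Aₐ] [IsLocalization.Away (algebraMap A B a) Bₐ]
    [Module.Finite Aₐ Bₐ] : ∃ F : Finset B, ∀ b : B, ∃ n : ℕ, a ^ n • b ∈ Submodule.span A (F : Set B) := by
  classical
  let f : B →ₗ[A] Bₐ := (Algebra.linearMap B Bₐ).restrictScalars A
  have hf : IsLocalizedModule (Submonoid.powers a) f := by
    have h1 : IsLocalization (Algebra.algebraMapSubmonoid B (Submonoid.powers a)) Bₐ := by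
      rw [Algebra.algebraMapSubmonoid, Submonoid.map_powers]
      assumption
    exact (isLocalizedModule_iff_isLocalization (S := Submonoid.powers a) (Aₛ := Bₐ)).mpr h1
  obtain ⟨s, hs⟩ := (inferInstance : Module.Finite Aₐ Bₐ)
  refine ⟨IsLocalizedModule.finsetIntegerMultiple (Submonoid.powers a) f s, fun b => ?_⟩
  obtain ⟨⟨_, n₁, rfl⟩, hn₁⟩ := multiple_mem_span_of_mem_localization_span (Submonoid.powers a) Aₐ
    (s : Set Bₐ) (f b) (by rw [hs]; trivial)
  rw [Submonoid.smul_def] at hn₁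
  change a ^ n₁ • f b ∈ _ at hn₁
  rw [← map_smul] at hn₁
  obtain ⟨⟨_, n₂, rfl⟩, hn₂⟩ := IsLocalizedModule.smul_mem_finsetIntegerMultiple_span
    (Submonoid.powers a) f _ s hn₁
  rw [Submonoid.smul_def] at hn₂
  refine ⟨n₂ + n₁, ?_⟩
  rw [pow_add, mul_smul]
  exact hn₂

lemma map_eq_zero_of_flat {A B Aₐ Bₐ : Type*} [CommRing A] [IsDomain A] [CommRing B] [CommRing Aₐ] [CommRing Bₐ]
    [Algebra A B] [Algebra A Aₐ] [Algebra Aₐ Bₐ] [Algebra B Bₐ] [Algebra A Bₐ] [IsScalarTower A B Bₐ]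
    [IsScalarTower A Aₐ Bₐ] (a : A) [IsLocalization.Away a Aₐ] 
    [Module.Flat Aₐ Bₐ] (c : A) (hc : c ≠ 0) (b : B) (h : algebraMap A B c * b = 0) : algebraMap B Bₐ b = 0 := by
  have : Module.Flat A Aₐ := IsLocalization.flat Aₐ (Submonoid.powers a)
  have : Module.Flat A Bₐ := Module.Flat.trans A Aₐ Bₐ
  have h1 : c • algebraMap B Bₐ b = 0 := by
    rw [Algebra.smul_def, IsScalarTower.algebraMap_apply A B Bₐ, ← map_mul, h, map_zero]
  exact (smul_eq_zero_iff_right hc).mp h1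

end Algebra

variable {R : CommRingCat.{u}} {Z : Scheme.{u}} (p : Z ⟶ Spec R)

/-- The ring map from `R` to the global sections of a scheme over `Spec R`. -/
noncomputable abbrev toΓ : R →+* Γ(Z, ⊤) :=
  (p.appTop).hom.comp (Scheme.ΓSpecIso R).inv.hom

lemma basicOpen_toΓ (a : R) :
    Z.basicOpen (toΓ p a) = p ⁻¹ᵁ (PrimeSpectrum.basicOpen a) := by
  have := Scheme.preimage_basicOpen_top p ((Scheme.ΓSpecIso R).inv.hom a)
  rw [basicOpen_eq_of_affine] at this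
  rw [toΓ, RingHom.comp_apply, ← this]


lemma isLocalization_toΓ [CompactSpace Z] [QuasiSeparatedSpace Z] (a : R) :
    @IsLocalization.Away _ _ (toΓ p a) Γ(Z, p ⁻¹ᵁ (PrimeSpectrum.basicOpen a)) _
      ((Z.presheaf.map (homOfLE le_top).op).hom.toAlgebra) := by
  have := isLocalization_basicOpen_of_qcqs (X := Z) (U := ⊤) isCompact_univ isQuasiSeparated_univ (toΓ p a)
  have h (V : Z.Opens) (h : Z.basicOpen (toΓ p a) = V) : @IsLocalization.Away _ _ (toΓ p a) Γ(Z, V) _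
      ((Z.presheaf.map (homOfLE le_top).op).hom.toAlgebra) := by
    subst h
    exact this
  exact h _ (basicOpen_toΓ p a)

lemma toΓ_map_eq (a : R) (x : R) : Z.presheaf.map (homOfLE le_top).op (toΓ p x) =
    p.app (PrimeSpectrum.basicOpen a) (algebraMap R Γ(Spec R, PrimeSpectrum.basicOpen a) x) := by
  rw [IsAffineOpen.algebraMap_Spec_obj]
  change Z.presheaf.map (homOfLE le_top).op (p.app ⊤ _) = p.app _ ((Spec R).presheaf.map _ _)
  exact (NatTrans.naturality_apply p.c (homOfLE (le_top : PrimeSpectrum.basicOpen a ≤ ⊤)).op _).symm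

/-- For `Z` qcqs over `Spec R` such that `Z` is finite over `D(a)`, the global sections of `Z` are up to
multiplication by a power of `a` finitely generated. -/
lemma exists_finset_span_Γ [CompactSpace Z] [QuasiSeparatedSpace Z] (a : R)
    (h : (p.app (PrimeSpectrum.basicOpen a)).hom.Finite) :
    letI := (toΓ p).toAlgebra
    ∃ F : Finset Γ(Z, ⊤), ∀ b : Γ(Z, ⊤), ∃ n : ℕ, a ^ n • b ∈ Submodule.span R (F : Set Γ(Z, ⊤)) := by
  let _ := (toΓ p).toAlgebra
  let Bₐ := Γ(Z, p ⁻¹ᵁ (PrimeSpectrum.basicOpen a))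
  let _ : Algebra Γ(Spec R, PrimeSpectrum.basicOpen a) Bₐ := (p.app (PrimeSpectrum.basicOpen a)).hom.toAlgebra
  let _ : Algebra Γ(Z, ⊤) Bₐ := (Z.presheaf.map (homOfLE le_top).op).hom.toAlgebra
  let _ : Algebra R Bₐ := ((algebraMap Γ(Spec R, PrimeSpectrum.basicOpen a) Bₐ).comp (algebraMap R _)).toAlgebra
  have : IsScalarTower R Γ(Spec R, PrimeSpectrum.basicOpen a) Bₐ := .of_algebraMap_eq fun _ => rfl
  have : IsScalarTower R Γ(Z, ⊤) Bₐ := .of_algebraMap_eq fun x => (toΓ_map_eq p a x).symm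
  have : IsLocalization.Away (algebraMap R Γ(Z, ⊤) a) Bₐ := isLocalization_toΓ p a
  have : Module.Finite Γ(Spec R, PrimeSpectrum.basicOpen a) Bₐ := h
  exact exists_finset_span (Aₐ := Γ(Spec R, PrimeSpectrum.basicOpen a)) (Bₐ := Bₐ) a

lemma map_eq_zero_of_toΓ_mul_eq_zero [IsDomain R] (a : R)
    (h : (p.app (PrimeSpectrum.basicOpen a)).hom.Flat) (c : R) (hc : c ≠ 0) (b : Γ(Z, ⊤))
    (hb : toΓ p c * b = 0) : 
    Z.presheaf.map (homOfLE (le_top : p ⁻¹ᵁ (PrimeSpectrum.basicOpen a) ≤ ⊤)).op b = 0 := by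
  let _ := (toΓ p).toAlgebra
  let Bₐ := Γ(Z, p ⁻¹ᵁ (PrimeSpectrum.basicOpen a))
  let _ : Algebra Γ(Spec R, PrimeSpectrum.basicOpen a) Bₐ := (p.app (PrimeSpectrum.basicOpen a)).hom.toAlgebra
  let _ : Algebra Γ(Z, ⊤) Bₐ := (Z.presheaf.map (homOfLE le_top).op).hom.toAlgebra
  let _ : Algebra R Bₐ := ((algebraMap Γ(Spec R, PrimeSpectrum.basicOpen a) Bₐ).comp (algebraMap R _)).toAlgebra
  have : IsScalarTower R Γ(Spec R, PrimeSpectrum.basicOpen a) Bₐ := .of_algebraMap_eq fun _ => rfl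
  have : IsScalarTower R Γ(Z, ⊤) Bₐ := .of_algebraMap_eq fun x => (toΓ_map_eq p a x).symm
  have : Module.Flat Γ(Spec R, PrimeSpectrum.basicOpen a) Bₐ := h
  exact map_eq_zero_of_flat (Aₐ := Γ(Spec R, PrimeSpectrum.basicOpen a)) (Bₐ := Bₐ) a c hc b hb

/-- torsion freeness of global sections of schemes over an open of a domain. -/
lemma eq_zero_of_toΓ_mul_eq_zero [IsDomain R] (S : Set R) 
    (hS : ∀ z : Z, ∃ a ∈ S, z ∈ p ⁻¹ᵁ (PrimeSpectrum.basicOpen a))
    (h : ∀ a ∈ S, (p.app (PrimeSpectrum.basicOpen a)).hom.Flat) (c : R) (hc : c ≠ 0) (b : Γ(Z, ⊤))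
    (hb : toΓ p c * b = 0) : b = 0 := by
  refine TopCat.Sheaf.eq_of_locally_eq' Z.sheaf (fun a : S => p ⁻¹ᵁ (PrimeSpectrum.basicOpen a.1)) ⊤
    (fun a => homOfLE le_top) ?_ b 0 ?_
  · intro z _
    obtain ⟨a, ha, hz⟩ := hS z
    exact TopologicalSpace.Opens.mem_iSup.mpr ⟨⟨a, ha⟩, hz⟩
  · intro a
    have := map_eq_zero_of_toΓ_mul_eq_zero p a.1 (h a.1 a.2) c hc b hb
    exact this.trans (map_zero _).symm

end Groth.Agent.Pi1C.SectionsOverAffine
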