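import Groth.Agent.Pi1C.ClopenExtend
import Groth.Agent.Pi1C.PuncturedSections2
import Groth.Agent.Pi1C.SectionsOverAffine
import Mathlib.RingTheory.Spectrum.Prime.Topology

/-!
# Idempotent sections over the preimage of an open subscheme

`exists_tmul_one_eq`: `A → S` flat, `U ⊆ Spec A` quasi-compact open, `O = Γ(U)`. If for each `q ∈ Spec S` not over
`U` the set of generizations of `q` over `U` is connected, then every idempotent of `S ⊗[A] O` comes from `S`.
-/

set_option autoImplicit false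

universe u

open AlgebraicGeometry CategoryTheory CategoryTheory.Limits TopologicalSpace TensorProduct

namespace Groth.Agent.Pi1C.IdemGeom

open Groth.Agent.Pi1C.SectionsOverAffine

theorem eq_zero_or_one {B : Type*} [CommRing B] [IsLocalRing B] (e : B) (he : IsIdempotentElem e) :
    e = 0 ∨ e = 1 := by
  have h : e * (1 - e) = 0 := by rw [mul_sub, mul_one, he.eq, sub_self]
  rcases IsLocalRing.isUnit_or_isUnit_one_sub_self e with h1 | h1
  · right
    exact (sub_eq_zero.mp ((h1.mul_right_eq_zero).mp h)).symm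
  · left
    exact (h1.mul_left_eq_zero).mp h

/-- Idempotent global sections with the same basic open are equal. -/
theorem eq_of_basicOpen_eq {X : Scheme.{u}} (e f : Γ(X, ⊤)) (he : IsIdempotentElem e)
    (hf : IsIdempotentElem f) (h : X.basicOpen e = X.basicOpen f) : e = f := by
  apply TopCat.Presheaf.section_ext X.sheaf ⊤
  intro x hx
  change X.presheaf.germ ⊤ x hx e = X.presheaf.germ ⊤ x hx f
  have h1 : IsUnit (X.presheaf.germ ⊤ x hx e) ↔ IsUnit (X.presheaf.germ ⊤ x hx f) := by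
    rw [← X.mem_basicOpen, ← X.mem_basicOpen, h]
  have he' := eq_zero_or_one _ (he.map (X.presheaf.germ ⊤ x hx).hom)
  have hf' := eq_zero_or_one _ (hf.map (X.presheaf.germ ⊤ x hx).hom)
  rcases he' with he' | he' <;> rcases hf' with hf' | hf'
  · exact he'.trans hf'.symm
  · exfalso
    have : IsUnit (X.presheaf.germ ⊤ x hx f) := by
      have h2 : X.presheaf.germ ⊤ x hx f = 1 := hf'
      rw [h2]; exact isUnit_one
    rw [← h1] at this
    have h3 : X.presheaf.germ ⊤ x hx e = 0 := he'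
    rw [h3] at this
    exact not_isUnit_zero this
  · exfalso
    have : IsUnit (X.presheaf.germ ⊤ x hx e) := by
      have h2 : X.presheaf.germ ⊤ x hx e = 1 := he'
      rw [h2]; exact isUnit_one
    rw [h1] at this
    have h3 : X.presheaf.germ ⊤ x hx f = 0 := hf'
    rw [h3] at this
    exact not_isUnit_zero this
  · exact he'.trans hf'.symm

theorem isClopen_basicOpen {X : Scheme.{u}} (e : Γ(X, ⊤)) (he : IsIdempotentElem e) :
    IsClopen (X.basicOpen e : Set X) := by
  refine ⟨?_, (X.basicOpen e).isOpen⟩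
  have h : (X.basicOpen e : Set X)ᶜ = (X.basicOpen (1 - e) : Set X) := by
    ext x
    simp only [Set.mem_compl_iff, SetLike.mem_coe]
    rw [Scheme.mem_basicOpen_top, Scheme.mem_basicOpen_top, map_sub, map_one]
    have he' := eq_zero_or_one _ (he.map (X.presheaf.germ ⊤ x trivial).hom)
    rcases he' with he' | he'
    · have h3 : X.presheaf.germ ⊤ x trivial e = 0 := he'
      rw [h3, sub_zero]
      simp
    · have h3 : X.presheaf.germ ⊤ x trivial e = 1 := he'
      rw [h3, sub_self]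
      simp
  rw [← isOpen_compl_iff, h]
  exact (X.basicOpen (1 - e)).isOpen

/-- Flat base change of global sections, as an algebra isomorphism. -/
theorem exists_sections_equiv {A S : Type u} [CommRing A] [CommRing S] [Algebra A S] [Module.Flat A S]
    {X X' : Scheme.{u}} [CompactSpace X] [QuasiSeparatedSpace X] (h : X ⟶ Spec (CommRingCat.of A))
    (p : X' ⟶ X) (q : X' ⟶ Spec (CommRingCat.of S))
    (H : IsPullback p q h (Spec.map (CommRingCat.ofHom (algebraMap A S))))
    [Algebra A Γ(X, ⊤)] (h1 : algebraMap A Γ(X, ⊤) = toΓ h)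
    [Algebra S Γ(X', ⊤)] (h2 : algebraMap S Γ(X', ⊤) = toΓ q) :
    ∃ ε : S ⊗[A] Γ(X, ⊤) ≃ₐ[S] Γ(X', ⊤), ∀ x : Γ(X, ⊤), ε (1 ⊗ₜ x) = p.appTop x := by
  have hfl : Flat (Spec.map (CommRingCat.ofHom (algebraMap A S))) := by
    rw [Flat.SpecMap_iff]
    exact RingHom.flat_algebraMap_iff.mpr inferInstance
  have hpo := Groth.Agent.Pi1C.PuncturedSections.isPushout_sections (CommRingCat.ofHom (algebraMap A S)) h p q H
  let _ : Algebra Γ(X, ⊤) Γ(X', ⊤) := p.appTop.hom.toAlgebra
  let _ : Algebra A Γ(X', ⊤) := ((algebraMap Γ(X, ⊤) Γ(X', ⊤)).comp (algebraMap A Γ(X, ⊤))).toAlgebra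
  have hst1 : IsScalarTower A Γ(X, ⊤) Γ(X', ⊤) := IsScalarTower.of_algebraMap_eq' rfl
  have hst2 : IsScalarTower A S Γ(X', ⊤) := by
    refine IsScalarTower.of_algebraMap_eq' ?_
    have := congrArg CommRingCat.Hom.hom hpo.w
    change (algebraMap Γ(X, ⊤) Γ(X', ⊤)).comp (algebraMap A Γ(X, ⊤)) = _
    rw [h1, h2]
    exact this
  have hpo' : IsPushout (CommRingCat.ofHom <| algebraMap A Γ(X, ⊤)) (CommRingCat.ofHom <| algebraMap A S)
      (CommRingCat.ofHom <| algebraMap Γ(X, ⊤) Γ(X', ⊤)) (CommRingCat.ofHom <| algebraMap S Γ(X', ⊤)) := by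
    rw [h1, h2]
    exact hpo
  have hpo2 : Algebra.IsPushout A Γ(X, ⊤) S Γ(X', ⊤) := CommRingCat.isPushout_iff_isPushout.mp hpo'
  have hpo3 : Algebra.IsPushout A S Γ(X, ⊤) Γ(X', ⊤) := hpo2.symm
  refine ⟨Algebra.IsPushout.equiv A S Γ(X, ⊤) Γ(X', ⊤), fun x => ?_⟩
  rw [Algebra.IsPushout.equiv_tmul, map_one, one_mul]
  rfl

theorem exists_tmul_one_eq {A S : Type u} [CommRing A] [CommRing S] [Algebra A S] [Module.Flat A S]
    (U : (Spec (CommRingCat.of A)).Opens) [CompactSpace U] [Algebra A Γ(U.toScheme, ⊤)]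
    (halg : algebraMap A Γ(U.toScheme, ⊤) = toΓ U.ι)
    (H : ∀ q : Spec (CommRingCat.of S), Spec.map (CommRingCat.ofHom (algebraMap A S)) q ∉ U →
      _root_.IsConnected {z : Spec (CommRingCat.of S) |
        Spec.map (CommRingCat.ofHom (algebraMap A S)) z ∈ U ∧ z ⤳ q})
    (z : S ⊗[A] Γ(U.toScheme, ⊤)) (hz : IsIdempotentElem z) : ∃ s : S, s ⊗ₜ 1 = z := by
  let g : Spec (CommRingCat.of S) ⟶ Spec (CommRingCat.of A) := Spec.map (CommRingCat.ofHom (algebraMap A S))
  have hqs : QuasiSeparatedSpace U.toScheme := quasiSeparatedSpace_of_quasiSeparated U.ι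
  let _ : Algebra S Γ(pullback U.ι g, ⊤) := (toΓ (pullback.snd U.ι g)).toAlgebra
  obtain ⟨ε, hε⟩ := exists_sections_equiv U.ι (pullback.fst U.ι g) (pullback.snd U.ι g)
    (IsPullback.of_hasPullback U.ι g) halg rfl
  have hz' : IsIdempotentElem (ε z) := hz.map ε
  have hqc : QuasiCompact U.ι := inferInstance
  have hr : Set.range (pullback.snd U.ι g) = g ⁻¹' (U : Set _) := by
    rw [Scheme.Pullback.range_snd]
    congr 1
    exact U.range_ι
  obtain ⟨W, ⟨hW1, hW2⟩, -⟩ := Groth.Agent.Pi1C.ClopenExtend.existsUnique_clopen_of_isOpenImmersion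
    (pullback.snd U.ι g) (by
      intro q hq
      rw [hr] at hq ⊢
      exact H q hq) _ (isClopen_basicOpen _ hz')
  obtain ⟨s, hs, hsW⟩ := PrimeSpectrum.isClopen_iff.mp hW1
  refine ⟨s, ?_⟩
  apply ε.injective
  have h1 : ε (s ⊗ₜ 1) = toΓ (pullback.snd U.ι g) s := by
    have : s ⊗ₜ[A] (1 : Γ(U.toScheme, ⊤)) = algebraMap S _ s := rfl
    rw [this, ε.commutes]
    rfl
  apply eq_of_basicOpen_eq _ _ _ hz'
  · rw [h1]
    apply TopologicalSpace.Opens.ext
    rw [basicOpen_toΓ, ← hW2, hsW]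
    rfl
  · rw [h1]
    exact hs.map (toΓ (pullback.snd U.ι g))

end Groth.Agent.Pi1C.IdemGeom
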