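import Mathlib.RingTheory.Etale.Weakly
import Mathlib.RingTheory.Flat.EquationalCriterion
import Mathlib.RingTheory.Ideal.Pure
import Mathlib.RingTheory.Unramified.Finite
import Mathlib.RingTheory.FinitePresentation

/-!
# Ind-etale algebras (Lazard form) are weakly etale
-/

set_option autoImplicit false

universe u

open TensorProduct

namespace Groth.Agent.Pi1C.IndEtaleWE

variable (A R : Type u) [CommRing A] [CommRing R] [Algebra A R]

/-- Lazard form of being ind-etale: every map from a finitely presented `A`-algebra to `R` factors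
through an etale `A`-algebra. -/
def Lazard : Prop :=
  ∀ (P : Type u) [CommRing P] [Algebra A P] [Algebra.FinitePresentation A P] (φ : P →ₐ[A] R),
    ∃ (E : Type u) (_ : CommRing E) (_ : Algebra A E) (_ : Algebra.Etale A E)
      (ψ : P →ₐ[A] E) (χ : E →ₐ[A] R), χ.comp ψ = φ

variable {A R}

/-- Finitely many elements of `R` satisfying a polynomial relation come from an etale algebra with
the same relation. -/
theorem exists_etale_of_aeval (h : Lazard A R) {n : ℕ} (p : MvPolynomial (Fin n) A) (x : Fin n → R)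
    (hx : MvPolynomial.aeval x p = 0) :
    ∃ (E : Type u) (_ : CommRing E) (_ : Algebra A E) (_ : Algebra.Etale A E) (χ : E →ₐ[A] R)
      (e : Fin n → E), (∀ i, χ (e i) = x i) ∧ MvPolynomial.aeval e p = 0 := by
  let I : Ideal (MvPolynomial (Fin n) A) := Ideal.span {p}
  have hI : I.FG := ⟨{p}, by simp [I]⟩
  have : Algebra.FinitePresentation A (MvPolynomial (Fin n) A ⧸ I) :=
    Algebra.FinitePresentation.quotient hI
  let φ : (MvPolynomial (Fin n) A ⧸ I) →ₐ[A] R := Ideal.Quotient.liftₐ I (MvPolynomial.aeval x) (by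
    intro a ha
    have h1 : I ≤ RingHom.ker (MvPolynomial.aeval x : MvPolynomial (Fin n) A →ₐ[A] R) := by
      rw [Ideal.span_le, Set.singleton_subset_iff]
      exact hx
    exact h1 ha)
  obtain ⟨E, _, _, _, ψ, χ, hχ⟩ := h _ φ
  refine ⟨E, inferInstance, inferInstance, inferInstance, χ,
    fun i => ψ (Ideal.Quotient.mk I (MvPolynomial.X i)), ?_, ?_⟩
  · intro i
    rw [← AlgHom.comp_apply, hχ]
    change (MvPolynomial.aeval x) (MvPolynomial.X i) = x i
    simp
  · have h2 : MvPolynomial.aeval (fun i => ψ (Ideal.Quotient.mk I (MvPolynomial.X i))) =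
        (ψ.comp (Ideal.Quotient.mkₐ A I)) := by
      ext i
      simp
    rw [h2]
    simp only [AlgHom.comp_apply, Ideal.Quotient.mkₐ_eq_mk]
    rw [Ideal.Quotient.eq_zero_iff_mem.mpr (Ideal.mem_span_singleton_self p), map_zero]

theorem flat_of_lazard (h : Lazard A R) : Module.Flat A R := by
  refine Module.Flat.of_forall_isTrivialRelation ?_
  intro l f x hfx
  obtain ⟨E, _, _, _, χ, e, he, hp⟩ := exists_etale_of_aeval h
    (∑ i, MvPolynomial.C (f i) * MvPolynomial.X i) x (by
      simpa [Algebra.smul_def] using hfx)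
  have hp' : ∑ i, f i • e i = 0 := by simpa [Algebra.smul_def] using hp
  have : Module.Flat A E := inferInstance
  obtain ⟨k, a, y, h1, h2⟩ := Module.Flat.isTrivialRelation_of_sum_smul_eq_zero hp'
  refine ⟨k, a, fun j => χ (y j), ?_, h2⟩
  intro i
  rw [← he i, h1 i, map_sum]
  simp

theorem exists_tensor (h : Lazard A R) (x : R ⊗[A] R)
    (hx : Algebra.TensorProduct.lmul' A (S := R) x = 0) :
    ∃ (E : Type u) (_ : CommRing E) (_ : Algebra A E) (_ : Algebra.Etale A E) (χ : E →ₐ[A] R)
      (z : E ⊗[A] E), Algebra.TensorProduct.map χ χ z = x ∧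
      Algebra.TensorProduct.lmul' A (S := E) z = 0 := by
  obtain ⟨n, a, b, hab⟩ : ∃ (n : ℕ) (a b : Fin n → R), x = ∑ i, a i ⊗ₜ[A] b i := by
    obtain ⟨s, hs⟩ := TensorProduct.exists_finset x
    refine ⟨s.card, fun i => (s.equivFin.symm i).1.1, fun i => (s.equivFin.symm i).1.2, ?_⟩
    rw [hs, ← Finset.sum_coe_sort s, ← Equiv.sum_comp s.equivFin.symm]
  subst hab
  have hx' : ∑ i, a i * b i = 0 := by simpa using hx
  obtain ⟨E, _, _, _, χ, e, he, hp⟩ := exists_etale_of_aeval h
    (∑ i : Fin n, MvPolynomial.X (Fin.castAdd n i) * MvPolynomial.X (Fin.natAdd n i))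
    (Fin.append a b) (by
      rw [map_sum, ← hx']
      refine Finset.sum_congr rfl fun i _ => ?_
      rw [map_mul, MvPolynomial.aeval_X, MvPolynomial.aeval_X, Fin.append_left, Fin.append_right])
  refine ⟨E, inferInstance, inferInstance, inferInstance, χ,
    ∑ i, e (Fin.castAdd n i) ⊗ₜ[A] e (Fin.natAdd n i), ?_, ?_⟩
  · rw [map_sum]
    refine Finset.sum_congr rfl fun i _ => ?_
    rw [Algebra.TensorProduct.map_tmul, he, he, Fin.append_left, Fin.append_right]
  · rw [map_sum] at hp ⊢
    rw [← hp]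
    refine Finset.sum_congr rfl fun i _ => ?_
    rw [Algebra.TensorProduct.lmul'_apply_tmul, map_mul, MvPolynomial.aeval_X, MvPolynomial.aeval_X]

theorem mul_eq_zero_of_lmul'_eq_zero {E : Type u} [CommRing E] [Algebra A E] {t : E ⊗[A] E}
    (ht : ∀ s : E, ((1 : E) ⊗ₜ[A] s - s ⊗ₜ[A] (1 : E)) * t = 0) (z : E ⊗[A] E) :
    z * t = (Algebra.TensorProduct.lmul' A (S := E) z ⊗ₜ[A] (1 : E)) * t := by
  induction z using TensorProduct.induction_on with
  | zero => simp
  | tmul a b =>
    have h1 : (1 : E) ⊗ₜ[A] b * t = b ⊗ₜ[A] (1 : E) * t := by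
      rw [← sub_eq_zero, ← sub_mul]
      exact ht b
    have h2 : a ⊗ₜ[A] b = (a ⊗ₜ[A] (1 : E)) * ((1 : E) ⊗ₜ[A] b) := by simp
    have h3 : (a * b) ⊗ₜ[A] (1 : E) = (a ⊗ₜ[A] (1 : E)) * (b ⊗ₜ[A] (1 : E)) := by simp
    rw [Algebra.TensorProduct.lmul'_apply_tmul, h2, h3, mul_assoc, mul_assoc, h1]
  | add x y hx hy => rw [add_mul, hx, hy, map_add, TensorProduct.add_tmul, add_mul]

theorem pure_ker_lmul'_of_lazard (h : Lazard A R) :
    (RingHom.ker (Algebra.TensorProduct.lmul' A (S := R)).toRingHom).Pure := by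
  set I : Ideal (R ⊗[A] R) := RingHom.ker (Algebra.TensorProduct.lmul' A (S := R)).toRingHom with hI
  have hpure : ∀ x ∈ I, ∃ y ∈ I, x = x * y := by
    intro x hx
    obtain ⟨E, _, _, _, χ, z, hz, hz0⟩ := exists_tensor h x hx
    obtain ⟨t, ht1, ht2⟩ := (Algebra.FormallyUnramified.iff_exists_tensorProduct (R := A)
      (S := E)).mp inferInstance
    refine ⟨Algebra.TensorProduct.map χ χ (1 - t), ?_, ?_⟩
    · rw [hI, RingHom.mem_ker]
      have h1 : ∀ w : E ⊗[A] E, Algebra.TensorProduct.lmul' A (S := R) (Algebra.TensorProduct.map χ χ w) =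
          χ (Algebra.TensorProduct.lmul' A (S := E) w) := by
        intro w
        induction w using TensorProduct.induction_on with
        | zero => simp
        | tmul a b => simp
        | add x y hx hy => simp only [map_add, hx, hy]
      change Algebra.TensorProduct.lmul' A (S := R) (Algebra.TensorProduct.map χ χ (1 - t)) = 0
      rw [h1, map_sub, map_one, ht2, sub_self, map_zero]
    · rw [← hz, ← map_mul, mul_sub, mul_one, mul_eq_zero_of_lmul'_eq_zero ht1 z, hz0]
      simp
  refine Ideal.Pure.of_inf_eq_mul I fun J _ => ?_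
  refine le_antisymm ?_ Ideal.mul_le_inf
  rintro x ⟨hx1, hx2⟩
  obtain ⟨y, hy, hxy⟩ := hpure x hx1
  rw [hxy, mul_comm x y]
  exact Ideal.mul_mem_mul hy hx2

theorem flat_lmul'_of_lazard (h : Lazard A R) :
    (Algebra.TensorProduct.lmul' A (S := R)).Flat := by
  have hp := pure_ker_lmul'_of_lazard h
  have hsurj : Function.Surjective (Algebra.TensorProduct.lmul' A (S := R)).toRingHom := by
    intro x
    exact ⟨x ⊗ₜ 1, by simp⟩
  let _ : Algebra (R ⊗[A] R) R := (Algebra.TensorProduct.lmul' A (S := R)).toRingHom.toAlgebra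
  change Module.Flat (R ⊗[A] R) R
  let e := RingHom.quotientKerEquivOfSurjective hsurj
  let e' : ((R ⊗[A] R) ⧸ (RingHom.ker (Algebra.TensorProduct.lmul' A (S := R)).toRingHom)) ≃ₗ[R ⊗[A] R] R :=
    { e with
      map_smul' := by
        intro r x
        obtain ⟨x, rfl⟩ := Ideal.Quotient.mk_surjective x
        change (Algebra.TensorProduct.lmul' A (S := R)) (r * x) =
          (Algebra.TensorProduct.lmul' A (S := R)) r * (Algebra.TensorProduct.lmul' A (S := R)) x
        rw [map_mul] }
  exact Module.Flat.of_linearEquiv e'.symm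

theorem weaklyEtale_of_lazard (h : Lazard A R) : Algebra.WeaklyEtale A R where
  flat := flat_of_lazard h
  flat_lmul' := flat_lmul'_of_lazard h

end Groth.Agent.Pi1C.IndEtaleWE
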