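import Groth.Agent.Pi1C.LefStruct
import Mathlib.RingTheory.GradedAlgebra.HomogeneousLocalization

/-!
# Charts of a graded algebraization

For `E : GradedExt D p ι V` and `y j = ρ (x j)` the ring `Away 𝒜 (y i)` is a finite algebra over
`Γ(X, U i)`, with quotient `Γ(V, U i)` by the regular element `y 0 / y i`.
-/

set_option autoImplicit false
universe u
open AlgebraicGeometry CategoryTheory
open Groth.Agent.VarietyB.ProjGlue

namespace Groth.Agent.Pi1C.LefAway

open TwistSec LefStruct HomogeneousLocalization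

section graded

variable {B : Type u} [CommRing B] (𝒜 : ℕ → AddSubgroup B) [GradedRing 𝒜]

/-- `b / y ^ n`. -/
noncomputable def frac {y : B} (hy : y ∈ 𝒜 1) (n : ℕ) (b : B) (hb : b ∈ 𝒜 n) : Away 𝒜 y :=
  Away.mk 𝒜 hy n b (by simpa using hb)

/-- `y ^ n` as an element of the submonoid of powers. -/
def pw (y : B) (n : ℕ) : Submonoid.powers y := ⟨y ^ n, n, rfl⟩

theorem val_frac {y : B} (hy : y ∈ 𝒜 1) (n : ℕ) (b : B) (hb : b ∈ 𝒜 n) :
    (frac 𝒜 hy n b hb).val = Localization.mk b (pw y n) := Away.val_mk _ _ _ _ _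

theorem val_frac_mul {y : B} (hy : y ∈ 𝒜 1) (n : ℕ) (b : B) (hb : b ∈ 𝒜 n) :
    (frac 𝒜 hy n b hb).val * algebraMap B (Localization.Away y) y ^ n =
      algebraMap B (Localization.Away y) b := by
  rw [val_frac, ← map_pow, Localization.mk_eq_mk']
  exact IsLocalization.mk'_spec (M := Submonoid.powers y) (Localization.Away y) b (pw y n)

theorem frac_surjective {y : B} (hy : y ∈ 𝒜 1) (z : Away 𝒜 y) :
    ∃ (n : ℕ) (b : B) (hb : b ∈ 𝒜 n), frac 𝒜 hy n b hb = z := by
  obtain ⟨n, b, hb, h⟩ := Away.mk_surjective 𝒜 hy z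
  exact ⟨n, b, by simpa using hb, h⟩

theorem frac_eq_iff {y : B} (hy : y ∈ 𝒜 1) (n n' : ℕ) (b b' : B) (hb : b ∈ 𝒜 n) (hb' : b' ∈ 𝒜 n') :
    frac 𝒜 hy n b hb = frac 𝒜 hy n' b' hb' ↔ ∃ N : ℕ, y ^ N * (y ^ n' * b) = y ^ N * (y ^ n * b') := by
  rw [HomogeneousLocalization.ext_iff_val, val_frac, val_frac, Localization.mk_eq_mk_iff,
    Localization.r_iff_exists]
  constructor
  · rintro ⟨⟨_, N, rfl⟩, h⟩
    exact ⟨N, h⟩
  · rintro ⟨N, h⟩
    exact ⟨⟨_, N, rfl⟩, h⟩

theorem frac_eq_zero_iff {y : B} (hy : y ∈ 𝒜 1) (n : ℕ) (b : B) (hb : b ∈ 𝒜 n) :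
    frac 𝒜 hy n b hb = 0 ↔ ∃ N : ℕ, y ^ N * b = 0 := by
  have h0 : (0 : Away 𝒜 y) = frac 𝒜 hy 0 0 (zero_mem _) := by
    rw [HomogeneousLocalization.ext_iff_val, val_frac, HomogeneousLocalization.val_zero,
      Localization.mk_zero]
  rw [h0, frac_eq_iff]
  constructor
  · rintro ⟨N, h⟩
    exact ⟨N, by simpa using h⟩
  · rintro ⟨N, h⟩
    exact ⟨N, by simpa using h⟩

theorem frac_mul {y : B} (hy : y ∈ 𝒜 1) (n n' : ℕ) (b b' : B) (hb : b ∈ 𝒜 n) (hb' : b' ∈ 𝒜 n') :
    frac 𝒜 hy n b hb * frac 𝒜 hy n' b' hb' =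
      frac 𝒜 hy (n + n') (b * b') (SetLike.mul_mem_graded hb hb') := by
  rw [HomogeneousLocalization.ext_iff_val, HomogeneousLocalization.val_mul, val_frac, val_frac,
    val_frac, Localization.mk_mul]
  congr 1
  exact Subtype.ext (pow_add y n n').symm

theorem frac_add {y : B} (hy : y ∈ 𝒜 1) (n : ℕ) (b b' : B) (hb : b ∈ 𝒜 n) (hb' : b' ∈ 𝒜 n) :
    frac 𝒜 hy n b hb + frac 𝒜 hy n b' hb' = frac 𝒜 hy n (b + b') (add_mem hb hb') := by
  rw [HomogeneousLocalization.ext_iff_val, HomogeneousLocalization.val_add, val_frac, val_frac,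
    val_frac, Localization.add_mk_self]

theorem frac_self {y : B} (hy : y ∈ 𝒜 1) : frac 𝒜 hy 1 y hy = 1 := by
  rw [HomogeneousLocalization.ext_iff_val, val_frac, HomogeneousLocalization.val_one]
  have h : y = (pw y 1 : B) := (pow_one y).symm
  exact (congrArg (fun t => Localization.mk t (pw y 1)) h).trans (Localization.mk_self (pw y 1))

theorem frac_congr {y : B} (hy : y ∈ 𝒜 1) {n n' : ℕ} {b b' : B} (hb : b ∈ 𝒜 n) (hb' : b' ∈ 𝒜 n')
    (hn : n = n') (h : b = b') : frac 𝒜 hy n b hb = frac 𝒜 hy n' b' hb' := by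
  subst hn; subst h; rfl

/-- Evaluation of a graded ring map normalized at `y`. -/
noncomputable def ev {y : B} {Γ : Type*} [CommRing Γ] (φ : B →+* Γ) (h : φ y = 1) : Away 𝒜 y →+* Γ :=
  (IsLocalization.Away.lift (S := Localization.Away y) y (g := φ) (by rw [h]; exact isUnit_one)).comp
    (algebraMap (Away 𝒜 y) (Localization.Away y))

theorem ev_frac {y : B} (hy : y ∈ 𝒜 1) {Γ : Type*} [CommRing Γ] (φ : B →+* Γ) (h : φ y = 1) (n : ℕ)
    (b : B) (hb : b ∈ 𝒜 n) : ev 𝒜 φ h (frac 𝒜 hy n b hb) = φ b := by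
  have h1 := congrArg (IsLocalization.Away.lift (S := Localization.Away y) y (g := φ)
    (by rw [h]; exact isUnit_one)) (val_frac_mul 𝒜 hy n b hb)
  rw [map_mul, map_pow, IsLocalization.Away.lift_eq, IsLocalization.Away.lift_eq] at h1
  have h2 : φ y ^ n = 1 := by rw [h, one_pow]
  rw [h2, mul_one] at h1
  exact h1

end graded

section ext

variable {X : Scheme.{u}} {r : ℕ} {D : CoordData X (Fin (r + 1))} {k : Type u} [Field k]
    {p : X ⟶ Spec (CommRingCat.of k)} {Y : Scheme.{u}} {ι : Y ⟶ X} {V : FEt.Cat Y}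
    (E : GradedExt D p ι V)

/-- The coordinates on the graded ring. -/
noncomputable def yy (j : Fin (r + 1)) : E.B := E.ρ (Cone.x D p j)

theorem yy_mem (j : Fin (r + 1)) : yy E j ∈ E.𝒜 1 := E.ρ_x j

/-- The constants in the graded ring. -/
noncomputable def cst : k →+* E.𝒜 0 where
  toFun c := ⟨E.ρ (Ideal.Quotient.mk _ (MvPolynomial.C c)), E.ρ_C c⟩
  map_one' := Subtype.ext (by simp)
  map_zero' := Subtype.ext (by simp)
  map_mul' a b := Subtype.ext (by simp)
  map_add' a b := Subtype.ext (by simp)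

/-- `𝓑_i`. -/
abbrev BB (i : Fin (r + 1)) : Type u := Away E.𝒜 (yy E i)

/-- `b / y_i ^ n`. -/
noncomputable abbrev fr (i : Fin (r + 1)) (n : ℕ) (b : E.B) (hb : b ∈ E.𝒜 n) : BB E i :=
  frac E.𝒜 (yy_mem E i) n b hb

/-- `k[x] → 𝓑_i`, `x_j ↦ y_j / y_i`. -/
noncomputable def lam (i : Fin (r + 1)) : MvPolynomial (Fin (r + 1)) k →+* BB E i :=
  MvPolynomial.eval₂Hom ((fromZeroRingHom E.𝒜 _).comp (cst E)) (fun j => fr E i 1 (yy E j) (yy_mem E j))

theorem lam_X (i j : Fin (r + 1)) :
    lam E i (MvPolynomial.X j) = fr E i 1 (yy E j) (yy_mem E j) := by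
  simp [lam]

theorem lam_C (i : Fin (r + 1)) (c : k) :
    lam E i (MvPolynomial.C c) = fr E i 0 (E.ρ (Ideal.Quotient.mk _ (MvPolynomial.C c))) (E.ρ_C c) := by
  rw [lam, MvPolynomial.coe_eval₂Hom, MvPolynomial.eval₂_C, HomogeneousLocalization.ext_iff_val,
    val_frac, RingHom.comp_apply]
  have h : (1 : Submonoid.powers (yy E i)) = pw (yy E i) 0 := Subtype.ext (pow_zero _).symm
  change Localization.mk _ _ = _
  congr 1

theorem val_lam_of_isHomogeneous (i : Fin (r + 1)) {F : MvPolynomial (Fin (r + 1)) k} {n : ℕ}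
    (hF : F.IsHomogeneous n) :
    (lam E i F).val * algebraMap E.B (Localization.Away (yy E i)) (yy E i) ^ n =
      algebraMap E.B (Localization.Away (yy E i)) (E.ρ (Ideal.Quotient.mk _ F)) := by
  let α : MvPolynomial (Fin (r + 1)) k →+* Localization.Away (yy E i) :=
    (algebraMap E.B (Localization.Away (yy E i))).comp (E.ρ.comp (Ideal.Quotient.mk _))
  let β : MvPolynomial (Fin (r + 1)) k →+* Localization.Away (yy E i) :=
    (algebraMap (BB E i) (Localization.Away (yy E i))).comp (lam E i)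
  have h1 : α = MvPolynomial.eval₂Hom (α.comp MvPolynomial.C)
      (fun j => algebraMap E.B (Localization.Away (yy E i)) (yy E i) * β (MvPolynomial.X j)) := by
    apply MvPolynomial.ringHom_ext
    · intro c
      simp
    · intro j
      rw [MvPolynomial.coe_eval₂Hom, MvPolynomial.eval₂_X]
      change algebraMap E.B _ (yy E j) = _ * (lam E i (MvPolynomial.X j)).val
      rw [lam_X, mul_comm]
      have := val_frac_mul E.𝒜 (yy_mem E i) 1 (yy E j) (yy_mem E j)
      rw [pow_one] at this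
      exact this.symm
  have h2 : β = MvPolynomial.eval₂Hom (α.comp MvPolynomial.C) (fun j => β (MvPolynomial.X j)) := by
    apply MvPolynomial.ringHom_ext
    · intro c
      rw [MvPolynomial.coe_eval₂Hom, MvPolynomial.eval₂_C]
      change (lam E i (MvPolynomial.C c)).val = algebraMap E.B _ (E.ρ _)
      rw [lam_C]
      have := val_frac_mul E.𝒜 (yy_mem E i) 0 _ (E.ρ_C c)
      rw [pow_zero, mul_one] at this
      exact this
    · intro j
      rw [MvPolynomial.coe_eval₂Hom, MvPolynomial.eval₂_X]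
  have h3 : α F = algebraMap E.B (Localization.Away (yy E i)) (yy E i) ^ n * β F := by
    rw [h1, eval₂Hom_smul_of_isHomogeneous _ _ _ hF, ← h2]
  change β F * _ = α F
  rw [h3, mul_comm]

/-- The kernel of evaluation in the chart. -/
theorem lam_eq_zero (hU : ∀ i, IsAffineOpen (D.U i)) (hb : ∀ i j, X.basicOpen (D.f i j) = D.U i ⊓ D.U j)
    (hs : ∀ i, Function.Surjective (D.hom p i)) (i : Fin (r + 1)) (F : MvPolynomial (Fin (r + 1)) k)
    (hF : D.hom p i F = 0) : lam E i F = 0 := by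
  have hloc := Cone.isLocAway_chart D p hU hb hs i
  let _ := (Cone.chart D p i).toAlgebra
  have hl := hloc.isLocalization
  let χ : LaurentPolynomial Γ(X, D.U i) →+* Localization.Away (yy E i) :=
    IsLocalization.Away.lift (Cone.x D p i)
      (g := (algebraMap E.B (Localization.Away (yy E i))).comp E.ρ)
      (IsLocalization.Away.algebraMap_isUnit (yy E i))
  have hχ : ∀ a, χ (Cone.chart D p i a) = algebraMap E.B (Localization.Away (yy E i)) (E.ρ a) :=
    fun a => IsLocalization.Away.lift_eq _ _ _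
  have h1 : (χ.comp LaurentPolynomial.C).comp (D.hom p i) =
      (algebraMap (BB E i) (Localization.Away (yy E i))).comp (lam E i) := by
    apply MvPolynomial.ringHom_ext
    · intro c
      have h2 := hχ (Ideal.Quotient.mk _ (MvPolynomial.C c))
      rw [Cone.chart_mk, Cone.rho_of_isHomogeneous D p i (MvPolynomial.isHomogeneous_C _ c),
        Nat.cast_zero, LaurentPolynomial.T_zero, mul_one] at h2
      change χ _ = (lam E i (MvPolynomial.C c)).val
      rw [lam_C, h2]
      have := val_frac_mul E.𝒜 (yy_mem E i) 0 _ (E.ρ_C c)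
      rw [pow_zero, mul_one] at this
      exact this.symm
    · intro j
      have h2 := hχ (Cone.x D p j)
      have h3 := hχ (Cone.x D p i)
      rw [Cone.chart_x, map_mul, mul_comm] at h2
      rw [Cone.chart_x_self] at h3
      have h4 : IsUnit (algebraMap E.B (Localization.Away (yy E i)) (E.ρ (Cone.x D p i))) :=
        IsLocalization.Away.algebraMap_isUnit (yy E i)
      have h5 := val_frac_mul E.𝒜 (yy_mem E i) 1 (yy E j) (yy_mem E j)
      rw [pow_one] at h5
      apply h4.mul_left_injective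
      change χ (LaurentPolynomial.C (D.hom p i (MvPolynomial.X j))) * _ = (lam E i (MvPolynomial.X j)).val * _
      rw [CoordData.hom_X, lam_X, ← h3, h2]
      rw [h3]
      exact h5.symm
  apply HomogeneousLocalization.val_injective
  have h2 := congrArg (fun φ : MvPolynomial (Fin (r + 1)) k →+* _ => φ F) h1
  change χ (LaurentPolynomial.C (D.hom p i F)) = (lam E i F).val at h2
  rw [← h2, hF, map_zero, map_zero, HomogeneousLocalization.val_zero]

/-- `Γ(X, U i) → 𝓑_i`. -/
noncomputable def phi (H : Hyp D p ι) (i : Fin (r + 1)) : Γ(X, D.U i) →+* BB E i :=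
  (D.hom p i).liftOfSurjective (H.surj i)
    ⟨lam E i, fun F hF => lam_eq_zero E H.affine H.basicOpen H.surj i F hF⟩

theorem phi_hom (H : Hyp D p ι) (i : Fin (r + 1)) (F : MvPolynomial (Fin (r + 1)) k) :
    phi E H i (D.hom p i F) = lam E i F :=
  RingHom.liftOfSurjective_comp_apply _ _ _ _

theorem phi_f (H : Hyp D p ι) (i j : Fin (r + 1)) :
    phi E H i (D.f i j) = fr E i 1 (yy E j) (yy_mem E j) := by
  rw [← D.hom_X p i j, phi_hom, lam_X]

theorem phi_base (H : Hyp D p ι) (i : Fin (r + 1)) (c : k) :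
    phi E H i (CoordData.baseHom p _ c) =
      fr E i 0 (E.ρ (Ideal.Quotient.mk _ (MvPolynomial.C c))) (E.ρ_C c) := by
  have h : D.hom p i (MvPolynomial.C c) = CoordData.baseHom p (D.U i) c := by simp [CoordData.hom]
  rw [← h, phi_hom, lam_C]

theorem phi_yy (i : Fin (r + 1)) : E.φ i (yy E i) = 1 := by
  rw [yy, E.φ_x, (pull D (V.hom ≫ ι)).f_self]

/-- `𝓑_i → Γ(V, U i)`. -/
noncomputable def psi (i : Fin (r + 1)) : BB E i →+* Γ(V.left, (pull D (V.hom ≫ ι)).U i) :=
  ev E.𝒜 (E.φ i) (phi_yy E i)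

theorem psi_fr (i : Fin (r + 1)) (n : ℕ) (b : E.B) (hb : b ∈ E.𝒜 n) :
    psi E i (fr E i n b hb) = E.φ i b := ev_frac _ _ _ _ _ _ _

theorem psi_surjective (i : Fin (r + 1)) : Function.Surjective (psi E i) := by
  intro e
  obtain ⟨n, b, hb, h⟩ := E.lift i e
  exact ⟨fr E i n b hb, by rw [psi_fr, h]⟩

/-- The structure map `Γ(X, U i) → Γ(V, U i)`. -/
noncomputable abbrev aV (_ : GradedExt D p ι V) (i : Fin (r + 1)) :
    Γ(X, D.U i) →+* Γ(V.left, (pull D (V.hom ≫ ι)).U i) :=
  appU (P := V.left) D (V.hom ≫ ι) i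

theorem appU_baseHom {P : Scheme.{u}} (g : P ⟶ X) (i : Fin (r + 1)) (c : k) :
    appU D g i (CoordData.baseHom p (D.U i) c) = CoordData.baseHom (g ≫ p) ((pull D g).U i) c := by
  simp only [CoordData.baseHom, RingHom.comp_apply]
  refine (app_res g le_top _).trans ?_
  rfl

theorem psi_lam (i : Fin (r + 1)) (F : MvPolynomial (Fin (r + 1)) k) :
    psi E i (lam E i F) = aV E i (D.hom p i F) := by
  have h : (psi E i).comp (lam E i) = (aV E i).comp (D.hom p i) := by
    apply MvPolynomial.ringHom_ext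
    · intro c
      have h1 : D.hom p i (MvPolynomial.C c) = CoordData.baseHom p (D.U i) c := by
        simp [CoordData.hom]
      rw [RingHom.comp_apply, RingHom.comp_apply, lam_C, psi_fr, E.φ_C, h1]
      exact (appU_baseHom (V.hom ≫ ι) i c).symm
    · intro j
      rw [RingHom.comp_apply, RingHom.comp_apply, lam_X, psi_fr, yy, E.φ_x, CoordData.hom_X]
      rfl
  exact congrArg (fun φ : MvPolynomial (Fin (r + 1)) k →+* _ => φ F) h

theorem psi_phi (H : Hyp D p ι) (i : Fin (r + 1)) (a : Γ(X, D.U i)) :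
    psi E i (phi E H i a) = aV E i a := by
  obtain ⟨F, rfl⟩ := H.surj i a
  rw [phi_hom, psi_lam]

/-- Multiplication by `t_i` on fractions. -/
theorem fr_mul (i : Fin (r + 1)) (n n' : ℕ) (b b' : E.B) (hb : b ∈ E.𝒜 n) (hb' : b' ∈ E.𝒜 n') :
    fr E i n b hb * fr E i n' b' hb' = fr E i (n + n') (b * b') (SetLike.mul_mem_graded hb hb') :=
  frac_mul _ _ _ _ _ _ _ _

theorem ker_psi (H : Hyp D p ι) (i : Fin (r + 1)) :
    RingHom.ker (psi E i) = Ideal.span {phi E H i (D.f i 0)} := by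
  apply le_antisymm
  · intro z hz
    obtain ⟨n, b, hb, rfl⟩ := frac_surjective E.𝒜 (yy_mem E i) z
    rw [RingHom.mem_ker] at hz
    have h0 : E.φ i b = 0 := by rw [← psi_fr E i n b hb]; exact hz
    obtain ⟨N, b', h⟩ := E.ker i n b hb h0
    have h1 : yy E i ^ (N + 1) * b = yy E 0 * (yy E i * b') := by
      have : yy E i ^ N * b = yy E 0 * b' := h
      rw [pow_succ, mul_right_comm, this]
      ring
    have hm : yy E i ^ (N + 1) * b ∈ E.𝒜 (1 + (N + n)) := by
      have h2 := SetLike.mul_mem_graded (SetLike.pow_mem_graded (N + 1) (yy_mem E i)) hb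
      have h3 : (N + 1) • 1 + n = 1 + (N + n) := by simp; ring
      rwa [h3] at h2
    set b'' : E.B := ((DirectSum.decompose E.𝒜 (yy E i * b') (N + n) : E.𝒜 (N + n)) : E.B) with hb''
    have h2 : yy E i ^ (N + 1) * b = yy E 0 * b'' := by
      rw [hb'', ← DirectSum.coe_decompose_mul_add_of_left_mem E.𝒜 (yy_mem E 0), ← h1,
        DirectSum.decompose_of_mem_same _ hm]
    have hb''m : b'' ∈ E.𝒜 (N + n) := SetLike.coe_mem _
    have h3 : frac E.𝒜 (yy_mem E i) n b hb = fr E i 1 (yy E 0) (yy_mem E 0) * fr E i (N + n) b'' hb''m := by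
      rw [fr_mul, frac_eq_iff]
      refine ⟨0, ?_⟩
      rw [← h2]
      ring
    rw [h3, phi_f]
    exact Ideal.mul_mem_right _ _ (Ideal.mem_span_singleton_self _)
  · rw [Ideal.span_singleton_le_iff_mem, RingHom.mem_ker, psi_phi]
    have h1 : D.f i 0 ∈ RingHom.ker (ι.app (D.U i)).hom := by
      rw [H.ker]
      exact Ideal.mem_span_singleton_self _
    rw [RingHom.mem_ker] at h1
    have h2 : aV E i (D.f i 0) = (V.hom.app (ι ⁻¹ᵁ D.U i)).hom ((ι.app (D.U i)).hom (D.f i 0)) := rfl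
    rw [h2, h1]
    exact map_zero _

theorem t_mul_eq_zero (H : Hyp D p ι) (i : Fin (r + 1)) (z : BB E i)
    (h : phi E H i (D.f i 0) * z = 0) : z = 0 := by
  obtain ⟨n, b, hb, rfl⟩ := frac_surjective E.𝒜 (yy_mem E i) z
  rw [phi_f, frac_mul, frac_eq_zero_iff] at h
  obtain ⟨N, h⟩ := h
  rw [frac_eq_zero_iff]
  refine ⟨N, E.reg _ ?_⟩
  change yy E 0 * _ = 0
  rw [← h]
  ring

/-- Homogeneous polynomials in the `y_j`. -/
theorem rho_mem {F : MvPolynomial (Fin (r + 1)) k} {n : ℕ} (hF : F.IsHomogeneous n) :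
    E.ρ (Ideal.Quotient.mk _ F) ∈ E.𝒜 n := by
  rw [F.as_sum, map_sum, map_sum]
  refine sum_mem fun m hm => ?_
  rw [MvPolynomial.monomial_eq, map_mul, map_mul, Finsupp.prod, map_prod, map_prod]
  have h1 : ∏ j ∈ m.support, E.ρ (Ideal.Quotient.mk _ (MvPolynomial.X j ^ m j)) ∈
      E.𝒜 (∑ j ∈ m.support, m j • 1) := by
    refine SetLike.prod_mem_graded _ _ _ fun j _ => ?_
    rw [map_pow, map_pow]
    exact SetLike.pow_mem_graded (m j) (yy_mem E j)
  have h2 := SetLike.mul_mem_graded (E.ρ_C (MvPolynomial.coeff m F)) h1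
  have h3 : 0 + ∑ j ∈ m.support, m j • 1 = n := by
    have h4 := hF (MvPolynomial.mem_support_iff.mp hm)
    rw [← h4, zero_add]
    simp [Finsupp.weight_apply, Finsupp.sum]
  rwa [h3] at h2

theorem fr_rho (i : Fin (r + 1)) {F : MvPolynomial (Fin (r + 1)) k} {n : ℕ} (hF : F.IsHomogeneous n) :
    fr E i n (E.ρ (Ideal.Quotient.mk _ F)) (rho_mem E hF) = lam E i F := by
  apply HomogeneousLocalization.val_injective
  have h4 : IsUnit (algebraMap E.B (Localization.Away (yy E i)) (yy E i) ^ n) :=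
    (IsLocalization.Away.algebraMap_isUnit (yy E i)).pow n
  apply h4.mul_left_injective
  change _ * _ = _ * _
  rw [val_lam_of_isHomogeneous E i hF]
  exact val_frac_mul _ _ _ _ _

/-- The homogeneous components, as elements of the charts. -/
noncomputable def cmp (i : Fin (r + 1)) (n : ℕ) : E.B →+ BB E i where
  toFun b := fr E i n (DirectSum.decompose E.𝒜 b n : E.𝒜 n) (SetLike.coe_mem _)
  map_zero' := by
    rw [frac_eq_zero_iff]
    exact ⟨0, by simp⟩
  map_add' a b := by
    rw [frac_add]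
    exact frac_congr _ _ _ _ rfl (by simp)

theorem cmp_apply (i : Fin (r + 1)) (n : ℕ) (b : E.B) : cmp E i n b =
    frac E.𝒜 (yy_mem E i) n (DirectSum.decompose E.𝒜 b n : E.𝒜 n) (SetLike.coe_mem _) := rfl

theorem cmp_of_mem (i : Fin (r + 1)) (n : ℕ) (b : E.B) (hb : b ∈ E.𝒜 n) :
    cmp E i n b = fr E i n b hb :=
  frac_congr E.𝒜 (yy_mem E i) (SetLike.coe_mem _) hb rfl (DirectSum.decompose_of_mem_same _ hb)

theorem cmp_rho_mul (i : Fin (r + 1)) {F : MvPolynomial (Fin (r + 1)) k} {e : ℕ} (hF : F.IsHomogeneous e)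
    (n : ℕ) (b : E.B) : cmp E i n (E.ρ (Ideal.Quotient.mk _ F) * b) =
      if e ≤ n then lam E i F * cmp E i (n - e) b else 0 := by
  split_ifs with h
  · rw [← fr_rho E i hF, cmp_apply, cmp_apply, frac_mul]
    refine frac_congr _ _ _ _ (by omega) ?_
    exact DirectSum.coe_decompose_mul_of_left_mem_of_le E.𝒜 (rho_mem E hF) h
  · rw [cmp_apply, frac_eq_zero_iff]
    refine ⟨0, ?_⟩
    rw [DirectSum.coe_decompose_mul_of_left_mem_of_not_le E.𝒜 (rho_mem E hF) h, mul_zero]

theorem finite_phi (H : Hyp D p ι) (i : Fin (r + 1)) : (phi E H i).Finite := by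
  let _ := (phi E H i).toAlgebra
  let _ := E.ρ.toAlgebra
  have hfin : Module.Finite (Cone.R D p) E.B := E.ρ_finite
  obtain ⟨s, hs⟩ := hfin.fg_top
  classical
  -- the finite generating set
  let T : Finset (BB E i) := s.biUnion fun b =>
    (Finset.range ((DirectSum.decompose E.𝒜 b).support.sup id + 1)).image fun m => cmp E i m b
  let N : Submodule Γ(X, D.U i) (BB E i) := Submodule.span _ (T : Set (BB E i))
  have hlam : ∀ (F : MvPolynomial (Fin (r + 1)) k) (z : BB E i), z ∈ N → lam E i F * z ∈ N := by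
    intro F z hz
    rw [← phi_hom E H]
    exact N.smul_mem _ hz
  let Q : AddSubgroup E.B := ⨅ n, N.toAddSubgroup.comap (cmp E i n)
  have hQ : ∀ b, b ∈ Q ↔ ∀ n, cmp E i n b ∈ N := by
    intro b
    simp [Q, AddSubgroup.mem_iInf]
  have hQs : ∀ b ∈ s, b ∈ Q := by
    intro b hb
    rw [hQ]
    intro n
    by_cases hn : n < (DirectSum.decompose E.𝒜 b).support.sup id + 1
    · refine Submodule.subset_span ?_
      rw [Finset.mem_coe, Finset.mem_biUnion]
      exact ⟨b, hb, Finset.mem_image.mpr ⟨n, Finset.mem_range.mpr hn, rfl⟩⟩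
    · have h0 : n ∉ (DirectSum.decompose E.𝒜 b).support := by
        intro h
        have := Finset.le_sup (f := id) h
        simp only [id] at this
        omega
      rw [DFinsupp.notMem_support_iff] at h0
      have : cmp E i n b = 0 := by
        rw [cmp_apply, frac_eq_zero_iff]
        exact ⟨0, by rw [h0]; simp⟩
      rw [this]
      exact N.zero_mem
  have hQmul : ∀ (a : Cone.R D p) (b : E.B), b ∈ Q → E.ρ a * b ∈ Q := by
    intro a b hb
    obtain ⟨F, rfl⟩ := Ideal.Quotient.mk_surjective a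
    rw [← MvPolynomial.sum_homogeneousComponent F, map_sum, map_sum, Finset.sum_mul]
    refine sum_mem fun e _ => ?_
    rw [hQ]
    intro n
    rw [cmp_rho_mul E i (MvPolynomial.homogeneousComponent_isHomogeneous e F)]
    split_ifs
    · exact hlam _ _ ((hQ b).mp hb _)
    · exact N.zero_mem
  have hall : ∀ b, b ∈ Q := by
    intro b
    have hb : b ∈ Submodule.span (Cone.R D p) (s : Set E.B) := by rw [hs]; trivial
    induction hb using Submodule.span_induction with
    | mem x hx => exact hQs x hx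
    | zero => exact Q.zero_mem
    | add x y _ _ hx hy => exact Q.add_mem hx hy
    | smul a x _ hx => exact hQmul a x hx
  refine ⟨⟨T, ?_⟩⟩
  rw [eq_top_iff]
  intro z _
  obtain ⟨n, b, hb, rfl⟩ := frac_surjective E.𝒜 (yy_mem E i) z
  have := (hQ b).mp (hall b) n
  rwa [cmp_of_mem E i n b hb] at this

end ext

end Groth.Agent.Pi1C.LefAway
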