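import Groth.Agent.Pi1C.FormO
import Groth.Agent.Pi1C.GrModSys

/-!
# Formal functions, graded version

If `x_0^n0` kills the low local cohomology of the cone ring then `x_0^n0 c` comes from the cone ring for every
homogeneous compatible family `c`.
-/

set_option autoImplicit false
universe u
open AlgebraicGeometry CategoryTheory
open Groth.Agent.VarietyB.ProjGlue

namespace Groth.Agent.Pi1C.LefC5

section alg

open Groth.Agent.FormalA.CechSub Groth.Agent.FormalA.CechLC Groth.Agent.FormalA.LocSub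
open Groth.Agent.FormalA.CompleteCx
open FormLim FormSys FormCech FormKill FormO

variable {A : Type*} [CommRing A] {ι : Type*} {f : A} {g : ι → A}
variable {C : ℕ → Type*} [∀ n, AddCommGroup (C n)] [∀ n, Module A (C n)]
  {π : ∀ n, C (n + 1) →ₗ[A] C n}

/-- The sequence of approximations. -/
theorem exists_seq (h : ModSys f g C π) (α : ∀ n, A →ₗ[A] C n)
    (hα : ∀ n a, π n (α (n + 1) a) = α n a) (hs : ∀ n, LS g (α n))
    (hk : ∀ n, LK g (α n) (f ^ (n + 1))) (hreg : ∀ a : A, f * a = 0 → a = 0)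
    (hε : ∀ a : A, ε (PS g) a = 0 → a = 0) (n0 : ℕ) (t t' : A) (h0 : Kills0 g (f ^ n0 * t') A)
    (h1 : Kills1 g (f ^ n0 * t) A) (c : Lim π) :
    ∃ a : ℕ → A, (∀ n, α n (a n) = (f ^ n0 * (t' * t)) • c.1 n) ∧
      ∀ j, ∃ b : A, a (j + 1) - a j = f ^ (j + 1) * b := by
  -- lifts
  have hx : ∀ j, ∃ x : C0 (PS g) A, map0 (PS g) (α (j + n0)) x = ε (PS g) (c.1 (j + n0)) := fun j =>
    (hs _).map0 _
  choose x hx using hx
  have hy : ∀ j, ∃ y : C1 (PS g) A, d0 (PS g) (x j) = f ^ (j + n0 + 1) • y := fun j =>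
    (hk _).map1 _ (by rw [map1_d0, hx, d0_ε])
  choose y hy using hy
  have hdy : ∀ j, d1 (PS g) (y j) = 0 := fun j =>
    reg_C2 hreg (j + n0 + 1) _ (by rw [← map_smul, ← hy, d1_d0])
  have hz : ∀ j, ∃ z : C0 (PS g) A, d0 (PS g) z = (f ^ n0 * t) • y j := fun j => h1 _ (hdy j)
  choose z hz using hz
  let u : ℕ → C0 (PS g) A := fun j => t • x j - f ^ (j + 1) • z j
  have hu : ∀ j, d0 (PS g) (u j) = 0 := by
    intro j
    change d0 (PS g) (t • x j - f ^ (j + 1) • z j) = 0
    rw [map_sub, map_smul, map_smul, hy, hz, smul_smul, smul_smul, sub_eq_zero]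
    congr 1
    ring
  have ha : ∀ j, ∃ a : A, ε (PS g) a = (f ^ n0 * t') • u j := fun j => h0 _ (hu j)
  choose a ha using ha
  -- convergence
  have hstep : ∀ j, ∃ b : A, a (j + 1) - a j = f ^ (j + 1) * b := by
    intro j
    have hw : ∃ w : C0 (PS g) A, x (j + 1) - x j = f ^ (j + n0 + 1) • w := by
      refine (hk (j + n0)).map0 _ ?_
      rw [map_sub, hx, sub_eq_zero]
      refine trans_apply c (j + n0) 1 α hα (x (j + 1)) ?_
      have := hx (j + 1)
      rw [show j + n0 + 1 = j + 1 + n0 by omega]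
      exact this
    obtain ⟨w, hw⟩ := hw
    let v : C0 (PS g) A := (t * f ^ n0) • w - f • z (j + 1) + z j
    have huv : u (j + 1) - u j = f ^ (j + 1) • v := by
      change t • x (j + 1) - f ^ (j + 1 + 1) • z (j + 1) - (t • x j - f ^ (j + 1) • z j) =
        f ^ (j + 1) • ((t * f ^ n0) • w - f • z (j + 1) + z j)
      have e1 : t • x (j + 1) = t • x j + (t * f ^ (j + n0 + 1)) • w := by
        rw [mul_smul, ← hw, smul_sub]
        abel
      rw [e1, smul_add, smul_sub, smul_smul, smul_smul,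
        show f ^ (j + 1) * (t * f ^ n0) = t * f ^ (j + n0 + 1) by ring, ← pow_succ]
      abel
    have hdv : d0 (PS g) v = 0 := reg_C1 hreg (j + 1) _ (by
      rw [← map_smul, ← huv, map_sub, hu, hu, sub_self])
    obtain ⟨b, hb⟩ := h0 v hdv
    refine ⟨b, ?_⟩
    rw [← sub_eq_zero]
    refine hε _ ?_
    have e2 : ε (PS g) (f ^ (j + 1) * b) = f ^ (j + 1) • ε (PS g) b := by
      rw [← map_smul, smul_eq_mul]
    rw [map_sub, map_sub, ha, ha, e2, hb, ← smul_sub, huv, smul_smul, smul_smul, mul_comm (f ^ (j + 1)),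
      sub_self]
  refine ⟨a, fun n => ?_, hstep⟩
  rw [← sub_eq_zero]
  refine (h.closed n).inj _ ?_
  rw [map_sub, map_smul, ← map0_ε, ha, sub_eq_zero]
  change map0 (PS g) (α n) ((f ^ n0 * t') • (t • x n - f ^ (n + 1) • z n)) = _
  rw [map_smul, map_sub, map_smul, map_smul, map0_smul_zero (h.tors n), sub_zero, smul_smul]
  rw [trans_apply c n n0 α hα (x n) (hx n)]
  congr 1
  ring

end alg

section graded

open TwistSec GrSec GrCone GrModSys LaurentPolynomial

variable {X : Scheme.{u}} {r : ℕ} (D : CoordData X (Fin (r + 1))) {k : Type u} [Field k]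
  (p : X ⟶ Spec (CommRingCat.of k))

/-- Homogeneous components in the cone ring. -/
theorem exists_comp (a : Cone.R D p) (e : ℤ) : ∃ a' : Cone.R D p, toM D p a' = hom D e (toM D p a e) := by
  rcases lt_or_ge e 0 with he | he
  · exact ⟨0, by rw [toM_apply D p a e he, map_zero, map_zero]⟩
  · obtain ⟨n, rfl⟩ := Int.eq_ofNat_of_zero_le he
    obtain ⟨F, rfl⟩ := Ideal.Quotient.mk_surjective a
    refine ⟨Ideal.Quotient.mk _ (MvPolynomial.homogeneousComponent n F), ?_⟩
    change polyM D p _ = hom D n (polyM D p F n)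
    apply GrSec.ext_chart
    intro i
    rw [chart_polyM, chart_hom, Cone.rho_of_isHomogeneous D p i
      (MvPolynomial.homogeneousComponent_isHomogeneous n F), ← lc_chart, chart_polyM]
    congr 2
    exact (Cone.coeff_rho D p i F n).symm

theorem toM_pow_mul_apply (b : Cone.R D p) (m : ℕ) (e : ℤ) (he : e < m) :
    toM D p (Cone.x D p 0 ^ m * b) e = 0 := by
  apply Subtype.ext
  funext i
  rw [← lc_chart, map_mul, map_pow, toM_x, map_mul, map_pow, chart_coord, mul_pow, ← map_pow, T_pow,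
    mul_one, mul_assoc, mul_comm (T _), lc_C_mul, lc_mul_T, lc_chart,
    toM_apply D p b (e - m) (by omega)]
  change _ * (0 : Γ(X, D.U i)) = 0
  rw [mul_zero]

theorem smul_hom_apply {P : Scheme.{u}} (g : P ⟶ X) (m : ℕ) (d b : ℤ) (σ : Sec (pull D g) d)
    (hb : d + m ≠ b) : ((Cone.x D p 0 ^ m) • hom (pull D g) d σ) b = 0 := by
  apply Subtype.ext
  funext i
  rw [Algebra.smul_def, map_pow, algebraMap_x, coord_pow, hom_mul_hom, hom_apply,
    if_neg (by omega)]
  rfl

/-- The main statement on formal functions. -/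
theorem exists_alg {P : ℕ → Scheme.{u}} {g : ∀ n, P n ⟶ X} {h : ∀ n, P n ⟶ P (n + 1)}
    {w : ∀ n, h n ≫ g (n + 1) = g n}
    (hsys : FormSys.ModSys (Cone.x D p 0) (Cone.x D p) (fun n => GrSec.M (pull D (g n)))
      (fun n => (GrModSys.trA D p (g (n + 1)) (g n) (h n) (w n)).toLinearMap))
    (hs : ∀ n, FormKill.LS (Cone.x D p)
      (Algebra.linearMap (Cone.R D p) (GrSec.M (pull D (g n)))))
    (hkr : ∀ n, FormKill.LK (Cone.x D p)
      (Algebra.linearMap (Cone.R D p) (GrSec.M (pull D (g n)))) (Cone.x D p 0 ^ (n + 1)))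
    (hreg : ∀ a : Cone.R D p, Cone.x D p 0 * a = 0 → a = 0)
    (hε : ∀ a : Cone.R D p,
      FormalA.CechSub.ε (FormalA.CechLC.PS (Cone.x D p)) a = 0 → a = 0) (n0 : ℕ)
    (h0 : FormKill.Kills0 (Cone.x D p) (Cone.x D p 0 ^ n0) (Cone.R D p))
    (h1 : FormKill.Kills1 (Cone.x D p) (Cone.x D p 0 ^ n0) (Cone.R D p)) (d : ℤ)
    (c : ∀ n, GrSec.M (pull D (g n)))
    (hc : ∀ n, GrModSys.trA D p (g (n + 1)) (g n) (h n) (w n) (c (n + 1)) = c n)
    (hd : ∀ n, c n = GrSec.hom _ d ((c n) d)) :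
    ∃ a : Cone.R D p, ∀ n, algebraMap (Cone.R D p) (GrSec.M (pull D (g n))) a =
      (Cone.x D p 0 ^ n0) • c n := by
  obtain ⟨a, ha, hb⟩ := exists_seq hsys
    (fun n => Algebra.linearMap (Cone.R D p) (GrSec.M (pull D (g n))))
    (fun n a => (GrModSys.trA D p (g (n + 1)) (g n) (h n) (w n)).commutes a) hs hkr hreg hε n0 1 1
    (by rw [mul_one]; exact h0) (by rw [mul_one]; exact h1) ⟨c, hc⟩
  have ha' : ∀ n, algebraMap (Cone.R D p) (GrSec.M (pull D (g n))) (a n) =
      (Cone.x D p 0 ^ n0) • c n := by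
    intro n
    have h2 := ha n
    rw [mul_one, mul_one] at h2
    exact h2
  let e : ℤ := d + n0
  choose a' h3 using fun n => exists_comp D p (a n) e
  have h4 : ∀ n, algebraMap (Cone.R D p) (GrSec.M (pull D (g n))) (a' n) =
      (Cone.x D p 0 ^ n0) • c n := by
    intro n
    apply ext_M
    intro b i
    rw [algebraMap_eq, h3, pullM_apply, hom_apply]
    split_ifs with hbe
    · subst hbe
      rw [← ha' n, algebraMap_eq, pullM_apply]
    · rw [map_zero, hd n, smul_hom_apply D p (g n) n0 d b _ hbe]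
      rfl
  have h5 : ∀ n : ℕ, e ≤ n → a' (n + 1) = a' n := by
    intro n hn
    apply toM_injective D p
    rw [h3, h3]
    congr 1
    obtain ⟨b, hb⟩ := hb n
    have h6 : toM D p (a (n + 1)) - toM D p (a n) = toM D p (Cone.x D p 0 ^ (n + 1) * b) := by
      rw [← map_sub, hb]
    have h7 := congrArg (fun z => z e) h6
    simp only at h7
    rw [toM_pow_mul_apply D p b (n + 1) e (by push_cast; omega)] at h7
    exact sub_eq_zero.mp h7
  have h6 : ∀ m, a' (e.toNat + m) = a' e.toNat := by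
    intro m
    induction m with
    | zero => rfl
    | succ m ih =>
      rw [← ih]
      exact h5 (e.toNat + m) (by push_cast; omega)
  have h7 : ∀ m n, algebraMap (Cone.R D p) (GrSec.M (pull D (g n))) (a' (n + m)) =
      (Cone.x D p 0 ^ n0) • c n := by
    intro m
    induction m with
    | zero => exact h4
    | succ m ih =>
      intro n
      have h8 := congrArg (GrModSys.trA D p (g (n + 1)) (g n) (h n) (w n)) (ih (n + 1))
      rw [AlgHom.commutes, map_smul, hc] at h8
      rw [show n + (m + 1) = n + 1 + m by omega]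
      exact h8
  refine ⟨a' e.toNat, fun n => ?_⟩
  rw [← h6 n, add_comm e.toNat n]
  exact h7 _ n

end graded

end Groth.Agent.Pi1C.LefC5
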