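import Groth.Agent.Pi1C.EtaleNbhd
import Mathlib.RingTheory.Smooth.Flat
import Mathlib.RingTheory.Noetherian.Basic
import Mathlib.RingTheory.Ideal.Quotient.Operations

/-!
# One-chart algebra for the Lefschetz theorem: finiteness by traces
-/

set_option autoImplicit false

universe u

open TensorProduct

namespace Groth.Agent.Pi1C.LefChart

section Fin

variable {C B : Type*} [CommRing C] [IsNoetherianRing C] [CommRing B] [Algebra C B] (t : C)
  (E : ℕ → Type*) [∀ n, CommRing (E n)] [∀ n, Algebra C (E n)] [∀ n, Module.Finite C (E n)]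
  (β : ∀ n, B →ₐ[C] E n) (hsurj : ∀ n, Function.Surjective (β n))
  (hker : ∀ n b, β n b = 0 → ∃ b', b = t ^ (n + 1) • b')
  (ht : ∀ n (e : E n), t ^ (n + 1) • e = 0)
  (hsep : ∀ b, (∀ n, β n b = 0) → b = 0)
  (tr : ∀ n, E n →ₗ[C] C ⧸ Ideal.span {t ^ (n + 1)})
  (hnd : ∀ n e, (∀ e', tr n (e * e') = 0) → e = 0)
  (htr : ∀ b : B, ∃ c : C, ∀ n, tr n (β n b) = Ideal.Quotient.mk _ c)

/-- The ideal `⋂ t^n C`. -/
def infi (t : C) : Ideal C := ⨅ n : ℕ, Ideal.span {t ^ (n + 1)}

omit [IsNoetherianRing C] in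
theorem infi_le (n : ℕ) : infi t ≤ Ideal.span {t ^ (n + 1)} := iInf_le _ n

include hsurj hker ht hsep hnd htr in
/-- `B` is a finite `C`-module. -/
theorem finite : Module.Finite C B := by
  classical
  -- generators of `E 0`
  obtain ⟨s, hs⟩ := (inferInstance : Module.Finite C (E 0)).fg_top
  choose w hw using fun e : E 0 => hsurj 0 e
  -- they generate `E n`
  have hgen : ∀ n, Submodule.span C (Set.range fun e : s => β n (w e)) = ⊤ := by
    intro n
    let N : Submodule C B := Submodule.span C (Set.range fun e : s => w e)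
    have h1 : ∀ b : B, ∃ b₁ ∈ N, ∃ b', b = b₁ + t • b' := by
      intro b
      have h2 : β 0 b ∈ Submodule.span C (s : Set (E 0)) := by rw [hs]; trivial
      have h3 : N.map (β 0).toLinearMap = Submodule.span C (s : Set (E 0)) := by
        rw [Submodule.map_span, ← Set.range_comp]
        congr 1
        ext e
        constructor
        · rintro ⟨⟨e, he⟩, rfl⟩
          change β 0 (w e) ∈ _
          rw [hw]; exact he
        · intro he
          exact ⟨⟨e, he⟩, hw e⟩
      rw [← h3] at h2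
      obtain ⟨b₁, hb₁, hb⟩ := h2
      have h4 : β 0 (b - b₁) = 0 := by
        rw [map_sub, sub_eq_zero]; exact hb.symm
      obtain ⟨b', hb'⟩ := hker 0 _ h4
      refine ⟨b₁, hb₁, b', ?_⟩
      rw [zero_add, pow_one] at hb'
      rw [← hb']; ring
    have h5 : ∀ k : ℕ, ∀ b : B, ∃ b₁ ∈ N, ∃ b', b = b₁ + t ^ k • b' := by
      intro k
      induction k with
      | zero => exact fun b => ⟨0, zero_mem _, b, by simp⟩
      | succ k ih =>
        intro b
        obtain ⟨b₁, hb₁, b', rfl⟩ := ih b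
        obtain ⟨b₂, hb₂, b'', rfl⟩ := h1 b'
        refine ⟨b₁ + t ^ k • b₂, N.add_mem hb₁ (N.smul_mem _ hb₂), b'', ?_⟩
        rw [smul_add, smul_smul, ← pow_succ, add_assoc]
    rw [eq_top_iff]
    rintro e -
    obtain ⟨b, rfl⟩ := hsurj n e
    obtain ⟨b₁, hb₁, b', rfl⟩ := h5 (n + 1) b
    rw [map_add, map_smul, ht, add_zero]
    have h6 : β n b₁ ∈ N.map (β n).toLinearMap := ⟨b₁, hb₁, rfl⟩
    rw [Submodule.map_span, ← Set.range_comp] at h6
    exact h6
  -- the trace map
  let C' := C ⧸ infi t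
  have hc : ∀ b : B, ∃! c : C', ∀ n, Ideal.Quotient.factor (infi_le t n) c = tr n (β n b) := by
    intro b
    obtain ⟨c, hc⟩ := htr b
    refine ⟨Ideal.Quotient.mk _ c, fun n => by rw [hc]; rfl, ?_⟩
    intro c' hc'
    obtain ⟨c', rfl⟩ := Ideal.Quotient.mk_surjective c'
    rw [Ideal.Quotient.eq, infi, Submodule.mem_iInf]
    intro n
    rw [← Ideal.Quotient.eq]
    exact (hc' n).trans (hc n)
  choose τ hτ hτu using hc
  let T : B →ₗ[C] C' :=
    { toFun := τ
      map_add' := fun a b => by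
        symm
        apply hτu
        intro n
        rw [map_add, hτ, hτ, map_add, map_add]
      map_smul' := fun c b => by
        symm
        apply hτu
        intro n
        have h1 : ∀ z : C', Ideal.Quotient.factor (infi_le t n) (c • z) =
            c • Ideal.Quotient.factor (infi_le t n) z := by
          intro z
          obtain ⟨z, rfl⟩ := Ideal.Quotient.mk_surjective z
          rfl
        rw [RingHom.id_apply, h1, hτ, map_smul, map_smul] }
  have hT : ∀ b n, Ideal.Quotient.factor (infi_le t n) (T b) = tr n (β n b) := hτ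
  let Φ : B →ₗ[C] (s → C') := LinearMap.pi fun e => T ∘ₗ LinearMap.mulRight C (w e)
  have hΦ : Function.Injective Φ := by
    rw [injective_iff_map_eq_zero]
    intro b hb
    apply hsep
    intro n
    apply hnd
    intro e'
    have h1 : e' ∈ Submodule.span C (Set.range fun e : s => β n (w e)) := by
      rw [hgen]; trivial
    induction h1 using Submodule.span_induction with
    | mem x hx =>
      obtain ⟨e, rfl⟩ := hx
      have h2 : T (b * w e) = 0 := congrFun hb e
      rw [← map_mul, ← hT, h2, map_zero]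
    | zero => rw [mul_zero, map_zero]
    | add x y _ _ hx hy => rw [mul_add, map_add, hx, hy, add_zero]
    | smul c x _ hx => rw [mul_smul_comm, map_smul, hx, smul_zero]
  exact Module.Finite.of_injective Φ hΦ

end Fin

section Main

variable {C B : Type u} [CommRing C] [IsNoetherianRing C] [CommRing B] [Algebra C B] (t : C)
  (J : ℕ → Ideal C) (hJ : ∀ n, J n = Ideal.span {t ^ (n + 1)})
  (E : ℕ → Type u) [∀ n, CommRing (E n)] [∀ n, Algebra C (E n)] [∀ n, Algebra (C ⧸ J n) (E n)]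
  [∀ n, IsScalarTower C (C ⧸ J n) (E n)] [∀ n, Module.Finite (C ⧸ J n) (E n)]
  [∀ n, Algebra.Etale (C ⧸ J n) (E n)]
  (β : ∀ n, B →ₐ[C] E n) (hsurj : ∀ n, Function.Surjective (β n))
  (hker : ∀ n b, β n b = 0 → ∃ b', b = t ^ (n + 1) • b')
  (hsep : ∀ b, (∀ n, β n b = 0) → b = 0)
  (tr : ∀ n, E n →ₗ[C] C ⧸ J n)
  (hnd : ∀ n e, (∀ e', tr n (e * e') = 0) → e = 0)
  (htr : ∀ b : B, ∃ c : C, ∀ n, tr n (β n b) = Ideal.Quotient.mk _ c)

omit [IsNoetherianRing C] [∀ n, Module.Finite (C ⧸ J n) (E n)] [∀ n, Algebra.Etale (C ⧸ J n) (E n)] in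
include hJ in
theorem smul_eq_zero (n : ℕ) (e : E n) : t ^ (n + 1) • e = 0 := by
  have h1 : Ideal.Quotient.mk (J n) (t ^ (n + 1)) = 0 := by
    rw [Ideal.Quotient.eq_zero_iff_mem, hJ]
    exact Ideal.mem_span_singleton_self _
  rw [← algebraMap_smul (C ⧸ J n)]
  change (Ideal.Quotient.mk (J n) (t ^ (n + 1))) • e = 0
  rw [h1, zero_smul]

include hJ hsurj hker in
omit [IsNoetherianRing C] [∀ n, Module.Finite (C ⧸ J n) (E n)] [∀ n, Algebra.Etale (C ⧸ J n) (E n)] in
/-- `E n` is the reduction of `B`. -/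
theorem exists_equiv (n : ℕ) : Nonempty ((C ⧸ J n) ⊗[C] B ≃ₐ[C ⧸ J n] E n) := by
  let φ : (C ⧸ J n) ⊗[C] B →ₐ[C ⧸ J n] E n :=
    Algebra.TensorProduct.lift (Algebra.ofId (C ⧸ J n) (E n)) (β n) (fun _ _ => Commute.all _ _)
  have hφ : ∀ b, φ (1 ⊗ₜ b) = β n b := fun b => by
    rw [Algebra.TensorProduct.lift_tmul, map_one, one_mul]
  refine ⟨AlgEquiv.ofBijective φ ⟨?_, ?_⟩⟩
  · rw [injective_iff_map_eq_zero]
    intro z hz
    obtain ⟨b, rfl⟩ : ∃ b, 1 ⊗ₜ[C] b = z := by
      exact TensorProduct.mk_surjective C B (C ⧸ J n) Ideal.Quotient.mk_surjective z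
    rw [hφ] at hz
    obtain ⟨b', rfl⟩ := hker n b hz
    rw [TensorProduct.tmul_smul, TensorProduct.smul_tmul', smul_eq_zero t J hJ (fun n => C ⧸ J n) n,
      TensorProduct.zero_tmul]
  · intro e
    obtain ⟨b, rfl⟩ := hsurj n e
    exact ⟨_, hφ b⟩

include hJ hsurj hker hsep hnd htr in
/-- **One-chart algebra.** -/
theorem main : Module.Finite C B ∧ ∃ g : C, g - 1 ∈ Ideal.span {t} ∧
    ∀ (D : Type u) [CommRing D] [Algebra C D], IsUnit (algebraMap C D g) →
      Module.Finite D (D ⊗[C] B) ∧ Algebra.Etale D (D ⊗[C] B) := by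
  have hEfin : ∀ n, Module.Finite C (E n) := fun n => Module.Finite.trans (C ⧸ J n) _
  have hfin : Module.Finite C B := by
    obtain rfl : J = fun n => Ideal.span {t ^ (n + 1)} := funext hJ
    exact finite t E β hsurj hker (smul_eq_zero t _ hJ E) hsep tr hnd htr
  refine ⟨hfin, EtaleNbhd.exists_etale (Ideal.span {t}) B (fun n hn => ?_) ?_⟩
  · obtain ⟨n, rfl⟩ := Nat.exists_eq_succ_of_ne_zero hn.ne'
    rw [Ideal.span_singleton_pow, Nat.succ_eq_add_one, ← hJ]
    obtain ⟨e⟩ := exists_equiv t J hJ E β hsurj hker n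
    exact Module.Flat.of_linearEquiv e.toLinearEquiv
  · have h0 : Ideal.span {t} = J 0 := by rw [hJ]; simp
    rw [h0]
    obtain ⟨e⟩ := exists_equiv t J hJ E β hsurj hker 0
    exact Algebra.FormallyUnramified.of_equiv e.symm

end Main

end Groth.Agent.Pi1C.LefChart
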