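import Groth.Agent.Pi1C.ZeroScheme
import Groth.Agent.Ega2.AmpleSec
import Groth.Agent.Ega2.PnMap
import Groth.Agent.Ega2.ImmCrit
import Groth.Agent.Ega2.VeryAmpleCrit
import Groth.Agent.VarietyB.Segre
import Mathlib.AlgebraicGeometry.ZariskisMainTheorem

/-!
# Projective coordinates adapted to a section of an ample module

`exists_coordData`: for `X` proper over a field `k`, `L` ample and `s : O ⟶ L` there are homogeneous coordinate data on
`X` (an embedding into projective space by sections of some power of `L`) with `0`-th coordinate a power of `s`.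
-/

set_option autoImplicit false
universe u
open CategoryTheory CategoryTheory.Limits AlgebraicGeometry TopologicalSpace Opposite
open Groth.Agent.Fdesc.LocGen
open Groth.Agent.VarietyB Groth.Agent.VarietyB.ProjGlue Groth.Agent.VarietyB.ProjStd Groth.Agent.VarietyB.Segre
open Groth.Agent.Ega2

namespace Groth.Agent.Pi1C.LefEmb

attribute [local instance] MvPolynomial.gradedAlgebra

variable {X : Scheme.{u}} {I : Type} {R : Type u} [CommRing R]

theorem ores_bijective {U V : X.Opens} (h : V ≤ U) (h' : U = V) : Function.Bijective (ores h) := by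
  subst h'
  constructor
  · intro a b hab; simpa using hab
  · intro a; exact ⟨a, by simp⟩

/-- The morphism to projective space attached to coordinate data is given by `D.hom` on functions. -/
theorem appLE_hom (D : CoordData X I) (p : X ⟶ Spec (CommRingCat.of R)) (i : I)
    (e : D.U i ≤ D.toProjSpace p ⁻¹ᵁ ((stdData I R).U i)) :
    ((D.toProjSpace p).appLE ((stdData I R).U i) (D.U i) e).hom.comp ((stdData I R).hom (toSpec I R) i) =
      D.hom p i := by
  apply MvPolynomial.ringHom_ext
  · intro r
    have h1 : (stdData I R).hom (toSpec I R) i (MvPolynomial.C r) =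
        CoordData.baseHom (toSpec I R) ((stdData I R).U i) r := by
      simp only [CoordData.hom, MvPolynomial.eval₂Hom_C]
    have h2 : D.hom p i (MvPolynomial.C r) = CoordData.baseHom p (D.U i) r := by
      simp only [CoordData.hom, MvPolynomial.eval₂Hom_C]
    rw [RingHom.comp_apply, h1, h2]
    have h3 : D.toProjSpace p ≫ toSpec I R = p := D.toProjSpace_toSpec p
    have h4 : (p.appTop).hom = ((toSpec I R).appTop ≫ (D.toProjSpace p).appTop).hom := by
      rw [← Scheme.Hom.comp_appTop, h3]
    rw [CoordData.baseHom, CoordData.baseHom]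
    simp only [RingHom.comp_apply]
    rw [h4, CommRingCat.hom_comp, RingHom.comp_apply]
    set z := (toSpec I R).appTop.hom ((Scheme.ΓSpecIso (CommRingCat.of R)).inv.hom r) with hz
    have h5 : (Proj (MvPolynomial.homogeneousSubmodule I R)).presheaf.map
        (homOfLE (le_top : (stdData I R).U i ≤ ⊤)).op ≫
        (D.toProjSpace p).appLE ((stdData I R).U i) (D.U i) e =
        (D.toProjSpace p).appTop ≫ X.presheaf.map (homOfLE (le_top : D.U i ≤ ⊤)).op := by
      rw [Scheme.Hom.map_appLE, Scheme.Hom.appLE]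
      rfl
    exact congr(($h5).hom z)
  · intro k
    rw [RingHom.comp_apply, CoordData.hom_X, CoordData.hom_X]
    exact PnMap.appLE_ratio D p i k e

/-- If `X` is proper over `R` and coordinate data embed `X` on a subfamily of the charts that covers `X`, they
define a closed immersion (and all charts are affine with surjective dehomogenization). -/
theorem isClosedData_of_proper (D : CoordData X I) (p : X ⟶ Spec (CommRingCat.of R)) [IsProper p]
    (hD : ∀ i k, X.basicOpen (D.f i k) = D.U i ⊓ D.U k) (K : Set I)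
    (hcov : ⨆ j : K, D.U j = ⊤) (haff : ∀ j : K, IsAffineOpen (D.U j))
    (hsurj : ∀ j : K, Function.Surjective (D.hom p j)) : IsClosedData D p := by
  let φ := D.toProjSpace p
  have hpre : ∀ j : I, φ ⁻¹ᵁ ((stdData I R).U j) = D.U j := fun j => D.preimage_basicOpen hD p j
  have himm : IsImmersion φ := by
    refine ImmCrit.isImmersion_of_affine_family φ (ι := K) (fun j => (stdData I R).U j)
      (fun j => isAffineOpen_U I R j) (fun j => ?_) ?_ (fun j => ?_)
    · rw [hpre]; exact haff j
    · rw [← hcov]; exact iSup_congr fun j => hpre j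
    · have h1 := appLE_hom D p j (hpre j).ge
      have h2 : Function.Surjective (φ.appLE ((stdData I R).U j) (D.U j) (hpre j).ge) := by
        intro y
        obtain ⟨a, ha⟩ := hsurj j y
        refine ⟨(stdData I R).hom (toSpec I R) j a, ?_⟩
        rw [← ha, ← h1]; rfl
      intro y
      obtain ⟨z, hz⟩ := h2 (ores (hpre j).ge y)
      refine ⟨z, (ores_bijective (hpre j).ge (hpre j)).1 ?_⟩
      rw [← hz, Scheme.Hom.appLE]
      rfl
  have hsep : IsSeparated (toSpec I R) := by
    have h1 : IsSeparated (Proj.toSpecZero (MvPolynomial.homogeneousSubmodule I R)) := inferInstance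
    have h2 : IsSeparated (Proj.toSpecZero (MvPolynomial.homogeneousSubmodule I R) ≫
      Spec.map (CommRingCat.ofHom (algebraMap R (MvPolynomial.homogeneousSubmodule I R 0)))) := inferInstance
    exact h2
  have hφp : φ ≫ toSpec I R = p := D.toProjSpace_toSpec p
  have hprop : IsProper φ := by
    have : IsProper (φ ≫ toSpec I R) := by rw [hφp]; infer_instance
    exact IsProper.of_comp φ (toSpec I R)
  have hcl : IsClosedImmersion φ := by
    rw [IsClosedImmersion.iff_isProper_and_mono]
    exact ⟨hprop, inferInstance⟩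
  refine ⟨hD, fun i => ?_, fun i => ?_⟩
  · rw [← hpre i]
    exact (isAffineOpen_U I R i).preimage φ
  · have h1 := appLE_hom D p i (hpre i).ge
    intro y
    obtain ⟨y', hy'⟩ := (ores_bijective (hpre i).ge (hpre i)).2 y
    obtain ⟨z, hz⟩ := φ.app_surjective ((stdData I R).U i) (isAffineOpen_U I R i) y'
    obtain ⟨a, ha⟩ := hom_std_surjective I R i z
    refine ⟨a, ?_⟩
    rw [← h1, RingHom.comp_apply, ha, ← hy', ← hz, Scheme.Hom.appLE]
    rfl

variable {k : Type u} [Field k]

/-- the ratio of `s ^ (n+1)` by a generator of `L ^ (n+1)` lies in the ideal of the zero scheme of `s`. -/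
theorem ratio_mem_zeroScheme {L : X.Modules} (hL : PicF.IsInvertible L) (s : Coh.structureModule X ⟶ L) (n : ℕ)
    (U : X.affineOpens) {g : Γ(CohB1.tensorPow L (n + 1), U.1)} (hg : IsGen g) {a : Γ(X, U.1)}
    (ha : sec (powHom s (n + 1)) U.1 = a • g) : a ∈ (PicF2.zeroScheme L s).ideal U := by
  refine ZeroScheme.mem_ideal_of_local _ U a fun x hx => ?_
  obtain ⟨V, hV, hxV, hVU, e, he⟩ := ZeroScheme.exists_affine_isGen hL U.1 x hx
  refine ⟨⟨V, hV⟩, hVU, hxV, ?_⟩
  obtain ⟨c, hc⟩ := he.exists_eq (sec s V)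
  rw [ZeroScheme.ideal_eq_span s hL ⟨V, hV⟩ he hc, Ideal.mem_span_singleton']
  obtain ⟨v, hvu, hv⟩ := (he.pow (n + 1)).exists_unit (hg.res hVU)
  obtain ⟨v, rfl⟩ := hvu
  have h1 : sec (powHom s (n + 1)) V = ores hVU a • res _ hVU g := by
    rw [← res_sec _ hVU, ha, res_smul]
  rw [sec_powHom, hc, smul_pow, hv, smul_smul] at h1
  have h2 := (he.pow (n + 1)).ext h1
  refine ⟨↑v⁻¹ * c ^ n, ?_⟩
  have h3 : ores hVU a = c ^ (n + 1) * ↑v⁻¹ := by rw [h2, Units.mul_inv_cancel_right]
  rw [h3, pow_succ]
  ring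

theorem exists_isClosedData (p : X ⟶ Spec (CommRingCat.of k)) [IsProper p] {L : X.Modules} (hL : CohB1.IsAmple L)
    (s : Coh.structureModule X ⟶ L) :
    ∃ (r : ℕ) (D : CoordData X (Fin (r + 1))) (hD : IsClosedData D p),
      (∀ x, x ∈ D.U 0 ↔ x ∉ (PicF2.zeroScheme L s).support) ∧
      (∀ i, D.f i 0 ∈ (PicF2.zeroScheme L s).ideal ⟨D.U i, hD.affine i⟩) := by
  classical
  have hinv := hL.1
  have hqs : QuasiSeparatedSpace X := quasiSeparatedSpace_of_quasiSeparated p
  have hft : ∀ U : X.Opens, IsAffineOpen U → ∃ S : Set Γ(X, U), S.Finite ∧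
      Subring.closure (S ∪ Set.range (CoordData.baseHom p U)) = ⊤ := by
    intro U hU
    have h1 : (p.appLE ⊤ U le_top).hom.FiniteType :=
      LocallyOfFiniteType.finiteType_appLE p (isAffineOpen_top _) hU le_top
    have h2 : (CoordData.baseHom p U).FiniteType := by
      have h3 : CoordData.baseHom p U = (p.appLE ⊤ U le_top).hom.comp
          (Scheme.ΓSpecIso (CommRingCat.of k)).inv.hom := by
        rw [CoordData.baseHom, ← RingHom.comp_assoc]
        rfl
      rw [h3]
      refine h1.comp (RingHom.FiniteType.of_surjective _ ?_)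
      exact (Scheme.ΓSpecIso (CommRingCat.of k)).symm.commRingCatIsoToRingEquiv.surjective
    algebraize [CoordData.baseHom p U]
    obtain ⟨S, hS⟩ := (inferInstance : Algebra.FiniteType k Γ(X, U)).out
    refine ⟨S, S.finite_toSet, ?_⟩
    have h3 := Algebra.adjoin_eq_ring_closure (R := k) (S : Set Γ(X, U))
    rw [hS, Set.union_comm] at h3
    exact h3.symm
  choose! C hCfin hCgen using hft
  obtain ⟨ι, hι, U, hUcov, hUaff, n₀, hn₀⟩ := AmpleSec.exists_ample_sections hL C hCfin
  choose v hv w hw using hn₀ (n₀ + 1) (Nat.le_succ _)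
  have hfin : ∀ i, Finite (C (U i)) := fun i => (hCfin (U i) (hUaff i))
  let J := Option (Σ i : ι, Option (C (U i)))
  let t : J → (Coh.structureModule X ⟶ CohB1.tensorPow L (n₀ + 1)) := fun j =>
    match j with
    | none => powHom s (n₀ + 1)
    | some ⟨i, none⟩ => v i
    | some ⟨i, some c⟩ => w i c c.2
  -- reindex
  obtain ⟨r, e, he⟩ : ∃ (r : ℕ) (e : J ≃ Fin (r + 1)), e none = 0 := by
    obtain ⟨N, ⟨e⟩⟩ := Finite.exists_equiv_fin J
    obtain ⟨r, rfl⟩ : ∃ n, N = n + 1 := by
      rcases N with _ | n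
      · exact (IsEmpty.false (e none)).elim
      · exact ⟨n, rfl⟩
    exact ⟨r, e.trans (Equiv.swap (e none) 0), by simp⟩
  let t' : Fin (r + 1) → (Coh.structureModule X ⟶ CohB1.tensorPow L (n₀ + 1)) := fun j => t (e.symm j)
  have hgl : ∀ i, CohB1.genLocus _ (t' (e (some ⟨i, none⟩))) = U i := by
    intro i
    change CohB1.genLocus _ (t (e.symm (e (some ⟨i, none⟩)))) = _
    rw [e.symm_apply_apply]
    exact hv i
  have hcov : ⨆ j, CohB1.genLocus _ (t' j) = ⊤ := by
    rw [eq_top_iff, ← hUcov]
    exact iSup_le fun i => le_iSup_of_le (f := fun j => CohB1.genLocus _ (t' j)) (e (some ⟨i, none⟩)) (hgl i).ge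
  let D : CoordData X (Fin (r + 1)) := PnMap.coordData t' hcov
  have hDb : ∀ i k, X.basicOpen (D.f i k) = D.U i ⊓ D.U k := fun i k => PnMap.basicOpen_ratio t' i k
  have hD : IsClosedData D p := by
    refine isClosedData_of_proper D p hDb (Set.range fun i : ι => e (some ⟨i, none⟩)) ?_ ?_ ?_
    · rw [eq_top_iff, ← hUcov]
      refine iSup_le fun i => le_iSup_of_le
        (f := fun j : (Set.range fun i : ι => e (some ⟨i, none⟩)) => D.U j) ⟨e (some ⟨i, none⟩), i, rfl⟩ ?_
      exact (hgl i).ge
    · rintro ⟨_, i, rfl⟩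
      change IsAffineOpen (CohB1.genLocus _ (t' (e (some ⟨i, none⟩))))
      rw [hgl]
      exact hUaff i
    · rintro ⟨_, i, rfl⟩
      have hcl : Subring.closure ((D.hom p (e (some ⟨i, none⟩))).range : Set Γ(X, D.U (e (some ⟨i, none⟩)))) = ⊤ := by
        refine VeryAmpleCrit.closure_eq_top_of_le (U := U i) (W := D.U (e (some ⟨i, none⟩))) (hgl i) _
          (hCgen (U i) (hUaff i)) _ ?_
        rintro a (ha | ⟨r, rfl⟩)
        · refine Subring.subset_closure ⟨MvPolynomial.X (e (some ⟨i, some ⟨a, ha⟩⟩)), ?_⟩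
          rw [CoordData.hom_X]
          change PnMap.ratio t' _ _ = _
          apply (isGen_sec_genLocus (t' (e (some ⟨i, none⟩)))).ext
          rw [← PnMap.ratio_spec]
          have h1 : t' (e (some ⟨i, some ⟨a, ha⟩⟩)) = w i a ha := by
            change t (e.symm (e (some ⟨i, some ⟨a, ha⟩⟩))) = _
            rw [e.symm_apply_apply]
          have h2 : t' (e (some ⟨i, none⟩)) = v i := by
            change t (e.symm (e (some ⟨i, none⟩))) = _
            rw [e.symm_apply_apply]
          have h3 := hw i a ha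
          have h4 : CohB1.genLocus _ (t' (e (some ⟨i, none⟩))) ≤ U i := (hgl i).le
          have h5 := congrArg (fun z => sec z (CohB1.genLocus _ (t' (e (some ⟨i, none⟩))))) h1
          have h6 := congrArg (fun z => sec z (CohB1.genLocus _ (t' (e (some ⟨i, none⟩))))) h2
          refine h5.trans (Eq.trans ?_ (congrArg (fun z => ores h4 a • z) h6).symm)
          rw [← res_sec (w i a ha) h4, h3, res_smul, res_sec]
        · refine Subring.subset_closure ⟨MvPolynomial.C r, ?_⟩
          have h2 : D.hom p (e (some ⟨i, none⟩)) (MvPolynomial.C r) =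
              CoordData.baseHom p (D.U (e (some ⟨i, none⟩))) r := by
            simp only [CoordData.hom, MvPolynomial.eval₂Hom_C]
          rw [h2]
          exact (congr($(CoordData.baseHom_map p (hgl i).le) r)).symm
      rw [Subring.closure_eq] at hcl
      intro y
      have hy : y ∈ (D.hom p (e (some ⟨i, none⟩))).range := by rw [hcl]; trivial
      exact hy
  have ht0 : t' 0 = powHom s (n₀ + 1) := by
    change t (e.symm 0) = _
    rw [← he, e.symm_apply_apply]
  refine ⟨r, D, hD, fun x => ?_, fun i => ?_⟩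
  · have h1 : D.U 0 = CohB1.genLocus L s := by
      change CohB1.genLocus _ (t' 0) = _
      rw [ht0, genLocus_powHom hinv]
    rw [h1, ZeroScheme.mem_support_iff s hinv, not_not]
  · refine ratio_mem_zeroScheme hinv s n₀ ⟨D.U i, hD.affine i⟩ (isGen_sec_genLocus (t' i)) ?_
    have h1 := PnMap.ratio_spec t' i 0
    rw [ht0] at h1
    exact h1

/-- Captain's form of `exists_isClosedData`. -/
theorem exists_coordData (p : X ⟶ Spec (CommRingCat.of k)) [IsProper p] {L : X.Modules} (hL : CohB1.IsAmple L)
    (s : Coh.structureModule X ⟶ L) :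
    ∃ (r : ℕ) (D : CoordData X (Fin (r + 1))) (hU : ∀ i, IsAffineOpen (D.U i)),
      (∀ i k, X.basicOpen (D.f i k) = D.U i ⊓ D.U k) ∧ (∀ i, Function.Surjective (D.hom p i)) ∧
      (∀ x, x ∈ D.U 0 ↔ x ∉ (PicF2.zeroScheme L s).support) ∧
      (∀ i, D.f i 0 ∈ (PicF2.zeroScheme L s).ideal ⟨D.U i, hU i⟩) := by
  obtain ⟨r, D, hD, h1, h2⟩ := exists_isClosedData p hL s
  exact ⟨r, D, hD.affine, hD.basicOpen, hD.surj, h1, h2⟩

end Groth.Agent.Pi1C.LefEmb
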