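import Groth.Agent.Pi1C.LefClopenStmt
import Groth.Agent.Pi1C.ConeCech
import Groth.Agent.Pi1C.ConeAnnR
import Groth.Agent.Pi1C.LefEmb

/-!
# The clopen form of Stacks 0ELC
-/

set_option autoImplicit false

universe u

open CategoryTheory CategoryTheory.Limits AlgebraicGeometry

namespace Groth.Agent.Pi1C.LefClopenMain

open Groth.Agent.VarietyB.ProjGlue Groth.Agent.Pi1C.Cone Groth.Agent.Pi1C.LefClopen

theorem lefClopen : LefClopenStmt.LefClopen.{u} := by
  intro k _ X f _ L hL s hd
  obtain ⟨r, D, hU, hb, hs, h0, -⟩ := LefEmb.exists_coordData f hL s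
  have hloc : IsLocallyNoetherian X := by
    have : IsLocallyNoetherian (Spec (CommRingCat.of k)) := inferInstance
    exact LocallyOfFiniteType.isLocallyNoetherian f
  obtain ⟨c, hc⟩ := ConeAnnR.exists_pow_smul_H_eq_zero D f hU hb hs 1
    (fun x hx => by
      have := hd x ((h0 x).1 hx)
      exact_mod_cast this)
  have hH0 : H0 D 0 c := ConeCech.h0_of_annihilation D f hU hb hs c (hc 1 (by norm_num))
  have hH1 : H1 D 0 c := ConeCech.h1_of_annihilation D f hU hb hs c (hc 2 (by norm_num))
  have hsupp : ((PicF2.zeroScheme L s).support : Set X) = (D.U 0 : Set X)ᶜ := by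
    ext x
    have := h0 x
    constructor
    · intro hx hx'
      exact this.1 hx' hx
    · intro hx
      by_contra hx'
      exact hx (this.2 hx')
  rw [hsupp]
  refine ⟨fun Z hZ hdis => ?_, fun A B hA hB hAB hd => ?_⟩
  · refine eq_empty_of_isClopen hU hb hH0 Z hZ ?_
    intro z hz
    by_contra hz'
    exact Set.disjoint_left.1 hdis hz hz'
  · exact exists_isClopen hU hb hH0 hH1 A B hA hB hAB hd

end Groth.Agent.Pi1C.LefClopenMain
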