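import Groth.Statements.S1150

/-!
# Statement of the clopen form of Stacks 0ELC
-/

set_option autoImplicit false

universe u

open CategoryTheory CategoryTheory.Limits AlgebraicGeometry

namespace Groth.Agent.Pi1C.LefClopenStmt

/-- Clopen form of the Lefschetz full faithfulness: clopen subsets of `X` correspond to clopen subsets of the zero
scheme of a section of an ample invertible module. -/
def LefClopen : Prop :=
  ∀ (k : Type u) [Field k] (X : Scheme.{u}) (f : X ⟶ Spec (CommRingCat.of k)) [IsProper f] (L : X.Modules)
    (_ : CohB1.IsAmple L) (s : Coh.structureModule X ⟶ L)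
    (_ : ∀ x : X, x ∉ (PicF2.zeroScheme L s).support →
      (1 : WithBot ℕ∞) < (LocCoh.depth (X.presheaf.stalk x) (X.presheaf.stalk x) : WithBot ℕ∞) +
        topologicalKrullDim (closure ({x} : Set X))),
    (∀ Z : Set X, IsClopen Z → Disjoint Z ((PicF2.zeroScheme L s).support : Set X) → Z = ∅) ∧
    ∀ A B : Set X, IsClosed A → IsClosed B → A ∪ B = ((PicF2.zeroScheme L s).support : Set X) → Disjoint A B →
      ∃ Z : Set X, IsClopen Z ∧ Z ∩ ((PicF2.zeroScheme L s).support : Set X) = A

end Groth.Agent.Pi1C.LefClopenStmt
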