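import Groth.Prelude.Def_PicF2
import Groth.Agent.Fdesc.LocGen
import Groth.Agent.Fdesc.QCohStalk
import Groth.Agent.Ega3B.LocFree
import Groth.Agent.Ega2.QCohLocal

/-!
# The zero scheme of a section of an invertible module

* `ideal_zeroScheme`: on affine opens the ideal of `PicF2.zeroScheme L s` is `PicF2.zeroIdealOn L s U`.
* `ideal_eq_span`: if `e` generates `L` over the affine open `U` and `s|_U = c • e` it is the ideal `(c)`.
* `mem_ideal_of_isGen`: locality.
* `mem_support_iff`: the support of `Z(s)` is the complement of `X_s`.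
-/

set_option autoImplicit false
universe u
open CategoryTheory CategoryTheory.Limits AlgebraicGeometry Opposite TopologicalSpace
open Groth.Agent.Fdesc.LocGen Groth.Agent.Fdesc

namespace Groth.Agent.Pi1C.ZeroScheme

variable {X : Scheme.{u}}

/-- elementary localization: extension after multiplication by a power -/
theorem exists_res_eq {M : X.Modules} (hM : Coh.IsQCoh M) {U : X.Opens} (hU : IsAffineOpen U) (f : Γ(X, U))
    (t : Γ(M, X.basicOpen f)) :
    ∃ (n : ℕ) (m : Γ(M, U)), res M (X.basicOpen_le f) m = (ores (X.basicOpen_le f) f) ^ n • t :=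
  QCohStalk.exists_map_eq_pow_smul M hU hM f t

/-- elementary localization: sections vanishing on `D(f)` -/
theorem exists_pow_smul_eq_zero {M : X.Modules} (hM : Coh.IsQCoh M) {U : X.Opens} (hU : IsAffineOpen U)
    (f : Γ(X, U)) (m : Γ(M, U)) (hm : res M (X.basicOpen_le f) m = 0) : ∃ n : ℕ, f ^ n • m = 0 :=
  QCohStalk.exists_pow_smul_eq_zero M hU hM f m hm

theorem isUnit_ores_basicOpen {U : X.Opens} (f : Γ(X, U)) : IsUnit (ores (X.basicOpen_le f) f) :=
  RingedSpace.isUnit_res_basicOpen _ f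

theorem exists_ores_eq {U : X.Opens} (hU : IsAffineOpen U) (f : Γ(X, U))
    (b : Γ(X, X.basicOpen f)) : ∃ (n : ℕ) (a : Γ(X, U)), ores (X.basicOpen_le f) a = (ores (X.basicOpen_le f) f) ^ n * b := by
  have h1 : IsLocalization.Away f Γ(X, X.basicOpen f) := hU.isLocalization_basicOpen f
  obtain ⟨n, a, h⟩ := IsLocalization.Away.surj f b
  exact ⟨n, a, (h.symm.trans (mul_comm _ _))⟩

variable {L : X.Modules} (s : Coh.structureModule X ⟶ L)

/-- the ideal of functions `a` with `a • L(U) ⊆ O(U) • s`. -/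
noncomputable def zid (U : X.Opens) : Ideal Γ(X, U) := PicF2.zeroIdealOn L s U

theorem mem_zid_iff {U : X.Opens} (a : Γ(X, U)) :
    a ∈ zid s U ↔ ∀ m : Γ(L, U), ∃ b : Γ(X, U), a • m = b • sec s U := Iff.rfl

theorem zid_eq_span {U : X.Opens} {e : Γ(L, U)} (he : IsGen e) {c : Γ(X, U)} (hc : sec s U = c • e) :
    zid s U = Ideal.span {c} := by
  ext a
  rw [mem_zid_iff, Ideal.mem_span_singleton']
  constructor
  · intro h
    obtain ⟨b, hb⟩ := h e
    refine ⟨b, he.ext ?_⟩
    rw [mul_smul, ← hc, hb]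
  · rintro ⟨b, rfl⟩ m
    obtain ⟨d, rfl⟩ := he.exists_eq m
    refine ⟨b * d, ?_⟩
    rw [hc, smul_smul, smul_smul]
    congr 1
    ring

theorem map_zid (hL : PicF.IsInvertible L) {U : X.Opens} (hU : IsAffineOpen U) (f : Γ(X, U)) :
    (zid s U).map (ores (X.basicOpen_le f)) = zid s (X.basicOpen f) := by
  have hq : Coh.IsQCoh L := Ega2.QCohLocal.isQCoh_of_isInvertible hL
  have hfl : FlatMod.IsFinLocFree L :=
    Ega2.QCohLocal.isFinLocFree_of_rank (Ega2.QCohLocal.isFinLocFreeOfRank_one_iff.2 hL)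
  have hfin : Module.Finite Γ(X, U) Γ(L, U) :=
    (@Ega3B.LocFree.finite_flat_sections X L hq hfl U hU).1
  have hu := isUnit_ores_basicOpen f
  apply le_antisymm
  · rw [Ideal.map_le_iff_le_comap]
    intro a ha
    rw [Ideal.mem_comap, mem_zid_iff]
    intro m'
    obtain ⟨n, m, hm⟩ := exists_res_eq hq hU f m'
    obtain ⟨b, hb⟩ := (mem_zid_iff s a).mp ha m
    have h1 := congrArg (res L (X.basicOpen_le f)) hb
    rw [res_smul, res_smul, hm, res_sec] at h1
    obtain ⟨v, hv⟩ := (hu.pow n)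
    refine ⟨(↑v⁻¹ : Γ(X, X.basicOpen f)) * ores (X.basicOpen_le f) b, ?_⟩
    rw [mul_smul, ← h1, ← hv, smul_smul, smul_smul]
    congr 1
    rw [mul_right_comm, Units.inv_mul, one_mul]
  · intro a' ha'
    obtain ⟨n, a, ha⟩ := exists_ores_eq hU f a'
    -- `a|_{D(f)} ∈ zid`
    have ha1 : ores (X.basicOpen_le f) a ∈ zid s (X.basicOpen f) := by
      rw [ha]; exact Ideal.mul_mem_left _ _ ha'
    have key : ∃ N : ℕ, f ^ N * a ∈ zid s U := by
      obtain ⟨t, ht⟩ := hfin.fg_top
      have h1 : ∀ m : Γ(L, U), ∃ (N : ℕ) (b : Γ(X, U)), (f ^ N * a) • m = b • sec s U := by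
        intro m
        obtain ⟨b', hb'⟩ := (mem_zid_iff s _).mp ha1 (res L (X.basicOpen_le f) m)
        obtain ⟨k, b, hb⟩ := exists_ores_eq hU f b'
        have h2 : res L (X.basicOpen_le f) ((f ^ k * a) • m - b • sec s U) = 0 := by
          rw [map_sub, res_smul, res_smul, res_sec, hb, map_mul, map_pow, mul_smul, hb', mul_smul, sub_self]
        obtain ⟨l, hl⟩ := exists_pow_smul_eq_zero hq hU f _ h2
        refine ⟨l + k, f ^ l * b, ?_⟩
        rw [smul_sub, sub_eq_zero, smul_smul, smul_smul, ← mul_assoc, ← pow_add] at hl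
        exact hl
      choose N b hb using h1
      refine ⟨t.sup N, ?_⟩
      rw [mem_zid_iff]
      intro m
      have hm : m ∈ Submodule.span Γ(X, U) (t : Set Γ(L, U)) := by rw [ht]; trivial
      induction hm using Submodule.span_induction with
      | mem x hx =>
        have hle : N x ≤ t.sup N := Finset.le_sup hx
        obtain ⟨d, hd⟩ := Nat.exists_eq_add_of_le hle
        refine ⟨f ^ d * b x, ?_⟩
        rw [mul_smul (f ^ d), ← hb x, smul_smul, hd]
        congr 1
        ring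
      | zero => exact ⟨0, by rw [smul_zero, zero_smul]⟩
      | add x y _ _ hx hy =>
        obtain ⟨b1, h1⟩ := hx
        obtain ⟨b2, h2⟩ := hy
        exact ⟨b1 + b2, by rw [smul_add, h1, h2, add_smul]⟩
      | smul r x _ hx =>
        obtain ⟨b1, h1⟩ := hx
        exact ⟨r * b1, by rw [smul_comm, h1, mul_smul]⟩
    obtain ⟨N, hN⟩ := key
    have h3 : ores (X.basicOpen_le f) (f ^ N * a) ∈ (zid s U).map (ores (X.basicOpen_le f)) :=
      Ideal.mem_map_of_mem _ hN
    rw [map_mul, ha, ← mul_assoc, map_pow, ← pow_add] at h3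
    exact (Ideal.unit_mul_mem_iff_mem _ (hu.pow _)).mp h3

/-- The zero scheme as an explicit ideal sheaf datum. -/
noncomputable def zdata (hL : PicF.IsInvertible L) : X.IdealSheafData where
  ideal U := zid s U.1
  map_ideal_basicOpen U f := map_zid s hL U.2 f

theorem zeroScheme_eq (hL : PicF.IsInvertible L) : PicF2.zeroScheme L s = zdata s hL :=
  Scheme.IdealSheafData.ofIdeals_ideal (zdata s hL)

theorem ideal_zeroScheme (hL : PicF.IsInvertible L) (U : X.affineOpens) :
    (PicF2.zeroScheme L s).ideal U = zid s U.1 := by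
  rw [zeroScheme_eq s hL]; rfl

theorem ideal_eq_span (hL : PicF.IsInvertible L) (U : X.affineOpens) {e : Γ(L, U.1)} (he : IsGen e)
    {c : Γ(X, U.1)} (hc : sec s U.1 = c • e) :
    (PicF2.zeroScheme L s).ideal U = Ideal.span {c} := by
  rw [ideal_zeroScheme s hL, zid_eq_span s he hc]

/-- small affine neighbourhoods inside a given open on which `L` is free -/
theorem exists_affine_isGen (hL : PicF.IsInvertible L) (W : X.Opens) (x : X) (hx : x ∈ W) :
    ∃ (U : X.Opens) (_ : IsAffineOpen U) (_ : x ∈ U) (_ : U ≤ W) (e : Γ(L, U)), IsGen e := by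
  obtain ⟨V, e, hxV, he⟩ := (isInvertible_iff L).mp hL x
  obtain ⟨_, ⟨U, hU, rfl⟩, hxU, hUle⟩ :=
    X.isBasis_affineOpens.exists_subset_of_mem_open (⟨hx, hxV⟩ : x ∈ W ⊓ V) (W ⊓ V).2
  exact ⟨U, hU, hxU, fun y hy => (hUle hy).1, res L (fun y hy => (hUle hy).2) e, he.res _⟩

theorem mem_support_iff (hL : PicF.IsInvertible L) (x : X) :
    x ∈ (PicF2.zeroScheme L s).support ↔ x ∉ CohB1.genLocus L s := by
  obtain ⟨U, hU, hxU, -, e, he⟩ := exists_affine_isGen hL ⊤ x trivial
  obtain ⟨c, hc⟩ := he.exists_eq (sec s U)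
  rw [Scheme.IdealSheafData.mem_support_iff_of_mem (U := ⟨U, hU⟩) hxU, ideal_eq_span s hL ⟨U, hU⟩ he hc]
  have h1 : CohB1.genLocus L s ⊓ U = X.basicOpen c := genLocus_inf_eq s he hc
  have h2 : x ∈ CohB1.genLocus L s ↔ x ∈ X.basicOpen c := by
    rw [← h1]; exact ⟨fun h => ⟨h, hxU⟩, fun h => h.1⟩
  rw [h2, Scheme.zeroLocus_span, Scheme.mem_zeroLocus_iff]
  simp

/-- Membership in the ideal of an ideal sheaf is local. -/
theorem mem_ideal_of_local (J : X.IdealSheafData) (U : X.affineOpens) (a : Γ(X, U.1))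
    (h : ∀ x ∈ U.1, ∃ (V : X.affineOpens) (hV : V.1 ≤ U.1), x ∈ V.1 ∧ ores hV a ∈ J.ideal V) :
    a ∈ J.ideal U := by
  let T : Ideal Γ(X, U.1) := (J.ideal U).colon (Ideal.span {a})
  have hT : ∀ r, r ∈ T ↔ r * a ∈ J.ideal U := by
    intro r
    simp [T, Submodule.mem_colon]
  suffices hT1 : T = ⊤ by
    have := (hT 1).mp (hT1 ▸ trivial)
    simpa using this
  by_contra hne
  obtain ⟨p, hp, hle⟩ := Ideal.exists_le_maximal _ hne
  let q : PrimeSpectrum Γ(X, U.1) := ⟨p, hp.isPrime⟩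
  have hqU : U.2.fromSpec q ∈ U.1 := by
    have : U.2.fromSpec q ∈ U.2.fromSpec.opensRange := ⟨q, rfl⟩
    rwa [U.2.opensRange_fromSpec] at this
  obtain ⟨V, hV, hqV, haV⟩ := h _ hqU
  obtain ⟨f, hfV, hqf⟩ := U.2.exists_basicOpen_le (V := V.1) ⟨U.2.fromSpec q, hqV⟩ hqU
  have hfp : f ∉ p := by
    have : q ∈ U.2.fromSpec ⁻¹ᵁ X.basicOpen f := hqf
    rw [U.2.fromSpec_preimage_basicOpen] at this
    exact this
  have h1 : ores (X.basicOpen_le f) a ∈ J.ideal (X.affineBasicOpen f) := by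
    have h2 : ores hfV (ores hV a) ∈ J.ideal (X.affineBasicOpen f) :=
      J.ideal_le_comap_ideal (U := X.affineBasicOpen f) (V := V) hfV haV
    rwa [ores_ores] at h2
  rw [← J.map_ideal_basicOpen U f] at h1
  have hloc : IsLocalization.Away f Γ(X, X.basicOpen f) := U.2.isLocalization_basicOpen f
  obtain ⟨_, ⟨n, rfl⟩, hm⟩ := (IsLocalization.algebraMap_mem_map_algebraMap_iff (Submonoid.powers f) Γ(X, X.basicOpen f)
    (J.ideal U) a).mp h1
  have h3 : f ^ n ∈ T := (hT _).mpr hm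
  exact hfp (hp.isPrime.mem_of_pow_mem _ (hle h3))

end Groth.Agent.Pi1C.ZeroScheme
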