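import Groth.Agent.Pi1C.LefReduce
import Groth.Agent.Pi1C.LefClopenStmt
import Groth.Agent.Pi1C.LefEmb
import Groth.Agent.Pi1C.ZeroScheme

/-!
# 0ELC from its clopen form
-/

set_option autoImplicit false

universe u

open CategoryTheory CategoryTheory.Limits AlgebraicGeometry

namespace Groth.Agent.Pi1C.LefFinal

open Groth.Agent.Pi1C.LefReduce

theorem support_eq {X : Scheme.{u}} {L : X.Modules} (hL : PicF.IsInvertible L)
    (s : Coh.structureModule X ⟶ L) :
    ((PicF2.zeroScheme L s).support : Set X) = (CohB1.genLocus L s : Set X)ᶜ := by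
  ext x
  exact Groth.Agent.Pi1C.ZeroScheme.mem_support_iff s hL x

theorem isAffineOpen_genLocus {k : Type u} [Field k] {X : Scheme.{u}}
    (f : X ⟶ Spec (CommRingCat.of k)) [IsProper f] {L : X.Modules} (hL : CohB1.IsAmple L)
    (s : Coh.structureModule X ⟶ L) : IsAffineOpen (CohB1.genLocus L s) := by
  obtain ⟨r, D, hU, -, -, h1, -⟩ := Groth.Agent.Pi1C.LefEmb.exists_coordData f hL s
  have h2 : D.U 0 = CohB1.genLocus L s := by
    ext x
    have h3 := h1 x
    rw [Groth.Agent.Pi1C.ZeroScheme.mem_support_iff s hL.1 x, not_not] at h3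
    exact h3
  rw [← h2]
  exact hU 0

theorem lefClopen (H : Groth.Agent.Pi1C.LefClopenStmt.LefClopen.{u}) : LefClopen.{u} := by
  intro k _ X f _ L hL s hd
  have hsup := support_eq hL.1 s
  obtain ⟨h1, h2⟩ := H k X f L hL s (by
    intro x hx
    refine hd x ?_
    rw [Groth.Agent.Pi1C.ZeroScheme.mem_support_iff s hL.1 x, not_not] at hx
    exact hx)
  rw [hsup] at h1 h2
  refine ⟨fun Z hZ h0 => h1 Z hZ (Set.disjoint_iff_inter_eq_empty.mpr h0), fun A B hA hB hAB h0 => ?_⟩
  exact h2 A B hA hB hAB (Set.disjoint_iff_inter_eq_empty.mpr h0)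

theorem main (H : Groth.Agent.Pi1C.LefClopenStmt.LefClopen.{u}) (k : Type u) [Field k] (X : Scheme.{u})
    (f : X ⟶ Spec (CommRingCat.of k)) [IsProper f] (L : X.Modules) (hL : CohB1.IsAmple L)
    (s : Coh.structureModule X ⟶ L)
    (hd : ∀ x : X, x ∉ (PicF2.zeroScheme L s).support →
      (1 : WithBot ℕ∞) < (LocCoh.depth (X.presheaf.stalk x) (X.presheaf.stalk x) : WithBot ℕ∞) +
        topologicalKrullDim (closure ({x} : Set X)))
    (V : X.Opens) (hV : ((PicF2.zeroScheme L s).support : Set X) ⊆ V) :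
    (FEt.restrict (pullback.snd (PicF2.zeroScheme L s).subschemeι V.ι)).Full ∧
    (FEt.restrict (pullback.snd (PicF2.zeroScheme L s).subschemeι V.ι)).Faithful := by
  have hr : Set.range (PicF2.zeroScheme L s).subschemeι = (CohB1.genLocus L s : Set X)ᶜ := by
    rw [Scheme.IdealSheafData.range_subschemeι, support_eq hL.1 s]
  refine restrict_fullyFaithful (lefClopen H) f L hL s ?_ (isAffineOpen_genLocus f hL s) _ hr V ?_
  · intro x hx
    refine hd x ?_
    rw [Groth.Agent.Pi1C.ZeroScheme.mem_support_iff s hL.1 x, not_not]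
    exact hx
  · rw [hr, ← support_eq hL.1 s]
    exact hV

end Groth.Agent.Pi1C.LefFinal
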