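import Groth.Agent.Pi1C.LefTors
import Groth.Agent.Pi1C.LefEmb
import Groth.Agent.Pi1C.LefFinal
import Groth.Agent.S0250

/-!
# Lefschetz theorem for fundamental groups (0ELE): final assembly
-/

set_option autoImplicit false
universe u
open AlgebraicGeometry CategoryTheory CategoryTheory.Limits
open Groth.Agent.VarietyB.ProjGlue

namespace Groth.Agent.Pi1C.LefEss

open LefSetup UnionPush PurityQuot LefTors

theorem main (H : LefRegular.{u}) (k : Type u) [Field k] (X : Scheme.{u})
    (f : X ⟶ Spec (CommRingCat.of k)) [IsProper f] (L : X.Modules) (hL : CohB1.IsAmple L)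
    (s : Coh.structureModule X ⟶ L)
    (hd : ∀ x : X, x ∉ (PicF2.zeroScheme L s).support →
      (2 : WithBot ℕ∞) < (LocCoh.depth (X.presheaf.stalk x) (X.presheaf.stalk x) : WithBot ℕ∞) +
        topologicalKrullDim (closure ({x} : Set X)))
    (hp : ∀ x : X, x ∉ (PicF2.zeroScheme L s).support → IsClosed ({x} : Set X) →
      FEt.PurityHolds (X.presheaf.stalk x)) :
    (FEt.restrict (PicF2.zeroScheme L s).subschemeι).EssSurj := by
  have hX : IsLocallyNoetherian X := LocallyOfFiniteType.isLocallyNoetherian f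
  have hXc : CompactSpace X := QuasiCompact.compactSpace_of_compactSpace f
  have hXn : IsNoetherian X := {}
  obtain ⟨r, D, hU, hb, hs, h0, hmem⟩ := LefEmb.exists_coordData f hL s
  set zs := PicF2.zeroScheme L s with hzs
  have hNE : NbhdExt D 0 := nbhdExt H f D ⟨hU, hb, hs⟩ (fun x hx => hd x ((h0 x).mp hx))
  let J := hyper D hU 0
  have hJ : J ≤ zs := by
    refine Scheme.IdealSheafData.le_of_iSup_eq_top (fun i => ⟨D.U i, hU i⟩) D.iSup_U fun i => ?_
    rw [hyper_ideal, Ideal.span_singleton_le_iff_mem]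
    exact hmem i
  let q := Scheme.IdealSheafData.inclusion hJ
  have hq : q ≫ J.subschemeι = zs.subschemeι := Scheme.IdealSheafData.inclusion_subschemeι _
  have hsupp : ∀ y : X, y ∈ J.support → y ∈ zs.support := by
    intro y hy
    by_contra hy'
    have h1 : y ∈ D.U 0 := (h0 y).mpr hy'
    rw [Scheme.IdealSheafData.mem_support_iff_of_mem (U := ⟨D.U 0, hU 0⟩) h1] at hy
    rw [hyper_ideal, D.f_self, Scheme.mem_zeroLocus_iff] at hy
    refine hy 1 (Ideal.mem_span_singleton_self _) ?_
    rw [Scheme.basicOpen_of_isUnit _ isUnit_one]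
    exact h1
  have hqc : IsClosedImmersion q := by
    have : IsClosedImmersion (q ≫ J.subschemeι) := by rw [hq]; infer_instance
    exact IsClosedImmersion.of_comp q J.subschemeι
  have hqs : Surjective q := by
    refine ⟨fun y => ?_⟩
    have h1 : J.subschemeι y ∈ Set.range zs.subschemeι := by
      rw [Scheme.IdealSheafData.range_subschemeι]
      exact hsupp _ (by
        have : J.subschemeι y ∈ Set.range J.subschemeι := ⟨y, rfl⟩
        rwa [Scheme.IdealSheafData.range_subschemeι] at this)
    obtain ⟨y', hy'⟩ := h1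
    refine ⟨y', J.subschemeι.isClosedEmbedding.injective ?_⟩
    rw [← hy', ← hq]
    rfl
  have hqe : (FEt.restrict q).IsEquivalence := S0238.result q
  refine ⟨fun W => ?_⟩
  obtain ⟨N, g, V, hg, ⟨e⟩⟩ := hNE J.subschemeι (isSection_hyper D hU 0)
    ((FEt.restrict q).objPreimage W)
  have hJN : ∀ y : X, y ∈ zs.support → y ∈ N := by
    intro y hy
    have h1 : y ∈ Set.range zs.subschemeι := by
      rw [Scheme.IdealSheafData.range_subschemeι]; exact hy
    obtain ⟨z, rfl⟩ := h1
    rw [← hq, ← hg]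
    exact Subtype.mem _
  have hP : (FEt.restrict N.ι).EssSurj := S0250.result N (fun x hx => by
    have hx0 : x ∉ zs.support := fun h => hx (hJN x h)
    refine hp x hx0 (LefReduce.isClosed_singleton_of_affine f (D.U 0) (hU 0) (N : Set X)ᶜ
      N.isOpen.isClosed_compl (fun y hy => ?_) x hx)
    exact (h0 y).mpr (fun h => hy (hJN y h)))
  let V' := (FEt.restrict N.ι).objPreimage V
  let e' : (FEt.restrict N.ι).obj V' ≅ V := (FEt.restrict N.ι).objObjPreimageIso V
  have hfac : q ≫ g ≫ N.ι = zs.subschemeι := by rw [hg, hq]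
  refine ⟨V', ⟨?_⟩⟩
  exact ((restrictCongr hfac).symm ≪≫ restrictComp q (g ≫ N.ι)).app V' ≪≫
    (FEt.restrict q).mapIso ((restrictComp g N.ι).app V' ≪≫ (FEt.restrict g).mapIso e' ≪≫ e) ≪≫
    (FEt.restrict q).objObjPreimageIso W

end Groth.Agent.Pi1C.LefEss
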