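import Groth.Agent.Pi1C.ChartGlue
import Groth.Agent.Pi1C.EtNear619
import Mathlib.RingTheory.Etale.Basic

/-!
# Finite etale over basic opens
-/

set_option autoImplicit false
universe u
open AlgebraicGeometry CategoryTheory CategoryTheory.Limits

namespace Groth.Agent.Pi1C.LefEtale

open SecOver

/-- Étaleness of `R → B_s` gives étaleness of `R_s → B_s`, for arbitrary models. -/
theorem etale_of_away {R B Rs Bs : Type u} [CommRing R] [CommRing B] [CommRing Rs] [CommRing Bs]
    [Algebra R B] [Algebra R Rs] [Algebra B Bs] [Algebra R Bs] [Algebra Rs Bs] [IsScalarTower R B Bs]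
    [IsScalarTower R Rs Bs] (s : R) [IsLocalization.Away s Rs] [IsLocalization.Away (algebraMap R B s) Bs]
    [Algebra.Etale R (Localization.Away (algebraMap R B s))] : Algebra.Etale Rs Bs := by
  have h1 : Algebra.Etale R Rs := Algebra.Etale.of_isLocalizationAway s
  let e : Localization.Away (algebraMap R B s) ≃ₐ[B] Bs :=
    IsLocalization.algEquiv (Submonoid.powers (algebraMap R B s)) _ _
  have h2 : Algebra.Etale R Bs := Algebra.Etale.of_equiv (e.restrictScalars R)
  exact Algebra.Etale.of_restrictScalars R Rs Bs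

theorem etale_app {P X : Scheme.{u}} (q : P ⟶ X) [IsAffineHom q] {W : X.Opens} (hW : IsAffineOpen W)
    (s : Γ(X, W))
    (h : letI := (q.app W).hom.toAlgebra
      Algebra.Etale Γ(X, W) (Localization.Away (algebraMap Γ(X, W) Γ(P, q ⁻¹ᵁ W) s))) :
    (q.app (X.basicOpen s)).hom.Etale := by
  let _ := (q.app W).hom.toAlgebra
  let _ := (X.presheaf.map (homOfLE (X.basicOpen_le s)).op).hom.toAlgebra
  let _ := (P.presheaf.map (homOfLE (q.preimage_mono (X.basicOpen_le s))).op).hom.toAlgebra
  let _ := (q.app (X.basicOpen s)).hom.toAlgebra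
  let _ := (X.presheaf.map (homOfLE (X.basicOpen_le s)).op ≫ q.app (X.basicOpen s)).hom.toAlgebra
  have t1 : IsScalarTower Γ(X, W) Γ(X, X.basicOpen s) Γ(P, q ⁻¹ᵁ X.basicOpen s) :=
    IsScalarTower.of_algebraMap_eq fun _ => rfl
  have t2 : IsScalarTower Γ(X, W) Γ(P, q ⁻¹ᵁ W) Γ(P, q ⁻¹ᵁ X.basicOpen s) :=
    IsScalarTower.of_algebraMap_eq' (by
      change (X.presheaf.map (homOfLE (X.basicOpen_le s)).op ≫ q.app (X.basicOpen s)).hom =
        (q.app W ≫ P.presheaf.map (homOfLE (q.preimage_mono (X.basicOpen_le s))).op).hom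
      rw [Scheme.Hom.naturality]
      rfl)
  have l1 : IsLocalization.Away s Γ(X, X.basicOpen s) := hW.isLocalization_basicOpen s
  have l2 : IsLocalization.Away (algebraMap Γ(X, W) Γ(P, q ⁻¹ᵁ W) s) Γ(P, q ⁻¹ᵁ X.basicOpen s) :=
    (hW.preimage q).isLocalization_of_eq_basicOpen (q.app W s)
      (homOfLE (q.preimage_mono (X.basicOpen_le s))) (Scheme.preimage_basicOpen q s)
  have := h
  exact etale_of_away (R := Γ(X, W)) (B := Γ(P, q ⁻¹ᵁ W)) s

theorem prop_basicOpen {P X : Scheme.{u}} (q : P ⟶ X) [IsFinite q] {W : X.Opens} (hW : IsAffineOpen W)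
    (s : Γ(X, W))
    (h : letI := (q.app W).hom.toAlgebra
      Algebra.Etale Γ(X, W) (Localization.Away (algebraMap Γ(X, W) Γ(P, q ⁻¹ᵁ W) s))) :
    FEt.prop (q ∣_ X.basicOpen s) :=
  ChartGlue.prop_of_app q (hW.basicOpen s) (IsFinite.finite_app q _ (hW.basicOpen s))
    (etale_app q hW s h)

theorem isFinite_of_iSup {P X : Scheme.{u}} (q : P ⟶ X) [IsAffineHom q] {J : Type*} (U : J → X.Opens)
    (hU : ⨆ i, U i = ⊤) (hA : ∀ i, IsAffineOpen (U i)) (h : ∀ i, (q.app (U i)).hom.Finite) :
    IsFinite q := by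
  rw [IsZariskiLocalAtTarget.iff_of_iSup_eq_top (P := @IsFinite) U hU]
  intro i
  have : IsAffine (U i) := hA i
  have : IsAffine (q ⁻¹ᵁ (U i)) := (hA i).preimage q
  have h1 := h i
  rw [Scheme.Hom.app_eq_appLE] at h1
  have h3 : (q ∣_ (U i)).appTop = q.appLE _ _ _ := morphismRestrict_app' q (U i) ⊤
  rw [HasAffineProperty.iff_of_isAffine (P := @IsFinite)]
  refine ⟨inferInstance, ?_⟩
  rw [h3]
  exact (Scheme.Hom.appLE_congr (f := q) _ (Scheme.Opens.ι_image_top _).symm
    (Scheme.Opens.ι_image_top _).symm (fun φ => φ.hom.Finite)).mp h1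

/-- A square with surjective vertical maps and the right kernels is cocartesian. -/
theorem isPushout_of_surjective {R B C D : CommRingCat.{u}} (f : R ⟶ B) (g : R ⟶ C) (h : B ⟶ D)
    (k : C ⟶ D) (comm : f ≫ h = g ≫ k) (hg : Function.Surjective g.hom)
    (hh : Function.Surjective h.hom) (hker : RingHom.ker h.hom ≤ (RingHom.ker g.hom).map f.hom) :
    IsPushout f g h k := by
  have key : ∀ s : PushoutCocone f g, ∃ d : D ⟶ s.pt, h ≫ d = s.inl := by
    intro s
    have h0 : RingHom.ker h.hom ≤ RingHom.ker s.inl.hom := by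
      refine hker.trans ?_
      rw [Ideal.map_le_iff_le_comap]
      intro r hr
      rw [RingHom.mem_ker] at hr
      rw [Ideal.mem_comap, RingHom.mem_ker]
      change (f ≫ s.inl).hom r = 0
      rw [s.condition]
      change s.inr.hom (g.hom r) = 0
      rw [hr, map_zero]
    refine ⟨CommRingCat.ofHom (h.hom.liftOfSurjective hh ⟨s.inl.hom, h0⟩), ?_⟩
    apply CommRingCat.hom_ext
    exact RingHom.liftOfSurjective_comp _ _ _
  have e1 : Epi g := ConcreteCategory.epi_of_surjective g hg
  have e2 : Epi h := ConcreteCategory.epi_of_surjective h hh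
  refine ⟨⟨comm⟩, ⟨PushoutCocone.IsColimit.mk _ (fun s => (key s).choose)
    (fun s => (key s).choose_spec) (fun s => ?_) (fun s m h1 _ => ?_)⟩⟩
  · rw [← cancel_epi g, ← Category.assoc, ← comm, ← s.condition, Category.assoc,
      (key s).choose_spec]
  · rw [← cancel_epi h, h1, (key s).choose_spec]

/-- Étaleness of a quotient, transported from other models. -/
theorem etale_quotient {R B C D : Type u} [CommRing R] [CommRing B] [CommRing C] [CommRing D]
    [Algebra R B] (I : Ideal R) (g : R →+* C) (h : B →+* D) (k : C →+* D) 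
    (comm : h.comp (algebraMap R B) = k.comp g) (hg : Function.Surjective g)
    (hh : Function.Surjective h) (hkg : RingHom.ker g = I) (hkh : RingHom.ker h = I.map (algebraMap R B))
    (hk : k.Etale) : Algebra.Etale (R ⧸ I) (B ⧸ I.map (algebraMap R B)) := by
  subst hkg
  let e1 : (R ⧸ RingHom.ker g) ≃+* C := RingHom.quotientKerEquivOfSurjective hg
  let e2 : (B ⧸ (RingHom.ker g).map (algebraMap R B)) ≃+* D :=
    (Ideal.quotEquivOfEq hkh.symm).trans (RingHom.quotientKerEquivOfSurjective hh)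
  have h1 : algebraMap (R ⧸ RingHom.ker g) (B ⧸ (RingHom.ker g).map (algebraMap R B)) =
      (e2.symm.toRingHom.comp k).comp e1.toRingHom := by
    apply Ideal.Quotient.ringHom_ext
    ext r
    apply e2.injective
    have h2 : e2 (algebraMap (R ⧸ RingHom.ker g) (B ⧸ (RingHom.ker g).map (algebraMap R B))
        (Ideal.Quotient.mk _ r)) = h (algebraMap R B r) := rfl
    have h3 : e1 (Ideal.Quotient.mk _ r) = g r := rfl
    change e2 (algebraMap (R ⧸ RingHom.ker g) (B ⧸ (RingHom.ker g).map (algebraMap R B))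
        (Ideal.Quotient.mk _ r)) = e2 (e2.symm (k (e1 (Ideal.Quotient.mk _ r))))
    rw [h2, e2.apply_symm_apply, h3]
    exact congrArg (fun φ : R →+* D => φ r) comm
  have h2 : (algebraMap (R ⧸ RingHom.ker g) (B ⧸ (RingHom.ker g).map (algebraMap R B))).Etale := by
    rw [h1]
    exact RingHom.Etale.respectsIso.2 _ e1 (RingHom.Etale.respectsIso.1 _ e2.symm hk)
  rwa [RingHom.etale_algebraMap] at h2

end Groth.Agent.Pi1C.LefEtale
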