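import Groth.Agent.Pi1C.CoordPull
import Groth.Agent.Pi1C.Cone
import Groth.Prelude.Def_FEt
import Mathlib.RingTheory.GradedAlgebra.Basic

/-!
# Graded algebraizations (interface for Stacks 0ELE)

`D : CoordData X (Fin (r+1))` over `p : X ⟶ Spec k`, `ι : Y ⟶ X` the closed subscheme `x_0 = 0`,
`V` finite etale over `Y`.  `GradedExt D p ι V` is a graded ring `B`, finite over the cone ring
`R = Cone.R D p`, on which `x_0` is regular, with maps `B → Γ(V, U_i)` such that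
`B_(x_i) / (x_0/x_i) = Γ(V, U_i)`.
-/

set_option autoImplicit false
universe u
open AlgebraicGeometry CategoryTheory
open Groth.Agent.VarietyB.ProjGlue

namespace Groth.Agent.Pi1C.LefStruct

open TwistSec

/-- A graded algebraization of `V`. -/
structure GradedExt {X : Scheme.{u}} {r : ℕ} (D : CoordData X (Fin (r + 1))) {k : Type u} [Field k]
    (p : X ⟶ Spec (CommRingCat.of k)) {Y : Scheme.{u}} (ι : Y ⟶ X) (V : FEt.Cat Y) where
  /-- the graded ring -/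
  B : Type u
  [commRing : CommRing B]
  /-- the grading -/
  𝒜 : ℕ → AddSubgroup B
  [gradedRing : GradedRing 𝒜]
  /-- the structure map -/
  ρ : Cone.R D p →+* B
  ρ_finite : ρ.Finite
  ρ_x : ∀ j, ρ (Cone.x D p j) ∈ 𝒜 1
  ρ_C : ∀ c : k, ρ (Ideal.Quotient.mk _ (MvPolynomial.C c)) ∈ 𝒜 0
  /-- evaluation on the charts of `V` -/
  φ : ∀ i, B →+* Γ(V.left, (pull D (V.hom ≫ ι)).U i)
  φ_mem : ∀ n, ∀ b ∈ 𝒜 n, (fun i => φ i b) ∈ Sec (pull D (V.hom ≫ ι)) (n : ℤ)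
  φ_x : ∀ i j, φ i (ρ (Cone.x D p j)) = (pull D (V.hom ≫ ι)).f i j
  φ_C : ∀ i c, φ i (ρ (Ideal.Quotient.mk _ (MvPolynomial.C c))) =
    CoordData.baseHom ((V.hom ≫ ι) ≫ p) ((pull D (V.hom ≫ ι)).U i) c
  lift : ∀ i (e : Γ(V.left, (pull D (V.hom ≫ ι)).U i)), ∃ n, ∃ b ∈ 𝒜 n, φ i b = e
  ker : ∀ i n, ∀ b ∈ 𝒜 n, φ i b = 0 →
    ∃ (N : ℕ) (b' : B), ρ (Cone.x D p i) ^ N * b = ρ (Cone.x D p 0) * b'
  reg : ∀ b, ρ (Cone.x D p 0) * b = 0 → b = 0

attribute [instance] GradedExt.commRing GradedExt.gradedRing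

/-- The hypotheses on `X`, `D`, `ι`. -/
structure Hyp {X : Scheme.{u}} {r : ℕ} (D : CoordData X (Fin (r + 1))) {k : Type u} [Field k]
    (p : X ⟶ Spec (CommRingCat.of k)) {Y : Scheme.{u}} (ι : Y ⟶ X) : Prop where
  affine : ∀ i, IsAffineOpen (D.U i)
  basicOpen : ∀ i j, X.basicOpen (D.f i j) = D.U i ⊓ D.U j
  surj : ∀ i, Function.Surjective (D.hom p i)
  closedImmersion : IsClosedImmersion ι
  ker : ∀ i, RingHom.ker (ι.app (D.U i)).hom = Ideal.span {D.f i 0}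
  reg : ∀ i, D.f i 0 ∈ nonZeroDivisors Γ(X, D.U i)

/-- The conclusion: `V` extends to an open neighbourhood of `Y`. -/
def Extends {X Y : Scheme.{u}} (ι : Y ⟶ X) (V : FEt.Cat Y) : Prop :=
  ∃ (N : X.Opens) (j : Y ⟶ N.toScheme) (_ : j ≫ N.ι = ι) (W : FEt.Cat N.toScheme),
    Nonempty ((FEt.restrict j).obj W ≅ V)

/-- The tower of infinitesimal neighbourhoods `Y n` of `Z` in `X` with the finite etale covers `V n`
lifting `V₀`. -/
structure Tower {X Z : Scheme.{u}} (ι : Z ⟶ X) (V₀ : FEt.Cat Z) where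
  /-- the thickenings -/
  Y : ℕ → Scheme.{u}
  /-- the closed immersions -/
  j : ∀ n, Y n ⟶ X
  [closed : ∀ n, IsClosedImmersion (j n)]
  ker : ∀ n (W : X.Opens), IsAffineOpen W →
    RingHom.ker ((j n).app W).hom = RingHom.ker (ι.app W).hom ^ (n + 1)
  /-- the transition maps -/
  α : ∀ n, Y n ⟶ Y (n + 1)
  α_j : ∀ n, α n ≫ j (n + 1) = j n
  /-- the covers -/
  V : ∀ n, FEt.Cat (Y n)
  /-- the transition maps of the covers -/
  β : ∀ n, (V n).left ⟶ (V (n + 1)).left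
  cart : ∀ n, IsPullback (β n) (V n).hom (V (n + 1)).hom (α n)
  /-- the base -/
  e : Y 0 ≅ Z
  e_ι : e.hom ≫ ι = j 0
  iso₀ : Nonempty ((FEt.restrict e.hom).obj V₀ ≅ V 0)

attribute [instance] Tower.closed

end Groth.Agent.Pi1C.LefStruct
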