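import Groth.Agent.Pi1C.GrModSys
import Groth.Agent.Pi1C.EtTraceSch
import Groth.Agent.Pi1C.LefStruct

/-!
# The trace on graded rings of twisted sections

For `h : V ⟶ Y` finite etale and `D : CoordData Y I`, the trace `TrM D h : M (pull D h) →+ M D`, its
linearity, dual bases up to powers of the coordinates, and base change.
-/

set_option autoImplicit false
universe u
open AlgebraicGeometry CategoryTheory
open Groth.Agent.VarietyB.ProjGlue
open scoped DirectSum

namespace Groth.Agent.Pi1C.LefTrace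

open TwistSec GrSec GrCone GrModSys LaurentPolynomial EtTraceSch

section Trace

variable {Y V : Scheme.{u}} {I : Type} (D : CoordData Y I) (h : V ⟶ Y) [IsFinite h] [Etale h]

/-- The trace on charts. -/
noncomputable def trc (i : I) : Γ(V, (pull D h).U i) →+ Γ(Y, D.U i) := tr h (D.U i)

/-- The trace on overlaps. -/
noncomputable def trUU (i j : I) :
    Γ(V, (pull D h).U i ⊓ (pull D h).U j) →+ Γ(Y, D.U i ⊓ D.U j) := tr h (D.U i ⊓ D.U j)

theorem trUU_resL (i j : I) (e : Γ(V, (pull D h).U i)) :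
    trUU D h i j (resL (pull D h) i j e) = resL D i j (trc D h i e) :=
  tr_res h (inf_le_left : D.U i ⊓ D.U j ≤ D.U i) _ e

theorem trUU_resR (i j : I) (e : Γ(V, (pull D h).U j)) :
    trUU D h i j (resR (pull D h) i j e) = resR D i j (trc D h j e) :=
  tr_res h (inf_le_right : D.U i ⊓ D.U j ≤ D.U j) _ e

theorem trUU_mul (i j : I) (c : Γ(Y, D.U i ⊓ D.U j)) (e : Γ(V, (pull D h).U i ⊓ (pull D h).U j)) :
    trUU D h i j (appUU D h i j c * e) = c * trUU D h i j e := tr_mul h _ c e

theorem trc_mul (i : I) (c : Γ(Y, D.U i)) (e : Γ(V, (pull D h).U i)) :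
    trc D h i (appU D h i c * e) = c * trc D h i e := tr_mul h _ c e

theorem trc_mem {a : ℤ} {e : ∀ i, Γ(V, (pull D h).U i)} (he : e ∈ Sec (pull D h) a) :
    (fun i => trc D h i (e i)) ∈ Sec D a := by
  intro i j
  have := congrArg (trUU D h i j) (he i j)
  rw [trUU_resL, ← appUU_u_zpow, trUU_mul, trUU_resR] at this
  exact this

/-- The trace on graded rings. -/
noncomputable def TrM : M (pull D h) →+ M D :=
  mapAdd (pull D h) D (trc D h) (fun _ _ he => trc_mem D h he)

theorem TrM_apply (z : M (pull D h)) (a : ℤ) (i : I) :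
    (TrM D h z a).1 i = trc D h i ((z a).1 i) := mapAdd_apply _ _ _ _ _ _ _

theorem lc_chart_TrM (z : M (pull D h)) (d : ℤ) (i : I) :
    lc _ d (chart D i (TrM D h z)) = trc D h i (lc _ d (chart (pull D h) i z)) := by
  rw [lc_chart, TrM_apply, lc_chart]

theorem TrM_hom (a : ℤ) (σ : Sec (pull D h) a) :
    TrM D h (hom (pull D h) a σ) = hom D a ⟨fun i => trc D h i (σ.1 i), trc_mem D h σ.2⟩ :=
  mapAdd_hom _ _ _ _ _ _

theorem TrM_mul (c : M D) (x : M (pull D h)) :
    TrM D h (pullM D h c * x) = c * TrM D h x := by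
  induction c using GrSec.induction_on with
  | h0 => rw [map_zero, zero_mul, map_zero, zero_mul]
  | h2 c c' hc hc' => rw [map_add, add_mul, map_add, add_mul, hc, hc']
  | h1 a γ =>
    induction x using GrSec.induction_on with
    | h0 => rw [mul_zero, map_zero, mul_zero]
    | h2 x x' hx hx' => rw [mul_add, map_add, map_add, mul_add, hx, hx']
    | h1 b σ =>
      rw [pullM_hom, hom_mul_hom, TrM_hom, TrM_hom, hom_mul_hom]
      congr 1
      exact Subtype.ext (funext fun i => trc_mul D h i (γ.1 i) (σ.1 i))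

end Trace

section Dual

variable {Y V : Scheme.{u}} {I : Type} [Finite I] (D : CoordData Y I) (h : V ⟶ Y) [IsFinite h]
  [Etale h] (hU : ∀ i, IsAffineOpen (D.U i)) (hb : ∀ i j, Y.basicOpen (D.f i j) = D.U i ⊓ D.U j)

include hU hb in
/-- Extending chart functions to homogeneous elements of a given large degree. -/
theorem exists_hom_of_chart {s : ℕ} (i : I) (a : Fin s → Γ(Y, D.U i)) :
    ∃ N₀ : ℕ, ∀ N, N₀ ≤ N → ∃ σ : Fin s → Sec D (N : ℤ), ∀ j, (σ j).1 i = a j := by
  choose n σ hσ hσi using fun j => exists_sec D hU hb i (a j)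
  refine ⟨∑ j, n j, fun N hN => ?_⟩
  have hle : ∀ j, n j ≤ N := fun j =>
    (Finset.single_le_sum (fun _ _ => Nat.zero_le _) (Finset.mem_univ j)).trans hN
  refine ⟨fun j => ⟨fun l => D.f l i ^ (N - n j) * σ j l, ?_⟩, fun j => ?_⟩
  · have h1 := mul_mem D (coord_pow_mem D i (N - n j)) (hσ j)
    have h2 : ((N - n j : ℕ) : ℤ) + (n j : ℤ) = (N : ℤ) := by
      have := hle j
      omega
    rw [h2] at h1
    exact h1
  · change D.f i i ^ (N - n j) * σ j i = a j
    rw [D.f_self, one_pow, one_mul, hσi]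

omit [Finite I] in
theorem finite_appU (i : I) (hU : ∀ i, IsAffineOpen (D.U i)) : (appU D h i).Finite :=
  IsFinite.finite_app h _ (hU i)

include hU hb in
/-- Dual bases up to a power of a coordinate. -/
theorem exists_dual (i : I) : ∃ (s m : ℕ) (a b : Fin s → M (pull D h)), ∀ x : M (pull D h),
    coord (pull D h) i ^ m * x = ∑ j, pullM D h (TrM D h (a j * x)) * b j := by
  classical
  have := Fintype.ofFinite I
  have hU' := pull_isAffineOpen D h hU
  have hb' := pull_basicOpen D h hb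
  obtain ⟨s, a₀, b₀, hdual⟩ := EtTraceSch.exists_dual h (hU i)
  obtain ⟨N₁, h₁⟩ := exists_hom_of_chart (pull D h) hU' hb' i a₀
  obtain ⟨N₂, h₂⟩ := exists_hom_of_chart (pull D h) hU' hb' i b₀
  obtain ⟨N, hN₁, hN₂⟩ : ∃ N, N₁ ≤ N ∧ N₂ ≤ N :=
    ⟨N₁ + N₂, Nat.le_add_right _ _, Nat.le_add_left _ _⟩
  obtain ⟨σ, hσ⟩ := h₁ N hN₁
  obtain ⟨τ, hτ⟩ := h₂ N hN₂
  let α : Fin s → M (pull D h) := fun j => hom (pull D h) N (σ j)
  let β : Fin s → M (pull D h) := fun j => hom (pull D h) N (τ j)
  -- the defect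
  let δ : M (pull D h) → M (pull D h) := fun x =>
    coord (pull D h) i ^ (N + N) * x - ∑ j, pullM D h (TrM D h (α j * x)) * β j
  let δ' : ∀ l, Γ(V, (pull D h).U l) → Γ(V, (pull D h).U l) := fun l e =>
    (pull D h).f l i ^ (N + N) * e -
      ∑ j, appU D h l (trc D h l ((σ j).1 l * e)) * (τ j).1 l
  have hF : ∀ l x d, lc _ d (chart (pull D h) l (δ x)) =
      δ' l (lc _ (d - (N + N : ℕ)) (chart (pull D h) l x)) := by
    intro l x d
    change lc _ d (chart (pull D h) l (coord (pull D h) i ^ (N + N) * x -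
      ∑ j, pullM D h (TrM D h (α j * x)) * β j)) = _
    rw [map_sub, map_sub, map_mul, map_pow, chart_coord, mul_pow, ← map_pow, T_pow, mul_one,
      mul_assoc, mul_comm (T _), lc_C_mul, lc_mul_T, map_sum, map_sum]
    congr 1
    refine Finset.sum_congr rfl fun j _ => ?_
    have e1 : chart (pull D h) l (β j) = C ((τ j).1 l) * T N := chart_hom _ _ _ _
    have e2 : chart (pull D h) l (α j) = C ((σ j).1 l) * T N := chart_hom _ _ _ _
    rw [map_mul, e1, ← mul_assoc, lc_mul_T, mul_comm _ (C _), lc_C_mul, chart_pullM, lc_lmap,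
      lc_chart_TrM, map_mul, e2, mul_comm, mul_assoc, mul_comm (T _), lc_C_mul, lc_mul_T]
    congr 5
    push_cast
    ring_nf
  have hadd : ∀ l e e', δ' l (e + e') = δ' l e + δ' l e' := by
    intro l e e'
    simp only [δ', mul_add, map_add, add_mul, Finset.sum_add_distrib]
    ring
  have hlin : ∀ l c e, δ' l (appU D h l c * e) = appU D h l c * δ' l e := by
    intro l c e
    simp only [δ', mul_sub, Finset.mul_sum]
    congr 1
    · ring
    · refine Finset.sum_congr rfl fun j _ => ?_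
      rw [mul_left_comm, trc_mul, map_mul]
      ring
  have hδi : ∀ e, δ' i e = 0 := by
    intro e
    change (pull D h).f i i ^ (N + N) * e -
      ∑ j, appU D h i (trc D h i ((σ j).1 i * e)) * (τ j).1 i = 0
    rw [(pull D h).f_self, one_pow, one_mul, sub_eq_zero]
    simp only [hσ, hτ]
    exact hdual e
  -- pointwise kill
  have hpt : ∀ l e, ∃ K : ℕ, (pull D h).f l i ^ K * δ' l e = 0 := by
    intro l e
    obtain ⟨a, ε, hε, rfl⟩ := exists_sec (pull D h) hU' hb' l e
    have h3 : chart (pull D h) i (δ (hom (pull D h) a ⟨ε, hε⟩)) = 0 := by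
      apply ext_lc
      intro d
      rw [hF, hδi, map_zero]
    obtain ⟨K, hK⟩ := GrSec.chart_eq_zero (pull D h) hU' hb' i _ h3
    refine ⟨K, ?_⟩
    have h4 : lc _ (K + (a + (N + N : ℕ))) (chart (pull D h) l (coord (pull D h) i ^ K *
        δ (hom (pull D h) a ⟨ε, hε⟩))) = 0 := by rw [hK, map_zero, map_zero]
    rw [map_mul, map_pow, chart_coord, mul_pow, ← map_pow, T_pow, mul_one, mul_assoc,
      mul_comm (T _), lc_C_mul, lc_mul_T, hF] at h4
    have h5 : chart (pull D h) l (hom (pull D h) a ⟨ε, hε⟩) = C (ε l) * T a := chart_hom _ _ _ _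
    rw [h5, lc_C_mul_T, if_pos (by push_cast; ring)] at h4
    exact h4
  -- uniform kill
  have hun : ∀ l, ∃ K : ℕ, ∀ e, (pull D h).f l i ^ K * δ' l e = 0 := by
    intro l
    have hfin := finite_appU D h l hU
    let _ := (appU D h l).toAlgebra
    have hfin' : Module.Finite Γ(Y, D.U l) Γ(V, (pull D h).U l) := hfin
    obtain ⟨m, e, he⟩ := Module.Finite.exists_fin (R := Γ(Y, D.U l)) (M := Γ(V, (pull D h).U l))
    choose K hK using fun q => hpt l (e q)
    refine ⟨∑ q, K q, fun x => ?_⟩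
    have hx : x ∈ Submodule.span Γ(Y, D.U l) (Set.range e) := by rw [he]; trivial
    induction hx using Submodule.span_induction with
    | mem x hx =>
      obtain ⟨q, rfl⟩ := hx
      rw [← Nat.sub_add_cancel (Finset.single_le_sum (f := K) (fun _ _ => Nat.zero_le _)
        (Finset.mem_univ q)), pow_add, mul_assoc, hK, mul_zero]
    | zero =>
      have : δ' l 0 = 0 := by
        have := hlin l 0 0
        rwa [map_zero, zero_mul, zero_mul] at this
      rw [this, mul_zero]
    | add x y _ _ hx hy => rw [hadd, mul_add, hx, hy, add_zero]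
    | smul c x _ hx =>
      have : c • x = appU D h l c * x := Algebra.smul_def c x
      rw [this, hlin, mul_left_comm, hx, mul_zero]
  choose K hK using hun
  refine ⟨s, (∑ l, K l) + (N + N), α, fun j => coord (pull D h) i ^ (∑ l, K l) * β j, fun x => ?_⟩
  have h6 : coord (pull D h) i ^ (∑ l, K l) * δ x = 0 := by
    apply GrSec.ext_chart
    intro l
    apply ext_lc
    intro d
    rw [map_mul, map_pow, chart_coord, mul_pow, ← map_pow, T_pow, mul_one, mul_assoc,
      mul_comm (T _), lc_C_mul, lc_mul_T, hF, map_zero, map_zero]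
    rw [← Nat.sub_add_cancel (Finset.single_le_sum (f := K) (fun _ _ => Nat.zero_le _)
        (Finset.mem_univ l)), pow_add, mul_assoc, hK, mul_zero]
  change coord (pull D h) i ^ (∑ l, K l) * (coord (pull D h) i ^ (N + N) * x -
      ∑ j, pullM D h (TrM D h (α j * x)) * β j) = 0 at h6
  rw [mul_sub, sub_eq_zero, ← mul_assoc, ← pow_add, Finset.mul_sum] at h6
  rw [h6]
  refine Finset.sum_congr rfl fun j _ => ?_
  ring

end Dual

section BaseChange

variable {X : Scheme.{u}} {I : Type} (D : CoordData X I)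

theorem trc_baseChange {Y Y' V V' : Scheme.{u}} {α : Y' ⟶ Y} {β : V' ⟶ V} {h : V ⟶ Y} {h' : V' ⟶ Y'}
    (j : Y ⟶ X) (j' : Y' ⟶ X) (w : α ≫ j = j') [IsFinite h] [Etale h] [IsFinite h'] [Etale h']
    (sq : IsPullback β h' h α) (w' : β ≫ (h ≫ j) = h' ≫ j') (i : I)
    (e : Γ(V, (pull D (h ≫ j)).U i)) :
    trc (pull D j') h' i (trU D (h ≫ j) (h' ≫ j') β w' i e) =
      trU D j j' α w i (trc (pull D j) h i e) :=
  tr_baseChange sq (O := (pull D j).U i) (O' := (pull D j').U i) _ _ e

theorem TrM_baseChange {Y Y' V V' : Scheme.{u}} {α : Y' ⟶ Y} {β : V' ⟶ V} {h : V ⟶ Y} {h' : V' ⟶ Y'}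
    (j : Y ⟶ X) (j' : Y' ⟶ X) (w : α ≫ j = j') [IsFinite h] [Etale h] [IsFinite h'] [Etale h']
    (sq : IsPullback β h' h α) (w' : β ≫ (h ≫ j) = h' ≫ j') (z : M (pull D (h ≫ j))) :
    TrM (pull D j') h' (trM D (h ≫ j) (h' ≫ j') β w' z) = trM D j j' α w (TrM (pull D j) h z) := by
  apply ext_M
  intro a i
  refine (TrM_apply (pull D j') h' _ a i).trans ?_
  refine Eq.trans ?_ (trM_apply D j j' α w _ a i).symm
  refine (congrArg (trc (pull D j') h' i) (trM_apply D (h ≫ j) (h' ≫ j') β w' z a i)).trans ?_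
  refine (trc_baseChange D j j' w sq w' i _).trans ?_
  exact congrArg (trU D j j' α w i) (TrM_apply (pull D j) h z a i).symm

theorem trM_rfl {P P' : Scheme.{u}} (g : P ⟶ X) (h : P' ⟶ P) (z : M (pull D g)) :
    trM D g (h ≫ g) h rfl z = pullM (pull D g) h z := by
  apply ext_M
  intro a i
  refine (trM_apply D g (h ≫ g) h rfl z a i).trans ?_
  refine Eq.trans ?_ (pullM_apply (pull D g) h z a i).symm
  rw [trU_eq]
  rfl

theorem pullM_pullM {P P' : Scheme.{u}} (g : P ⟶ X) (h : P' ⟶ P) (z : M D) :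
    pullM (pull D g) h (pullM D g z) = pullM D (h ≫ g) z := by
  rw [← trM_rfl, trM_pullM]

theorem trM_trM {P P' P'' : Scheme.{u}} (g : P ⟶ X) (g' : P' ⟶ X) (g'' : P'' ⟶ X) (h : P' ⟶ P)
    (w : h ≫ g = g') (h' : P'' ⟶ P') (w' : h' ≫ g' = g'') (z : M (pull D g)) :
    trM D g' g'' h' w' (trM D g g' h w z) =
      trM D g g'' (h' ≫ h) (by rw [Category.assoc, w, w']) z := by
  apply ext_M
  intro a i
  rw [trM_apply, trM_apply, trM_apply, trU_trU]

theorem trM_congr {P P' : Scheme.{u}} (g : P ⟶ X) (g' : P' ⟶ X) {h h' : P' ⟶ P} (e : h = h')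
    (w : h ≫ g = g') (z : M (pull D g)) :
    trM D g g' h w z = trM D g g' h' (by rw [← e, w]) z := by
  subst e
  rfl

end BaseChange

section Linear

variable {X : Scheme.{u}} {r : ℕ} (D : CoordData X (Fin (r + 1))) {k : Type u} [Field k]
  (p : X ⟶ Spec (CommRingCat.of k)) {Y V : Scheme.{u}} (j : Y ⟶ X) (h : V ⟶ Y) [IsFinite h]
  [Etale h]

/-- The trace as a linear map over the cone ring. -/
noncomputable def TrA : M (pull D (h ≫ j)) →ₗ[Cone.R D p] M (pull D j) where
  toFun z := TrM (pull D j) h z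
  map_add' z w := map_add (TrM (pull D j) h) z w
  map_smul' a z := by
    rw [Algebra.smul_def, Algebra.smul_def, algebraMap_eq, algebraMap_eq, RingHom.id_apply,
      ← pullM_pullM]
    exact TrM_mul (pull D j) h _ z

theorem TrA_apply (z : M (pull D (h ≫ j))) : TrA D p j h z = TrM (pull D j) h z := rfl

end Linear

section TraceSys

open LefStruct

variable {X Z : Scheme.{u}} {r : ℕ} {D : CoordData X (Fin (r + 1))} {k : Type u} [Field k]
  {p : X ⟶ Spec (CommRingCat.of k)} {ι : Z ⟶ X} {V₀ : FEt.Cat Z}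

instance isFinite_hom {Y : Scheme.{u}} (V : FEt.Cat Y) : IsFinite V.hom := V.prop.1
instance etale_hom {Y : Scheme.{u}} (V : FEt.Cat Y) : Etale V.hom := V.prop.2

theorem ker_appU (H : Hyp D p ι) (T : Tower ι V₀) (n : ℕ) (i : Fin (r + 1)) (e : Γ(X, D.U i))
    (he : appU D (T.j n) i e = 0) : ∃ e', e = D.f i 0 ^ (n + 1) * e' := by
  have h1 : e ∈ RingHom.ker ((T.j n).app (D.U i)).hom := he
  rw [T.ker n (D.U i) (H.affine i), H.ker i, Ideal.span_singleton_pow,
    Ideal.mem_span_singleton'] at h1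
  obtain ⟨e', he'⟩ := h1
  exact ⟨e', by rw [← he', mul_comm]⟩

theorem appU_surjective (H : Hyp D p ι) (T : Tower ι V₀) (n : ℕ) (i : Fin (r + 1)) :
    Function.Surjective (appU D (T.j n) i) :=
  Scheme.Hom.app_surjective (T.j n) _ (H.affine i)

/-- The compatibility of the covers with the maps to `X`. -/
theorem β_comp (T : Tower ι V₀) (n : ℕ) :
    T.β n ≫ ((T.V (n + 1)).hom ≫ T.j (n + 1)) = (T.V n).hom ≫ T.j n := by
  rw [← Category.assoc, (T.cart n).w, Category.assoc, T.α_j]

theorem exists_dual' {X : Scheme.{u}} {I : Type} [Finite I] (D : CoordData X I)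
    (hU : ∀ i, IsAffineOpen (D.U i)) (hb : ∀ i j, X.basicOpen (D.f i j) = D.U i ⊓ D.U j)
    {Y V : Scheme.{u}} (j : Y ⟶ X) [IsAffineHom j] (h : V ⟶ Y) [IsFinite h] [Etale h] (i : I) :
    ∃ (s m : ℕ) (a b : Fin s → M (pull D (h ≫ j))), ∀ x : M (pull D (h ≫ j)),
      coord (pull D (h ≫ j)) i ^ m * x =
        ∑ q, trM D j (h ≫ j) h rfl (TrM (pull D j) h (a q * x)) * b q := by
  simp only [trM_rfl]
  exact exists_dual (pull D j) h (pull_isAffineOpen D j hU) (pull_basicOpen D j hb) i

/-- The trace system of a tower of finite etale covers. -/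
theorem traceSys (H : Hyp D p ι) (T : Tower ι V₀)
    (SC : LocSys D T.Y T.j T.α T.α_j)
    (SM : LocSys D (fun n => (T.V n).left) (fun n => (T.V n).hom ≫ T.j n) T.β (β_comp T)) :
    FormSys.TraceSys (Cone.x D p 0) (Cone.x D p) (fun n => M (pull D (T.j n)))
      (fun n => M (pull D ((T.V n).hom ≫ T.j n)))
      (fun n => trA D p (T.j (n + 1)) (T.j n) (T.α n) (T.α_j n))
      (fun n => trA D p ((T.V (n + 1)).hom ≫ T.j (n + 1)) ((T.V n).hom ≫ T.j n) (T.β n) (β_comp T n))
      (fun n => trA D p (T.j n) ((T.V n).hom ≫ T.j n) (T.V n).hom rfl)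
      (fun n => TrA D p (T.j n) (T.V n).hom) where
  sysC := modSys D p H.affine H.basicOpen SC
  sysM := modSys D p H.affine H.basicOpen SM
  algC_surj n i c := by
    have hL := isLocAway D H.affine H.basicOpen (T.j n) i
    obtain ⟨m, a, ha⟩ := loc_lift (Cone.isLocAway_chart D p H.affine H.basicOpen H.surj i) hL
      (algebraMap (Cone.R D p) (M (pull D (T.j n)))) (lmap (appU D (T.j n) i))
      (fun z => by rw [algebraMap_eq, chart_pullM, chart_toM])
      (algebraMap_x D p (T.j n) i) (lmap_surjective _ (appU_surjective H T n i)) c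
    refine ⟨m, a, ?_⟩
    rw [Algebra.smul_def, map_pow, algebraMap_x]
    exact ha.symm
  algC_ker n i a ha := by
    have h1 : ∃ z, Cone.chart D p i a = Cone.chart D p i (Cone.x D p 0 ^ (n + 1)) * z := by
      have h2 : ∀ d, ∃ e, lc _ d (Cone.chart D p i a) = D.f i 0 ^ (n + 1) * e := by
        intro d
        apply ker_appU H T n i
        rw [← lc_lmap, ← chart_toM, ← chart_pullM, ← algebraMap_eq, ha, map_zero, map_zero]
      obtain ⟨z, hz⟩ := exists_div _ _ h2
      have h3 : Cone.chart D p i (Cone.x D p 0 ^ (n + 1)) =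
          C (D.f i 0 ^ (n + 1)) * LaurentPolynomial.T (n + 1 : ℕ) := by
        rw [map_pow, Cone.chart_x, mul_pow, ← map_pow, T_pow, mul_one, mul_comm]
      refine ⟨LaurentPolynomial.T (-(n + 1 : ℕ)) * z, ?_⟩
      rw [hz, h3, mul_assoc, ← mul_assoc (LaurentPolynomial.T _) (LaurentPolynomial.T _), ← T_add,
        add_neg_cancel, T_zero, one_mul]
    exact loc_div (Cone.isLocAway_chart D p H.affine H.basicOpen H.surj i) _ a h1
  ψπ n c := by
    change trM D _ _ _ _ (trM D _ _ _ _ c) = trM D _ _ _ _ (trM D _ _ _ _ c)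
    rw [trM_trM, trM_trM]
    exact trM_congr D _ _ (T.cart n).w _ c
  Tπ n x := (TrM_baseChange D (T.j (n + 1)) (T.j n) (T.α_j n) (T.cart n) (β_comp T n) x).symm
  Tψ n c x := by
    change TrM (pull D (T.j n)) (T.V n).hom (trM D _ _ _ _ c * x) =
      c * TrM (pull D (T.j n)) (T.V n).hom x
    rw [trM_rfl]
    exact TrM_mul (pull D (T.j n)) (T.V n).hom c x
  dual n i := by
    obtain ⟨s, m, a, b, hab⟩ := exists_dual' D H.affine H.basicOpen (T.j n) (T.V n).hom i
    refine ⟨s, m, a, b, fun x => ?_⟩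
    rw [Algebra.smul_def, map_pow, algebraMap_x]
    exact hab x

end TraceSys

end Groth.Agent.Pi1C.LefTrace
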