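import Groth.Agent.Pi1C.LefLim
import Groth.Agent.Pi1C.LefTrace

/-!
# Component projections of the ring of twisted sections

Inputs of `LefLim` for the tower of rings `M (pull D g)`.
-/

set_option autoImplicit false
universe u
open AlgebraicGeometry CategoryTheory
open Groth.Agent.VarietyB.ProjGlue
open scoped DirectSum

namespace Groth.Agent.Pi1C.LefGrGeo

open TwistSec GrSec GrCone GrModSys LefStruct LaurentPolynomial

section Cone

variable {X Z : Scheme.{u}} {r : ℕ} {D : CoordData X (Fin (r + 1))} {k : Type u} [Field k]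
  {p : X ⟶ Spec (CommRingCat.of k)} {ι : Z ⟶ X}

/-- `x_0` is regular. -/
theorem reg_x (H : Hyp D p ι) (a : Cone.R D p) (ha : Cone.x D p 0 * a = 0) : a = 0 := by
  apply Cone.ext_chart D p
  intro i
  rw [map_zero]
  have h1 : Cone.chart D p i (Cone.x D p 0 * a) = 0 := by rw [ha, map_zero]
  rw [map_mul, Cone.chart_x, mul_comm (T 1), mul_assoc, mul_comm (T 1)] at h1
  apply ext_lc
  intro d
  have h2 := congrArg (lc _ (d + 1)) h1
  rw [lc_C_mul, lc_mul_T, add_sub_cancel_right, map_zero] at h2
  rw [map_zero]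
  exact (H.reg i).1 _ h2

variable (D p) in
/-- A subring of the cone ring containing the coordinates and the constants is everything. -/
theorem induct_R (P : Subring (Cone.R D p)) (hx : ∀ j, Cone.x D p j ∈ P)
    (hC : ∀ c : k, Ideal.Quotient.mk (Cone.J D p) (MvPolynomial.C c) ∈ P) : P = ⊤ := by
  rw [eq_top_iff]
  intro a _
  obtain ⟨F, rfl⟩ := Ideal.Quotient.mk_surjective a
  induction F using MvPolynomial.induction_on with
  | C c => exact hC c
  | add F G hF hG =>
    rw [map_add]
    exact P.add_mem (hF trivial) (hG trivial)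
  | mul_X F j hF =>
    rw [map_mul]
    exact P.mul_mem (hF trivial) (hx j)

variable (D p) in
theorem appU_baseHom {P : Scheme.{u}} (g : P ⟶ X) (i : Fin (r + 1)) (c : k) :
    appU D g i (CoordData.baseHom p (D.U i) c) =
      CoordData.baseHom (g ≫ p) ((pull D g).U i) c := by
  simp only [CoordData.baseHom, RingHom.comp_apply]
  refine (app_res g le_top _).trans ?_
  rfl

variable (D p) in
theorem algebraMap_C {P : Scheme.{u}} (g : P ⟶ X) (c : k) :
    algebraMap (Cone.R D p) (M (pull D g)) (Ideal.Quotient.mk _ (MvPolynomial.C c)) =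
      const (pull D g) (g ≫ p) c := by
  rw [algebraMap_eq, toM_C]
  apply ext_chart
  intro i
  rw [chart_pullM, chart_const, chart_const, lmap_C, appU_baseHom]

end Cone

section Ev

variable {X : Scheme.{u}} {I : Type} (D : CoordData X I)

/-- Evaluation on a chart at `T = 1`. -/
noncomputable def ev (i : I) : M D →+* Γ(X, D.U i) :=
  (LaurentPolynomial.eval₂ (RingHom.id _) 1).comp (chart D i)

theorem ev_apply (i : I) (z : M D) :
    ev D i z = LaurentPolynomial.eval₂ (RingHom.id _) 1 (chart D i z) := rfl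

theorem ev_hom (i : I) (a : ℤ) (σ : Sec D a) : ev D i (hom D a σ) = σ.1 i := by
  rw [ev_apply, chart_hom, eval₂_C_mul_T, one_zpow, Units.val_one, mul_one, RingHom.id_apply]

theorem ev_coord (i j : I) : ev D i (coord D j) = D.f i j := ev_hom D i 1 _

theorem ev_const {X : Scheme.{u}} {r : ℕ} (D : CoordData X (Fin (r + 1))) {k : Type u} [Field k]
    (p : X ⟶ Spec (CommRingCat.of k)) (i : Fin (r + 1)) (c : k) :
    ev D i (const D p c) = CoordData.baseHom p (D.U i) c := ev_hom D i 0 _

end Ev

section Cmp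

variable {X : Scheme.{u}} {I : Type} (D : CoordData X I)

/-- The component projections. -/
noncomputable def cmp (a : ℤ) : M D →+ M D where
  toFun z := hom D a (z a)
  map_zero' := map_zero (hom D a)
  map_add' z w := map_add (hom D a) (z a) (w a)

theorem cmp_apply (a : ℤ) (z : M D) : cmp D a z = hom D a (z a) := rfl

theorem hom_self (a : ℤ) (σ : Sec D a) : hom D a σ a = σ := by
  apply Subtype.ext
  funext i
  rw [hom_apply, if_pos rfl]

theorem hom_ne {a b : ℤ} (σ : Sec D a) (h : a ≠ b) : hom D a σ b = 0 := by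
  apply Subtype.ext
  funext i
  rw [hom_apply, if_neg h]
  rfl

theorem cmp_hom_self (a : ℤ) (σ : Sec D a) : cmp D a (hom D a σ) = hom D a σ := by
  rw [cmp_apply, hom_self]

theorem cmp_hom_ne {a b : ℤ} (σ : Sec D a) (h : a ≠ b) : cmp D b (hom D a σ) = 0 := by
  rw [cmp_apply, hom_ne D σ h, map_zero]

theorem cmp_eq_iff {a : ℤ} {z : M D} (h : cmp D a z = z) : ∃ σ, z = hom D a σ := ⟨z a, h.symm⟩

theorem one_eq_hom : (1 : M D) = hom D 0 ⟨1, one_mem D⟩ := rfl

theorem grad_cmp : LefLim.Grad (cmp D) where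
  self a z := cmp_hom_self D a (z a)
  ne a b z h := cmp_hom_ne D (z b) (Ne.symm h)
  fin z := by
    obtain ⟨s, hs⟩ := exists_finset D z
    exact ⟨s, hs.symm⟩
  one := by
    rw [one_eq_hom, cmp_hom_self]
  mul a b z w hz hw := by
    obtain ⟨σ, rfl⟩ := cmp_eq_iff D hz
    obtain ⟨τ, rfl⟩ := cmp_eq_iff D hw
    rw [hom_mul_hom, cmp_hom_self]

end Cmp

section Tr

variable {X : Scheme.{u}} {I : Type} (D : CoordData X I)

theorem trM_cmp {P P' : Scheme.{u}} (g : P ⟶ X) (g' : P' ⟶ X) (h : P' ⟶ P) (w : h ≫ g = g')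
    (a : ℤ) (z : M (pull D g)) :
    trM D g g' h w (cmp (pull D g) a z) = cmp (pull D g') a (trM D g g' h w z) := by
  rw [cmp_apply, cmp_apply, trM_hom]
  refine congrArg (hom (pull D g') a) (Subtype.ext (funext fun i => ?_))
  exact (trM_apply D g g' h w z a i).symm

theorem TrM_cmp {Y V : Scheme.{u}} (D : CoordData Y I) (h : V ⟶ Y) [IsFinite h] [Etale h] (a : ℤ)
    (z : M (pull D h)) (hz : cmp (pull D h) a z = z) :
    cmp D a (LefTrace.TrM D h z) = LefTrace.TrM D h z := by
  obtain ⟨σ, rfl⟩ := cmp_eq_iff _ hz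
  rw [LefTrace.TrM_hom, cmp_hom_self]

end Tr

end Groth.Agent.Pi1C.LefGrGeo
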