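import Mathlib.AlgebraicGeometry.Morphisms.Flat
import Mathlib.AlgebraicGeometry.Morphisms.Affine
import Mathlib.AlgebraicGeometry.Morphisms.Etale
import Mathlib.AlgebraicGeometry.Morphisms.Finite
import Mathlib.AlgebraicGeometry.Morphisms.ClosedImmersion

/-!
# Sections over preimages of an open of the base

For `f : S ⟶ S'` over a base `W` and `O` an open of `W`, `sec O f π' π h` is the ring map
`Γ(S', π'⁻¹ O) ⟶ Γ(S, π⁻¹ O)`.  Cartesian squares of schemes affine over `W` are characterised by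
cocartesian squares of these rings.
-/

set_option autoImplicit false
universe u
open AlgebraicGeometry CategoryTheory CategoryTheory.Limits

namespace Groth.Agent.Pi1C.SecOver

section sec

variable {W : Scheme.{u}} (O : W.Opens)

theorem le_of_comp {S S' : Scheme.{u}} (f : S ⟶ S') (π' : S' ⟶ W) (π : S ⟶ W)
    (h : f ≫ π' = π) : π ⁻¹ᵁ O ≤ f ⁻¹ᵁ (π' ⁻¹ᵁ O) := by
  subst h
  exact le_rfl

/-- The ring map on sections over the preimages of `O`. -/
noncomputable def sec {S S' : Scheme.{u}} (f : S ⟶ S') (π' : S' ⟶ W) (π : S ⟶ W)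
    (h : f ≫ π' = π) : Γ(S', π' ⁻¹ᵁ O) ⟶ Γ(S, π ⁻¹ᵁ O) :=
  f.appLE (π' ⁻¹ᵁ O) (π ⁻¹ᵁ O) (le_of_comp O f π' π h)

theorem sec_comp {S S' S'' : Scheme.{u}} (f : S ⟶ S') (g : S' ⟶ S'') (π'' : S'' ⟶ W)
    (π' : S' ⟶ W) (π : S ⟶ W) (h : f ≫ π' = π) (h' : g ≫ π'' = π') :
    sec O g π'' π' h' ≫ sec O f π' π h = sec O (f ≫ g) π'' π (by rw [Category.assoc, h', h]) :=
  Scheme.Hom.appLE_comp_appLE _ _ _ _ _ _ _

theorem sec_congr {S S' : Scheme.{u}} {f g : S ⟶ S'} (e : f = g) (π' : S' ⟶ W) (π : S ⟶ W)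
    (h : f ≫ π' = π) : sec O f π' π h = sec O g π' π (by rw [← e, h]) := by
  subst e
  rfl

/-- Two factorisations of the same morphism give the same composite on sections. -/
theorem sec_comp_eq {S S₁ S₂ S'' : Scheme.{u}} (f₁ : S ⟶ S₁) (g₁ : S₁ ⟶ S'') (f₂ : S ⟶ S₂)
    (g₂ : S₂ ⟶ S'') (π'' : S'' ⟶ W) (π₁ : S₁ ⟶ W) (π₂ : S₂ ⟶ W) (π : S ⟶ W)
    (e : f₁ ≫ g₁ = f₂ ≫ g₂) (h₁ : f₁ ≫ π₁ = π) (h₂ : f₂ ≫ π₂ = π) (h₁' : g₁ ≫ π'' = π₁)
    (h₂' : g₂ ≫ π'' = π₂) :
    sec O g₁ π'' π₁ h₁' ≫ sec O f₁ π₁ π h₁ = sec O g₂ π'' π₂ h₂' ≫ sec O f₂ π₂ π h₂ := by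
  rw [sec_comp, sec_comp, sec_congr O e]

theorem app_comp_sec {S S' : Scheme.{u}} (f : S ⟶ S') (π' : S' ⟶ W) (π : S ⟶ W)
    (h : f ≫ π' = π) : π'.app O ≫ sec O f π' π h = π.app O := by
  subst h
  rw [Scheme.Hom.app_eq_appLE, sec, Scheme.Hom.appLE_comp_appLE, Scheme.Hom.app_eq_appLE]

theorem sec_rfl {S S' : Scheme.{u}} (f : S ⟶ S') (π' : S' ⟶ W) :
    sec O f π' (f ≫ π') rfl = f.app (π' ⁻¹ᵁ O) :=
  (Scheme.Hom.app_eq_appLE f).symm

/-- Sections of a fibre product of schemes, over affine preimages. -/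
theorem isPushout_sec {P X Y S : Scheme.{u}} {fst : P ⟶ X} {snd : P ⟶ Y} {f : X ⟶ S} {g : Y ⟶ S}
    (H : IsPullback fst snd f g) (πS : S ⟶ W) (πX : X ⟶ W) (πY : Y ⟶ W) (πP : P ⟶ W)
    (hX : f ≫ πS = πX) (hY : g ≫ πS = πY) (hP : fst ≫ πX = πP) (hP' : snd ≫ πY = πP)
    (hS : IsAffineOpen (πS ⁻¹ᵁ O)) (hXa : IsAffineOpen (πX ⁻¹ᵁ O)) (hYa : IsAffineOpen (πY ⁻¹ᵁ O)) :
    IsPushout (sec O f πS πX hX) (sec O g πS πY hY) (sec O fst πX πP hP) (sec O snd πY πP hP') := by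
  have hUY : πP ⁻¹ᵁ O = fst ⁻¹ᵁ (πX ⁻¹ᵁ O) ⊓ snd ⁻¹ᵁ (πY ⁻¹ᵁ O) := by
    subst hP
    have : snd ⁻¹ᵁ (πY ⁻¹ᵁ O) = fst ⁻¹ᵁ (πX ⁻¹ᵁ O) := by
      rw [← Scheme.Hom.comp_preimage, ← Scheme.Hom.comp_preimage, hP']
    rw [this, inf_idem]
    rfl
  exact (isIso_pushoutSection_iff H (le_of_comp O g πS πY hY) (le_of_comp O f πS πX hX) hUY).mp
    (isIso_pushoutSection_of_isAffineOpen H _ _ hUY hS hYa hXa)

end sec

theorem isIso_of_isIso_app {W S S' : Scheme.{u}} (f : S ⟶ S') (π' : S' ⟶ W) [IsAffineHom π']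
    [IsAffineHom f]
    (H : ∀ O : W.Opens, IsAffineOpen O → IsIso (f.app (π' ⁻¹ᵁ O))) : IsIso f := by
  have hsup : ⨆ O : W.affineOpens, π' ⁻¹ᵁ (O : W.Opens) = ⊤ :=
    Scheme.Hom.iSup_preimage_eq_top _ (iSup_affineOpens_eq_top W)
  have key : ∀ O : W.affineOpens, IsIso (f ∣_ (π' ⁻¹ᵁ (O : W.Opens))) := by
    intro O
    exact (isIso_morphismRestrict_iff_isIso_app f (O.2.preimage π')).mpr (H O O.2)
  have h2 := (IsZariskiLocalAtTarget.iff_of_iSup_eq_top
    (P := MorphismProperty.isomorphisms Scheme.{u}) (f := f)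
    (fun O : W.affineOpens => π' ⁻¹ᵁ (O : W.Opens)) hsup)
  exact h2.mpr key

/-- A morphism of schemes affine over `W` is an isomorphism if it induces bijections on sections
over preimages of affine opens. -/
theorem isIso_of_isIso_sec {W S S' : Scheme.{u}} (f : S ⟶ S') (π' : S' ⟶ W) (π : S ⟶ W)
    (h : f ≫ π' = π) [IsAffineHom π'] [IsAffineHom π]
    (H : ∀ O : W.Opens, IsAffineOpen O → IsIso (sec O f π' π h)) : IsIso f := by
  subst h
  have : IsAffineHom f := MorphismProperty.of_postcomp @IsAffineHom (W' := @IsSeparated) f π'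
    inferInstance inferInstance
  exact isIso_of_isIso_app f π' (fun O hO => by rw [← sec_rfl]; exact H O hO)

/-- A square of schemes affine over `S` is cartesian if it is so on sections over affine opens. -/
theorem isPullback_of_isPushout_sec {P X Y S : Scheme.{u}} (fst : P ⟶ X) (snd : P ⟶ Y)
    (f : X ⟶ S) (g : Y ⟶ S) (π : P ⟶ S) (h1 : fst ≫ f = π) (h2 : snd ≫ g = π)
    [IsAffineHom f] [IsAffineHom g] [IsAffineHom π]
    (H : ∀ O : S.Opens, IsAffineOpen O →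
      IsPushout (f.app O) (g.app O) (sec O fst f π h1) (sec O snd g π h2)) :
    IsPullback fst snd f g := by
  have w : fst ≫ f = snd ≫ g := h1.trans h2.symm
  suffices h : IsIso (pullback.lift fst snd w) from
    .of_iso_pullback ⟨w⟩ (asIso (pullback.lift fst snd w)) (pullback.lift_fst _ _ _)
      (pullback.lift_snd _ _ _)
  have hπ : pullback.lift fst snd w ≫ pullback.fst f g ≫ f = π := by
    rw [pullback.lift_fst_assoc, h1]
  have : IsAffineHom (pullback.fst f g) := MorphismProperty.pullback_fst _ _ inferInstance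
  have : IsAffineHom (pullback.fst f g ≫ f) := MorphismProperty.comp_mem _ _ _ inferInstance inferInstance
  refine isIso_of_isIso_sec (pullback.lift fst snd w) (pullback.fst f g ≫ f) π hπ ?_
  intro O hO
  have h3 : IsPushout (f.app O) (g.app O)
      (sec O (pullback.fst f g) f (pullback.fst f g ≫ f) rfl)
      (sec O (pullback.snd f g) g (pullback.fst f g ≫ f) pullback.condition.symm) := by
    have := isPushout_sec O (IsPullback.of_hasPullback f g) (𝟙 S) f g (pullback.fst f g ≫ f)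
      (Category.comp_id _) (Category.comp_id _) rfl pullback.condition.symm
      hO (hO.preimage f) (hO.preimage g)
    have e1 : sec O f (𝟙 S) f (Category.comp_id _) = f.app O :=
      (Scheme.Hom.app_eq_appLE f).symm
    have e2 : sec O g (𝟙 S) g (Category.comp_id _) = g.app O :=
      (Scheme.Hom.app_eq_appLE g).symm
    rw [e1, e2] at this
    exact this
  have e : sec O (pullback.lift fst snd w) (pullback.fst f g ≫ f) π hπ =
      (h3.isoIsPushout _ _ (H O hO)).hom := by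
    refine h3.hom_ext ?_ ?_
    · rw [IsPushout.inl_isoIsPushout_hom, sec_comp]
      exact sec_congr O (pullback.lift_fst _ _ _) _ _ _
    · rw [IsPushout.inr_isoIsPushout_hom, sec_comp]
      exact sec_congr O (pullback.lift_snd _ _ _) _ _ _
  rw [e]
  infer_instance

/-- Finite etale morphisms are detected on sections over affine opens of the target. -/
theorem isFinite_etale_of_app {X Y : Scheme.{u}} (f : X ⟶ Y) [IsAffineHom f]
    (H : ∀ O : Y.Opens, IsAffineOpen O → (f.app O).hom.Finite ∧ (f.app O).hom.Etale) :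
    IsFinite f ∧ Etale f := by
  refine ⟨⟨fun U hU => (H U hU).1⟩, ?_⟩
  rw [IsZariskiLocalAtTarget.iff_of_iSup_eq_top (P := @Etale)
    (fun O : Y.affineOpens => (O : Y.Opens)) (iSup_affineOpens_eq_top Y)]
  intro O
  have : IsAffine (O : Y.Opens) := O.2
  have : IsAffine (f ⁻¹ᵁ (O : Y.Opens)) := O.2.preimage f
  rw [HasRingHomProperty.iff_of_isAffine (P := @Etale)]
  have h := (H O O.2).2
  rw [Scheme.Hom.app_eq_appLE] at h
  have h3 : (f ∣_ (O : Y.Opens)).appTop = f.appLE _ _ _ := morphismRestrict_app' f (O : Y.Opens) ⊤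
  rw [h3]
  exact (Scheme.Hom.appLE_congr (f := f) _ (Scheme.Opens.ι_image_top _).symm
    (Scheme.Opens.ι_image_top _).symm (fun φ => φ.hom.Etale)).mp h

end Groth.Agent.Pi1C.SecOver
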