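import Groth.Agent.Pi1C.LefStruct
import Groth.Agent.Pi1C.GrModSys
import Groth.Agent.Pi1C.SecOver
import Mathlib.RingTheory.Flat.EquationalCriterion
import Mathlib.RingTheory.RingHom.Surjective

/-!
# The tower of infinitesimal neighbourhoods is a local system of rings

For `H : LefStruct.Hyp D p ι` and `T : LefStruct.Tower ι V₀` the rings `Γ(Y n, U_i)` and `Γ(V n, U_i)` satisfy
the conditions of `GrModSys.LocSys`.
-/

set_option autoImplicit false
universe u
open AlgebraicGeometry CategoryTheory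
open Groth.Agent.VarietyB.ProjGlue

namespace Groth.Agent.Pi1C.LefLocSys

open TwistSec GrCone

section ring

/-- Torsion in a flat algebra. -/
theorem flat_tors {A E : Type u} [CommRing A] [CommRing E] {φ : A →+* E} (hφ : φ.Flat) (t N : A)
    (h : ∀ a, t * a = 0 → ∃ b, a = N * b) (e : E) (he : φ t * e = 0) : ∃ e', e = φ N * e' := by
  algebraize [φ]
  have h1 : ∑ _i : Fin 1, t • e = 0 := by
    rw [Finset.sum_const, Finset.card_univ, Fintype.card_fin, one_smul]
    exact he
  obtain ⟨k, a, y, h2, h3⟩ := Module.Flat.isTrivialRelation_of_sum_smul_eq_zero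
    (f := fun _ : Fin 1 => t) (x := fun _ : Fin 1 => e) h1
  have h4 : ∀ j, ∃ b, a 0 j = N * b := fun j => h _ (by simpa using h3 j)
  choose b hb using h4
  refine ⟨∑ j, b j • y j, ?_⟩
  have h5 := h2 0
  simp only at h5
  conv_lhs => rw [h5]
  rw [Finset.mul_sum]
  refine Finset.sum_congr rfl fun j _ => ?_
  rw [hb, Algebra.smul_def, Algebra.smul_def, map_mul, mul_assoc]
  rfl

/-- Base change of a surjection. -/
theorem pushout_surjective {R S R' S' : CommRingCat.{u}} {φ : R ⟶ S} {φ' : R' ⟶ S'} {a : R ⟶ R'}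
    {b : S ⟶ S'} (hp : IsPushout φ a b φ') (ha : Function.Surjective a.hom) :
    Function.Surjective b.hom := by
  algebraize [a.hom, φ.hom, φ'.hom, b.hom, φ'.hom.comp a.hom]
  have h3 : IsScalarTower R S S' := by
    refine .of_algebraMap_eq fun r => ?_
    exact congrArg (fun f : R ⟶ S' => f.hom r) hp.w.symm
  have hpush : Algebra.IsPushout R R' S S' := (CommRingCat.isPushout_iff_isPushout.1 hp.flip)
  exact RingHom.surjective_isStableUnderBaseChange R R' S S' ha

/-- The kernel of the base change of a surjection. -/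
theorem pushout_ker {R S R' S' : CommRingCat.{u}} {φ : R ⟶ S} {φ' : R' ⟶ S'} {a : R ⟶ R'}
    {b : S ⟶ S'} (hp : IsPushout φ a b φ') (ha : Function.Surjective a.hom) (N : R)
    (hN : ∀ c, a.hom c = 0 → ∃ d, c = N * d) (e : S) (he : b.hom e = 0) : ∃ e', e = φ.hom N * e' := by
  let K : Ideal S := Ideal.span {φ.hom N}
  let q : S →+* S ⧸ K := Ideal.Quotient.mk K
  have h1 : ∀ c, a.hom c = 0 → (q.comp φ.hom) c = 0 := by
    intro c hc
    obtain ⟨d, rfl⟩ := hN c hc
    rw [RingHom.comp_apply, map_mul, map_mul]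
    have : q (φ.hom N) = 0 := Ideal.Quotient.eq_zero_iff_mem.mpr (Ideal.subset_span rfl)
    rw [this, zero_mul]
  obtain ⟨s, hs⟩ := ha.hasRightInverse
  let ψ : R' →+* S ⧸ K := a.hom.liftOfRightInverse s hs ⟨q.comp φ.hom, fun c hc => h1 c hc⟩
  have hψ : ψ.comp a.hom = q.comp φ.hom := a.hom.liftOfRightInverse_comp s hs ⟨q.comp φ.hom, fun c hc => h1 c hc⟩
  let d : S' ⟶ CommRingCat.of (S ⧸ K) := hp.desc (CommRingCat.ofHom q) (CommRingCat.ofHom ψ) (by
    ext x
    exact (congrArg (fun f => f x) hψ).symm)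
  have hd : b ≫ d = CommRingCat.ofHom q := hp.inl_desc _ _ _
  have h2 : q e = 0 := by
    have h3 := congrArg (fun f => f.hom e) hd
    change d.hom (b.hom e) = q e at h3
    rw [← h3, he, map_zero]
  obtain ⟨e', he'⟩ := Ideal.mem_span_singleton'.mp (Ideal.Quotient.eq_zero_iff_mem.mp h2)
  exact ⟨e', by rw [← he', mul_comm]⟩

end ring

variable {X Z : Scheme.{u}} {r : ℕ} {D : CoordData X (Fin (r + 1))} {k : Type u} [Field k]
  {p : X ⟶ Spec (CommRingCat.of k)} {ι : Z ⟶ X} {V₀ : FEt.Cat Z}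
  (H : LefStruct.Hyp D p ι) (T : LefStruct.Tower ι V₀)

include H

theorem appU_surjective (n : ℕ) (i : Fin (r + 1)) : Function.Surjective (appU D (T.j n) i) :=
  Scheme.Hom.app_surjective (T.j n) _ (H.affine i)

theorem appU_eq_zero_iff (n : ℕ) (i : Fin (r + 1)) (c : Γ(X, D.U i)) :
    appU D (T.j n) i c = 0 ↔ ∃ d, c = D.f i 0 ^ (n + 1) * d := by
  have h1 : c ∈ RingHom.ker ((T.j n).app (D.U i)).hom ↔ ∃ d, c = D.f i 0 ^ (n + 1) * d := by
    rw [T.ker n _ (H.affine i), H.ker, Ideal.span_singleton_pow, Ideal.mem_span_singleton]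
    rfl
  exact h1

/-- The rings of the infinitesimal neighbourhoods. -/
theorem locSys_base : GrModSys.LocSys D T.Y T.j T.α T.α_j where
  aff n := inferInstance
  tors n i := by
    have h1 : appU D (T.j n) i (D.f i 0 ^ (n + 1)) = 0 :=
      (appU_eq_zero_iff H T n i _).mpr ⟨1, by rw [mul_one]⟩
    rw [map_pow] at h1
    exact h1
  surj n i e := by
    obtain ⟨c, rfl⟩ := appU_surjective H T n i e
    exact ⟨appU D (T.j (n + 1)) i c, trU_appU D _ _ _ _ i c⟩
  ker n i e he := by
    obtain ⟨c, rfl⟩ := appU_surjective H T (n + 1) i e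
    rw [trU_appU, appU_eq_zero_iff H T] at he
    obtain ⟨d, rfl⟩ := he
    exact ⟨appU D (T.j (n + 1)) i d, by rw [map_mul, map_pow]; rfl⟩
  ftors n i e he := by
    obtain ⟨c, rfl⟩ := appU_surjective H T n i e
    have h1 : appU D (T.j n) i (D.f i 0 * c) = 0 := by
      rw [map_mul]; exact he
    rw [appU_eq_zero_iff H T] at h1
    obtain ⟨d, hd⟩ := h1
    have h2 : c = D.f i 0 ^ n * d := by
      have h3 : D.f i 0 * (c - D.f i 0 ^ n * d) = 0 := by
        rw [mul_sub, hd, pow_succ]; ring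
      exact sub_eq_zero.mp ((mem_nonZeroDivisors_iff.mp (H.reg i)).1 _ h3)
    refine ⟨appU D (T.j n) i d, ?_⟩
    rw [h2, map_mul, map_pow]
    rfl

omit H in
theorem isAffineHom_cover (n : ℕ) : IsAffineHom ((T.V n).hom ≫ T.j n) := by
  have : IsFinite (T.V n).hom := (T.V n).prop.1
  infer_instance

/-- The map from the base to the cover is flat. -/
theorem trU_flat (n : ℕ) (i : Fin (r + 1)) :
    (trU D (T.j n) ((T.V n).hom ≫ T.j n) (T.V n).hom rfl i).Flat := by
  have h1 : Etale (T.V n).hom := (T.V n).prop.2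
  have h2 := isAffineHom_cover T n
  exact HasRingHomProperty.appLE @Flat (T.V n).hom inferInstance
    ⟨_, pull_isAffineOpen D (T.j n) H.affine i⟩
    ⟨_, pull_isAffineOpen D ((T.V n).hom ≫ T.j n) H.affine i⟩ _

theorem trU_isPushout (n : ℕ) (i : Fin (r + 1)) : IsPushout
    (CommRingCat.ofHom (trU D (T.j (n + 1)) ((T.V (n + 1)).hom ≫ T.j (n + 1)) (T.V (n + 1)).hom rfl i))
    (CommRingCat.ofHom (trU D (T.j (n + 1)) (T.j n) (T.α n) (T.α_j n) i))
    (CommRingCat.ofHom (trU D ((T.V (n + 1)).hom ≫ T.j (n + 1)) ((T.V n).hom ≫ T.j n) (T.β n)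
      (by rw [← Category.assoc, (T.cart n).w, Category.assoc, T.α_j]) i))
    (CommRingCat.ofHom (trU D (T.j n) ((T.V n).hom ≫ T.j n) (T.V n).hom rfl i)) := by
  have h2 := isAffineHom_cover T (n + 1)
  exact SecOver.isPushout_sec (D.U i) (T.cart n) (T.j (n + 1)) ((T.V (n + 1)).hom ≫ T.j (n + 1))
    (T.j n) ((T.V n).hom ≫ T.j n) rfl (T.α_j n)
    (by rw [← Category.assoc, (T.cart n).w, Category.assoc, T.α_j]) rfl
    (pull_isAffineOpen D (T.j (n + 1)) H.affine i)
    (pull_isAffineOpen D ((T.V (n + 1)).hom ≫ T.j (n + 1)) H.affine i)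
    (pull_isAffineOpen D (T.j n) H.affine i)

/-- The rings of the covers of the infinitesimal neighbourhoods. -/
theorem locSys_cover : GrModSys.LocSys D (fun n => (T.V n).left) (fun n => (T.V n).hom ≫ T.j n) T.β
    (fun n => by rw [← Category.assoc, (T.cart n).w, Category.assoc, T.α_j]) where
  aff n := isAffineHom_cover T n
  tors n i := by
    have h1 := congrArg (trU D (T.j n) ((T.V n).hom ≫ T.j n) (T.V n).hom rfl i)
      ((locSys_base H T).tors n i)
    rw [map_pow, map_zero, trU_f] at h1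
    exact h1
  surj n i := pushout_surjective (trU_isPushout H T n i) ((locSys_base H T).surj n i)
  ker n i e he := by
    obtain ⟨e', he'⟩ := pushout_ker (trU_isPushout H T n i) ((locSys_base H T).surj n i)
      ((pull D (T.j (n + 1))).f i 0 ^ (n + 1)) (fun c hc => (locSys_base H T).ker n i c hc) e he
    refine ⟨e', he'.trans ?_⟩
    change trU D (T.j (n + 1)) ((T.V (n + 1)).hom ≫ T.j (n + 1)) (T.V (n + 1)).hom rfl i (_ ^ _) * _ = _
    rw [map_pow, trU_f]
  ftors n i e he := by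
    obtain ⟨e', he'⟩ := flat_tors (trU_flat H T n i) ((pull D (T.j n)).f i 0)
      ((pull D (T.j n)).f i 0 ^ n) (fun a ha => (locSys_base H T).ftors n i a ha) e
      (by rw [trU_f]; exact he)
    exact ⟨e', he'.trans (by rw [map_pow, trU_f])⟩

end Groth.Agent.Pi1C.LefLocSys
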