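import Groth.Agent.Pi1C.LefLim2
import Groth.Agent.Pi1C.LefGrGeo
import Groth.Agent.Pi1C.LefLocSys
import Groth.Agent.Pi1C.LefC5

/-!
# Existence of the graded algebraization
-/

set_option autoImplicit false
universe u
open AlgebraicGeometry CategoryTheory
open Groth.Agent.VarietyB.ProjGlue
open scoped DirectSum

namespace Groth.Agent.Pi1C.LefGr

open TwistSec GrSec GrCone GrModSys LefStruct LefGrGeo LefTrace

section Tow

variable {X : Scheme.{u}} {r : ℕ} (D : CoordData X (Fin (r + 1))) {k : Type u} [Field k]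
  (p : X ⟶ Spec (CommRingCat.of k))

theorem tow {P : ℕ → Scheme.{u}} (g : ∀ n, P n ⟶ X) (h : ∀ n, P n ⟶ P (n + 1))
    (w : ∀ n, h n ≫ g (n + 1) = g n) :
    LefLim.Tow (fun n => trA D p (g (n + 1)) (g n) (h n) (w n)) (fun n => cmp (pull D (g n))) where
  grad n := grad_cmp (pull D (g n))
  compat n a z := trM_cmp D (g (n + 1)) (g n) (h n) (w n) a z

theorem cmp_x {P : Scheme.{u}} (g : P ⟶ X) (j : Fin (r + 1)) :
    cmp (pull D g) 1 (algebraMap (Cone.R D p) (M (pull D g)) (Cone.x D p j)) =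
      algebraMap (Cone.R D p) (M (pull D g)) (Cone.x D p j) := by
  rw [algebraMap_x]
  exact cmp_hom_self (pull D g) 1 _

theorem cmp_C {P : Scheme.{u}} (g : P ⟶ X) (c : k) :
    cmp (pull D g) 0 (algebraMap (Cone.R D p) (M (pull D g))
        (Ideal.Quotient.mk _ (MvPolynomial.C c))) =
      algebraMap (Cone.R D p) (M (pull D g)) (Ideal.Quotient.mk _ (MvPolynomial.C c)) := by
  rw [algebraMap_C]
  exact cmp_hom_self (pull D g) 0 _

end Tow

variable {X Z : Scheme.{u}} {r : ℕ} {D : CoordData X (Fin (r + 1))} {k : Type u} [Field k]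
  {p : X ⟶ Spec (CommRingCat.of k)} {ι : Z ⟶ X} {V₀ : FEt.Cat Z}

/-- The abstract graded algebraization. -/
theorem exists_abs [Nonempty X] (H : Hyp D p ι) (T : Tower ι V₀) (c : ℕ)
    (hk : ∀ j ≤ 3, ∀ z : LocCoh.H (Cone.m D p) j (Cone.R D p), Cone.x D p 0 ^ c • z = 0) :
    ∃ (B : Type u) (_ : CommRing B) (𝒜 : ℕ → AddSubgroup B) (_ : GradedRing 𝒜)
      (ρ : Cone.R D p →+* B) (θ : B →+* M (pull D ((T.V 0).hom ≫ T.j 0))), ρ.Finite ∧
      (∀ (n : ℕ), ∀ b ∈ 𝒜 n, cmp (pull D ((T.V 0).hom ≫ T.j 0)) n (θ b) = θ b) ∧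
      (∀ a, θ (ρ a) = algebraMap (Cone.R D p) (M (pull D ((T.V 0).hom ≫ T.j 0))) a) ∧
      (∀ (a : Cone.R D p) (n : ℕ), (∀ k, cmp (pull D ((T.V k).hom ≫ T.j k)) n
        (algebraMap (Cone.R D p) (M (pull D ((T.V k).hom ≫ T.j k))) a) =
          algebraMap (Cone.R D p) (M (pull D ((T.V k).hom ≫ T.j k))) a) → ρ a ∈ 𝒜 n) ∧
      (∀ i (a : ℕ) z, cmp (pull D ((T.V 0).hom ≫ T.j 0)) a z = z →
        ∃ k, ∃ b ∈ 𝒜 (k + a), θ b = Cone.x D p i ^ k • z) ∧
      (∀ i (a : ℕ), ∀ b ∈ 𝒜 a, ∀ K : ℕ, Cone.x D p i ^ K • θ b = 0 →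
        ∃ b', ρ (Cone.x D p i) ^ (K + 1) * b = ρ (Cone.x D p 0) * b') ∧
      (∀ b, ρ (Cone.x D p 0) * b = 0 → b = 0) := by
  have hS := LefTrace.traceSys H T (LefLocSys.locSys_base H T) (LefLocSys.locSys_cover H T)
  have hm : (Cone.m D p).IsMaximal := Cone.isMaximal_m D p
  have hreg := reg_x H
  have k0 := FormR.kills0_of_LocCoh (m := Cone.m D p) (Cone.x D p) rfl (Cone.R D p)
    (Cone.x D p 0 ^ c) (hk 1 (by omega))
  have k1 := FormR.kills1_of_LocCoh (m := Cone.m D p) (Cone.x D p) rfl (Cone.R D p)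
    (Cone.x D p 0 ^ c) (hk 2 (by omega))
  have k2 := FormR.kills2_of_LocCoh (m := Cone.m D p) (Cone.x D p) rfl (Cone.R D p)
    (Cone.x D p 0 ^ c) (hk 3 (by omega))
  have hT : ∀ n (a : ℤ) z, cmp (pull D ((T.V n).hom ≫ T.j n)) a z = z →
      cmp (pull D (T.j n)) a (TrA D p (T.j n) (T.V n).hom z) =
        TrA D p (T.j n) (T.V n).hom z := fun n a z hz =>
    TrM_cmp (pull D (T.j n)) (T.V n).hom a z hz
  have hA : ∀ P : Subring (Cone.R D p), (∀ j, Cone.x D p j ∈ P) →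
      (∀ a : Cone.R D p, (∀ n, cmp (pull D ((T.V n).hom ≫ T.j n)) 0
        (algebraMap (Cone.R D p) (M (pull D ((T.V n).hom ≫ T.j n))) a) =
          algebraMap (Cone.R D p) (M (pull D ((T.V n).hom ≫ T.j n))) a) → a ∈ P) → P = ⊤ :=
    fun P h1 h2 => induct_R D p P h1 fun a => h2 _ fun n => cmp_C D p _ a
  have hC5 : ∀ (d : ℤ) (e : FormFin.limAlg (A := Cone.R D p) (M := fun n => M (pull D (T.j n)))
      (fun n => trA D p (T.j (n + 1)) (T.j n) (T.α n) (T.α_j n))),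
      e ∈ LefLim.Bs (A := Cone.R D p) (N := fun n => M (pull D (T.j n)))
        (fun n => trA D p (T.j (n + 1)) (T.j n) (T.α n) (T.α_j n))
        (fun n => cmp (pull D (T.j n))) d →
      ∃ a : Cone.R D p, ∀ n, algebraMap (Cone.R D p) (M (pull D (T.j n))) a =
        Cone.x D p 0 ^ c • e.1 n := by
    intro d e he
    exact LefC5.exists_alg D p hS.sysC (FormFin.LS_alg hS) (FormFin.LK_alg hS) hreg
      (FormFin.ε_injective (Cone.m D p) (Cone.x D p) rfl _ (Cone.x_mem_m D p 0) hreg) c k0 k1 d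
      e.1 e.2 fun n => (he n).symm
  have HM := tow D p (fun n => (T.V n).hom ≫ T.j n) T.β (β_comp T)
  have t1 := fun h1 h2 h3 h4 => @LefLim.exists_graded (Cone.R D p) _ _ (Cone.m D p) hm
    (Fin (r + 1)) _ (Cone.x D p) rfl 0 hreg c k1 k2
    (fun n => M (pull D (T.j n))) (fun n => M (pull D ((T.V n).hom ≫ T.j n)))
    (fun n => inferInstance) (fun n => inferInstance) (fun n => inferInstance)
    (fun n => inferInstance)
    (fun n => trA D p (T.j (n + 1)) (T.j n) (T.α n) (T.α_j n))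
    (fun n => trA D p ((T.V (n + 1)).hom ≫ T.j (n + 1)) ((T.V n).hom ≫ T.j n) (T.β n)
      (β_comp T n))
    (fun n => trA D p (T.j n) ((T.V n).hom ≫ T.j n) (T.V n).hom rfl)
    (fun n => TrA D p (T.j n) (T.V n).hom) hS
    (fun n => cmp (pull D (T.j n))) (fun n => cmp (pull D ((T.V n).hom ≫ T.j n)))
    HM h1 h2 h3 h4
  exact t1 hT (fun n j => cmp_x D p _ j) hA hC5

/-- Existence of the graded algebraization. -/
theorem exists_gradedExt {X Z : Scheme.{u}} {r : ℕ} {D : CoordData X (Fin (r + 1))} {k : Type u}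
    [Field k] {p : X ⟶ Spec (CommRingCat.of k)} {ι : Z ⟶ X} {V₀ : FEt.Cat Z} [IsProper p]
    (H : Hyp D p ι) (T : Tower ι V₀) (c : ℕ)
    (hk : ∀ j ≤ 3, ∀ z : LocCoh.H (Cone.m D p) j (Cone.R D p), Cone.x D p 0 ^ c • z = 0)
    [Nonempty X] : Nonempty (GradedExt D p (T.j 0) (T.V 0)) := by
  obtain ⟨B, _, 𝒜, _, ρ, θ, hfin, h𝒜, hθρ, hρ, hlift, hker, hregB⟩ := exists_abs H T c hk
  have haff : IsAffineHom ((T.V 0).hom ≫ T.j 0) := LefLocSys.isAffineHom_cover T 0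
  have hU := pull_isAffineOpen D ((T.V 0).hom ≫ T.j 0) H.affine
  have hb := pull_basicOpen D ((T.V 0).hom ≫ T.j 0) H.basicOpen
  have hhom : ∀ (n : ℕ) b, b ∈ 𝒜 n →
      ∃ σ : Sec (pull D ((T.V 0).hom ≫ T.j 0)) n, θ b = hom _ n σ := fun n b hb =>
    cmp_eq_iff _ (h𝒜 n b hb)
  exact ⟨
    { B := B
      𝒜 := 𝒜
      ρ := ρ
      ρ_finite := hfin
      ρ_x := fun j => hρ _ 1 fun n => cmp_x D p _ j
      ρ_C := fun a => hρ _ 0 fun n => cmp_C D p _ a
      φ := fun i => (ev (pull D ((T.V 0).hom ≫ T.j 0)) i).comp θ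
      φ_mem := fun n b hb => by
        obtain ⟨σ, hσ⟩ := hhom n b hb
        have : (fun i => (ev (pull D ((T.V 0).hom ≫ T.j 0)) i).comp θ b) = σ.1 := by
          funext i
          rw [RingHom.comp_apply, hσ, ev_hom]
        rw [this]
        exact σ.2
      φ_x := fun i j => by
        rw [RingHom.comp_apply, hθρ, algebraMap_x, ev_coord]
      φ_C := fun i a => by
        rw [RingHom.comp_apply, hθρ, algebraMap_C, ev_const]
      lift := fun i e => by
        obtain ⟨n, σ, hσ, rfl⟩ := exists_sec _ hU hb i e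
        obtain ⟨l, b, hb1, hb2⟩ := hlift i n (hom _ n ⟨σ, hσ⟩) (cmp_hom_self _ _ _)
        refine ⟨l + n, b, hb1, ?_⟩
        rw [RingHom.comp_apply, hb2, Algebra.smul_def, map_pow, algebraMap_x, map_mul, map_pow,
          ev_coord, ev_hom, (pull D ((T.V 0).hom ≫ T.j 0)).f_self, one_pow, one_mul]
      ker := fun i n b hb1 hb2 => by
        obtain ⟨σ, hσ⟩ := hhom n b hb1
        rw [RingHom.comp_apply, hσ, ev_hom] at hb2
        obtain ⟨K, hK⟩ := exists_pow_mul_hom_eq_zero _ hU hb i σ hb2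
        obtain ⟨b', hb'⟩ := hker i n b hb1 K (by
          rw [hσ, Algebra.smul_def, map_pow, algebraMap_x]
          exact hK)
        exact ⟨K + 1, b', hb'⟩
      reg := hregB }⟩

end Groth.Agent.Pi1C.LefGr
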