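import Groth.Agent.Pi1C.FormFin
import Mathlib.RingTheory.GradedAlgebra.Basic

/-!
# The graded limit of a tower of graded rings

Abstract form. `Grad c`: `c a : N →+ N`, `a : ℤ`, are the component projections of a grading of `N`.
For a tower `π n : N (n+1) →ₐ[A] N n` compatible with gradings `c n` the ring `L = limAlg π`, its
homogeneous elements `Bs a`, the graded ring `B = ⨁ a : ℕ, Bs a`, `toL : B →+* L`, `𝒜`,
`ρ : A →+* B`; and, for a `TraceSys`, the finiteness of `ρ`.
-/

set_option autoImplicit false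
universe u
open scoped DirectSum

namespace Groth.Agent.Pi1C.LefLim

open FormFin FormLim FormSys FormCech

section Decomp

variable {ι : Type*} [DecidableEq ι] (β : ι → Type*) [∀ i, AddCommGroup (β i)]

/-- The direct sum is the internal direct sum of the summands. -/
@[reducible] noncomputable def decompRange :
    DirectSum.Decomposition (fun i => (DirectSum.of β i).range : ι → AddSubgroup (⨁ i, β i)) :=
  DirectSum.Decomposition.ofAddHom _
    (DirectSum.map fun a => (DirectSum.of β a).rangeRestrict) (by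
      apply DirectSum.addHom_ext
      intro a x
      rw [AddMonoidHom.comp_apply, DirectSum.map_of, DirectSum.coeAddMonoidHom_of]
      rfl) (by
      apply DirectSum.addHom_ext
      rintro a ⟨_, x, rfl⟩
      rw [AddMonoidHom.comp_apply, DirectSum.coeAddMonoidHom_of, DirectSum.map_of]
      rfl)

end Decomp

/-- Component projections of a graded ring. -/
structure Grad {N : Type*} [CommRing N] (c : ℤ → N →+ N) : Prop where
  self : ∀ a z, c a (c a z) = c a z
  ne : ∀ a b z, a ≠ b → c a (c b z) = 0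
  fin : ∀ z, ∃ s : Finset ℤ, ∑ a ∈ s, c a z = z
  one : c 0 1 = 1
  mul : ∀ a b z w, c a z = z → c b w = w → c (a + b) (z * w) = z * w

section Grad

variable {N : Type*} [CommRing N] {c : ℤ → N →+ N} (hc : Grad c)

include hc

theorem Grad.ne' {a b : ℤ} {z : N} (h : c b z = z) (hab : a ≠ b) : c a z = 0 := by
  rw [← h, hc.ne a b z hab]

theorem Grad.comp_mul {a b : ℤ} {z : N} (w : N) (hz : c a z = z) : c (a + b) (z * w) = z * c b w := by
  classical
  obtain ⟨s, hs⟩ := hc.fin w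
  have h1 : ∀ e ∈ s, c (a + b) (z * c e w) = z * c b (c e w) := by
    intro e _
    by_cases he : e = b
    · subst he
      rw [hc.self, hc.mul a e z _ hz (hc.self e w)]
    · rw [hc.ne' (hc.mul a e z _ hz (hc.self e w)) (by omega), hc.ne b e w (Ne.symm he), mul_zero]
  conv_lhs => rw [← hs, Finset.mul_sum, map_sum, Finset.sum_congr rfl h1, ← Finset.mul_sum,
    ← map_sum, hs]

theorem Grad.ext {z : N} (h : ∀ a, c a z = 0) : z = 0 := by
  obtain ⟨s, hs⟩ := hc.fin z
  rw [← hs]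
  exact Finset.sum_eq_zero fun a _ => h a

theorem Grad.pow {z : N} (h : c 1 z = z) (n : ℕ) : c n (z ^ n) = z ^ n := by
  induction n with
  | zero =>
    rw [pow_zero]
    exact hc.one
  | succ n ih =>
    rw [pow_succ, Nat.cast_succ]
    exact hc.mul _ _ _ _ ih h

end Grad

section Tower

variable {A : Type u} [CommRing A] {N : ℕ → Type u} [∀ n, CommRing (N n)] [∀ n, Algebra A (N n)]
  (π : ∀ n, N (n + 1) →ₐ[A] N n) (c : ∀ n, ℤ → N n →+ N n)

/-- A tower of graded rings. -/
structure Tow : Prop where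
  grad : ∀ n, Grad (c n)
  compat : ∀ n a z, π n (c (n + 1) a z) = c n a (π n z)

variable {π c} (H : Tow π c)

/-- Homogeneous components. -/
def comp (H : Tow π c) (a : ℤ) : limAlg π →+ limAlg π where
  toFun b := ⟨fun n => c n a (b.1 n), fun n => by rw [H.compat, b.2 n]⟩
  map_zero' := ext_limAlg fun n => map_zero (c n a)
  map_add' x y := ext_limAlg fun n => map_add (c n a) (x.1 n) (y.1 n)

theorem comp_val (a : ℤ) (b : limAlg π) (n : ℕ) : (comp H a b).1 n = c n a (b.1 n) := rfl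

/-- Homogeneous elements of the limit. -/
def Bs (π : ∀ n, N (n + 1) →ₐ[A] N n) (c : ∀ n, ℤ → N n →+ N n) (a : ℤ) :
    AddSubgroup (limAlg π) where
  carrier := {b | ∀ n, c n a (b.1 n) = b.1 n}
  add_mem' {x y} hx hy n := (map_add (c n a) (x.1 n) (y.1 n)).trans (by rw [hx n, hy n]; rfl)
  zero_mem' n := map_zero (c n a)
  neg_mem' {x} hx n := (map_neg (c n a) (x.1 n)).trans (by rw [hx n]; rfl)

theorem comp_mem (a : ℤ) (b : limAlg π) : comp H a b ∈ Bs π c a :=
  fun n => (H.grad n).self a _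

theorem comp_eq {a : ℤ} {b : limAlg π} (hb : b ∈ Bs π c a) : comp H a b = b :=
  ext_limAlg fun n => hb n

theorem comp_ne {a b : ℤ} {x : limAlg π} (hx : x ∈ Bs π c b) (hab : a ≠ b) : comp H a x = 0 :=
  ext_limAlg fun n => (H.grad n).ne' (hx n) hab

include H in
theorem mul_mem_Bs {a b : ℤ} {x y : limAlg π} (hx : x ∈ Bs π c a) (hy : y ∈ Bs π c b) :
    x * y ∈ Bs π c (a + b) :=
  fun n => (H.grad n).mul a b _ _ (hx n) (hy n)

include H in
theorem one_mem_Bs : (1 : limAlg π) ∈ Bs π c 0 := fun n => (H.grad n).one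

include H in
theorem graded : SetLike.GradedMonoid (fun a : ℕ => Bs π c (a : ℤ)) where
  one_mem := one_mem_Bs H
  mul_mem a b x y hx hy := by
    rw [Nat.cast_add]
    exact mul_mem_Bs H hx hy

variable [hG : SetLike.GradedMonoid (fun a : ℕ => Bs π c (a : ℤ))]

/-- The graded ring. -/
abbrev B (π : ∀ n, N (n + 1) →ₐ[A] N n) (c : ∀ n, ℤ → N n →+ N n) : Type u :=
  ⨁ a : ℕ, Bs π c (a : ℤ)

/-- The homogeneous elements of the graded ring. -/
noncomputable def of (π : ∀ n, N (n + 1) →ₐ[A] N n) (c : ∀ n, ℤ → N n →+ N n) (a : ℕ) :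
    Bs π c (a : ℤ) →+ B π c :=
  DirectSum.of (fun a : ℕ => Bs π c (a : ℤ)) a

/-- The comparison with the limit. -/
noncomputable def toL (π : ∀ n, N (n + 1) →ₐ[A] N n) (c : ∀ n, ℤ → N n →+ N n)
    [hG : SetLike.GradedMonoid (fun a : ℕ => Bs π c (a : ℤ))] : B π c →+* limAlg π :=
  DirectSum.coeRingHom (fun a : ℕ => Bs π c (a : ℤ))

theorem toL_of (a : ℕ) (b : Bs π c (a : ℤ)) : toL π c (of π c a b) = b.1 :=
  DirectSum.coeRingHom_of _ _ _

theorem induction_B {Q : B π c → Prop} (z : B π c) (h0 : Q 0)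
    (h1 : ∀ a b, Q (of π c a b)) (h2 : ∀ x y, Q x → Q y → Q (x + y)) : Q z :=
  DirectSum.induction_on z h0 (fun a b => h1 a b) h2

theorem comp_toL (z : B π c) (a : ℕ) : comp H a (toL π c z) = (z a).1 := by
  classical
  induction z using induction_B with
  | h0 => rw [map_zero, map_zero]; rfl
  | h2 x y hx hy => rw [map_add, map_add, hx, hy]; rfl
  | h1 b x =>
    rw [toL_of]
    by_cases hab : b = a
    · subst hab
      rw [comp_eq H x.2, of, DirectSum.of_eq_same]
    · rw [of, DirectSum.of_eq_of_ne _ _ _ (Ne.symm hab),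
        comp_ne H x.2 (by exact_mod_cast Ne.symm hab)]
      rfl

include H in
theorem toL_injective : Function.Injective (toL π c) := by
  rw [injective_iff_map_eq_zero]
  intro z hz
  apply DFinsupp.ext
  intro a
  have h1 := comp_toL H z a
  rw [hz, map_zero] at h1
  exact Subtype.ext h1.symm

/-- The grading of `B`. -/
noncomputable def 𝒜 (π : ∀ n, N (n + 1) →ₐ[A] N n) (c : ∀ n, ℤ → N n →+ N n) (a : ℕ) :
    AddSubgroup (B π c) := (of π c a).range

include H in
theorem mem_𝒜_of {a : ℕ} {b : B π c} (hb : toL π c b ∈ Bs π c a) : b ∈ 𝒜 π c a :=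
  ⟨⟨_, hb⟩, toL_injective H (toL_of _ _)⟩

theorem toL_mem {a : ℕ} {b : B π c} (hb : b ∈ 𝒜 π c a) : toL π c b ∈ Bs π c a := by
  obtain ⟨x, rfl⟩ := hb
  rw [toL_of]
  exact x.2

/-- The decomposition of `B`. -/
@[reducible] noncomputable def decomp (π : ∀ n, N (n + 1) →ₐ[A] N n) (c : ∀ n, ℤ → N n →+ N n) :
    DirectSum.Decomposition (𝒜 π c) :=
  decompRange (fun a : ℕ => Bs π c (a : ℤ))

include H in
theorem gradedMonoid : SetLike.GradedMonoid (𝒜 π c) where
  one_mem := mem_𝒜_of H (by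
    rw [map_one]
    exact one_mem_Bs H)
  mul_mem a b x y hx hy := mem_𝒜_of H (by
    rw [map_mul, Nat.cast_add]
    exact mul_mem_Bs H (toL_mem hx) (toL_mem hy))

/-- The graded ring structure. -/
@[reducible] noncomputable def gradedRing (H : Tow π c) : GradedRing (𝒜 π c) :=
  { gradedMonoid H, decomp π c with }

section Rho

variable (hA : ∀ a : A, ∃ b : B π c, toL π c b = algebraMap A (limAlg π) a)

/-- The structure map. -/
noncomputable def ρ (H : Tow π c) (hA : ∀ a : A, ∃ b : B π c, toL π c b = algebraMap A (limAlg π) a) :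
    A →+* B π c where
  toFun a := (hA a).choose
  map_one' := toL_injective H ((hA 1).choose_spec.trans (by rw [map_one, map_one]))
  map_zero' := toL_injective H ((hA 0).choose_spec.trans (by rw [map_zero, map_zero]))
  map_mul' a b := toL_injective H ((hA (a * b)).choose_spec.trans (by
    rw [map_mul, map_mul]
    exact congrArg₂ (· * ·) (hA a).choose_spec.symm (hA b).choose_spec.symm))
  map_add' a b := toL_injective H ((hA (a + b)).choose_spec.trans (by
    rw [map_add, map_add]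
    exact congrArg₂ (· + ·) (hA a).choose_spec.symm (hA b).choose_spec.symm))

theorem toL_ρ (a : A) : toL π c (ρ H hA a) = algebraMap A (limAlg π) a := (hA a).choose_spec

theorem toL_ρ_mul (a : A) (b : B π c) : toL π c (ρ H hA a * b) = a • toL π c b := by
  rw [map_mul, toL_ρ, Algebra.smul_def]

theorem toL_ρ_pow_mul (a : A) (k : ℕ) (b : B π c) :
    toL π c (ρ H hA a ^ k * b) = a ^ k • toL π c b := by
  rw [← map_pow, toL_ρ_mul]

end Rho

section Coord

variable {κ : Type*} (x : κ → A)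
  (hx : ∀ n j, c n 1 (algebraMap A (N n) (x j)) = algebraMap A (N n) (x j))

include hx in
omit hG in
theorem comp_pow_smul (j : κ) (k : ℕ) (a : ℤ) (b : limAlg π) :
    comp H (k + a) (x j ^ k • b) = x j ^ k • comp H a b := by
  refine ext_limAlg fun n => ?_
  change c n (k + a) (x j ^ k • b.1 n) = x j ^ k • c n a (b.1 n)
  rw [Algebra.smul_def, Algebra.smul_def, map_pow,
    (H.grad n).comp_mul _ ((H.grad n).pow (hx n j) k)]

include hx in
omit hG in
theorem comp_smul (j : κ) (a : ℤ) (b : limAlg π) :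
    comp H (a + 1) (x j • b) = x j • comp H a b := by
  have := comp_pow_smul H x hx j 1 a b
  rw [pow_one, Nat.cast_one, add_comm] at this
  exact this

include hx H in
theorem exists_lift {a : ℕ} (i : κ) (k : ℕ) (z : N 0) (hz : c 0 a z = z) (b : limAlg π)
    (hb : b.1 0 = x i ^ k • z) : ∃ b' ∈ 𝒜 π c (k + a), (toL π c b').1 0 = x i ^ k • z := by
  have h1 : (comp H ((k + a : ℕ) : ℤ) b).1 0 = x i ^ k • z := by
    rw [comp_val, hb, Algebra.smul_def, map_pow, Nat.cast_add,
      (H.grad 0).comp_mul _ ((H.grad 0).pow (hx 0 i) k), hz]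
  exact ⟨of π c (k + a) ⟨_, comp_mem H _ b⟩, ⟨_, rfl⟩, by rw [toL_of]; exact h1⟩

variable (hA : ∀ a : A, ∃ b : B π c, toL π c b = algebraMap A (limAlg π) a)
  {f : A} {ι : Type*} {g : ι → A} (hM : ModSys f g N (fun n => (π n).toLinearMap))

include hx hM in
theorem exists_ker {a : ℕ} (j0 i : κ) (hf : f = x j0) (K : ℕ) (b : B π c) (hb : b ∈ 𝒜 π c a)
    (h0 : x i ^ K • (toL π c b).1 0 = 0) :
    ∃ b' : B π c, ρ H hA (x i) ^ (K + 1) * b = ρ H hA (x j0) * b' := by
  obtain ⟨z, hz⟩ := exists_of_proj_eq_zero hM 0 (toLim π (x i ^ K • toL π c b)) h0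
  have h1 : x i ^ K • toL π c b = f • ofLim z := by
    refine ext_limAlg fun n => ?_
    have := congrArg (proj _ n) hz
    rw [zero_add, pow_one] at this
    exact this
  refine ⟨of π c (K + a) ⟨comp H _ (x i • ofLim z), comp_mem H _ _⟩, toL_injective H ?_⟩
  rw [toL_ρ_pow_mul, toL_ρ_mul, toL_of, pow_succ', mul_smul, h1]
  have h2 : comp H (((K + a : ℕ) : ℤ) + 1) (x i • x i ^ K • toL π c b) =
      x i • x i ^ K • toL π c b := by
    rw [comp_smul H x hx, Nat.cast_add, comp_pow_smul H x hx, comp_eq H (toL_mem hb)]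
  rw [h1, smul_comm (x i) f, hf, comp_smul H x hx] at h2
  rw [hf, smul_comm (x i) (x j0)]
  exact h2.symm

include hM in
theorem reg_B (b : B π c) (hb : ρ H hA f * b = 0) : b = 0 := by
  have h1 := congrArg (toL π c) hb
  rw [toL_ρ_mul, map_zero] at h1
  have h2 := reg_lim hM (toLim π (toL π c b)) (by rw [← map_smul, h1, map_zero])
  apply toL_injective H
  rw [map_zero]
  exact ext_limAlg fun n => congrArg (proj _ n) h2

end Coord

end Tower

section Finite

variable {A : Type u} [CommRing A] [IsNoetherianRing A] {ι : Type} [Finite ι] {f : A} {g : ι → A}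
  {C M : ℕ → Type u} [∀ n, CommRing (C n)] [∀ n, Algebra A (C n)] [∀ n, CommRing (M n)]
  [∀ n, Algebra A (M n)] {πC : ∀ n, C (n + 1) →ₐ[A] C n} {πM : ∀ n, M (n + 1) →ₐ[A] M n}
  {ψ : ∀ n, C n →ₐ[A] M n} {T : ∀ n, M n →ₗ[A] C n} (h : TraceSys f g C M πC πM ψ T)
  {cC : ∀ n, ℤ → C n →+ C n} {cM : ∀ n, ℤ → M n →+ M n} (HM : Tow πM cM)
  (hT : ∀ n a z, cM n a z = z → cC n a (T n z) = T n z)
  (hg : ∀ n j, cM n 1 (algebraMap A (M n) (g j)) = algebraMap A (M n) (g j))
  (hL : ∀ i (z : M 0), ∃ (k : ℕ) (b : limAlg πM), b.1 0 = g i ^ k • z)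

omit [IsNoetherianRing A] in
include h HM hg hL in
/-- Homogeneous elements detecting zero by traces. -/
theorem exists_family : ∃ (κ : Type) (_ : Finite κ) (d : κ → ℤ) (a : κ → limAlg πM),
    (∀ s, a s ∈ Bs πM cM (d s)) ∧
    ∀ y : M 0, (∀ s, T 0 ((a s).1 0 * y) = 0) → y = 0 := by
  classical
  choose r k a b hab using h.dual 0
  choose S hS using fun (s : Σ i, Fin (r i)) => (HM.grad 0).fin (a s.1 s.2)
  let κ : Type := Σ s : (Σ i, Fin (r i)), {e : ℤ // e ∈ S s}
  have hex : ∀ t : κ, ∃ (l : ℕ) (z : limAlg πM), z ∈ Bs πM cM (l + t.2.1) ∧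
      z.1 0 = g t.1.1 ^ l • cM 0 t.2.1 (a t.1.1 t.1.2) := by
    intro t
    obtain ⟨l, z, hz⟩ := hL t.1.1 (cM 0 t.2.1 (a t.1.1 t.1.2))
    refine ⟨l, comp HM _ z, comp_mem HM _ z, ?_⟩
    rw [comp_val, hz, Algebra.smul_def, map_pow,
      (HM.grad 0).comp_mul _ ((HM.grad 0).pow (hg 0 t.1.1) l), (HM.grad 0).self]
  choose l z hz1 hz2 using hex
  refine ⟨κ, inferInstance, fun t => l t + t.2.1, z, hz1, fun y hy => ?_⟩
  refine (h.sysM.closed 0).inj _ ?_
  funext i
  rw [FormalA.CechSub.ε_apply]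
  refine (FormalA.LocSub.mkLinearMap_eq_zero_iff (S := FormalA.CechLC.PS g i) y).2 ?_
  have h1 : ∀ t : (Σ j : Fin (r i), {e : ℤ // e ∈ S ⟨i, j⟩}), ∃ l : ℕ,
      g i ^ l • T 0 (cM 0 t.2.1 (a i t.1) * y) ∈ (⊥ : Submodule A (C 0)) := fun t =>
    ⟨l ⟨⟨i, t.1⟩, t.2⟩, by
      rw [Submodule.mem_bot, ← map_smul, ← smul_mul_assoc, ← hz2 ⟨⟨i, t.1⟩, t.2⟩]
      exact hy _⟩
  obtain ⟨L, hL'⟩ := exists_common ⊥ (g i)
    (fun t : (Σ j : Fin (r i), {e : ℤ // e ∈ S ⟨i, j⟩}) => T 0 (cM 0 t.2.1 (a i t.1) * y)) h1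
  refine ⟨g i ^ (L + k i), ⟨_, rfl⟩, ?_⟩
  rw [pow_add, mul_smul, hab, Finset.smul_sum]
  refine Finset.sum_eq_zero fun j _ => ?_
  rw [← smul_mul_assoc, ← map_smul]
  have h2 : g i ^ L • T 0 (a i j * y) = 0 := by
    rw [← hS ⟨i, j⟩, Finset.sum_mul, map_sum, Finset.smul_sum]
    exact Finset.sum_eq_zero fun e he => (Submodule.mem_bot A).1 (hL' ⟨j, ⟨e, he⟩⟩)
  rw [h2, map_zero, zero_mul]

variable [hG : SetLike.GradedMonoid (fun a : ℕ => Bs πM cM (a : ℤ))]
  (hA : ∀ a : A, ∃ b : B πM cM, toL πM cM b = algebraMap A (limAlg πM) a)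

include h hT hg hL in
/-- Finiteness of `ρ`. -/
theorem ρ_finite (n0 : ℕ)
    (hC5 : ∀ (d : ℤ) (c : limAlg πC), c ∈ Bs πC cC d →
      ∃ a : A, ∀ n, algebraMap A (C n) a = f ^ n0 • c.1 n) :
    @RingHom.Finite A (B πM cM) _ (DirectSum.commRing _) (ρ HM hA) := by
  classical
  obtain ⟨κ, hκ, d, a, ha1, ha2⟩ := exists_family h HM hg hL
  let _ : Algebra A (B πM cM) := (ρ HM hA).toAlgebra
  change Module.Finite A (B πM cM)
  let tL : B πM cM →ₗ[A] limAlg πM :=
    { toFun := toL πM cM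
      map_add' := map_add _
      map_smul' := fun t b => toL_ρ_mul HM hA t b }
  let Θ : B πM cM →ₗ[A] (κ → Lim (fun n => (πC n).toLinearMap)) :=
    LinearMap.pi fun s => LinearMap.lsmul A _ (f ^ n0) ∘ₗ TL h ∘ₗ LinearMap.mulLeft A (a s) ∘ₗ tL
  let Γ : (κ → A) →ₗ[A] (κ → Lim (fun n => (πC n).toLinearMap)) :=
    LinearMap.pi fun s => αL πC ∘ₗ LinearMap.proj s
  have hΘ : ∀ x, Θ x = 0 → x = 0 := fun x hx => by
    have h1 : ∀ s, TL h (a s * toL πM cM x) = 0 := fun s => by
      have h2 : f ^ n0 • TL h (a s * toL πM cM x) = 0 := congr_fun hx s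
      exact pow_reg (reg_lim h.sysC) n0 _ h2
    have h3 := eq_zero_of_trace h a (toL πM cM x) ha2 h1
    exact toL_injective HM (by rw [h3, map_zero])
  have hmem : ∀ x, Θ x ∈ LinearMap.range Γ := by
    intro x
    induction x using induction_B with
    | h0 => rw [map_zero]; exact zero_mem _
    | h2 x y hx hy => rw [map_add]; exact add_mem hx hy
    | h1 e b =>
      have h4 : ∀ s, ∃ t : A, αL πC t = Θ (of πM cM e b) s := by
        intro s
        have h5 : (⟨fun n => T n ((a s * b.1).1 n), (TL h (a s * b.1)).2⟩ : limAlg πC) ∈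
            Bs πC cC (d s + e) := fun n =>
          hT n _ _ (mul_mem_Bs HM (ha1 s) b.2 n)
        obtain ⟨t, ht⟩ := hC5 _ _ h5
        refine ⟨t, Subtype.ext (funext fun n => ?_)⟩
        have h6 : (Θ (of πM cM e b) s).1 n = f ^ n0 • T n ((a s * toL πM cM (of πM cM e b)).1 n) :=
          rfl
        rw [h6, toL_of]
        exact ht n
      choose t ht using h4
      exact ⟨t, funext ht⟩
  have hΓN : IsNoetherian A (LinearMap.range Γ) :=
    isNoetherian_of_surjective (f := Γ.rangeRestrict) Γ.range_rangeRestrict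
  have hN : IsNoetherian A (B πM cM) := by
    refine isNoetherian_of_injective (LinearMap.codRestrict (LinearMap.range Γ) Θ hmem) ?_
    rw [injective_iff_map_eq_zero]
    intro x hx
    exact hΘ _ (congrArg Subtype.val hx)
  infer_instance

end Finite

end Groth.Agent.Pi1C.LefLim
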