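import Groth.Agent.Pi1C.LefLim
import Groth.Agent.Pi1C.FormR

/-!
# Existence of the graded algebraization, abstract form
-/

set_option autoImplicit false
universe u
open scoped DirectSum

namespace Groth.Agent.Pi1C.LefLim

open FormFin FormLim FormSys FormCech FormKill FormR

/-- The graded algebraization of a graded trace system. -/
theorem exists_graded {A : Type u} [CommRing A] [IsNoetherianRing A] (m : Ideal A) [hm : m.IsMaximal]
    {ι : Type} [Finite ι] (g : ι → A) (hg : m.radical = (Ideal.span (Set.range g)).radical)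
    (j0 : ι) (hreg : ∀ a : A, g j0 * a = 0 → a = 0) (n0 : ℕ)
    (hk1 : Kills1 g (g j0 ^ n0) A) (hk2 : Kills2 g (g j0 ^ n0) A)
    {C M : ℕ → Type u} [∀ n, CommRing (C n)] [∀ n, Algebra A (C n)] [∀ n, CommRing (M n)]
    [∀ n, Algebra A (M n)] {πC : ∀ n, C (n + 1) →ₐ[A] C n} {πM : ∀ n, M (n + 1) →ₐ[A] M n}
    {ψ : ∀ n, C n →ₐ[A] M n} {T : ∀ n, M n →ₗ[A] C n} (h : TraceSys (g j0) g C M πC πM ψ T)
    {cC : ∀ n, ℤ → C n →+ C n} {cM : ∀ n, ℤ → M n →+ M n} (HM : Tow πM cM)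
    (hT : ∀ n a z, cM n a z = z → cC n a (T n z) = T n z)
    (hx : ∀ n j, cM n 1 (algebraMap A (M n) (g j)) = algebraMap A (M n) (g j))
    (hA : ∀ P : Subring A, (∀ j, g j ∈ P) →
      (∀ a : A, (∀ n, cM n 0 (algebraMap A (M n) a) = algebraMap A (M n) a) → a ∈ P) → P = ⊤)
    (hC5 : ∀ (d : ℤ) (c : limAlg πC), c ∈ Bs πC cC d →
      ∃ a : A, ∀ n, algebraMap A (C n) a = g j0 ^ n0 • c.1 n) :
    ∃ (B : Type u) (_ : CommRing B) (𝒜 : ℕ → AddSubgroup B) (_ : GradedRing 𝒜) (ρ : A →+* B)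
      (θ : B →+* M 0), ρ.Finite ∧
      (∀ (n : ℕ), ∀ b ∈ 𝒜 n, cM 0 n (θ b) = θ b) ∧
      (∀ a, θ (ρ a) = algebraMap A (M 0) a) ∧
      (∀ (a : A) (n : ℕ), (∀ k, cM k n (algebraMap A (M k) a) = algebraMap A (M k) a) → ρ a ∈ 𝒜 n) ∧
      (∀ i (a : ℕ) z, cM 0 a z = z → ∃ k, ∃ b ∈ 𝒜 (k + a), θ b = g i ^ k • z) ∧
      (∀ i (a : ℕ), ∀ b ∈ 𝒜 a, ∀ K : ℕ, g i ^ K • θ b = 0 →
        ∃ b', ρ (g i) ^ (K + 1) * b = ρ (g j0) * b') ∧
      (∀ b, ρ (g j0) * b = 0 → b = 0) := by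
  have hG : SetLike.GradedMonoid (fun a : ℕ => Bs πM cM (a : ℤ)) := graded HM
  -- lifting
  obtain ⟨N, hN, hNl⟩ := exists_fg h (2 * n0)
  have h𝔠 : m ≤ (⊤ ⊔ Ideal.span {g j0}).radical := by
    rw [top_sup_eq]
    exact le_top.trans Ideal.le_radical
  have hR := FormR.isNoetherian_range m g hg (g j0) hreg ⊤ h𝔠 n0
    (fun a _ => (kills1 g A).mul_mem_right a hk1)
    (fun a _ x hx => by
      obtain ⟨y, hy⟩ := hk2 x hx
      exact ⟨a • y, by rw [map_smul, hy, smul_smul, mul_comm]⟩) (C (2 * n0))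
    (Algebra.linearMap A (C (2 * n0))) (LS_alg h _) (LK_alg h _) (h.sysC.tors _) (M (2 * n0))
    (factor h _) N hN hNl
  have hL : ∀ i (z : M 0), ∃ (k : ℕ) (b : limAlg πM), b.1 0 = g i ^ k • z := fun i z => by
    obtain ⟨k, b, hb⟩ := exists_lift_loc h.sysM (2 * n0) hR 0 i z
    exact ⟨k, ofLim b, hb⟩
  have hA' : ∀ a : A, ∃ b : B πM cM, toL πM cM b = algebraMap A (limAlg πM) a := by
    let P : Subring A := (toL πM cM).range.comap (algebraMap A (limAlg πM))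
    have hP : P = ⊤ := by
      refine hA P (fun j => ?_) fun a ha => ?_
      · refine ⟨of πM cM 1 ⟨algebraMap A (limAlg πM) (g j), fun n => ?_⟩, toL_of _ _⟩
        exact hx n j
      · refine ⟨of πM cM 0 ⟨algebraMap A (limAlg πM) a, fun n => ?_⟩, toL_of _ _⟩
        exact ha n
    intro a
    have : a ∈ P := hP ▸ Subring.mem_top a
    exact this
  let θ : B πM cM →+* M 0 := ((ev πM 0 : limAlg πM →ₐ[A] M 0) : limAlg πM →+* M 0).comp (toL πM cM)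
  have hθ : ∀ b, θ b = (toL πM cM b).1 0 := fun b => rfl
  refine ⟨B πM cM, DirectSum.commRing _, 𝒜 πM cM, gradedRing HM, ρ HM hA', θ,
    ρ_finite h HM hT hx hL hA' n0 hC5, fun n b hb => ?_, fun a => ?_, fun a n ha => ?_,
    fun i a z hz => ?_, fun i a b hb K hK => ?_, fun b hb => ?_⟩
  · exact toL_mem hb 0
  · rw [hθ, toL_ρ]
    rfl
  · refine mem_𝒜_of HM ?_
    rw [toL_ρ]
    exact ha
  · obtain ⟨k, b, hb⟩ := hL i z
    obtain ⟨b', h1, h2⟩ := exists_lift HM g hx i k z hz b hb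
    exact ⟨k, b', h1, h2⟩
  · exact exists_ker HM g hx hA' h.sysM j0 i rfl K b hb hK
  · exact reg_B HM hA' h.sysM b hb

end Groth.Agent.Pi1C.LefLim
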