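import Groth.Agent.Pi1C.LefAway
import Groth.Agent.Pi1C.LefEtale
import Groth.Agent.Pi1C.GrGlue
import Groth.Agent.Pi1C.FEtExtend

/-!
# A graded algebraization extends the cover to a neighbourhood
-/

set_option autoImplicit false
universe u
open AlgebraicGeometry CategoryTheory CategoryTheory.Limits
open Groth.Agent.VarietyB.ProjGlue

namespace Groth.Agent.Pi1C.LefProj

open TwistSec LefStruct HomogeneousLocalization LefAway SecOver

variable {X : Scheme.{u}} {r : ℕ} {D : CoordData X (Fin (r + 1))} {k : Type u} [Field k]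
    {p : X ⟶ Spec (CommRingCat.of k)} {Z : Scheme.{u}} {ι : Z ⟶ X} {V : FEt.Cat Z}
    (H : Hyp D p ι) (E : GradedExt D p ι V)

/-- The model. -/
structure Model where
  P : Scheme.{u}
  q : P ⟶ X
  aff : IsAffineHom q
  σ : ∀ i, Γ(P, q ⁻¹ᵁ D.U i) ≃+* BB E i
  σ_app : ∀ i a, σ i (q.app (D.U i) a) = phi E H i a
  mem : ∀ (n : ℕ) (b : E.B) (hb : b ∈ E.𝒜 n), (fun i => (σ i).symm (fr E i n b hb)) ∈ Sec (pull D q) n

theorem exists_model : Nonempty (Model H E) := by
  obtain ⟨P, q, h, σ, h1, h2⟩ := GrGlue.exists_model D H.affine H.basicOpen p H.surj E.𝒜 (yy E)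
    (yy_mem E) ((E.ρ.comp (Ideal.Quotient.mk _)).comp MvPolynomial.C) E.ρ_C (phi E H)
    (fun i j => phi_f E H i j) (fun i c => phi_base E H i c)
  exact ⟨⟨P, q, h, σ, h1, h2⟩⟩

variable {H E} (M : Model H E)

attribute [instance] Model.aff

/-- The structure map of `V` over `X`. -/
noncomputable abbrev gV (_ : Model H E) : V.left ⟶ X := V.hom ≫ ι

/-- The ring map on the chart `i`. -/
noncomputable def th (i : Fin (r + 1)) :
    Γ(M.P, M.q ⁻¹ᵁ D.U i) ⟶ Γ(V.left, (gV M) ⁻¹ᵁ D.U i) :=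
  CommRingCat.ofHom ((psi E i).comp (M.σ i).toRingHom)

theorem th_app (i : Fin (r + 1)) : M.q.app (D.U i) ≫ th M i = (gV M).app (D.U i) := by
  apply CommRingCat.hom_ext
  ext a
  change psi E i (M.σ i (M.q.app (D.U i) a)) = _
  rw [M.σ_app, psi_phi]
  rfl

theorem th_symm (i : Fin (r + 1)) (n : ℕ) (b : E.B) (hb : b ∈ E.𝒜 n) :
    (th M i).hom ((M.σ i).symm (fr E i n b hb)) = E.φ i b := by
  change psi E i (M.σ i ((M.σ i).symm _)) = _
  rw [(M.σ i).apply_symm_apply, psi_fr]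

theorem isAffineOpen_inf (H : Hyp D p ι) (i j : Fin (r + 1)) : IsAffineOpen (D.U i ⊓ D.U j) := by
  rw [← H.basicOpen]
  exact (H.affine i).basicOpen _

theorem exists_th' (i j : Fin (r + 1)) :
    ∃ (_ : IsAffineOpen (D.U i ⊓ D.U j))
      (θ' : Γ(M.P, M.q ⁻¹ᵁ (D.U i ⊓ D.U j)) ⟶ Γ(V.left, (gV M) ⁻¹ᵁ (D.U i ⊓ D.U j))),
      th M i ≫ V.left.presheaf.map (homOfLE ((gV M).preimage_mono inf_le_left)).op =
        M.P.presheaf.map (homOfLE (M.q.preimage_mono inf_le_left)).op ≫ θ' ∧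
      th M j ≫ V.left.presheaf.map (homOfLE ((gV M).preimage_mono inf_le_right)).op =
        M.P.presheaf.map (homOfLE (M.q.preimage_mono inf_le_right)).op ≫ θ' := by
  refine ⟨isAffineOpen_inf H i j, ?_⟩
  have hq : M.q ⁻¹ᵁ (D.U i ⊓ D.U j) = M.P.basicOpen (M.q.app (D.U i) (D.f i j)) := by
    rw [← H.basicOpen]
    exact Scheme.preimage_basicOpen _ _
  let resP : Γ(M.P, M.q ⁻¹ᵁ D.U i) ⟶ Γ(M.P, M.q ⁻¹ᵁ (D.U i ⊓ D.U j)) :=
    M.P.presheaf.map (homOfLE (M.q.preimage_mono inf_le_left)).op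
  let resV : Γ(V.left, (gV M) ⁻¹ᵁ D.U i) ⟶ Γ(V.left, (gV M) ⁻¹ᵁ (D.U i ⊓ D.U j)) :=
    V.left.presheaf.map (homOfLE ((gV M).preimage_mono inf_le_left)).op
  let _ := resP.hom.toAlgebra
  have hloc : IsLocalization.Away (M.q.app (D.U i) (D.f i j)) Γ(M.P, M.q ⁻¹ᵁ (D.U i ⊓ D.U j)) :=
    ((H.affine i).preimage M.q).isLocalization_of_eq_basicOpen _ _ hq
  have hunit : IsUnit ((th M i ≫ resV).hom (M.q.app (D.U i) (D.f i j))) := by
    have h1 : (th M i ≫ resV).hom (M.q.app (D.U i) (D.f i j)) =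
        resL (pull D (gV M)) i j ((pull D (gV M)).f i j) := by
      change resV.hom ((M.q.app (D.U i) ≫ th M i).hom (D.f i j)) = _
      rw [th_app]
      rfl
    rw [h1]
    exact (pull D (gV M)).f_isUnit i j
  let θ : Γ(M.P, M.q ⁻¹ᵁ (D.U i ⊓ D.U j)) →+* Γ(V.left, (gV M) ⁻¹ᵁ (D.U i ⊓ D.U j)) :=
    IsLocalization.Away.lift (M.q.app (D.U i) (D.f i j)) (g := (th M i ≫ resV).hom) hunit
  have hθ : ∀ z, θ (resP.hom z) = (th M i ≫ resV).hom z := fun z => IsLocalization.Away.lift_eq _ _ _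
  refine ⟨CommRingCat.ofHom θ, ?_, ?_⟩
  · apply CommRingCat.hom_ext
    ext z
    exact (hθ z).symm
  · apply CommRingCat.hom_ext
    ext z
    obtain ⟨w, rfl⟩ := (M.σ j).symm.surjective z
    obtain ⟨n, b, hb, rfl⟩ := frac_surjective E.𝒜 (yy_mem E j) w
    let ϑ : Γ(M.P, (pull D M.q).U i ⊓ (pull D M.q).U j) →+*
      Γ(V.left, (pull D (gV M)).U i ⊓ (pull D (gV M)).U j) := θ
    have h1 : resL (pull D M.q) i j ((M.σ i).symm (fr E i n b hb)) =
        (u (pull D M.q) i j : Γ(M.P, (pull D M.q).U i ⊓ (pull D M.q).U j)) ^ n *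
          resR (pull D M.q) i j ((M.σ j).symm (fr E j n b hb)) := by
      have := M.mem n b hb i j
      rwa [zpow_natCast, Units.val_pow_eq_pow_val] at this
    have h2 : resL (pull D (gV M)) i j (E.φ i b) =
        (u (pull D (gV M)) i j : Γ(V.left, (pull D (gV M)).U i ⊓ (pull D (gV M)).U j)) ^ n *
          resR (pull D (gV M)) i j (E.φ j b) := by
      have := E.φ_mem n b hb i j
      rwa [zpow_natCast, Units.val_pow_eq_pow_val] at this
    have h3 : ϑ (resL (pull D M.q) i j ((M.σ i).symm (fr E i n b hb))) =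
        resL (pull D (gV M)) i j (E.φ i b) := by
      refine (hθ _).trans ?_
      change resV.hom ((th M i).hom _) = _
      rw [th_symm]
      rfl
    have h4 : ϑ (u (pull D M.q) i j : Γ(M.P, (pull D M.q).U i ⊓ (pull D M.q).U j)) =
        (u (pull D (gV M)) i j : Γ(V.left, (pull D (gV M)).U i ⊓ (pull D (gV M)).U j)) := by
      rw [u_val, u_val]
      refine (hθ _).trans ?_
      change resV.hom ((M.q.app (D.U i) ≫ th M i).hom (D.f i j)) = _
      rw [th_app]
      rfl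
    have h5 := congrArg ϑ h1
    rw [map_mul, map_pow, h3, h4, h2] at h5
    have h6 : resR (pull D (gV M)) i j (E.φ j b) =
        ϑ (resR (pull D M.q) i j ((M.σ j).symm (fr E j n b hb))) :=
      ((u (pull D (gV M)) i j).isUnit.pow n).mul_left_cancel h5
    change V.left.presheaf.map _ ((th M j).hom ((M.σ j).symm (fr E j n b hb))) = _
    rw [th_symm]
    exact h6

theorem exists_v : ∃ (v : V.left ⟶ M.P) (hv : v ≫ M.q = gV M), ∀ i, sec (D.U i) v M.q (gV M) hv = th M i := by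
  have h1 : IsAffineHom V.hom := V.prop.1.1
  have h2 : IsClosedImmersion ι := H.closedImmersion
  have h3 : IsAffineHom (gV M) := MorphismProperty.comp_mem _ _ _ inferInstance inferInstance
  exact ChartGlue.exists_hom D.U D.iSup_U H.affine M.q (gV M) (th M) (th_app M) (exists_th' M)

theorem ker_th (i : Fin (r + 1)) :
    RingHom.ker (th M i).hom = Ideal.span {M.q.app (D.U i) (D.f i 0)} := by
  apply le_antisymm
  · intro z hz
    rw [RingHom.mem_ker] at hz
    have h1 : M.σ i z ∈ RingHom.ker (psi E i) := hz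
    rw [ker_psi E H, Ideal.mem_span_singleton] at h1
    obtain ⟨w, hw⟩ := h1
    rw [Ideal.mem_span_singleton]
    refine ⟨(M.σ i).symm w, ?_⟩
    apply (M.σ i).injective
    rw [hw, map_mul, (M.σ i).apply_symm_apply, M.σ_app]
  · rw [Ideal.span_singleton_le_iff_mem, RingHom.mem_ker]
    change psi E i (M.σ i _) = 0
    rw [M.σ_app, ← RingHom.mem_ker, ker_psi E H]
    exact Ideal.mem_span_singleton_self _

theorem th_surjective (i : Fin (r + 1)) : Function.Surjective (th M i).hom :=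
  (psi_surjective E i).comp (M.σ i).surjective

theorem ι_app_surjective (H : Hyp D p ι) (i : Fin (r + 1)) :
    Function.Surjective (ι.app (D.U i)).hom := by
  have h2 : IsClosedImmersion ι := H.closedImmersion
  exact ι.app_surjective _ (H.affine i)

theorem isPullback_v (v : V.left ⟶ M.P) (hv : v ≫ M.q = gV M)
    (hs : ∀ i, sec (D.U i) v M.q (gV M) hv = th M i) : IsPullback v V.hom M.q ι := by
  have h1 : IsAffineHom V.hom := V.prop.1.1
  have h2 : IsClosedImmersion ι := H.closedImmersion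
  have h3 : IsAffineHom (gV M) := MorphismProperty.comp_mem _ _ _ inferInstance inferInstance
  refine ChartGlue.isPullback_of_isPushout_sec D.U D.iSup_U H.affine v V.hom M.q ι (gV M) hv rfl ?_
  intro i
  rw [hs]
  refine LefEtale.isPushout_of_surjective _ _ _ _ ?_ ?_ ?_ ?_
  · rw [th_app, app_comp_sec]
  · exact ι_app_surjective H i
  · exact th_surjective M i
  · rw [ker_th, H.ker, Ideal.map_span, Set.image_singleton]

theorem isFinite_q : IsFinite M.q := by
  refine LefEtale.isFinite_of_iSup M.q D.U D.iSup_U H.affine fun i => ?_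
  have h1 : (M.q.app (D.U i)).hom = (M.σ i).symm.toRingHom.comp (phi E H i) := by
    ext a
    change _ = (M.σ i).symm (phi E H i a)
    rw [← M.σ_app, (M.σ i).symm_apply_apply]
  rw [h1]
  exact RingHom.Finite.comp (RingHom.Finite.of_surjective _ (M.σ i).symm.surjective) (finite_phi E H i)

theorem isNoetherianRing (H : Hyp D p ι) (i : Fin (r + 1)) : IsNoetherianRing Γ(X, D.U i) :=
  isNoetherianRing_of_surjective _ _ (D.hom p i) (H.surj i)

/-- `q` is etale near the zero locus of `f i 0`. -/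
theorem exists_etale_away (i : Fin (r + 1)) (P : Ideal Γ(X, D.U i)) [P.IsPrime] (hP : D.f i 0 ∈ P) :
    ∃ s ∉ P, letI := (M.q.app (D.U i)).hom.toAlgebra
      Algebra.Etale Γ(X, D.U i) (Localization.Away
        (algebraMap Γ(X, D.U i) Γ(M.P, M.q ⁻¹ᵁ D.U i) s)) := by
  have h1 : IsAffineHom V.hom := V.prop.1.1
  have h2 : IsClosedImmersion ι := H.closedImmersion
  have h3 : IsAffineHom (gV M) := MorphismProperty.comp_mem _ _ _ inferInstance inferInstance
  have h4 : Etale V.hom := V.prop.2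
  let _ := (M.q.app (D.U i)).hom.toAlgebra
  have hN := isNoetherianRing H i
  have hfq := isFinite_q M
  have hfin : Module.Finite Γ(X, D.U i) Γ(M.P, M.q ⁻¹ᵁ D.U i) := IsFinite.finite_app M.q _ (H.affine i)
  have hreg : IsSMulRegular Γ(M.P, M.q ⁻¹ᵁ D.U i) (D.f i 0) := by
    rw [isSMulRegular_iff_right_eq_zero_of_smul]
    intro z hz
    rw [Algebra.smul_def] at hz
    apply (M.σ i).injective
    rw [map_zero]
    apply t_mul_eq_zero E H i
    rw [← M.σ_app, ← map_mul]
    exact (congrArg (M.σ i) hz).trans (map_zero _)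
  have het : Algebra.Etale (Γ(X, D.U i) ⧸ Ideal.span {D.f i 0})
      (Γ(M.P, M.q ⁻¹ᵁ D.U i) ⧸ (Ideal.span {D.f i 0}).map
        (algebraMap Γ(X, D.U i) Γ(M.P, M.q ⁻¹ᵁ D.U i))) := by
    refine LefEtale.etale_quotient (Ideal.span {D.f i 0}) (ι.app (D.U i)).hom (th M i).hom
      (sec (D.U i) V.hom ι (gV M) rfl).hom ?_ (ι_app_surjective H i) (th_surjective M i) (H.ker i) ?_ ?_
    · have := (th_app M i).trans (app_comp_sec (D.U i) V.hom ι (gV M) rfl).symm
      exact congrArg CommRingCat.Hom.hom this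
    · rw [ker_th, Ideal.map_span, Set.image_singleton]
      rfl
    · exact HasRingHomProperty.appLE (P := @Etale) V.hom h4 ⟨_, (H.affine i).preimage ι⟩
        ⟨_, (H.affine i).preimage (gV M)⟩ _
  obtain ⟨s, hs, h⟩ := EtNear619.exists_etale_away (D.f i 0) hreg (het := het) P hP
  exact ⟨s, hs, h⟩

/-- The etale locus contains the image of `Z`. -/
theorem exists_basicOpen (z : Z) : ∃ (i : Fin (r + 1)) (s : Γ(X, D.U i)),
    ι z ∈ X.basicOpen s ∧ FEt.prop (M.q ∣_ X.basicOpen s) := by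
  have hz : ι z ∈ (⊤ : X.Opens) := trivial
  rw [← D.iSup_U, TopologicalSpace.Opens.mem_iSup] at hz
  obtain ⟨i, hi⟩ := hz
  let P : Ideal Γ(X, D.U i) :=
    (IsLocalRing.maximalIdeal (X.presheaf.stalk (ι z))).comap (X.presheaf.germ (D.U i) (ι z) hi).hom
  have hmem : ∀ s, s ∈ P ↔ ι z ∉ X.basicOpen s := by
    intro s
    rw [Scheme.mem_basicOpen X s (ι z) hi]
    exact IsLocalRing.mem_maximalIdeal _
  have hf : D.f i 0 ∈ P := by
    rw [hmem]
    intro h
    have h1 : z ∈ ι ⁻¹ᵁ X.basicOpen (D.f i 0) := h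
    rw [Scheme.preimage_basicOpen] at h1
    have h2 : ι.app (D.U i) (D.f i 0) = 0 := by
      have : D.f i 0 ∈ RingHom.ker (ι.app (D.U i)).hom := by
        rw [H.ker]
        exact Ideal.mem_span_singleton_self _
      exact this
    rw [h2, Scheme.basicOpen_zero] at h1
    exact h1
  obtain ⟨s, hs, h⟩ := exists_etale_away M i P hf
  have hfq := isFinite_q M
  refine ⟨i, s, ?_, LefEtale.prop_basicOpen M.q (H.affine i) s h⟩
  rw [hmem, not_not] at hs
  exact hs

end Groth.Agent.Pi1C.LefProj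

namespace Groth.Agent.Pi1C.LefProj

open LefStruct

/-- **A graded algebraization extends the cover.** -/
theorem extends_of_gradedExt {X Z : Scheme.{u}} {r : ℕ} {D : CoordData X (Fin (r + 1))} {k : Type u}
    [Field k] {p : X ⟶ Spec (CommRingCat.of k)} {ι : Z ⟶ X} {V : FEt.Cat Z}
    (H : Hyp D p ι) (E : GradedExt D p ι V) : Extends ι V := by
  obtain ⟨M⟩ := exists_model H E
  obtain ⟨v, hv, hs⟩ := exists_v M
  have hpb := isPullback_v M v hv hs
  let K : Type u := {a : Σ i, Γ(X, D.U i) // FEt.prop (M.q ∣_ X.basicOpen a.2)}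
  let N : X.Opens := ⨆ a : K, X.basicOpen a.1.2
  have hN : Set.range ι ⊆ Set.range N.ι := by
    rw [Scheme.Opens.range_ι]
    rintro _ ⟨z, rfl⟩
    obtain ⟨i, s, h1, h2⟩ := exists_basicOpen M z
    exact (le_iSup (fun a : K => X.basicOpen a.1.2) ⟨⟨i, s⟩, h2⟩) h1
  let j : Z ⟶ N.toScheme := IsOpenImmersion.lift N.ι ι hN
  have hj : j ≫ N.ι = ι := IsOpenImmersion.lift_fac _ _ _
  have hprop : FEt.prop (M.q ∣_ N) := ChartGlue.prop_iSup M.q (fun a : K => X.basicOpen a.1.2)
    fun a => a.2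
  let W : FEt.Cat N.toScheme := MorphismProperty.Over.mk ⊤ (M.q ∣_ N) hprop
  have hr := (isPullback_morphismRestrict M.q N).flip
  have hcomm : v ≫ M.q = (V.hom ≫ j) ≫ N.ι := by
    rw [Category.assoc, hj, hv]
  let w : V.left ⟶ (M.q ⁻¹ᵁ N).toScheme := hr.lift v (V.hom ≫ j) hcomm
  have hw : IsPullback w V.hom (M.q ∣_ N) j := by
    refine IsPullback.of_right (h₁₂ := (M.q ⁻¹ᵁ N).ι) (h₂₂ := N.ι) (v₁₃ := M.q) ?_ ?_ hr
    · have e : w ≫ (M.q ⁻¹ᵁ N).ι = v := hr.lift_fst _ _ _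
      rw [e, hj]
      exact hpb
    · exact hr.lift_snd _ _ _
  exact ⟨N, j, hj, W, ⟨FEtExtend.isoOfIsPullback j W V w hw⟩⟩

end Groth.Agent.Pi1C.LefProj
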