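import Groth.Agent.Pi1C.IdemCrit
import Groth.Agent.Pi1A.DepthSpread
import Groth.Agent.Sga3C.DimTop
import Groth.Agent.UnramA.FlatDim0
import Groth.Agent.Etbase.EtaleStalk
import Groth.Agent.Ega1.AmpFam
import Groth.Agent.CohqB.AmpGeneric
import Groth.Agent.S0292
import Mathlib.Topology.KrullDimension

/-!
# Reduction of the Lefschetz theorem 0ELC to a statement on clopen subsets
-/

set_option autoImplicit false

universe u

open CategoryTheory CategoryTheory.Limits AlgebraicGeometry TopologicalSpace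

namespace Groth.Agent.Pi1C.LefReduce

open Groth.Agent.Fdesc.LocGen

/-- The hypothesis on depth. -/
def DepthHyp (n : ℕ) (X : Scheme.{u}) (W : Set X) : Prop :=
  ∀ x : X, x ∈ W → (n : WithBot ℕ∞) <
    (LocCoh.depth (X.presheaf.stalk x) (X.presheaf.stalk x) : WithBot ℕ∞) +
        topologicalKrullDim (closure ({x} : Set X))

/-- Clopen subsets of `X` correspond to clopen subsets of the closed subset `Y`. -/
def ClopenBij {X : Type u} [TopologicalSpace X] (Y : Set X) : Prop :=
  (∀ Z : Set X, IsClopen Z → Z ∩ Y = ∅ → Z = ∅) ∧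
  (∀ A B : Set X, IsClosed A → IsClosed B → A ∪ B = Y → A ∩ B = ∅ → ∃ Z : Set X, IsClopen Z ∧ Z ∩ Y = A)

/-- The statement on clopen subsets. -/
def LefClopen : Prop :=
  ∀ (k : Type u) [Field k] (X : Scheme.{u}) (f : X ⟶ Spec (CommRingCat.of k)) [IsProper f] (L : X.Modules)
    (_ : CohB1.IsAmple L) (s : Coh.structureModule X ⟶ L),
    DepthHyp 1 X (CohB1.genLocus L s) → ClopenBij ((CohB1.genLocus L s : Set X)ᶜ)

section Points

/-- A closed subset of a proper scheme over a field contained in an affine open consists of closed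
points. -/
theorem isClosed_singleton_of_affine {k : Type u} [Field k] {X : Scheme.{u}}
    (f : X ⟶ Spec (CommRingCat.of k)) [IsProper f] (W : X.Opens) (hW : IsAffineOpen W) (Z : Set X)
    (hZ : IsClosed Z) (hZW : Z ⊆ W) (x : X) (hx : x ∈ Z) : IsClosed ({x} : Set X) := by
  let I := Scheme.IdealSheafData.vanishingIdeal ⟨Z, hZ⟩
  let S := I.subscheme
  let i : S ⟶ X := I.subschemeι
  have hr : Set.range i = Z := by
    rw [Scheme.IdealSheafData.range_subschemeι, Scheme.IdealSheafData.coe_support_vanishingIdeal]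
    rfl
  have hWa : IsAffine W := hW
  have hle : Set.range i ⊆ Set.range W.ι := by rw [hr, W.range_ι]; exact hZW
  let l : S ⟶ W := IsOpenImmersion.lift W.ι i hle
  have hl : l ≫ W.ι = i := IsOpenImmersion.lift_fac _ _ _
  have h1 : IsClosedImmersion (l ≫ W.ι) := by rw [hl]; infer_instance
  have h2 : IsClosedImmersion l := IsClosedImmersion.of_comp l W.ι
  have hS : IsAffine S := isAffine_of_isAffineHom l
  have hfin : IsFinite (i ≫ f) := IsFinite.iff_isProper_and_isAffineHom.mpr ⟨inferInstance, inferInstance⟩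
  rw [← closure_subset_iff_isClosed]
  intro y hy
  have hyZ : y ∈ Z := closure_minimal (Set.singleton_subset_iff.mpr hx) hZ hy
  have hsp : x ⤳ y := by rwa [specializes_iff_mem_closure]
  rw [← hr] at hx hyZ
  obtain ⟨a, rfl⟩ := hx
  obtain ⟨b, rfl⟩ := hyZ
  have hab : a ⤳ b := i.isClosedEmbedding.isInducing.specializes_iff.mp hsp
  have : a = b := Groth.Agent.Sga3C.DimTop.eq_of_specializes_of_isIntegralHom (i ≫ f) a b hab
    (Subsingleton.elim _ _)
  rw [this]
  rfl

theorem topologicalKrullDim_closure_nonneg {X : Type u} [TopologicalSpace X] (x : X) :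
    0 ≤ topologicalKrullDim (closure ({x} : Set X)) := by
  have : Nonempty (IrreducibleCloseds (closure ({x} : Set X))) :=
    ⟨⟨Set.univ, by
      have h : IrreducibleSpace (closure ({x} : Set X)) :=
        (isIrreducible_iff_irreducibleSpace.mp isIrreducible_singleton.closure)
      exact h.isIrreducible_univ, isClosed_univ⟩⟩
  exact Order.krullDim_nonneg

theorem topologicalKrullDim_closure_le {X : Type u} [TopologicalSpace X] (x : X)
    (hx : IsClosed ({x} : Set X)) : topologicalKrullDim (closure ({x} : Set X)) ≤ 0 := by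
  rw [hx.closure_eq]
  have : DiscreteTopology (({x} : Set X)) := Subsingleton.discreteTopology
  exact topologicalKrullDim_zero_of_discreteTopology _

theorem two_le_depth {X : Scheme.{u}} {W : Set X} (hd : DepthHyp 1 X W) (x : X) (hx : x ∈ W)
    (hcl : IsClosed ({x} : Set X)) :
    (2 : ℕ∞) ≤ LocCoh.depth (X.presheaf.stalk x) (X.presheaf.stalk x) := by
  have h1 := hd x hx
  have h2 := topologicalKrullDim_closure_le x hcl
  have h3 : (1 : WithBot ℕ∞) < (LocCoh.depth (X.presheaf.stalk x) (X.presheaf.stalk x) : WithBot ℕ∞) := by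
    refine lt_of_lt_of_le h1 ?_
    have h4 := add_le_add_right h2
      (((LocCoh.depth (X.presheaf.stalk x) (X.presheaf.stalk x)) : ℕ∞) : WithBot ℕ∞)
    rwa [add_zero] at h4
  have h4 : (1 : ℕ∞) < LocCoh.depth (X.presheaf.stalk x) (X.presheaf.stalk x) := by
    exact_mod_cast h3
  have h5 := Order.add_one_le_of_lt h4
  have h6 : (1 : ℕ∞) + 1 = 2 := by norm_num
  rwa [h6] at h5

theorem dim_closure_eq {X Y : Scheme.{u}} (f : X ⟶ Y) [IsIntegralHom f] (x : X) :
    topologicalKrullDim (closure ({x} : Set X)) = topologicalKrullDim (closure ({f x} : Set Y)) := by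
  have h1 : f '' closure ({x} : Set X) = closure ({f x} : Set Y) := by
    rw [← f.isClosedMap.closure_image_eq_of_continuous f.continuous, Set.image_singleton]
  have hmaps : Set.MapsTo f (closure ({x} : Set X)) (closure ({f x} : Set Y)) := by
    intro z hz; rw [← h1]; exact ⟨z, hz, rfl⟩
  have q1 : QuasiSober (closure ({x} : Set X)) :=
    isClosed_closure.isClosedEmbedding_subtypeVal.quasiSober
  have q2 : QuasiSober (closure ({f x} : Set Y)) :=
    isClosed_closure.isClosedEmbedding_subtypeVal.quasiSober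
  refine Groth.Agent.Sga3C.DimTop.topologicalKrullDim_eq_of_closedMap (hmaps.restrict f _ _)
    (f.continuous.restrict hmaps) ?_ ?_ ?_
  · intro A hA
    obtain ⟨A', hA', rfl⟩ := (isClosed_induced_iff).mp hA
    refine isClosed_induced_iff.mpr ⟨f '' (A' ∩ closure ({x} : Set X)),
      f.isClosedMap _ (hA'.inter isClosed_closure), ?_⟩
    ext ⟨y, hy⟩
    constructor
    · rintro ⟨z, ⟨hz1, hz2⟩, rfl⟩
      exact ⟨⟨z, hz2⟩, hz1, rfl⟩
    · rintro ⟨⟨z, hz2⟩, hz1, hz3⟩
      exact ⟨z, ⟨hz1, hz2⟩, congrArg Subtype.val hz3⟩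
  · rintro ⟨y, hy⟩
    have hy' := hy
    rw [← h1] at hy'
    obtain ⟨z, hz, rfl⟩ := hy'
    exact ⟨⟨z, hz⟩, rfl⟩
  · rintro ⟨a, ha⟩ ⟨b, hb⟩ hab he
    have h2 : a ⤳ b := hab.map continuous_subtype_val
    exact Subtype.ext (Groth.Agent.Sga3C.DimTop.eq_of_specializes_of_isIntegralHom f a b h2
      (congrArg Subtype.val he))

theorem depth_stalk_etale {X Y : Scheme.{u}} (f : X ⟶ Y) [Etale f] [IsLocallyNoetherian Y] (x : X) :
    LocCoh.depth (X.presheaf.stalk x) (X.presheaf.stalk x) =
      LocCoh.depth (Y.presheaf.stalk (f x)) (Y.presheaf.stalk (f x)) := by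
  have : IsLocallyNoetherian X := LocallyOfFiniteType.isLocallyNoetherian f
  let _ := (f.stalkMap x).hom.toAlgebra
  obtain ⟨h1, h2, h3, h4⟩ := Groth.Agent.Etbase.EtaleStalk.stalkMap_facts f x
  exact Groth.Agent.UnramA.FlatDim0.depth_eq
    Algebra.FormallyUnramified.map_maximalIdeal

end Points

section Hartogs

theorem clopen_of_depth {Z T : Scheme.{u}} [IsLocallyNoetherian Z] (j : T ⟶ Z) [IsOpenImmersion j]
    (hU : ∀ x : Z, x ∉ Set.range j →
      (2 : ℕ∞) ≤ LocCoh.depth (Z.presheaf.stalk x) (Z.presheaf.stalk x)) :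
    (∀ W : Set T, IsClopen W → ∃ W' : Set Z, IsClopen W' ∧ j ⁻¹' W' = W) ∧
    (∀ W' : Set Z, IsClopen W' → j ⁻¹' W' = ∅ → W' = ∅) := by
  have hb : Function.Bijective j.appTop :=
    (Groth.Agent.Pi1A.DepthTwo.bijective_app_iff j ⊤).mpr
      (Groth.Agent.Pi1A.DepthSpread.bijective_res_of_depth j.opensRange hU (𝟙 Z) ⊤)
  constructor
  · intro W hW
    obtain ⟨e, he, rfl⟩ := Groth.Agent.Pi1C.IdemCrit.exists_idem_of_isClopen hW
    obtain ⟨e', he'⟩ := hb.2 e
    have he'2 : e' * e' = e' := by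
      apply hb.1
      rw [map_mul, he', he]
    refine ⟨Z.basicOpen e', Groth.Agent.Pi1C.IdemCrit.isClopen_basicOpen he'2, ?_⟩
    have h1 := Scheme.preimage_basicOpen_top j e'
    rw [he'] at h1
    rw [← h1]
    rfl
  · intro W' hW' h0
    obtain ⟨e, he, rfl⟩ := Groth.Agent.Pi1C.IdemCrit.exists_idem_of_isClopen hW'
    have h1 := Scheme.preimage_basicOpen_top j e
    have h2 : j.appTop e = 0 := by
      apply Groth.Agent.Pi1C.IdemCrit.eq_zero_of_basicOpen_eq_bot
      · rw [← map_mul, he]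
      · rw [← h1]
        exact Opens.ext h0
    have h3 : e = 0 := hb.1 (h2.trans (map_zero _).symm)
    rw [h3, Scheme.basicOpen_zero]
    rfl

end Hartogs

section Main

/-- The finite modification `T₂ → X` of a finite etale cover `T → V`, and its clopen subsets. -/
theorem exists_modification (H : LefClopen.{u}) {k : Type u} [Field k] {X : Scheme.{u}}
    (f : X ⟶ Spec (CommRingCat.of k)) [IsProper f] (L : X.Modules) (hL : CohB1.IsAmple L)
    (s : Coh.structureModule X ⟶ L) (hd : DepthHyp 1 X (CohB1.genLocus L s))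
    (hA : IsAffineOpen (CohB1.genLocus L s)) (V : X.Opens) (hV : ((CohB1.genLocus L s : Set X)ᶜ) ⊆ V)
    (T : FEt.Cat (V : Scheme.{u})) :
    ∃ (Z : Scheme.{u}) (π : Z ⟶ X) (j : T.left ⟶ Z), IsOpenImmersion j ∧ j ≫ π = T.hom ≫ V.ι ∧
      Set.range j = π ⁻¹' V ∧ ClopenBij (π ⁻¹' ((CohB1.genLocus L s : Set X)ᶜ)) ∧
      (∀ W : Set T.left, IsClopen W → ∃ W' : Set Z, IsClopen W' ∧ j ⁻¹' W' = W) ∧
      (∀ W' : Set Z, IsClopen W' → j ⁻¹' W' = ∅ → W' = ∅) := by
  have hX : IsLocallyNoetherian X := LocallyOfFiniteType.isLocallyNoetherian f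
  -- the points outside `V`
  have hpts : ∀ x : X, x ∉ V → IsClosed ({x} : Set X) := by
    intro x hx
    refine isClosed_singleton_of_affine f _ hA ((V : Set X)ᶜ) V.isOpen.isClosed_compl ?_ x hx
    intro y hy
    by_contra hy'
    exact hy (hV hy')
  have hdepV : ∀ x : X, x ∉ V → (2 : ℕ∞) ≤ LocCoh.depth (X.presheaf.stalk x) (X.presheaf.stalk x) := by
    intro x hx
    refine two_le_depth hd x ?_ (hpts x hx)
    by_contra hx'
    exact hx (hV hx')
  obtain ⟨Z, π, e, hfin, he, hdep⟩ := Groth.Agent.S0292.result V hdepV T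
  have hTE : Etale T.hom := T.prop.2
  have hZ : IsLocallyNoetherian Z := LocallyOfFiniteType.isLocallyNoetherian π
  let j : T.left ⟶ Z := e.inv ≫ pullback.fst π V.ι
  have hj : j ≫ π = T.hom ≫ V.ι := by
    change (e.inv ≫ pullback.fst π V.ι) ≫ π = _
    rw [Category.assoc, pullback.condition, ← Category.assoc, ← he, Iso.inv_hom_id_assoc]
  have hr : Set.range j = π ⁻¹' V := by
    have h1 : Set.range j = Set.range (pullback.fst π V.ι) := by
      ext z
      constructor
      · rintro ⟨t, rfl⟩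
        exact ⟨e.inv t, rfl⟩
      · rintro ⟨t, rfl⟩
        refine ⟨e.hom t, ?_⟩
        rw [← Scheme.Hom.comp_apply]
        simp [j]
    rw [h1, Scheme.Pullback.range_fst, V.range_ι]
  have hUj : ∀ x : Z, x ∉ Set.range j →
      (2 : ℕ∞) ≤ LocCoh.depth (Z.presheaf.stalk x) (Z.presheaf.stalk x) := by
    intro x hx
    rw [hr] at hx
    exact hdep x hx
  have hclop := clopen_of_depth j hUj
  refine ⟨Z, π, j, inferInstance, hj, hr, ?_, hclop.1, hclop.2⟩
  -- the ample module on `Z`
  have hg := Groth.Agent.Ega1.AmpFam.genLocus_pullHom π hL.1 s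
  have hC := H k Z (π ≫ f) ((Scheme.Modules.pullback π).obj L)
    (Groth.Agent.CohqB.AmpCocycle.isAmple_pullback π hL) (pullHom π s) ?_
  · rw [hg] at hC
    exact hC
  · rw [hg]
    intro y hy
    have hdim := dim_closure_eq π y
    by_cases hyV : π y ∈ V
    · have hy' : y ∈ Set.range j := by rw [hr]; exact hyV
      obtain ⟨t, rfl⟩ := hy'
      have h1 := depth_stalk_etale j t
      have hEt : Etale (j ≫ π) := by
        have h5 : Etale (T.hom ≫ V.ι) := inferInstance
        rw [hj]
        exact h5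
      have h2 := depth_stalk_etale (j ≫ π) t
      have h3 := hd (π (j t)) hy
      rw [hdim]
      have h4 : LocCoh.depth (Z.presheaf.stalk (j t)) (Z.presheaf.stalk (j t)) =
          LocCoh.depth (X.presheaf.stalk (π (j t))) (X.presheaf.stalk (π (j t))) := by
        rw [← h1, h2]
        rfl
      rw [h4]
      exact h3
    · have h1 := hdep y hyV
      have h2 : (1 : WithBot ℕ∞) < (LocCoh.depth (Z.presheaf.stalk y) (Z.presheaf.stalk y) : WithBot ℕ∞) := by
        have h3 : (1 : ℕ∞) < LocCoh.depth (Z.presheaf.stalk y) (Z.presheaf.stalk y) :=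
          lt_of_lt_of_le (by norm_num) h1
        exact_mod_cast h3
      refine lt_of_lt_of_le h2 ?_
      exact le_add_of_nonneg_right (topologicalKrullDim_closure_nonneg y)

theorem restrict_fullyFaithful (H : LefClopen.{u}) {k : Type u} [Field k] {X : Scheme.{u}}
    (f : X ⟶ Spec (CommRingCat.of k)) [IsProper f] (L : X.Modules) (hL : CohB1.IsAmple L)
    (s : Coh.structureModule X ⟶ L) (hd : DepthHyp 1 X (CohB1.genLocus L s))
    (hA : IsAffineOpen (CohB1.genLocus L s)) {Y : Scheme.{u}} (i : Y ⟶ X) [IsClosedImmersion i]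
    (hi : Set.range i = (CohB1.genLocus L s : Set X)ᶜ) (V : X.Opens) (hV : Set.range i ⊆ V) :
    (FEt.restrict (pullback.snd i V.ι)).Full ∧ (FEt.restrict (pullback.snd i V.ι)).Faithful := by
  have hV' : ((CohB1.genLocus L s : Set X)ᶜ) ⊆ V := by rw [← hi]; exact hV
  have hrange : ∀ (T : FEt.Cat (V : Scheme.{u})) (Z : Scheme.{u}) (π : Z ⟶ X) (j : T.left ⟶ Z),
      j ≫ π = T.hom ≫ V.ι → Set.range (pullback.fst T.hom (pullback.snd i V.ι)) =
        j ⁻¹' (π ⁻¹' ((CohB1.genLocus L s : Set X)ᶜ)) := by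
    intro T Z π j hj
    rw [Scheme.Pullback.range_fst, Scheme.Pullback.range_snd, hi]
    ext t
    have h1 : π (j t) = V.ι (T.hom t) := by
      rw [← Scheme.Hom.comp_apply, hj]
      rfl
    simp only [Set.mem_preimage]
    rw [h1]
  refine Groth.Agent.Pi1A.ClopenCrit.restrict_fullyFaithful_of_isClopen _ ?_ ?_
  · intro T U hU hU0
    obtain ⟨Z, π, j, hjo, hj, hr, hC, hlift, hinj⟩ := exists_modification H f L hL s hd hA V hV' T
    obtain ⟨W, hW, rfl⟩ := hlift U hU
    have h0 : W ∩ (π ⁻¹' ((CohB1.genLocus L s : Set X)ᶜ)) = ∅ := by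
      rw [Set.eq_empty_iff_forall_notMem]
      rintro w ⟨hw1, hw2⟩
      have h1 : w ∈ Set.range j := by rw [hr]; exact hV' hw2
      obtain ⟨t, rfl⟩ := h1
      have h2 : t ∈ Set.range (pullback.fst T.hom (pullback.snd i V.ι)) := by
        rw [hrange T Z π j hj]; exact hw2
      obtain ⟨p, rfl⟩ := h2
      have h3 : p ∈ (pullback.fst T.hom (pullback.snd i V.ι)) ⁻¹' (j ⁻¹' W) := hw1
      rw [hU0] at h3
      exact h3
    rw [hC.1 W hW h0, Set.preimage_empty]
  · intro T P hP
    obtain ⟨Z, π, j, hjo, hj, hr, hC, hlift, hinj⟩ := exists_modification H f L hL s hd hA V hV' T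
    let q := pullback.fst T.hom (pullback.snd i V.ι)
    have hq : IsClosedImmersion q := inferInstance
    have hemb : Topology.IsEmbedding (fun p => j (q p)) :=
      j.isOpenEmbedding.isEmbedding.comp q.isClosedEmbedding.isEmbedding
    have hrq : Set.range (fun p => j (q p)) = π ⁻¹' ((CohB1.genLocus L s : Set X)ᶜ) := by
      have h1 : Set.range (fun p => j (q p)) = j '' Set.range q := by
        ext z
        simp
      rw [h1, hrange T Z π j hj, Set.image_preimage_eq_inter_range, hr]
      refine Set.inter_eq_left.mpr fun z hz => hV' hz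
    have hcl : IsClosed (π ⁻¹' ((CohB1.genLocus L s : Set X)ᶜ)) :=
      (CohB1.genLocus L s).isOpen.isClosed_compl.preimage π.continuous
    have hce : Topology.IsClosedEmbedding (fun p => j (q p)) := ⟨hemb, by rw [hrq]; exact hcl⟩
    obtain ⟨W, hW, hWP⟩ := hC.2 ((fun p => j (q p)) '' P) ((fun p => j (q p)) '' Pᶜ)
      (hce.isClosedMap _ hP.isClosed) (hce.isClosedMap _ hP.compl.isClosed)
      (by rw [← Set.image_union, Set.union_compl_self, Set.image_univ, hrq])
      (by rw [← Set.image_inter hemb.injective, Set.inter_compl_self, Set.image_empty])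
    refine ⟨j ⁻¹' W, hW.preimage j.continuous, ?_⟩
    ext p
    constructor
    · intro hp
      have h1 : j (q p) ∈ W ∩ π ⁻¹' ((CohB1.genLocus L s : Set X)ᶜ) :=
        ⟨hp, by rw [← hrq]; exact ⟨p, rfl⟩⟩
      rw [hWP] at h1
      obtain ⟨p', hp', h2⟩ := h1
      have h3 := hemb.injective h2
      rwa [← h3]
    · intro hp
      have h1 : j (q p) ∈ (fun p => j (q p)) '' P := ⟨p, hp, rfl⟩
      rw [← hWP] at h1
      exact h1.1

end Main

end Groth.Agent.Pi1C.LefReduce
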