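import Groth.Agent.Pi1C.LefEss
import Groth.Agent.Pi1C.LefStruct
import Groth.Agent.Pi1C.ConeAnnR

/-!
# Lefschetz theorem for fundamental groups (0ELE): the regular case from its pieces
-/

set_option autoImplicit false
universe u
open AlgebraicGeometry CategoryTheory CategoryTheory.Limits
open Groth.Agent.VarietyB.ProjGlue

namespace Groth.Agent.Pi1C.LefReg

open LefStruct

/-- P2a -/
def ExistsTower : Prop := ∀ {X Z : Scheme.{u}} (ι : Z ⟶ X) [IsClosedImmersion ι] (V₀ : FEt.Cat Z),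
  Nonempty (Tower ι V₀)

/-- P2b -/
def ExtendsOfTower : Prop := ∀ {X Z : Scheme.{u}} {ι : Z ⟶ X} {V₀ : FEt.Cat Z} (T : Tower ι V₀)
  (_ : Extends (T.j 0) (T.V 0)), Extends ι V₀

/-- P3+P4 -/
def ExistsGradedExt : Prop := ∀ {X Z : Scheme.{u}} {r : ℕ} {D : CoordData X (Fin (r + 1))}
  {k : Type u} [Field k] {p : X ⟶ Spec (CommRingCat.of k)} {ι : Z ⟶ X} {V₀ : FEt.Cat Z} [IsProper p]
  (_ : Hyp D p ι) (T : Tower ι V₀) (c : ℕ)
  (_ : ∀ j ≤ 3, ∀ z : LocCoh.H (Cone.m D p) j (Cone.R D p), Cone.x D p 0 ^ c • z = 0) [Nonempty X],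
  Nonempty (GradedExt D p (T.j 0) (T.V 0))

/-- P5 -/
def ExtendsOfGradedExt : Prop := ∀ {X Z : Scheme.{u}} {r : ℕ} {D : CoordData X (Fin (r + 1))}
  {k : Type u} [Field k] {p : X ⟶ Spec (CommRingCat.of k)} {ι : Z ⟶ X} {V : FEt.Cat Z} [IsProper p]
  (_ : Hyp D p ι) (_ : GradedExt D p ι V), Extends ι V

theorem extends_of_isEmpty {X Y : Scheme.{u}} [IsEmpty X] (ι : Y ⟶ X) (V : FEt.Cat Y) :
    Extends ι V := by
  have hY : IsEmpty Y := ⟨fun y => IsEmpty.false (ι y)⟩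
  have hN : IsEmpty (⊤ : X.Opens).toScheme := ⟨fun y => IsEmpty.false y.1⟩
  let g : Y ⟶ (⊤ : X.Opens).toScheme := IsOpenImmersion.lift (⊤ : X.Opens).ι ι (by
    rintro _ ⟨y, rfl⟩
    exact (IsEmpty.false y).elim)
  have hg : IsIso g := isIso_of_isEmpty g
  refine ⟨⊤, g, IsOpenImmersion.lift_fac _ _ _, (FEt.restrict (inv g)).obj V, ⟨?_⟩⟩
  exact ((PurityQuot.restrictComp g (inv g)).symm ≪≫ PurityQuot.restrictCongr (IsIso.hom_inv_id g) ≪≫
    PurityQuot.restrictId Y).app V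

theorem lefRegular (P2a : ExistsTower.{u}) (P2b : ExtendsOfTower.{u}) (P4 : ExistsGradedExt.{u})
    (P5 : ExtendsOfGradedExt.{u}) : LefTors.LefRegular.{u} := by
  intro k _ X p _ r D hD hreg hdep Y h hh V₀
  have hhc : IsClosedImmersion h := hh.closed
  have key : Extends h V₀ := by
    rcases isEmpty_or_nonempty X with hX | hX
    · exact extends_of_isEmpty h V₀
    · obtain ⟨T⟩ := P2a h V₀
      obtain ⟨c, hc⟩ := ConeAnnR.exists_pow_smul_H_eq_zero D p hD.affine hD.basic hD.surj 2 hdep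
      have H : Hyp D p h := ⟨hD.affine, hD.basic, hD.surj, hhc, hh.ker, hreg⟩
      obtain ⟨E⟩ := P4 H T c hc
      have H' : Hyp D p (T.j 0) := ⟨hD.affine, hD.basic, hD.surj, inferInstance, fun i => by
        rw [T.ker 0 _ (hD.affine i), hh.ker i, zero_add, pow_one], hreg⟩
      exact P2b T (P5 H' E)
  obtain ⟨N, g, hg, W, e⟩ := key
  exact ⟨N, g, W, hg, e⟩

end Groth.Agent.Pi1C.LefReg
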