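import Groth.Agent.VarietyB.ProjGlue
import Groth.Agent.Picfga.IdealGlue
import Groth.Agent.CurvesC.BlowUpCharts
import Groth.Agent.Divis.IdealComap
import Groth.Prelude.Def_FEt

/-!
# Set-up for the Lefschetz theorem for fundamental groups (Stacks 0ELE)

`CoordData.Good`: the coordinate data of a closed immersion into projective space; the hyperplane
section ideal sheaf; pull-back of coordinate data.
-/

set_option autoImplicit false
universe u
open AlgebraicGeometry CategoryTheory CategoryTheory.Limits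
open Groth.Agent.VarietyB.ProjGlue

namespace Groth.Agent.Pi1C.LefSetup

variable {X X' : Scheme.{u}} {I : Type} {R : Type u} [CommRing R]

/-- Pull-back of coordinate data. -/
noncomputable def pull (D : CoordData X I) (g : X' ⟶ X) : CoordData X' I where
  U i := g ⁻¹ᵁ D.U i
  iSup_U := by
    rw [← Scheme.Hom.preimage_iSup, D.iSup_U]
    rfl
  f i k := g.app (D.U i) (D.f i k)
  f_self i := by rw [D.f_self, map_one]
  f_mul i j k := by
    have h (V W : X.Opens) (hV : W ≤ V) (a : Γ(X, V)) :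
        X'.presheaf.map (homOfLE (g.preimage_mono hV)).op (g.app V a) =
          g.app W (X.presheaf.map (homOfLE hV).op a) := by
      rw [← CommRingCat.comp_apply, ← CommRingCat.comp_apply, g.naturality]
      rfl
    have h1 := h (D.U i) (D.U i ⊓ D.U j) inf_le_left
    have h2 := h (D.U j) (D.U i ⊓ D.U j) inf_le_right
    refine (h1 _).trans ?_
    rw [D.f_mul i j k, map_mul]
    exact congrArg₂ _ (h1 _).symm (h2 _).symm

/-- The coordinate data come from a closed immersion into projective space. -/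
structure Good (D : CoordData X I) (p : X ⟶ Spec (CommRingCat.of R)) : Prop where
  affine : ∀ i, IsAffineOpen (D.U i)
  basic : ∀ i k, X.basicOpen (D.f i k) = D.U i ⊓ D.U k
  surj : ∀ i, Function.Surjective (D.hom p i)

lemma baseHom_comp (p : X ⟶ Spec (CommRingCat.of R)) (g : X' ⟶ X) (V : X.Opens) :
    CoordData.baseHom (g ≫ p) (g ⁻¹ᵁ V) = (g.app V).hom.comp (CoordData.baseHom p V) := by
  have h : X.presheaf.map (homOfLE (le_top : V ≤ ⊤)).op ≫ g.app V =
      g.appTop ≫ X'.presheaf.map (homOfLE le_top).op := by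
    rw [g.naturality]
    rfl
  ext a
  have h2 := congrArg (fun φ => φ.hom (p.appTop.hom ((Scheme.ΓSpecIso (CommRingCat.of R)).inv.hom a))) h
  exact h2.symm

lemma pull_hom (D : CoordData X I) (g : X' ⟶ X) (p : X ⟶ Spec (CommRingCat.of R)) (i : I) :
    (pull D g).hom (g ≫ p) i = (g.app (D.U i)).hom.comp (D.hom p i) := by
  refine MvPolynomial.ringHom_ext (fun a => ?_) (fun k => ?_)
  · have h1 : (pull D g).hom (g ≫ p) i (MvPolynomial.C a) =
        CoordData.baseHom (g ≫ p) (g ⁻¹ᵁ D.U i) a := MvPolynomial.eval₂Hom_C _ _ _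
    have h2 : D.hom p i (MvPolynomial.C a) = CoordData.baseHom p (D.U i) a :=
      MvPolynomial.eval₂Hom_C _ _ _
    refine h1.trans ?_
    rw [baseHom_comp]
    exact congrArg (g.app (D.U i)).hom h2.symm
  · refine (CoordData.hom_X _ _ _ _).trans ?_
    exact congrArg (g.app (D.U i)).hom (D.hom_X p i k).symm

theorem Good.pull {D : CoordData X I} {p : X ⟶ Spec (CommRingCat.of R)} (h : Good D p)
    (g : X' ⟶ X) [IsClosedImmersion g] : Good (pull D g) (g ≫ p) where
  affine i := (h.affine i).preimage g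
  basic i k := by
    change X'.basicOpen (g.app (D.U i) (D.f i k)) = _
    rw [← Scheme.preimage_basicOpen, h.basic i k]
    rfl
  surj i := by
    rw [pull_hom]
    exact (Scheme.Hom.app_surjective g _ (h.affine i)).comp (h.surj i)

/-! ### The hyperplane section -/

lemma appLE_f_mul (D : CoordData X I) {P : Scheme.{u}} (g : P ⟶ X) (i j k : I) (W : P.Opens)
    (hi : W ≤ g ⁻¹ᵁ D.U i) (hj : W ≤ g ⁻¹ᵁ D.U j) :
    g.appLE (D.U i) W hi (D.f i k) =
      g.appLE (D.U i) W hi (D.f i j) * g.appLE (D.U j) W hj (D.f j k) := by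
  have hij : W ≤ g ⁻¹ᵁ (D.U i ⊓ D.U j) := le_inf hi hj
  have h1 (a : Γ(X, D.U i)) : g.appLE (D.U i) W hi a = g.appLE (D.U i ⊓ D.U j) W hij
      (X.presheaf.map (homOfLE (inf_le_left : D.U i ⊓ D.U j ≤ D.U i)).op a) := by
    rw [← CommRingCat.comp_apply, Scheme.Hom.map_appLE]
  have h2 (a : Γ(X, D.U j)) : g.appLE (D.U j) W hj a = g.appLE (D.U i ⊓ D.U j) W hij
      (X.presheaf.map (homOfLE (inf_le_right : D.U i ⊓ D.U j ≤ D.U j)).op a) := by
    rw [← CommRingCat.comp_apply, Scheme.Hom.map_appLE]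
  rw [h1, h1, h2, D.f_mul i j k, map_mul]

lemma appLE_f_isUnit (D : CoordData X I) {P : Scheme.{u}} (g : P ⟶ X) (i j : I) (W : P.Opens)
    (hi : W ≤ g ⁻¹ᵁ D.U i) (hj : W ≤ g ⁻¹ᵁ D.U j) :
    IsUnit (g.appLE (D.U i) W hi (D.f i j)) := by
  have h := appLE_f_mul D g i j i W hi hj
  rw [D.f_self, map_one] at h
  exact .of_mul_eq_one _ h.symm

lemma span_appLE_eq (D : CoordData X I) {P : Scheme.{u}} (g : P ⟶ X) (i j k : I) (W : P.Opens)
    (hi : W ≤ g ⁻¹ᵁ D.U i) (hj : W ≤ g ⁻¹ᵁ D.U j) :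
    Ideal.span {g.appLE (D.U i) W hi (D.f i k)} = Ideal.span {g.appLE (D.U j) W hj (D.f j k)} := by
  rw [appLE_f_mul D g i j k W hi hj, Ideal.span_singleton_mul_left_unit
    (appLE_f_isUnit D g i j W hi hj)]

lemma appTop_appLE {P : Scheme.{u}} {U : X.Opens} (q : P ⟶ U.toScheme) (g : P ⟶ X)
    (hq : q ≫ U.ι = g) (h : ⊤ ≤ g ⁻¹ᵁ U) (a : Γ(X, U)) :
    q.appTop (U.ι.appLE U ⊤ U.ι_preimage_self.ge a) = g.appLE U ⊤ h a := by
  subst hq
  rw [← CommRingCat.comp_apply]
  have h1 := Scheme.Hom.appLE_comp_appLE q U.ι U ⊤ ⊤ U.ι_preimage_self.ge le_rfl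
  rw [← h1]
  erw [Scheme.Hom.appLE_eq_app]

lemma exists_hyper [Finite I] (D : CoordData X I) (hD : ∀ i, IsAffineOpen (D.U i))
    [∀ i, QuasiCompact (D.U i).ι] (k : I) :
    ∃ J : X.IdealSheafData, ∀ i, J.ideal ⟨D.U i, hD i⟩ = Ideal.span {D.f i k} := by
  obtain ⟨J, hJ⟩ := Picfga.IdealGlue.exists_glue_finite (Y := X) (fun i => (D.U i).toScheme)
    (fun i => (D.U i).ι)
    (fun i => Scheme.IdealSheafData.ofIdealTop
      (Ideal.span {(D.U i).ι.appLE (D.U i) ⊤ (D.U i).ι_preimage_self.ge (D.f i k)})) (by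
    intro i j
    have : IsAffine (D.U i) := hD i
    have : IsAffine (D.U j) := hD j
    rw [CurvesC.BlowUpCharts.comap_ofIdealTop, CurvesC.BlowUpCharts.comap_ofIdealTop,
      Ideal.map_span, Ideal.map_span, Set.image_singleton, Set.image_singleton]
    congr 1
    have e1 : ⊤ ≤ (pullback.fst (D.U i).ι (D.U j).ι ≫ (D.U i).ι) ⁻¹ᵁ D.U i := by
      rw [Scheme.Hom.comp_preimage, Scheme.Opens.ι_preimage_self]; exact le_rfl
    have e2 : ⊤ ≤ (pullback.fst (D.U i).ι (D.U j).ι ≫ (D.U i).ι) ⁻¹ᵁ D.U j := by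
      rw [pullback.condition, Scheme.Hom.comp_preimage, Scheme.Opens.ι_preimage_self]; exact le_rfl
    have h1 := span_appLE_eq D (pullback.fst (D.U i).ι (D.U j).ι ≫ (D.U i).ι) i j k ⊤ e1 e2
    rw [← appTop_appLE (pullback.fst (D.U i).ι (D.U j).ι) _ rfl e1,
      ← appTop_appLE (pullback.snd (D.U i).ι (D.U j).ι) _ pullback.condition.symm e2] at h1
    exact h1)
  refine ⟨J, fun i => ?_⟩
  have hi : IsAffine (D.U i) := hD i
  have h1 := Divis.IdealComap.ideal_comap J (D.U i).ι ⟨D.U i, hD i⟩ ⟨⊤, isAffineOpen_top _⟩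
    (D.U i).ι_preimage_self.ge
  have h3 : Function.Injective (Ideal.map ((D.U i).ι.appLE (D.U i) ⊤ (D.U i).ι_preimage_self.ge).hom :
      Ideal Γ(X, D.U i) → Ideal Γ((D.U i).toScheme, ⊤)) :=
    Divis.IdealComap.map_injective_of_isIso _
  rw [hJ i, Scheme.IdealSheafData.ofIdealTop_ideal] at h1
  apply h3
  rw [Ideal.map_span, Set.image_singleton]
  refine h1.symm.trans ?_
  have h4 : ((D.U i).toScheme.presheaf.map (homOfLE (le_top : (⊤ : (D.U i).toScheme.Opens) ≤ ⊤)).op) =
      𝟙 _ := by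
    rw [← (D.U i).toScheme.presheaf.map_id]
    rfl
  erw [h4]
  exact Ideal.map_id _

/-- The ideal sheaf of the hyperplane section `x_k = 0`. -/
noncomputable def hyper [Finite I] (D : CoordData X I) (hD : ∀ i, IsAffineOpen (D.U i))
    [∀ i, QuasiCompact (D.U i).ι] (k : I) : X.IdealSheafData := (exists_hyper D hD k).choose

lemma hyper_ideal [Finite I] (D : CoordData X I) (hD : ∀ i, IsAffineOpen (D.U i))
    [∀ i, QuasiCompact (D.U i).ι] (k : I) (i : I) :
    (hyper D hD k).ideal ⟨D.U i, hD i⟩ = Ideal.span {D.f i k} := (exists_hyper D hD k).choose_spec i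

lemma hyper_pow_ideal [Finite I] (D : CoordData X I) (hD : ∀ i, IsAffineOpen (D.U i))
    [∀ i, QuasiCompact (D.U i).ι] (k : I) (n : ℕ) (i : I) :
    (hyper D hD k ^ n).ideal ⟨D.U i, hD i⟩ = Ideal.span {D.f i k ^ n} := by
  rw [← Ideal.span_singleton_pow, ← hyper_ideal]
  rfl

/-- `h : Y ⟶ X` is the hyperplane section `x_k = 0`. -/
structure IsSection (D : CoordData X I) (k : I) {Y : Scheme.{u}} (h : Y ⟶ X) : Prop where
  closed : IsClosedImmersion h
  ker : ∀ i, RingHom.ker (h.app (D.U i)).hom = Ideal.span {D.f i k}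

/-- Finite etale covers of the hyperplane section `x_k = 0` extend to an open neighbourhood. -/
def NbhdExt (D : CoordData X I) (k : I) : Prop :=
  ∀ {Y : Scheme.{u}} (h : Y ⟶ X), IsSection D k h → ∀ V₀ : FEt.Cat Y,
    ∃ (N : X.Opens) (g : Y ⟶ N.toScheme) (V : FEt.Cat N.toScheme), g ≫ N.ι = h ∧
      Nonempty ((FEt.restrict g).obj V ≅ V₀)

lemma isSection_hyper [Finite I] (D : CoordData X I) (hD : ∀ i, IsAffineOpen (D.U i))
    [∀ i, QuasiCompact (D.U i).ι] (k : I) : IsSection D k (hyper D hD k).subschemeι where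
  closed := inferInstance
  ker i := by
    rw [← Scheme.Hom.ker_apply (hyper D hD k).subschemeι ⟨D.U i, hD i⟩,
      Scheme.IdealSheafData.ker_subschemeι, hyper_ideal]

end Groth.Agent.Pi1C.LefSetup
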