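import Groth.Agent.Pi1C.PushStrong
import Groth.Agent.Pi1C.PushEtGlue
import Groth.Agent.Divis.IdealComap
import Groth.Agent.Picfga.IdealGlue

/-!
# A union of two closed subschemes is a pushout; gluing of finite etale covers over a union
-/

set_option autoImplicit false
universe u
open AlgebraicGeometry CategoryTheory CategoryTheory.Limits

namespace Groth.Agent.Pi1C.UnionPush

open PushEt

variable {Z X₁ X₂ X W : Scheme.{u}}

lemma ker_eq_comap {i : Z ⟶ X₁} {j : Z ⟶ X₂} {a : X₁ ⟶ X} {b : X₂ ⟶ X} (h : IsPullback i j a b)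
    [IsClosedImmersion b] : i.ker = b.ker.comap a := by
  rw [← Scheme.IdealSheafData.ker_fst_of_isClosedImmersion b a, ← h.isoPullback_hom_fst,
    Scheme.Hom.ker_comp_of_isIso]

lemma app_comp_apply {A B C : Scheme.{u}} (f : A ⟶ B) (g : B ⟶ C) (U : C.Opens) (x : Γ(C, U)) :
    (f ≫ g).app U x = f.app (g ⁻¹ᵁ U) (g.app U x) := by
  rw [Scheme.Hom.comp_app]
  rfl

/-- The kernel of the restriction to the intersection of two closed subschemes is the sum of the
ideals. -/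
lemma mem_sup_of_app_eq_zero {i : Z ⟶ X₁} {j : Z ⟶ X₂} {a : X₁ ⟶ X} {b : X₂ ⟶ X}
    (h : IsPullback i j a b) [IsClosedImmersion a] [IsClosedImmersion b] (O : X.Opens)
    (hO : IsAffineOpen O) (u : Γ(X, O)) (hu : i.app (a ⁻¹ᵁ O) (a.app O u) = 0) :
    u ∈ RingHom.ker (b.app O).hom ⊔ RingHom.ker (a.app O).hom := by
  have : IsClosedImmersion i := MorphismProperty.of_isPullback (P := @IsClosedImmersion) h.flip
    inferInstance
  have h1 := congr($(ker_eq_comap h).ideal ⟨a ⁻¹ᵁ O, hO.preimage a⟩)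
  rw [Divis.IdealComap.ideal_comap b.ker a ⟨O, hO⟩ ⟨a ⁻¹ᵁ O, hO.preimage a⟩ le_rfl,
    Scheme.Hom.ker_apply, Scheme.Hom.ker_apply] at h1
  have h2 : a.app O u ∈ RingHom.ker (i.app (a ⁻¹ᵁ O)).hom := hu
  erw [h1, Scheme.Hom.appLE_eq_app] at h2
  have h3 : Function.Surjective (a.app O).hom := Scheme.Hom.app_surjective a _ hO
  have h4 : u ∈ ((RingHom.ker (b.app O).hom).map (a.app O).hom).comap (a.app O).hom := h2
  rwa [Ideal.comap_map_of_surjective' _ h3] at h4


theorem isIso_of_isStrong {i : Z ⟶ X₁} {j : Z ⟶ X₂} {a' : X₁ ⟶ W} {b' : X₂ ⟶ W}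
    (hst : IsStrong i j a' b') (φ : W ⟶ X) (h : IsPullback i j (a' ≫ φ) (b' ≫ φ))
    [IsClosedImmersion (a' ≫ φ)] [IsClosedImmersion (b' ≫ φ)]
    (hker : (a' ≫ φ).ker ⊓ (b' ≫ φ).ker = ⊥) : IsIso φ := by
  have hO' : ∀ O : X.Opens, IsAffineOpen O → IsAffineOpen (φ ⁻¹ᵁ O) := by
    intro O hO
    obtain ⟨O', hO', h1, h2⟩ := hst.adapted ((a' ≫ φ) ⁻¹ᵁ O) ((b' ≫ φ) ⁻¹ᵁ O)
      (hO.preimage _) (hO.preimage _) (by
        rw [← Scheme.Hom.comp_preimage, ← Scheme.Hom.comp_preimage, h.w])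
    have h3 : φ ⁻¹ᵁ O = O' := hst.opens_ext (by rw [h1]; rfl) (by rw [h2]; rfl)
    rw [h3]
    exact hO'
  have haff : IsAffineHom φ := ⟨fun O hO => hO' O hO⟩
  have key : ∀ O : X.Opens, IsAffineOpen O → Function.Bijective (φ.app O) := by
    intro O hO
    have ha (x : Γ(X, O)) : (a' ≫ φ).app O x = a'.app (φ ⁻¹ᵁ O) (φ.app O x) := by
      rw [Scheme.Hom.comp_app]; rfl
    have hb (x : Γ(X, O)) : (b' ≫ φ).app O x = b'.app (φ ⁻¹ᵁ O) (φ.app O x) := by
      rw [Scheme.Hom.comp_app]; rfl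
    constructor
    · rw [← RingHom.coe_coe, injective_iff_map_eq_zero]
      intro x hx
      have h1 : x ∈ ((a' ≫ φ).ker ⊓ (b' ≫ φ).ker).ideal ⟨O, hO⟩ := by
        rw [Scheme.IdealSheafData.ideal_inf, Pi.inf_apply, Scheme.Hom.ker_apply,
          Scheme.Hom.ker_apply]
        constructor
        · change (a' ≫ φ).app O x = 0
          rw [ha]
          erw [hx]
          exact map_zero _
        · change (b' ≫ φ).app O x = 0
          rw [hb]
          erw [hx]
          exact map_zero _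
      rw [hker] at h1
      exact h1
    · intro r'
      obtain ⟨t', ht'⟩ := Scheme.Hom.app_surjective (a' ≫ φ) _ hO (a'.app (φ ⁻¹ᵁ O) r')
      obtain ⟨s', hs'⟩ := Scheme.Hom.app_surjective (b' ≫ φ) _ hO (b'.app (φ ⁻¹ᵁ O) r')
      have h0 : i.app ((a' ≫ φ) ⁻¹ᵁ O) ((a' ≫ φ).app O (s' - t')) = 0 := by
        have h2 : b'.app (φ ⁻¹ᵁ O) (φ.app O s' - r') = 0 := by
          rw [map_sub, ← hb, hs', sub_self]
        have h3 : (j ≫ b').app (φ ⁻¹ᵁ O) (φ.app O s' - r') = 0 := by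
          have h8 : j.app (b' ⁻¹ᵁ φ ⁻¹ᵁ O) (b'.app (φ ⁻¹ᵁ O) (φ.app O s' - r')) = 0 := by
            rw [h2, map_zero]
          exact (app_comp_apply j b' (φ ⁻¹ᵁ O) (φ.app O s' - r')).trans h8
        have h4 : ∀ (q q' : Z ⟶ W) (_ : q = q') (x : Γ(W, φ ⁻¹ᵁ O)), q'.app (φ ⁻¹ᵁ O) x = 0 →
            q.app (φ ⁻¹ᵁ O) x = 0 := by
          rintro _ _ rfl x hx
          exact hx
        have h5 := h4 _ _ hst.w _ h3
        have h6 : (a' ≫ φ).app O (s' - t') = a'.app (φ ⁻¹ᵁ O) (φ.app O s' - r') := by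
          rw [map_sub, ht', ha]
          exact (map_sub (a'.app (φ ⁻¹ᵁ O)).hom _ _).symm
        have h7 : i.app (a' ⁻¹ᵁ φ ⁻¹ᵁ O) (a'.app (φ ⁻¹ᵁ O) (φ.app O s' - r')) = 0 :=
          (app_comp_apply i a' _ _).symm.trans h5
        exact (congrArg (i.app (a' ⁻¹ᵁ φ ⁻¹ᵁ O)) h6).trans h7
      have h1 := mem_sup_of_app_eq_zero h O hO (s' - t') h0
      obtain ⟨v, hv, w, hw, hvw⟩ := Submodule.mem_sup.mp h1
      refine ⟨s' - v, ?_⟩
      refine hst.ext (φ ⁻¹ᵁ O) (hO' O hO) _ _ ?_ ?_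
      · rw [← hb, map_sub, hs']
        have : (b' ≫ φ).app O v = 0 := hv
        rw [this, sub_zero]
      · have e : s' - v = t' + w := by rw [← sub_eq_zero]; linear_combination -hvw
        rw [e, ← ha, map_add, ht']
        have : (a' ≫ φ).app O w = 0 := hw
        rw [this, add_zero]
  rw [← MorphismProperty.isomorphisms.iff]
  refine (HasAffineProperty.iff_of_iSup_eq_top (P := MorphismProperty.isomorphisms Scheme.{u})
    (fun O : X.affineOpens => O) (iSup_affineOpens_eq_top X)).mpr fun O => ?_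
  have hi : IsIso (φ.app (O.1.ι ''ᵁ ⊤)) := (ConcreteCategory.isIso_iff_bijective _).mpr
    (key _ (by rw [Scheme.Opens.ι_image_top]; exact O.2))
  refine ⟨hO' O.1 O.2, ?_⟩
  rw [morphismRestrict_appTop]
  have h2 : ∀ (V V' : W.Opens) (e : V = V'), IsIso (W.presheaf.map (eqToHom e).op) := by
    rintro V _ rfl
    infer_instance
  exact IsIso.comp_isIso' hi (h2 _ _ _)

/-- A union of two closed subschemes is a pushout along the intersection. -/
theorem isPushout_of_union {i : Z ⟶ X₁} {j : Z ⟶ X₂} {a : X₁ ⟶ X} {b : X₂ ⟶ X}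
    (h : IsPullback i j a b) [IsClosedImmersion a] [IsClosedImmersion b]
    (hker : a.ker ⊓ b.ker = ⊥) : IsPushout i j a b := by
  have hi : IsClosedImmersion i := MorphismProperty.of_isPullback (P := @IsClosedImmersion) h.flip
    inferInstance
  have hj : IsClosedImmersion j := MorphismProperty.of_isPullback (P := @IsClosedImmersion) h
    inferInstance
  obtain ⟨W, a', b', hpo, hst⟩ := exists_isStrong i j hi inferInstance (by
    intro y
    by_cases hy : ∃ z : Z, j.base z = y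
    · obtain ⟨z, rfl⟩ := hy
      obtain ⟨U, hU, hzU, -⟩ := exists_isAffineOpen_mem_and_subset (U := (⊤ : X₁.Opens))
        (x := i.base z) trivial
      refine ⟨U, hU, fun z' hz' => ?_⟩
      rw [j.isClosedEmbedding.injective hz']
      exact hzU
    · exact ⟨⊥, isAffineOpen_bot _, fun z hz => (hy ⟨z, hz⟩).elim⟩)
  let φ : W ⟶ X := hpo.desc a b h.w
  have h1 : a' ≫ φ = a := hpo.inl_desc _ _ _
  have h2 : b' ≫ φ = b := hpo.inr_desc _ _ _
  have : IsIso φ := by
    have : IsClosedImmersion (a' ≫ φ) := by rw [h1]; infer_instance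
    have : IsClosedImmersion (b' ≫ φ) := by rw [h2]; infer_instance
    exact isIso_of_isStrong hst φ (by rw [h1, h2]; exact h) (by rw [h1, h2]; exact hker)
  exact IsPushout.of_iso' (by simpa using! hpo) (Iso.refl _) (Iso.refl _) (Iso.refl _) (asIso φ).symm
    (by simp) (by simp) (by simp [← h1]) (by simp [← h2])

/-- Finite etale covers of two closed subschemes which agree on the intersection glue to the
union. -/
theorem exists_glue {i : Z ⟶ X₁} {j : Z ⟶ X₂} {a : X₁ ⟶ X} {b : X₂ ⟶ X}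
    (h : IsPullback i j a b) [IsClosedImmersion a] [IsClosedImmersion b]
    (hker : a.ker ⊓ b.ker = ⊥) (U : FEt.Cat X₁) (V : FEt.Cat X₂)
    (e : (FEt.restrict i).obj U ≅ (FEt.restrict j).obj V) :
    ∃ T : FEt.Cat X, Nonempty ((FEt.restrict a).obj T ≅ U) ∧
      Nonempty ((FEt.restrict b).obj T ≅ V) := by
  have hi : IsClosedImmersion i := MorphismProperty.of_isPullback (P := @IsClosedImmersion) h.flip
    inferInstance
  have hj : IsClosedImmersion j := MorphismProperty.of_isPullback (P := @IsClosedImmersion) h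
    inferInstance
  refine main_of_exists exists_isStrong i j (fun y => ?_) a b (isPushout_of_union h hker) U V e
  by_cases hy : ∃ z : Z, j.base z = y
  · obtain ⟨z, rfl⟩ := hy
    obtain ⟨U, hU, hzU, -⟩ := exists_isAffineOpen_mem_and_subset (U := (⊤ : X₁.Opens))
      (x := i.base z) trivial
    refine ⟨U, hU, fun z' hz' => ?_⟩
    rw [j.isClosedEmbedding.injective hz']
    exact hzU
  · exact ⟨⊥, isAffineOpen_bot _, fun z hz => (hy ⟨z, hz⟩).elim⟩

/-- Finite etale covers of a closed subscheme `X₂` and of an open neighbourhood `N₁` of `X₁ ∩ X₂` in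
`X₁` which agree on `X₁ ∩ X₂` glue to a neighbourhood of `X₂` in `X = X₁ ∪ X₂`. -/
theorem exists_glue_nbhd {i : Z ⟶ X₁} {j : Z ⟶ X₂} {a : X₁ ⟶ X} {b : X₂ ⟶ X}
    (h : IsPullback i j a b) [IsClosedImmersion a] [IsClosedImmersion b]
    (hker : a.ker ⊓ b.ker = ⊥) (N₁ : X₁.Opens) (g : Z ⟶ N₁.toScheme) (hg : g ≫ N₁.ι = i)
    (V₁ : FEt.Cat N₁.toScheme) (V₂ : FEt.Cat X₂)
    (e : (FEt.restrict g).obj V₁ ≅ (FEt.restrict j).obj V₂) :
    ∃ (N : X.Opens) (b' : X₂ ⟶ N.toScheme) (T : FEt.Cat N.toScheme), b' ≫ N.ι = b ∧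
      Nonempty ((FEt.restrict b').obj T ≅ V₂) := by
  obtain ⟨N, hN, hb⟩ : ∃ N : X.Opens, a ⁻¹ᵁ N = N₁ ∧ Set.range b ⊆ Set.range N.ι := by
    let N : X.Opens := ⟨(a '' (N₁ : Set X₁)ᶜ)ᶜ,
      (a.isClosedEmbedding.isClosedMap _ N₁.isOpen.isClosed_compl).isOpen_compl⟩
    refine ⟨N, ?_, ?_⟩
    · ext x
      change ¬ (a x ∈ a '' (N₁ : Set X₁)ᶜ) ↔ x ∈ N₁
      rw [a.isClosedEmbedding.injective.mem_set_image]
      exact not_not
    · rw [Scheme.Opens.range_ι]
      rintro _ ⟨y, rfl⟩ ⟨x, hx, hxy⟩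
      obtain ⟨z, hz, -⟩ := Scheme.Pullback.exists_preimage_pullback x y hxy
      refine hx ?_
      have h1 : pullback.fst a b = h.isoPullback.inv ≫ g ≫ N₁.ι := by
        rw [hg, h.isoPullback_inv_fst]
      rw [← hz, h1]
      simp only [Scheme.Hom.comp_apply]
      exact Subtype.mem _
  subst hN
  have ha' : IsPullback (a ⁻¹ᵁ N).ι (a ∣_ N) a N.ι := (isPullback_morphismRestrict a N).flip
  have haN : IsClosedImmersion (a ∣_ N) :=
    MorphismProperty.of_isPullback (P := @IsClosedImmersion) ha' inferInstance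
  let b' : X₂ ⟶ N.toScheme := IsOpenImmersion.lift N.ι b hb
  have hb' : b' ≫ N.ι = b := IsOpenImmersion.lift_fac _ _ _
  have hbp : IsPullback (𝟙 X₂) b' b N.ι := by
    refine ⟨⟨by simp [hb']⟩, ⟨PullbackCone.IsLimit.mk _ (fun s => s.fst) (fun s => by simp)
      (fun s => ?_) (fun s m h1 _ => by simpa using h1)⟩⟩
    rw [← cancel_mono N.ι, Category.assoc, hb', s.condition]
  have hbN : IsClosedImmersion b' :=
    MorphismProperty.of_isPullback (P := @IsClosedImmersion) hbp inferInstance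
  have hk : (a ∣_ N).ker ⊓ b'.ker = ⊥ := by
    rw [ker_eq_comap ha'.flip, ker_eq_comap hbp.flip,
      ← Picfga.IdealGlue.comap_inf_of_isOpenImmersion, hker, Scheme.IdealSheafData.comap_bot]
  have hp : IsPullback g j (a ∣_ N) b' := by
    have hw : g ≫ a ∣_ N = j ≫ b' := by
      rw [← cancel_mono N.ι, Category.assoc, Category.assoc, morphismRestrict_ι, hb', ← h.w, ← hg,
        Category.assoc]
    refine ⟨⟨hw⟩, ⟨PullbackCone.IsLimit.mk _
      (fun s => h.lift (s.fst ≫ (a ⁻¹ᵁ N).ι) s.snd (by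
        rw [Category.assoc, ← morphismRestrict_ι, ← Category.assoc, s.condition, Category.assoc,
          hb'])) (fun s => ?_) (fun s => h.lift_snd _ _ _) (fun s m h1 h2 => ?_)⟩⟩
    · rw [← cancel_mono (a ⁻¹ᵁ N).ι, Category.assoc, hg, h.lift_fst]
    · refine h.hom_ext ?_ ?_
      · rw [h.lift_fst, ← h1, Category.assoc, hg]
      · rw [h.lift_snd, h2]
  obtain ⟨T, -, hT⟩ := exists_glue hp hk V₁ V₂ e
  exact ⟨N, b', T, hb', hT⟩

end Groth.Agent.Pi1C.UnionPush
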