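import Groth.Agent.Pi1C.LefSetup
import Groth.Agent.Pi1C.UnionPush
import Groth.Agent.Pi1C.LefReduce
import Groth.Agent.S0238

/-!
# Lefschetz theorem for fundamental groups: reduction to the case of a regular section
-/

set_option autoImplicit false
universe u
open AlgebraicGeometry CategoryTheory CategoryTheory.Limits
open Groth.Agent.VarietyB.ProjGlue

namespace Groth.Agent.Pi1C.LefTors

open LefSetup UnionPush PurityQuot

variable {X : Scheme.{u}} {I : Type} (D : CoordData X I) (k : I)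

/-- Closed subscheme cut out by the sections supported on `x_k = 0`. -/
noncomputable def tors : X.IdealSheafData := (D.U k).ι.ker

lemma mem_tors [QuasiCompact (D.U k).ι] (U : X.affineOpens) (y : Γ(X, U)) :
    y ∈ (tors D k).ideal U ↔ (D.U k).ι.app U y = 0 := by
  rw [tors, Scheme.Hom.ker_apply]
  rfl

lemma isUnit_ι_app (i : I) : IsUnit ((D.U k).ι.app (D.U i) (D.f i k)) := by
  have h := appLE_f_isUnit D (D.U k).ι i k ((D.U k).ι ⁻¹ᵁ D.U i) le_rfl (by
    rw [Scheme.Opens.ι_preimage_self]; exact le_top)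
  rwa [Scheme.Hom.appLE_eq_app] at h

lemma mem_tors_of_mul [QuasiCompact (D.U k).ι] (hD : ∀ i, IsAffineOpen (D.U i)) (i : I)
    (y : Γ(X, D.U i)) (n : ℕ) (h : D.f i k ^ n * y ∈ (tors D k).ideal ⟨D.U i, hD i⟩) :
    y ∈ (tors D k).ideal ⟨D.U i, hD i⟩ := by
  rw [mem_tors] at h ⊢
  rw [map_mul, map_pow] at h
  exact ((isUnit_ι_app D k i).pow n).mul_right_eq_zero.mp h

lemma exists_pow_mul_eq_zero [QuasiCompact (D.U k).ι] (hD : ∀ i, IsAffineOpen (D.U i))
    (hb : ∀ i, X.basicOpen (D.f i k) = D.U i ⊓ D.U k) (i : I)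
    (y : Γ(X, D.U i)) (h : y ∈ (tors D k).ideal ⟨D.U i, hD i⟩) : ∃ n, D.f i k ^ n * y = 0 := by
  rw [mem_tors] at h
  apply exists_pow_mul_eq_zero_of_res_basicOpen_eq_zero_of_isCompact X (hD i).isCompact y (D.f i k)
  have e : X.basicOpen (D.f i k) ≤ (D.U k).ι ''ᵁ (D.U k).ι ⁻¹ᵁ D.U i := by
    rw [hb i, Scheme.Hom.image_preimage_eq_opensRange_inf, Scheme.Opens.opensRange_ι, inf_comm]
  have h1 := congrArg (X.presheaf.map (homOfLE e).op).hom h
  refine Eq.trans ?_ (h1.trans (map_zero _))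
  rw [Scheme.Opens.ι_app]
  change _ = (X.presheaf.map _ ≫ X.presheaf.map _) y
  rw [← Functor.map_comp]
  rfl

lemma exists_pow_mul_eq_zero' [IsLocallyNoetherian X] [QuasiCompact (D.U k).ι]
    (hD : ∀ i, IsAffineOpen (D.U i))
    (hb : ∀ i, X.basicOpen (D.f i k) = D.U i ⊓ D.U k) (i : I) :
    ∃ n, ∀ y ∈ (tors D k).ideal ⟨D.U i, hD i⟩, D.f i k ^ n * y = 0 := by
  have hN : IsNoetherianRing Γ(X, D.U i) := IsLocallyNoetherian.component_noetherian ⟨D.U i, hD i⟩
  obtain ⟨s, hs⟩ := hN.noetherian ((tors D k).ideal ⟨D.U i, hD i⟩)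
  choose! n hn using fun y (hy : y ∈ (tors D k).ideal ⟨D.U i, hD i⟩) =>
    exists_pow_mul_eq_zero D k hD hb i y hy
  refine ⟨s.sup n, fun y hy => ?_⟩
  rw [← hs] at hy
  induction hy using Submodule.span_induction with
  | mem x hx =>
    have h1 : n x ≤ s.sup n := Finset.le_sup hx
    have h2 := hn x (by rw [← hs]; exact Submodule.subset_span hx)
    rw [← Nat.sub_add_cancel h1, pow_add, mul_assoc, h2, mul_zero]
  | zero => rw [mul_zero]
  | add x y _ _ hx hy => rw [mul_add, hx, hy, add_zero]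
  | smul a x _ hx => rw [smul_eq_mul, mul_left_comm, hx, mul_zero]

lemma tors_inf_hyper [IsLocallyNoetherian X] [Finite I] [∀ i, QuasiCompact (D.U i).ι]
    (hD : ∀ i, IsAffineOpen (D.U i))
    (hb : ∀ i, X.basicOpen (D.f i k) = D.U i ⊓ D.U k) :
    ∃ c, 0 < c ∧ tors D k ⊓ hyper D hD k ^ c = ⊥ := by
  choose n hn using exists_pow_mul_eq_zero' D k hD hb
  cases nonempty_fintype I
  refine ⟨Finset.univ.sup n + 1, Nat.succ_pos _, ?_⟩
  refine Scheme.IdealSheafData.ext_of_iSup_eq_top (fun i => ⟨D.U i, hD i⟩) D.iSup_U fun i => ?_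
  rw [Scheme.IdealSheafData.ideal_inf, Pi.inf_apply, hyper_pow_ideal]
  refine le_antisymm ?_ bot_le
  rintro y ⟨h1, h2⟩
  obtain ⟨z, rfl⟩ := Ideal.mem_span_singleton'.mp h2
  rw [mul_comm] at h1 ⊢
  have h3 := mem_tors_of_mul D k hD i z _ h1
  have h4 : n i ≤ Finset.univ.sup n + 1 := (Finset.le_sup (Finset.mem_univ i)).trans (Nat.le_succ _)
  rw [← Nat.sub_add_cancel h4, pow_add, mul_assoc, hn i z h3, mul_zero]
  exact Ideal.zero_mem _

/-- `x_k` is regular on the closed subscheme cut out by the torsion. -/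
lemma mem_nonZeroDivisors [QuasiCompact (D.U k).ι] (hD : ∀ i, IsAffineOpen (D.U i)) (i : I) :
    (pull D (tors D k).subschemeι).f i k ∈ nonZeroDivisors Γ((tors D k).subscheme, (pull D (tors D k).subschemeι).U i) := by
  rw [mem_nonZeroDivisors_iff_right]
  intro x hx
  obtain ⟨y, rfl⟩ := Scheme.Hom.app_surjective (tors D k).subschemeι _ (hD i) x
  have hker (z : Γ(X, D.U i)) : (tors D k).subschemeι.app (D.U i) z = 0 ↔
      z ∈ (tors D k).ideal ⟨D.U i, hD i⟩ := by
    rw [← (tors D k).ker_subschemeι_app ⟨D.U i, hD i⟩]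
    rfl
  refine (hker y).mpr (mem_tors_of_mul D k hD i y 1 ?_)
  rw [pow_one, ← hker, mul_comm, map_mul]
  exact hx

lemma ker_eq_hyper [Finite I] (hD : ∀ i, IsAffineOpen (D.U i))
    [∀ i, QuasiCompact (D.U i).ι] {Y : Scheme.{u}} {h : Y ⟶ X} (hh : IsSection D k h) :
    h.ker = hyper D hD k := by
  have := hh.closed
  refine Scheme.IdealSheafData.ext_of_iSup_eq_top (fun i => ⟨D.U i, hD i⟩) D.iSup_U fun i => ?_
  rw [Scheme.Hom.ker_apply, hyper_ideal]
  exact hh.ker i

/-- Base change of a hyperplane section to a closed subscheme. -/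
lemma isSection_of_isPullback (hD : ∀ i, IsAffineOpen (D.U i)) {X₁ Y Y₁ : Scheme.{u}}
    {h : Y ⟶ X} (hh : IsSection D k h) {a : X₁ ⟶ X} [IsClosedImmersion a] {h₁ : Y₁ ⟶ X₁}
    {v : Y₁ ⟶ Y} (hp : IsPullback h₁ v a h) : IsSection (pull D a) k h₁ := by
  have := hh.closed
  have hc : IsClosedImmersion h₁ :=
    MorphismProperty.of_isPullback (P := @IsClosedImmersion) hp.flip inferInstance
  refine ⟨hc, fun i => ?_⟩
  have h1 := congr($(ker_eq_comap hp).ideal ⟨a ⁻¹ᵁ D.U i, (hD i).preimage a⟩)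
  rw [Divis.IdealComap.ideal_comap h.ker a ⟨D.U i, hD i⟩ ⟨a ⁻¹ᵁ D.U i, (hD i).preimage a⟩ le_rfl,
    Scheme.Hom.ker_apply, Scheme.Hom.ker_apply] at h1
  refine h1.trans ?_
  have h2 : RingHom.ker (h.app (D.U i)).hom = Ideal.span {D.f i k} := hh.ker i
  erw [h2]
  rw [Ideal.map_span, Set.image_singleton, Scheme.Hom.appLE_eq_app]
  rfl

theorem nbhdExt_of_tors [IsLocallyNoetherian X] [Finite I] [∀ i, QuasiCompact (D.U i).ι]
    (hD : ∀ i, IsAffineOpen (D.U i)) (hb : ∀ i, X.basicOpen (D.f i k) = D.U i ⊓ D.U k)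
    (H : NbhdExt (pull D (tors D k).subschemeι) k) : NbhdExt D k := by
  intro Y h hh V₀
  have hhc : IsClosedImmersion h := hh.closed
  obtain ⟨c, hc0, hc⟩ := tors_inf_hyper D k hD hb
  let a := (tors D k).subschemeι
  let b := (hyper D hD k ^ c).subschemeι
  -- the thickening
  have hle : b.ker ≤ h.ker := by
    rw [Scheme.IdealSheafData.ker_subschemeι, ker_eq_hyper D k hD hh]
    exact fun U => Ideal.pow_le_self hc0.ne'
  let q := IsClosedImmersion.lift b h hle
  have hq : q ≫ b = h := IsClosedImmersion.lift_fac _ _ _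
  have hqc : IsClosedImmersion q := by
    have : IsClosedImmersion (q ≫ b) := by rw [hq]; infer_instance
    exact IsClosedImmersion.of_comp q b
  have hqs : Surjective q := by
    refine ⟨fun y => ?_⟩
    have h1 : b y ∈ Set.range h := by
      have h2 : Set.range h = (hyper D hD k).support := by
        rw [← ker_eq_hyper D k hD hh, Scheme.Hom.support_ker, h.isClosedEmbedding.isClosed_range.closure_eq]
      rw [h2, ← Scheme.IdealSheafData.support_pow _ c hc0.ne', ← Scheme.IdealSheafData.range_subschemeι]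
      exact ⟨y, rfl⟩
    obtain ⟨y', hy'⟩ := h1
    refine ⟨y', b.isClosedEmbedding.injective ?_⟩
    rw [← hy', ← hq]
    rfl
  have hqe : (FEt.restrict q).IsEquivalence := S0238.result q
  let V₂ := (FEt.restrict q).objPreimage V₀
  let e₂ : (FEt.restrict q).obj V₂ ≅ V₀ := (FEt.restrict q).objObjPreimageIso V₀
  -- intersection with the first component
  let i := pullback.fst a b
  let j := pullback.snd a b
  have hZ : IsPullback i j a b := IsPullback.of_hasPullback a b
  let q₁ := pullback.fst j q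
  let v := pullback.snd j q
  have hY₁ : IsPullback q₁ v j q := IsPullback.of_hasPullback j q
  have hp : IsPullback (q₁ ≫ i) v a h := by
    rw [← hq]
    exact hY₁.paste_horiz hZ
  have hq₁c : IsClosedImmersion q₁ :=
    MorphismProperty.of_isPullback (P := @IsClosedImmersion) hY₁.flip inferInstance
  have hq₁s : Surjective q₁ :=
    MorphismProperty.of_isPullback (P := @Surjective) hY₁.flip inferInstance
  have hq₁e : (FEt.restrict q₁).IsEquivalence := S0238.result q₁
  obtain ⟨N₁, g₁, V₁, hg₁, ⟨e₁⟩⟩ := H _ (isSection_of_isPullback D k hD hh hp)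
    ((FEt.restrict v).obj V₀)
  obtain ⟨g, hg⟩ : ∃ g : pullback a b ⟶ N₁.toScheme, g ≫ N₁.ι = i := by
    have hr : Set.range i ⊆ Set.range N₁.ι := by
      rintro _ ⟨z, rfl⟩
      obtain ⟨y, rfl⟩ := hq₁s.surj z
      refine ⟨g₁ y, ?_⟩
      rw [← Scheme.Hom.comp_apply, hg₁]
      rfl
    exact ⟨IsOpenImmersion.lift N₁.ι i hr, IsOpenImmersion.lift_fac _ _ _⟩
  have hgg : q₁ ≫ g = g₁ := by
    rw [← cancel_mono N₁.ι, Category.assoc, hg, hg₁]
  let e : (FEt.restrict q₁).obj ((FEt.restrict g).obj V₁) ≅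
      (FEt.restrict q₁).obj ((FEt.restrict j).obj V₂) :=
    ((restrictComp q₁ g).symm ≪≫ restrictCongr hgg).app V₁ ≪≫ e₁ ≪≫
      (FEt.restrict v).mapIso e₂.symm ≪≫
      ((restrictComp v q).symm ≪≫ restrictCongr hY₁.w.symm ≪≫ restrictComp q₁ j).app V₂
  obtain ⟨N, b', T, hb', ⟨eT⟩⟩ := exists_glue_nbhd hZ (by
    rw [Scheme.IdealSheafData.ker_subschemeι, Scheme.IdealSheafData.ker_subschemeι]
    exact hc) N₁ g hg V₁ V₂ ((FEt.restrict q₁).preimageIso e)
  refine ⟨N, q ≫ b', T, by rw [Category.assoc, hb', hq], ⟨?_⟩⟩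
  exact (restrictComp q b').app T ≪≫ (FEt.restrict q).mapIso eT ≪≫ e₂

lemma isIso_restrict : IsIso ((tors D k).subschemeι ∣_ (D.U k)) := by
  have h1 : ((tors D k).subschemeι ∣_ (D.U k)).ker = ⊥ := by
    rw [ker_eq_comap (isPullback_morphismRestrict (tors D k).subschemeι (D.U k)),
      Scheme.IdealSheafData.ker_subschemeι, tors, ← Scheme.IdealSheafData.map_bot]
    exact le_bot_iff.mp (Scheme.IdealSheafData.comap_map_le _ _)
  have h2 : IsClosedImmersion ((tors D k).subschemeι ∣_ (D.U k)) :=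
    MorphismProperty.of_isPullback (P := @IsClosedImmersion)
      (isPullback_morphismRestrict (tors D k).subschemeι (D.U k)).flip inferInstance
  exact IsClosedImmersion.isIso_of_ker_eq _ (𝟙 _) _ (Category.comp_id _) (by
    rw [h1, Scheme.Hom.ker_eq_bot_of_isIso])

open LefReduce in
lemma depthHyp_tors (n : ℕ) [IsLocallyNoetherian X] (h : DepthHyp n X (D.U k : Set X)) :
    DepthHyp n (tors D k).subscheme ((pull D (tors D k).subschemeι).U k : Set (tors D k).subscheme) := by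
  intro x hx
  let a := (tors D k).subschemeι
  have hx' : a x ∈ D.U k := hx
  have := isIso_restrict D k
  have ho : IsOpenImmersion ((a ⁻¹ᵁ D.U k).ι ≫ a) := by
    rw [← morphismRestrict_ι]
    infer_instance
  have hX₁ : IsLocallyNoetherian (tors D k).subscheme := LocallyOfFiniteType.isLocallyNoetherian a
  let x' : (a ⁻¹ᵁ D.U k).toScheme := ⟨x, hx⟩
  have h1 := depth_stalk_etale ((a ⁻¹ᵁ D.U k).ι ≫ a) x'
  have h2 := depth_stalk_etale (a ⁻¹ᵁ D.U k).ι x'
  have h3 := dim_closure_eq a x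
  have h4 := h (a x) hx'
  have e1 : ((a ⁻¹ᵁ D.U k).ι ≫ a) x' = a x := rfl
  have e2 : (a ⁻¹ᵁ D.U k).ι x' = x := rfl
  rw [e1] at h1
  rw [e2] at h2
  rw [← h2, h1, h3]
  exact h4

/-- The case of a regular section (to be proved). -/
def LefRegular : Prop :=
  ∀ (k : Type u) [Field k] (X : Scheme.{u}) (p : X ⟶ Spec (CommRingCat.of k)) [IsProper p] (r : ℕ)
    (D : CoordData X (Fin (r + 1))), Good D p → (∀ i, D.f i 0 ∈ nonZeroDivisors Γ(X, D.U i)) →
      LefReduce.DepthHyp 2 X (D.U 0 : Set X) → NbhdExt D 0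

/-- Finite etale covers of the hyperplane section extend to a neighbourhood. -/
theorem nbhdExt (H : LefRegular.{u}) {k : Type u} [Field k] {X : Scheme.{u}}
    (p : X ⟶ Spec (CommRingCat.of k)) [IsProper p] {r : ℕ} (D : CoordData X (Fin (r + 1)))
    (hD : Good D p) (hdep : LefReduce.DepthHyp 2 X (D.U 0 : Set X)) : NbhdExt D 0 := by
  have hX : IsLocallyNoetherian X := LocallyOfFiniteType.isLocallyNoetherian p
  have h1 : NbhdExt (pull D (tors D 0).subschemeι) 0 := fun {Y} =>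
    H k _ ((tors D 0).subschemeι ≫ p) r _ (hD.pull _)
      (fun i => mem_nonZeroDivisors D 0 hD.affine i) (depthHyp_tors D 0 2 hdep)
  exact fun {Y} => nbhdExt_of_tors D 0 hD.affine (fun i => hD.basic i 0) h1

end Groth.Agent.Pi1C.LefTors
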