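import Groth.Agent.Pi1C.LefStruct
import Groth.Agent.Pi1C.PurityQuot
import Groth.Agent.S0238
import Mathlib.AlgebraicGeometry.Morphisms.ClosedImmersion

/-!
# The tower of infinitesimal neighbourhoods of a closed subscheme (P2 of S1151)
-/

set_option autoImplicit false
universe u
open AlgebraicGeometry CategoryTheory CategoryTheory.Limits
open Groth.Agent.Pi1C.PurityQuot

namespace Groth.Agent.Pi1C.LefTower

variable {X Z : Scheme.{u}} (ι : Z ⟶ X)

/-- The infinitesimal neighbourhoods. -/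
noncomputable def Y (n : ℕ) : Scheme.{u} := (ι.ker ^ (n + 1)).subscheme

/-- The closed immersions. -/
noncomputable def j (n : ℕ) : Y ι n ⟶ X := (ι.ker ^ (n + 1)).subschemeι

instance (n : ℕ) : IsClosedImmersion (j ι n) :=
  inferInstanceAs (IsClosedImmersion (ι.ker ^ (n + 1)).subschemeι)

lemma pow_le (n : ℕ) : ι.ker ^ (n + 1 + 1) ≤ ι.ker ^ (n + 1) := by
  intro U
  simp only [Scheme.IdealSheafData.ideal_pow, Pi.pow_apply]
  exact Ideal.pow_le_pow_right (Nat.le_succ _)

/-- The transition maps. -/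
noncomputable def α (n : ℕ) : Y ι n ⟶ Y ι (n + 1) := Scheme.IdealSheafData.inclusion (pow_le ι n)

lemma α_j (n : ℕ) : α ι n ≫ j ι (n + 1) = j ι n := Scheme.IdealSheafData.inclusion_subschemeι _

instance (n : ℕ) : IsClosedImmersion (α ι n) := by
  have : IsClosedImmersion (α ι n ≫ j ι (n + 1)) := by
    rw [α_j]
    infer_instance
  exact .of_comp (α ι n) (j ι (n + 1))

lemma range_j (n : ℕ) : Set.range (j ι n) = ι.ker.support :=
  Scheme.IdealSheafData.range_subschemeι _

instance (n : ℕ) : Surjective (α ι n) := by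
  refine ⟨fun y => ?_⟩
  have h1 : j ι (n + 1) y ∈ Set.range (j ι n) := by
    rw [range_j, ← range_j ι (n + 1)]
    exact ⟨y, rfl⟩
  obtain ⟨x, hx⟩ := h1
  refine ⟨x, (j ι (n + 1)).isClosedEmbedding.injective ?_⟩
  rw [← hx, ← Scheme.Hom.comp_apply, α_j]

instance (n : ℕ) : (FEt.restrict (α ι n)).IsEquivalence := S0238.result (α ι n)

lemma ker_j_zero : (j ι 0).ker = ι.ker := by
  refine (Scheme.IdealSheafData.ker_subschemeι _).trans ?_
  rw [zero_add, pow_one]

variable [IsClosedImmersion ι]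

lemma ker_app (n : ℕ) (W : X.Opens) (hW : IsAffineOpen W) :
    RingHom.ker ((j ι n).app W).hom = RingHom.ker (ι.app W).hom ^ (n + 1) := by
  have h1 := Scheme.IdealSheafData.ker_subschemeι_app (ι.ker ^ (n + 1)) ⟨W, hW⟩
  refine h1.trans ?_
  rw [Scheme.IdealSheafData.ideal_pow, Pi.pow_apply, Scheme.Hom.ker_apply]

/-- The bottom of the tower. -/
noncomputable def e : Y ι 0 ≅ Z where
  hom := IsClosedImmersion.lift ι (j ι 0) (ker_j_zero ι).ge
  inv := IsClosedImmersion.lift (j ι 0) ι (ker_j_zero ι).le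
  hom_inv_id := by
    rw [← cancel_mono (j ι 0)]
    simp [IsClosedImmersion.lift_fac]
  inv_hom_id := by
    rw [← cancel_mono ι]
    simp [IsClosedImmersion.lift_fac]

lemma e_ι : (e ι).hom ≫ ι = j ι 0 := IsClosedImmersion.lift_fac _ _ _

/-- The covers. -/
noncomputable def V (V₀ : FEt.Cat Z) : ∀ n, FEt.Cat (Y ι n)
  | 0 => (FEt.restrict (e ι).hom).obj V₀
  | n + 1 => (FEt.restrict (α ι n)).objPreimage (V V₀ n)

/-- The isomorphisms. -/
noncomputable def VIso (V₀ : FEt.Cat Z) (n : ℕ) :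
    (FEt.restrict (α ι n)).obj (V ι V₀ (n + 1)) ≅ V ι V₀ n :=
  (FEt.restrict (α ι n)).objObjPreimageIso (V ι V₀ n)

/-- The transition maps of the covers. -/
noncomputable def β (V₀ : FEt.Cat Z) (n : ℕ) : (V ι V₀ n).left ⟶ (V ι V₀ (n + 1)).left :=
  (VIso ι V₀ n).inv.left ≫ pullback.fst (V ι V₀ (n + 1)).hom (α ι n)

lemma cart (V₀ : FEt.Cat Z) (n : ℕ) :
    IsPullback (β ι V₀ n) (V ι V₀ n).hom (V ι V₀ (n + 1)).hom (α ι n) := by
  let ei : (V ι V₀ n).left ≅ pullback (V ι V₀ (n + 1)).hom (α ι n) :=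
    { hom := (VIso ι V₀ n).inv.left
      inv := (VIso ι V₀ n).hom.left
      hom_inv_id := by
        have := congrArg (fun g => g.left) (VIso ι V₀ n).inv_hom_id
        exact this
      inv_hom_id := by
        have := congrArg (fun g => g.left) (VIso ι V₀ n).hom_inv_id
        exact this }
  have hw : (VIso ι V₀ n).inv.left ≫ pullback.snd (V ι V₀ (n + 1)).hom (α ι n) = (V ι V₀ n).hom :=
    Over.w (VIso ι V₀ n).inv.hom
  refine IsPullback.of_iso_pullback ⟨?_⟩ ei rfl hw
  exact (Category.assoc _ _ _).trans ((congrArg ((VIso ι V₀ n).inv.left ≫ ·)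
    (pullback.condition (f := (V ι V₀ (n + 1)).hom) (g := α ι n))).trans
    ((Category.assoc _ _ _).symm.trans (congrArg (· ≫ α ι n) hw)))

/-- **The tower of infinitesimal neighbourhoods.** -/
theorem exists_tower (V₀ : FEt.Cat Z) : Nonempty (LefStruct.Tower ι V₀) :=
  ⟨{ Y := Y ι
     j := j ι
     closed := fun _ => inferInstance
     ker := fun n W hW => ker_app ι n W hW
     α := α ι
     α_j := α_j ι
     V := V ι V₀
     β := β ι V₀
     cart := cart ι V₀
     e := e ι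
     e_ι := e_ι ι
     iso₀ := ⟨Iso.refl _⟩ }⟩

omit [IsClosedImmersion ι] in
/-- Extension of the bottom cover of the tower gives extension of the original cover. -/
theorem extends_of_tower {V₀ : FEt.Cat Z} (T : LefStruct.Tower ι V₀)
    (h : LefStruct.Extends (T.j 0) (T.V 0)) : LefStruct.Extends ι V₀ := by
  obtain ⟨N, j, hj, W, ⟨i⟩⟩ := h
  obtain ⟨i₀⟩ := T.iso₀
  refine ⟨N, T.e.inv ≫ j, ?_, W, ⟨?_⟩⟩
  · rw [Category.assoc, hj, ← T.e_ι, Iso.inv_hom_id_assoc]
  · exact (restrictComp T.e.inv j).app W ≪≫ (FEt.restrict T.e.inv).mapIso (i ≪≫ i₀.symm) ≪≫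
      ((restrictComp T.e.inv T.e.hom).app V₀).symm ≪≫ (restrictCongr T.e.inv_hom_id).app V₀ ≪≫
      (restrictId Z).app V₀

end Groth.Agent.Pi1C.LefTower
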