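import Mathlib.RingTheory.Ideal.Quotient.Operations
import Mathlib.RingTheory.Noetherian.Basic
import Mathlib.LinearAlgebra.Pi
import Mathlib.Algebra.Exact.Basic

/-!
Elementary forms of the conditions "`f ^ c` kills `H^1_m(M)`" and "`f ^ c` kills `H^2_m(M)`",
their functoriality, and a Mittag-Leffler type lifting statement.
-/

set_option autoImplicit false

universe u

namespace Groth.Agent.Pi1C.MLift

section Defs

variable {A : Type u} [CommRing A] (m : Ideal A) (f : A)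

/-- Elementary form of: `f ^ c` kills `colim_k Ext^1(A / m ^ k, M)`. -/
def H1Cond (c : ℕ) (M : Type u) [AddCommGroup M] [Module A M] : Prop :=
  ∀ (k : ℕ) (h : ↥(m ^ k) →ₗ[A] M), ∃ (l : ℕ) (hl : k ≤ l) (y : M), ∀ x : ↥(m ^ l),
    f ^ c • h ⟨x, Ideal.pow_le_pow_right hl x.2⟩ = (x : A) • y

/-- Elementary form of: `f ^ c` kills `colim_k Ext^1(m ^ k, M)`. -/
def H2Cond (c : ℕ) (M : Type u) [AddCommGroup M] [Module A M] : Prop :=
  ∀ (k : ℕ) (E : Type u) [AddCommGroup E] [Module A E] (i : M →ₗ[A] E) (π : E →ₗ[A] A),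
    Function.Injective i → Function.Exact i π → (∀ x ∈ m ^ k, ∃ e, π e = x) →
    ∃ (l : ℕ) (σ : ↥(m ^ l) →ₗ[A] E), ∀ x : ↥(m ^ l), π (σ x) = f ^ c * (x : A)

variable {m f}
variable {M N : Type u} [AddCommGroup M] [Module A M] [AddCommGroup N] [Module A N]

lemma H1Cond.mono {c c' : ℕ} (h : H1Cond m f c M) (hc : c ≤ c') : H1Cond m f c' M := by
  intro k g
  obtain ⟨l, hl, y, hy⟩ := h k g
  refine ⟨l, hl, f ^ (c' - c) • y, fun x => ?_⟩
  rw [smul_comm, ← hy x, smul_smul, ← pow_add, Nat.sub_add_cancel hc]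

lemma H2Cond.mono {c c' : ℕ} (h : H2Cond m f c M) (hc : c ≤ c') : H2Cond m f c' M := by
  intro k E _ _ i π hi hex hπ
  obtain ⟨l, σ, hσ⟩ := h k E i π hi hex hπ
  refine ⟨l, f ^ (c' - c) • σ, fun x => ?_⟩
  rw [LinearMap.smul_apply, map_smul, hσ, smul_eq_mul, ← mul_assoc, ← pow_add,
    Nat.sub_add_cancel hc]

/-- Transfer along `M → N → M` with composite `f ^ n`. -/
lemma H1Cond.of_comp {c n : ℕ} (h : H1Cond m f c N) (α : M →ₗ[A] N) (β : N →ₗ[A] M)
    (hβα : ∀ x, β (α x) = f ^ n • x) : H1Cond m f (c + n) M := by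
  intro k g
  obtain ⟨l, hl, y, hy⟩ := h k (α.comp g)
  refine ⟨l, hl, β y, fun x => ?_⟩
  have h2 := congrArg β (hy x)
  rwa [map_smul, map_smul, LinearMap.comp_apply, hβα, smul_smul, ← pow_add] at h2

/-- Transfer along `M → N → M` with composite `f ^ n`. -/
lemma H2Cond.of_comp {c n : ℕ} (h : H2Cond m f c N) (α : M →ₗ[A] N) (β : N →ₗ[A] M)
    (hβα : ∀ x, β (α x) = f ^ n • x) : H2Cond m f (c + n) M := by
  intro k E _ _ i π hi hex hπ
  -- the pushout
  let K : Submodule A (E × N) := LinearMap.range (LinearMap.prod i (-α))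
  let i' : N →ₗ[A] (E × N) ⧸ K := K.mkQ.comp (LinearMap.inr A E N)
  let π' : (E × N) ⧸ K →ₗ[A] A := K.liftQ (π.comp (LinearMap.fst A E N)) (by
    rintro _ ⟨x, rfl⟩
    exact (hex (i x)).2 ⟨x, rfl⟩)
  have hi' : Function.Injective i' := by
    rw [injective_iff_map_eq_zero]
    intro x hx
    have hx2 : ((0 : E), x) ∈ K := (Submodule.Quotient.mk_eq_zero K).1 hx
    obtain ⟨y, hy⟩ := hx2
    have h1 : i y = 0 := congrArg Prod.fst hy
    have h2 : -α y = x := congrArg Prod.snd hy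
    have h3 : y = 0 := hi (by rw [h1, map_zero])
    rw [← h2, h3, map_zero, neg_zero]
  have hex' : Function.Exact i' π' := by
    intro z
    obtain ⟨⟨e, x⟩, rfl⟩ := K.mkQ_surjective z
    constructor
    · intro hz
      have h1 : π e = 0 := hz
      obtain ⟨y, rfl⟩ := (hex e).1 h1
      refine ⟨x + α y, ?_⟩
      have h2 : (((0 : E), x + α y) - (i y, x) : E × N) ∈ K := by
        refine ⟨-y, ?_⟩
        ext
        · simp
        · simp
      exact (Submodule.Quotient.eq K).2 h2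
    · rintro ⟨y, hy⟩
      rw [← hy]
      change π 0 = 0
      rw [map_zero]
  have hπ' : ∀ x ∈ m ^ k, ∃ e, π' e = x := by
    intro x hx
    obtain ⟨e, rfl⟩ := hπ x hx
    exact ⟨K.mkQ (e, 0), rfl⟩
  obtain ⟨l, σ', hσ'⟩ := h k _ i' π' hi' hex' hπ'
  let τ : (E × N) ⧸ K →ₗ[A] E := K.liftQ
    (f ^ n • (LinearMap.fst A E N) + i.comp (β.comp (LinearMap.snd A E N))) (by
      rintro _ ⟨x, rfl⟩
      change f ^ n • i x + i (β (-α x)) = 0
      rw [map_neg, map_neg, hβα, map_smul, add_neg_cancel])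
  have hτ : ∀ z, π (τ z) = f ^ n * π' z := by
    intro z
    obtain ⟨⟨e, x⟩, rfl⟩ := K.mkQ_surjective z
    change π (f ^ n • e + i (β x)) = f ^ n * π e
    rw [map_add, map_smul, (hex (i (β x))).2 ⟨_, rfl⟩, add_zero, smul_eq_mul]
  refine ⟨l, τ.comp σ', fun x => ?_⟩
  rw [LinearMap.comp_apply, hτ, hσ', ← mul_assoc, ← pow_add, add_comm n c]

lemma H1Cond.prod {c c' : ℕ} (h : H1Cond m f c M) (h' : H1Cond m f c' N) :
    H1Cond m f (c + c') (M × N) := by
  intro k g
  obtain ⟨l, hl, y, hy⟩ := h k ((LinearMap.fst A M N).comp g)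
  obtain ⟨l', hl', y', hy'⟩ := h' k ((LinearMap.snd A M N).comp g)
  refine ⟨l + l', by omega, (f ^ c' • y, f ^ c • y'), fun x => ?_⟩
  ext
  · have := hy ⟨x, Ideal.pow_le_pow_right (by omega) x.2⟩
    simp only [Prod.smul_fst] at this ⊢
    rw [smul_comm, ← this, add_comm, pow_add, mul_smul]
    rfl
  · have := hy' ⟨x, Ideal.pow_le_pow_right (by omega) x.2⟩
    simp only [Prod.smul_snd] at this ⊢
    rw [smul_comm, ← this, pow_add, mul_smul]
    rfl

lemma H2Cond.prod {c c' : ℕ} (h : H2Cond m f c M) (h' : H2Cond m f c' N) :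
    H2Cond m f (c + c') (M × N) := by
  intro k E _ _ i π hi hex hπ
  -- first step: quotient by `M`
  let K : Submodule A E := LinearMap.range (i.comp (LinearMap.inl A M N))
  let i₁ : N →ₗ[A] E ⧸ K := K.mkQ.comp (i.comp (LinearMap.inr A M N))
  let π₁ : E ⧸ K →ₗ[A] A := K.liftQ π (by
    rintro _ ⟨x, rfl⟩
    exact (hex _).2 ⟨_, rfl⟩)
  have hi₁ : Function.Injective i₁ := by
    rw [injective_iff_map_eq_zero]
    intro x hx
    have hx2 : i (0, x) ∈ K := (Submodule.Quotient.mk_eq_zero K).1 hx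
    obtain ⟨y, hy⟩ := hx2
    have := hi hy
    exact (congrArg Prod.snd this).symm
  have hex₁ : Function.Exact i₁ π₁ := by
    intro z
    obtain ⟨e, rfl⟩ := K.mkQ_surjective z
    constructor
    · intro hz
      obtain ⟨⟨y, y'⟩, rfl⟩ := (hex e).1 hz
      refine ⟨y', (Submodule.Quotient.eq K).2 ⟨-y, ?_⟩⟩
      simp only [LinearMap.comp_apply, LinearMap.inl_apply, LinearMap.inr_apply]
      rw [← map_sub]
      congr 1
      ext <;> simp
    · rintro ⟨y, hy⟩
      rw [← hy]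
      exact (hex _).2 ⟨_, rfl⟩
  obtain ⟨l₁, σ₁, hσ₁⟩ := h' k _ i₁ π₁ hi₁ hex₁ (fun x hx => by
    obtain ⟨e, rfl⟩ := hπ x hx
    exact ⟨K.mkQ e, rfl⟩)
  -- second step: pullback along `σ₁`
  let E₂ : Submodule A (↥(m ^ l₁) × E) :=
    LinearMap.ker ((σ₁.comp (LinearMap.fst A _ E)) - (K.mkQ.comp (LinearMap.snd A _ E)))
  have hE₂ : ∀ z : ↥(m ^ l₁) × E, z ∈ E₂ ↔ σ₁ z.1 = K.mkQ z.2 := by
    intro z
    simp only [E₂, LinearMap.mem_ker, LinearMap.sub_apply, sub_eq_zero]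
    rfl
  let i₂ : M →ₗ[A] E₂ := LinearMap.codRestrict E₂
    ((LinearMap.inr A _ E).comp (i.comp (LinearMap.inl A M N))) (fun x => by
      rw [hE₂]
      change σ₁ 0 = K.mkQ (i (x, 0))
      rw [map_zero]
      exact ((Submodule.Quotient.mk_eq_zero K).2 ⟨x, rfl⟩).symm)
  let π₂ : E₂ →ₗ[A] A := ((m ^ l₁).subtype.comp (LinearMap.fst A _ E)).comp E₂.subtype
  have hi₂ : Function.Injective i₂ := by
    intro x y hxy
    have h1 : i (x, 0) = i (y, 0) := congrArg (fun z : E₂ => z.1.2) hxy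
    exact congrArg Prod.fst (hi h1)
  have hex₂ : Function.Exact i₂ π₂ := by
    rintro ⟨⟨x, e⟩, hz⟩
    rw [hE₂] at hz
    constructor
    · intro h0
      have hx : x = 0 := Subtype.ext h0
      subst hx
      rw [map_zero] at hz
      have he : e ∈ K := (Submodule.Quotient.mk_eq_zero K).1 hz.symm
      obtain ⟨y, rfl⟩ := he
      exact ⟨y, rfl⟩
    · rintro ⟨y, hy⟩
      have : (0 : ↥(m ^ l₁)) = x := congrArg (fun z : E₂ => z.1.1) hy
      change (x : A) = 0
      rw [← this]; rfl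
  obtain ⟨l₂, σ₂, hσ₂⟩ := h l₁ _ i₂ π₂ hi₂ hex₂ (fun x hx => by
    obtain ⟨e, he⟩ := K.mkQ_surjective (σ₁ ⟨x, hx⟩)
    exact ⟨⟨(⟨x, hx⟩, e), (hE₂ _).2 he.symm⟩, rfl⟩)
  refine ⟨l₂, (LinearMap.snd A _ E).comp (E₂.subtype.comp σ₂), fun x => ?_⟩
  have h1 : π₁ (K.mkQ (σ₂ x).1.2) = π (σ₂ x).1.2 := rfl
  change π (σ₂ x).1.2 = _
  rw [← h1, ← (hE₂ _).1 (σ₂ x).2, hσ₁]
  have h2 : ((σ₂ x).1.1 : A) = f ^ c * x := hσ₂ x
  rw [h2, pow_add]
  ring

lemma H1Cond.of_subsingleton [Subsingleton M] : H1Cond m f 0 M :=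
  fun k _ => ⟨k, le_rfl, 0, fun _ => Subsingleton.elim _ _⟩

lemma H2Cond.of_subsingleton [Subsingleton M] : H2Cond m f 0 M := by
  intro k E _ _ i π hi hex hπ
  have hinj : Function.Injective π := by
    rw [injective_iff_map_eq_zero]
    intro e he
    obtain ⟨y, rfl⟩ := (hex e).1 he
    rw [Subsingleton.elim y 0, map_zero]
  let φ : E ≃ₗ[A] LinearMap.range π := LinearEquiv.ofInjective π hinj
  have hle : (m ^ k : Submodule A A) ≤ LinearMap.range π := fun x hx => hπ x hx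
  refine ⟨k, φ.symm.toLinearMap.comp (Submodule.inclusion hle), fun x => ?_⟩
  rw [pow_zero, one_mul]
  have : ((φ (φ.symm (Submodule.inclusion hle x)) : LinearMap.range π) : A) = x := by
    rw [LinearEquiv.apply_symm_apply]; rfl
  exact this

lemma H1Cond.congr {c : ℕ} (e : M ≃ₗ[A] N) (h : H1Cond m f c M) : H1Cond m f c N :=
  h.of_comp (n := 0) e.symm.toLinearMap e.toLinearMap (by simp)

lemma H2Cond.congr {c : ℕ} (e : M ≃ₗ[A] N) (h : H2Cond m f c M) : H2Cond m f c N :=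
  h.of_comp (n := 0) e.symm.toLinearMap e.toLinearMap (by simp)

lemma H1Cond.pi {c : ℕ} (h : H1Cond m f c M) (b : ℕ) : H1Cond m f (b * c) (Fin b → M) := by
  induction b with
  | zero => rw [zero_mul]; exact .of_subsingleton
  | succ b ih =>
    have := (h.prod ih).congr (Fin.consLinearEquiv A (fun _ : Fin (b + 1) => M))
    rwa [show (b + 1) * c = c + b * c by ring]

lemma H2Cond.pi {c : ℕ} (h : H2Cond m f c M) (b : ℕ) : H2Cond m f (b * c) (Fin b → M) := by
  induction b with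
  | zero => rw [zero_mul]; exact .of_subsingleton
  | succ b ih =>
    have := (h.prod ih).congr (Fin.consLinearEquiv A (fun _ : Fin (b + 1) => M))
    rwa [show (b + 1) * c = c + b * c by ring]

end Defs

section Closed

variable {A : Type u} [CommRing A] (m : Ideal A) (f : A)

/-- `M` is the module of sections of `M~` on the complement of `V(m)`. -/
structure MClosed (M : Type*) [AddCommGroup M] [Module A M] : Prop where
  exists_smul : ∀ (k : ℕ) (h : ↥(m ^ k) →ₗ[A] M), ∃ y : M, ∀ x, h x = (x : A) • y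
  eq_zero : ∀ (k : ℕ) (y : M), (∀ x ∈ m ^ k, x • y = 0) → y = 0

variable {m f}

/-- Mittag-Leffler lifting. -/
theorem exists_lift_of_H2Cond {B : Type u} [AddCommGroup B] [Module A B]
    {S S' : Type*} [AddCommGroup S] [Module A S] [AddCommGroup S'] [Module A S']
    (ρ : B →ₗ[A] S) (ρ' : B →ₗ[A] S') (s : S) (s' : S') (n c : ℕ)
    (hf : ∀ b : B, f • b = 0 → b = 0) (hB : MClosed m B) (hP : H2Cond m f c B)
    (hker' : ∀ b, ρ' b = 0 ↔ ∃ b', b = f ^ (n + c) • b')
    (hker : ∀ b, ρ (f ^ n • b) = 0)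
    (hcoker : ∃ k : ℕ, ∀ x ∈ m ^ k, ∃ b, ρ' b = x • s')
    (hcomp : ∀ (b : B) (x : A), ρ' b = x • s' → ρ b = x • s)
    (htf : ∀ (t : S) (k : ℕ), (∀ x ∈ m ^ k, x • t = 0) → t = 0) : ∃ b, ρ b = s := by
  have hfn : ∀ (n : ℕ) (b : B), f ^ n • b = 0 → b = 0 := by
    intro n
    induction n with
    | zero => intro b hb; simpa using hb
    | succ n ih => intro b hb; rw [pow_succ, mul_smul] at hb; exact hf b (ih _ hb)
  obtain ⟨k, hk⟩ := hcoker
  let E : Submodule A (A × B) :=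
    LinearMap.ker (ρ'.comp (LinearMap.snd A A B) -
      (LinearMap.toSpanSingleton A S' s').comp (LinearMap.fst A A B))
  have hE : ∀ z : A × B, z ∈ E ↔ ρ' z.2 = z.1 • s' := by
    intro z
    simp only [E, LinearMap.mem_ker, LinearMap.sub_apply, sub_eq_zero]
    rfl
  let i : B →ₗ[A] E := LinearMap.codRestrict E
    ((LinearMap.inr A A B).comp (f ^ (n + c) • LinearMap.id)) (fun b => by
      rw [hE]
      change ρ' (f ^ (n + c) • b) = (0 : A) • s'
      rw [zero_smul]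
      exact (hker' _).2 ⟨b, rfl⟩)
  let π : E →ₗ[A] A := (LinearMap.fst A A B).comp E.subtype
  have hi : Function.Injective i := by
    rw [injective_iff_map_eq_zero]
    intro b hb
    have h1 : f ^ (n + c) • b = 0 := congrArg (fun z : E => z.1.2) hb
    exact hfn _ _ h1
  have hex : Function.Exact i π := by
    rintro ⟨⟨x, b⟩, hz⟩
    rw [hE] at hz
    constructor
    · intro h0
      have hx : x = 0 := h0
      subst hx
      simp only [zero_smul] at hz
      obtain ⟨b', hb'⟩ := (hker' b).1 hz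
      exact ⟨b', Subtype.ext (Prod.ext rfl hb'.symm)⟩
    · rintro ⟨b', hb'⟩
      have : (0 : A) = x := congrArg (fun z : E => z.1.1) hb'
      exact this.symm
  have hπ : ∀ x ∈ m ^ k, ∃ e, π e = x := by
    intro x hx
    obtain ⟨b, hb⟩ := hk x hx
    exact ⟨⟨(x, b), (hE _).2 hb⟩, rfl⟩
  obtain ⟨l', σ', hσ'⟩ := hP k E i π hi hex hπ
  -- pass to `m ^ l` with `k ≤ l`
  have hle : m ^ (k + l') ≤ m ^ l' := Ideal.pow_le_pow_right (by omega)
  let σ : ↥(m ^ (k + l')) →ₗ[A] E := σ'.comp (Submodule.inclusion hle)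
  have hσ : ∀ x, (σ x).1.1 = f ^ c * (x : A) := fun x => hσ' _
  have key : ∀ x : ↥(m ^ (k + l')), ∃ b, f ^ c • b = (σ x).1.2 ∧ ρ b = (x : A) • s := by
    intro x
    obtain ⟨b, hb⟩ := hk x (Ideal.pow_le_pow_right (by omega) x.2)
    have h1 : (f ^ c • ((x : A), b) - (σ x).1) ∈ E := by
      apply E.sub_mem _ (σ x).2
      exact E.smul_mem _ ((hE _).2 hb)
    have h2 : π ⟨_, h1⟩ = 0 := by
      change f ^ c * (x : A) - (σ x).1.1 = 0
      rw [hσ, sub_self]
    obtain ⟨b', hb'⟩ := (hex _).1 h2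
    have h3 : f ^ (n + c) • b' = f ^ c • b - (σ x).1.2 := congrArg (fun z : E => z.1.2) hb'
    refine ⟨b - f ^ n • b', ?_, ?_⟩
    · rw [smul_sub, smul_smul, ← pow_add, add_comm c n, h3]
      abel
    · rw [map_sub, hker, sub_zero]
      exact hcomp b x hb
  choose g hg hg' using key
  let h : ↥(m ^ (k + l')) →ₗ[A] B :=
    { toFun := g
      map_add' := fun x y => by
        rw [← sub_eq_zero]
        apply hfn c
        rw [smul_sub, smul_add, hg, hg, hg, map_add]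
        simp
      map_smul' := fun a x => by
        rw [← sub_eq_zero]
        apply hfn c
        rw [smul_sub, hg, RingHom.id_apply, smul_comm, hg, map_smul]
        simp }
  obtain ⟨b, hb⟩ := hB.exists_smul _ h
  refine ⟨b, ?_⟩
  rw [← sub_eq_zero]
  apply htf _ (k + l')
  intro x hx
  rw [smul_sub, ← map_smul, ← hb ⟨x, hx⟩, sub_eq_zero]
  exact hg' ⟨x, hx⟩

/-- If `f ^ c` kills `H^1_m(M)`, `M ⊆ B` with `B / M` `m`-power torsion and `B` `m`-torsion free,
then `f ^ c • B ⊆ M`. -/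
lemma smul_mem_of_H1Cond {B : Type u} [AddCommGroup B] [Module A B] (M : Submodule A B) {c : ℕ}
    (h : H1Cond m f c M) (hB : ∀ (k : ℕ) (y : B), (∀ x ∈ m ^ k, x • y = 0) → y = 0)
    (b : B) (hb : ∃ k : ℕ, ∀ x ∈ m ^ k, x • b ∈ M) : f ^ c • b ∈ M := by
  obtain ⟨k, hk⟩ := hb
  let g : ↥(m ^ k) →ₗ[A] M := LinearMap.codRestrict M
    ((LinearMap.toSpanSingleton A B b).comp (m ^ k).subtype) (fun x => hk x x.2)
  obtain ⟨l, hl, y, hy⟩ := h k g
  have : f ^ c • b = y := by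
    rw [← sub_eq_zero]
    apply hB l
    intro x hx
    have h1 : f ^ c • (x • b) = x • (y : B) := congrArg Subtype.val (hy ⟨x, hx⟩)
    rw [smul_sub, smul_comm, h1, sub_self]
  rw [this]
  exact y.2

end Closed

end Groth.Agent.Pi1C.MLift
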