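import Groth.Agent.Pi1C.MLift
import Mathlib.Algebra.Module.FinitePresentation
import Mathlib.Algebra.Module.Projective
import Mathlib.RingTheory.Localization.Away.Basic
import Mathlib.Algebra.Module.LocalizedModule.Submodule
import Mathlib.RingTheory.Finiteness.Ideal
import Mathlib.RingTheory.TensorProduct.IsBaseChangePi

/-!
From `H^1_m(A)`, `H^2_m(A)` killed by powers of `f` to the same for modules which are finite
projective after inverting `f`.
-/

set_option autoImplicit false

universe u

namespace Groth.Agent.Pi1C.MLift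

variable {A : Type u} [CommRing A] [IsNoetherianRing A] {m : Ideal A} {f : A}

omit [IsNoetherianRing A] in
lemma pow_smul_eq_zero {M : Type*} [AddCommGroup M] [Module A M]
    (htf : ∀ x : M, f • x = 0 → x = 0) (n : ℕ) (x : M) (h : f ^ n • x = 0) : x = 0 := by
  induction n with
  | zero => simpa using h
  | succ n ih => rw [pow_succ', mul_smul] at h; exact ih (htf _ h)

/-- A finite `f`-torsion free module `M` with `M_f` projective admits `M → A ^ b → M` with
composite a power of `f`. -/
theorem exists_retract (M : Type u) [AddCommGroup M] [Module A M] [Module.Finite A M]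
    (htf : ∀ x : M, f • x = 0 → x = 0)
    (Af : Type u) [CommRing Af] [Algebra A Af] [IsLocalization.Away f Af]
    (Mf : Type u) [AddCommGroup Mf] [Module A Mf] [Module Af Mf] [IsScalarTower A Af Mf]
    (φ : M →ₗ[A] Mf) [IsLocalizedModule (Submonoid.powers f) φ] [Module.Projective Af Mf] :
    ∃ (b n : ℕ) (α : M →ₗ[A] (Fin b → A)) (β : (Fin b → A) →ₗ[A] M),
      ∀ x, β (α x) = f ^ n • x := by
  have hφ : Function.Injective φ := by
    rw [injective_iff_map_eq_zero]
    intro x hx
    obtain ⟨⟨_, n, rfl⟩, hn⟩ := (IsLocalizedModule.eq_zero_iff (Submonoid.powers f) φ).1 hx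
    exact pow_smul_eq_zero htf n x hn
  obtain ⟨b, β, hβ⟩ := Module.Finite.exists_fin' A M
  let ι : (Fin b → A) →ₗ[A] (Fin b → Af) :=
    LinearMap.pi fun i => (Algebra.linearMap A Af).comp (LinearMap.proj i)
  have hι : IsLocalizedModule (Submonoid.powers f) ι := inferInstance
  let βf : (Fin b → Af) →ₗ[Af] Mf :=
    IsLocalizedModule.mapExtendScalars (Submonoid.powers f) ι φ Af β
  have hβf : Function.Surjective βf :=
    IsLocalizedModule.map_surjective (Submonoid.powers f) ι φ β hβ
  obtain ⟨s, hs⟩ := Module.projective_lifting_property βf LinearMap.id hβf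
  have : Module.FinitePresentation A M := Module.finitePresentation_of_finite A M
  obtain ⟨α, ⟨_, n, rfl⟩, hα⟩ :=
    Module.FinitePresentation.exists_lift_of_isLocalizedModule (Submonoid.powers f) ι
      ((s.restrictScalars A).comp φ)
  refine ⟨b, n, α, β, fun x => ?_⟩
  apply hφ
  have h1 : φ (β (α x)) = βf (ι (α x)) :=
    (IsLocalizedModule.map_apply (Submonoid.powers f) ι φ β (α x)).symm
  have h2 : ι (α x) = f ^ n • s (φ x) := congr($hα x)
  have h3 : βf (s (φ x)) = φ x := congr($hs (φ x))
  rw [h1, h2, ← algebraMap_smul Af (f ^ n) (s (φ x)), map_smul, h3, algebraMap_smul, map_smul]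

theorem exists_H1Cond {c : ℕ} (h1 : H1Cond m f c A)
    (M : Type u) [AddCommGroup M] [Module A M] [Module.Finite A M]
    (htf : ∀ x : M, f • x = 0 → x = 0)
    (Af : Type u) [CommRing Af] [Algebra A Af] [IsLocalization.Away f Af]
    (Mf : Type u) [AddCommGroup Mf] [Module A Mf] [Module Af Mf] [IsScalarTower A Af Mf]
    (φ : M →ₗ[A] Mf) [IsLocalizedModule (Submonoid.powers f) φ] [Module.Projective Af Mf] :
    ∃ c', H1Cond m f c' M := by
  obtain ⟨b, n, α, β, hβα⟩ := exists_retract M htf Af Mf φ
  exact ⟨_, (h1.pi b).of_comp α β hβα⟩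

theorem exists_H2Cond {c : ℕ} (h2 : H2Cond m f c A)
    (M : Type u) [AddCommGroup M] [Module A M] [Module.Finite A M]
    (htf : ∀ x : M, f • x = 0 → x = 0)
    (Af : Type u) [CommRing Af] [Algebra A Af] [IsLocalization.Away f Af]
    (Mf : Type u) [AddCommGroup Mf] [Module A Mf] [Module Af Mf] [IsScalarTower A Af Mf]
    (φ : M →ₗ[A] Mf) [IsLocalizedModule (Submonoid.powers f) φ] [Module.Projective Af Mf] :
    ∃ c', H2Cond m f c' M := by
  obtain ⟨b, n, α, β, hβα⟩ := exists_retract M htf Af Mf φ
  exact ⟨_, (h2.pi b).of_comp α β hβα⟩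

/-- A module `B` of sections (no `m`-torsion), `f`-torsion free, with `B_f` projective over `A_f`,
and containing a finite submodule `M` with `B / M` `m`-power torsion, is finite. -/
theorem finite_of_H1Cond {c : ℕ} (h1 : H1Cond m f c A) (hfm : f ∈ m)
    (B : Type u) [AddCommGroup B] [Module A B] (htf : ∀ x : B, f • x = 0 → x = 0)
    (hB : ∀ (k : ℕ) (y : B), (∀ x ∈ m ^ k, x • y = 0) → y = 0)
    (Af : Type u) [CommRing Af] [Algebra A Af] [IsLocalization.Away f Af]
    (Bf : Type u) [AddCommGroup Bf] [Module A Bf] [Module Af Bf] [IsScalarTower A Af Bf]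
    (φ : B →ₗ[A] Bf) [IsLocalizedModule (Submonoid.powers f) φ] [Module.Projective Af Bf]
    (M : Submodule A B) (hMfg : M.FG) (hM : ∀ b : B, ∃ k : ℕ, ∀ x ∈ m ^ k, x • b ∈ M) :
    Module.Finite A B := by
  have : Module.Finite A M := Module.Finite.iff_fg.mpr hMfg
  have hloc : IsLocalizedModule (Submonoid.powers f) (φ.comp M.subtype) := by
    constructor
    · exact IsLocalizedModule.map_units φ
    · intro y
      obtain ⟨⟨b, ⟨_, n, rfl⟩⟩, hb⟩ := IsLocalizedModule.surj (Submonoid.powers f) φ y
      obtain ⟨k, hk⟩ := hM b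
      refine ⟨⟨⟨f ^ k • b, hk _ (Ideal.pow_mem_pow hfm k)⟩, ⟨_, k + n, rfl⟩⟩, ?_⟩
      have hb' : f ^ n • y = φ b := hb
      change f ^ (k + n) • y = φ (f ^ k • b)
      rw [map_smul, ← hb', smul_smul, pow_add]
    · intro x y hxy
      obtain ⟨⟨_, n, rfl⟩, hn⟩ := IsLocalizedModule.exists_of_eq (S := Submonoid.powers f)
        (f := φ) (x₁ := (x : B)) (x₂ := (y : B)) hxy
      exact ⟨⟨_, n, rfl⟩, Subtype.ext hn⟩
  obtain ⟨c', hc'⟩ := exists_H1Cond h1 M (fun x hx => Subtype.ext (htf x (congrArg Subtype.val hx)))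
    Af Bf (φ.comp M.subtype)
  let g : B →ₗ[A] M := LinearMap.codRestrict M (f ^ c' • LinearMap.id)
    (fun b => smul_mem_of_H1Cond M hc' hB b (hM b))
  have hg : Function.Injective g := by
    rw [injective_iff_map_eq_zero]
    intro x hx
    exact pow_smul_eq_zero htf c' x (congrArg Subtype.val hx)
  exact Module.Finite.of_injective g hg

end Groth.Agent.Pi1C.MLift
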