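import Groth.Agent.Pi1C.MLift
import Mathlib.RingTheory.Ideal.Maps
import Mathlib.Algebra.Algebra.Tower

/-!
Transfer of the conditions `H1Cond`, `H2Cond` to a quotient ring by an ideal killed by a power
of `f`.
-/

set_option autoImplicit false

universe u

namespace Groth.Agent.Pi1C.MLift

variable {A : Type u} [CommRing A] {m : Ideal A} {f : A}
variable {A' : Type u} [CommRing A'] [Algebra A A']

/-- The section `A' → A` of `f ^ t`. -/
theorem exists_linear_section {t : ℕ} (hs : Function.Surjective (algebraMap A A'))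
    (hk : ∀ a : A, algebraMap A A' a = 0 → f ^ t * a = 0) :
    ∃ α : A' →ₗ[A] A, ∀ a : A, α (algebraMap A A' a) = f ^ t * a := by
  choose g hg using hs
  have key : ∀ (a : A) (x : A'), algebraMap A A' a = x → f ^ t * g x = f ^ t * a := by
    intro a x h
    rw [← sub_eq_zero, ← mul_sub]
    apply hk
    rw [map_sub, hg, h, sub_self]
  refine ⟨{ toFun := fun x => f ^ t * g x, map_add' := ?_, map_smul' := ?_ }, ?_⟩
  · intro x y
    rw [key (g x + g y) (x + y) (by rw [map_add, hg, hg]), mul_add]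
  · intro a x
    rw [key (a * g x) (a • x) (by rw [map_mul, hg, Algebra.smul_def]), RingHom.id_apply,
      smul_eq_mul]
    ring
  · intro a
    exact key a _ rfl

lemma exists_of_mem_map (hs : Function.Surjective (algebraMap A A')) (k : ℕ) (x : A')
    (hx : x ∈ (m.map (algebraMap A A')) ^ k) : ∃ a ∈ m ^ k, algebraMap A A' a = x := by
  rw [← Ideal.map_pow] at hx
  obtain ⟨a, ha, rfl⟩ := (Ideal.mem_map_iff_of_surjective _ hs).1 hx
  exact ⟨a, ha, rfl⟩

lemma map_mem (k : ℕ) (a : A) (ha : a ∈ m ^ k) :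
    algebraMap A A' a ∈ (m.map (algebraMap A A')) ^ k := by
  rw [← Ideal.map_pow]
  exact Ideal.mem_map_of_mem _ ha

theorem H1Cond.quot {c t : ℕ} (h : H1Cond m f c A)
    (hs : Function.Surjective (algebraMap A A'))
    (hk : ∀ a : A, algebraMap A A' a = 0 → f ^ t * a = 0) :
    H1Cond (m.map (algebraMap A A')) (algebraMap A A' f) (c + t) A' := by
  obtain ⟨α, hα⟩ := exists_linear_section hs hk
  intro k g
  let r : ↥(m ^ k) →ₗ[A] A' :=
    { toFun := fun x => g ⟨algebraMap A A' (x : A), map_mem (m := m) (A' := A') k (x : A) x.2⟩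
      map_add' := fun x y => by
        rw [← map_add]
        congr 1
        apply Subtype.ext
        exact map_add (algebraMap A A') (x : A) y
      map_smul' := fun a x => by
        rw [RingHom.id_apply, Algebra.smul_def, ← smul_eq_mul, ← map_smul]
        congr 1
        apply Subtype.ext
        exact map_mul (algebraMap A A') a (x : A) }
  obtain ⟨l, hl, y, hy⟩ := h k (α.comp r)
  refine ⟨l, hl, algebraMap A A' y, ?_⟩
  rintro ⟨x, hx⟩
  obtain ⟨a, ha, rfl⟩ := exists_of_mem_map hs l x hx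
  have h1 := congrArg (algebraMap A A') (hy ⟨a, ha⟩)
  obtain ⟨w, hw⟩ := hs (g ⟨algebraMap A A' a, Ideal.pow_le_pow_right hl hx⟩)
  have h2 : f ^ c * α (g ⟨algebraMap A A' a, Ideal.pow_le_pow_right hl hx⟩) = a * y :=
    hy ⟨a, ha⟩
  rw [← hw, hα] at h2
  have h3 := congrArg (algebraMap A A') h2
  simp only [map_mul, map_pow] at h3
  rw [← hw]
  simp only [smul_eq_mul, pow_add, ← h3]
  ring

theorem H2Cond.quot {c t : ℕ} (h : H2Cond m f c A)
    (hs : Function.Surjective (algebraMap A A'))
    (hk : ∀ a : A, algebraMap A A' a = 0 → f ^ t * a = 0) :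
    H2Cond (m.map (algebraMap A A')) (algebraMap A A' f) (c + t + t) A' := by
  obtain ⟨α, hα⟩ := exists_linear_section hs hk
  have h' : H2Cond m f (c + t) A' := h.of_comp α (Algebra.linearMap A A') (by
    intro x
    obtain ⟨a, rfl⟩ := hs x
    rw [hα, Algebra.linearMap_apply, map_mul, Algebra.smul_def])
  intro k E _ _ i π hi hex hπ
  let _ : Module A E := Module.compHom E (algebraMap A A')
  have _ : IsScalarTower A A' E := IsScalarTower.of_algebraMap_smul fun _ _ => rfl
  let E₂ : Submodule A (E × A) := LinearMap.ker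
    (((π.restrictScalars A).comp (LinearMap.fst A E A)) -
      ((Algebra.linearMap A A').comp (LinearMap.snd A E A)))
  have hE₂ : ∀ z : E × A, z ∈ E₂ ↔ π z.1 = algebraMap A A' z.2 := by
    intro z
    simp only [E₂, LinearMap.mem_ker, LinearMap.sub_apply, sub_eq_zero]
    rfl
  let i₂ : A' →ₗ[A] E₂ := LinearMap.codRestrict E₂
    ((LinearMap.inl A E A).comp (i.restrictScalars A)) (fun x => by
      rw [hE₂]
      change π (i x) = algebraMap A A' 0
      rw [map_zero]
      exact (hex _).2 ⟨x, rfl⟩)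
  let π₂ : E₂ →ₗ[A] A := (LinearMap.snd A E A).comp E₂.subtype
  have hi₂ : Function.Injective i₂ := by
    intro x y hxy
    exact hi (congrArg (fun z : E₂ => z.1.1) hxy)
  have hex₂ : Function.Exact i₂ π₂ := by
    rintro ⟨⟨e, a⟩, hz⟩
    rw [hE₂] at hz
    constructor
    · intro h0
      have ha : a = 0 := h0
      subst ha
      rw [map_zero] at hz
      obtain ⟨x, rfl⟩ := (hex e).1 hz
      exact ⟨x, rfl⟩
    · rintro ⟨x, hx⟩
      exact (congrArg (fun z : E₂ => z.1.2) hx).symm
  obtain ⟨l, σ, hσ⟩ := h' k E₂ i₂ π₂ hi₂ hex₂ (fun a ha => by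
    obtain ⟨e, he⟩ := hπ _ (map_mem k a ha)
    exact ⟨⟨(e, a), (hE₂ _).2 he⟩, rfl⟩)
  -- `τ : m ^ l → E`
  let τ : ↥(m ^ l) →ₗ[A] E := (LinearMap.fst A E A).comp (E₂.subtype.comp σ)
  have hτ : ∀ x : ↥(m ^ l), π (τ x) = algebraMap A A' (f ^ (c + t) * x) := by
    intro x
    have h1 := (hE₂ _).1 (σ x).2
    have h2 : (σ x).1.2 = f ^ (c + t) * x := hσ x
    rw [← h2]
    exact h1
  -- well-definedness
  have hwd : ∀ x y : ↥(m ^ l), algebraMap A A' (x : A) = algebraMap A A' (y : A) →
      f ^ t • τ x = f ^ t • τ y := by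
    intro x y hxy
    rw [← sub_eq_zero, ← smul_sub, ← map_sub, ← map_smul]
    have : f ^ t • (x - y) = 0 := by
      apply Subtype.ext
      have h1 := hk ((x : A) - y) (by rw [map_sub, hxy, sub_self])
      simpa using h1
    rw [this, map_zero]
  choose g hg hg' using fun x : ↥((m.map (algebraMap A A')) ^ l) =>
    exists_of_mem_map (m := m) hs l x.1 x.2
  refine ⟨l, { toFun := fun x => f ^ t • τ ⟨g x, hg x⟩, map_add' := ?_, map_smul' := ?_ }, ?_⟩
  · intro x y
    rw [← smul_add, ← map_add]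
    apply hwd
    simp [hg']
  · intro a x
    obtain ⟨b, rfl⟩ := hs a
    have h1 : algebraMap A A' b • f ^ t • τ ⟨g x, hg x⟩ = f ^ t • τ (b • ⟨g x, hg x⟩) := by
      rw [map_smul, algebraMap_smul, smul_comm]
    rw [RingHom.id_apply, h1]
    apply hwd
    change algebraMap A A' (g _) = algebraMap A A' (b * g x)
    rw [map_mul, hg', hg']
    rfl
  · intro x
    change π (f ^ t • τ ⟨g x, hg x⟩) = _
    rw [← algebraMap_smul A' (f ^ t), map_smul, hτ]
    simp only [map_mul, hg', map_pow, smul_eq_mul]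
    ring

end Groth.Agent.Pi1C.MLift
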