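import Groth.Agent.Pi1C.MLift
import Groth.Agent.Localalg.LCBasic
import Mathlib.Algebra.Category.ModuleCat.Projective
import Mathlib.Algebra.Homology.DerivedCategory.Ext.EnoughProjectives

/-!
`f ^ c` kills `LocCoh.H m 1 M` (resp. `LocCoh.H m 2 M`) implies the elementary conditions
`H1Cond m f c M` (resp. `H2Cond m f c M`).
-/

set_option autoImplicit false

universe u

open CategoryTheory Abelian

namespace Groth.Agent.Pi1C.MLift

open Groth.Agent.Localalg.LCBasic

variable {A : Type u} [CommRing A] (m : Ideal A)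

/-- `0 → m ^ k → A → A / m ^ k → 0`. -/
noncomputable abbrev powSC (k : ℕ) : ShortComplex (ModuleCat.{u} A) :=
  ShortComplex.mk (ModuleCat.ofHom (m ^ k).subtype)
    (ModuleCat.ofHom (m ^ k).mkQ : ModuleCat.of A A ⟶ stage m k) (by
      ext x
      exact (Submodule.Quotient.mk_eq_zero _).2 x.2)

lemma powSC_shortExact (k : ℕ) : (powSC m k).ShortExact :=
  { exact := (ShortComplex.ShortExact.moduleCat_exact_iff_function_exact _).2 (by
      intro x
      constructor
      · intro hx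
        exact ⟨⟨x, (Submodule.Quotient.mk_eq_zero _).1 hx⟩, rfl⟩
      · rintro ⟨y, rfl⟩
        exact (Submodule.Quotient.mk_eq_zero _).2 y.2)
    mono_f := (ModuleCat.mono_iff_injective _).2 Subtype.val_injective
    epi_g := (ModuleCat.epi_iff_surjective _).2 (Submodule.mkQ_surjective _) }

/-- The inclusion `m ^ l → m ^ k`. -/
noncomputable abbrev powIncl {k l : ℕ} (h : k ≤ l) :
    ModuleCat.of A ↥(m ^ l) ⟶ ModuleCat.of A ↥(m ^ k) :=
  ModuleCat.ofHom (Submodule.inclusion (Ideal.pow_le_pow_right h))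

/-- Transition map of the short exact sequences. -/
noncomputable def powSCMap {k l : ℕ} (h : k ≤ l) : powSC m l ⟶ powSC m k where
  τ₁ := powIncl m h
  τ₂ := 𝟙 _
  τ₃ := stageMap m h

variable {m}
variable {M : Type u} [AddCommGroup M] [Module A M]

lemma toH_extClass_eq_zero {k n : ℕ} (i : ℕ) (x : Ext.{u} (ModuleCat.of A ↥(m ^ k)) (ModuleCat.of A M) i)
    (hn : 1 + i = n)
    (hx : toH m M k n ((powSC_shortExact m k).extClass.comp x hn) = 0) :
    ∃ (l : ℕ) (h : k ≤ l),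
      (powSC_shortExact m l).extClass.comp ((Ext.mk₀ (powIncl m h)).comp x (zero_add i)) hn = 0 := by
  obtain ⟨l, h, hl⟩ := (toH_eq_zero_iff m k n _).1 hx
  refine ⟨l, h, ?_⟩
  have h1 : (powSC_shortExact m l).extClass.comp (Ext.mk₀ (powIncl m h)) (add_zero 1) =
      (Ext.mk₀ (stageMap m h)).comp (powSC_shortExact m k).extClass (zero_add 1) :=
    ShortComplex.ShortExact.extClass_naturality (powSC_shortExact m l)
      (powSC_shortExact m k) (powSCMap m h)
  rw [← Ext.comp_assoc_of_second_deg_zero, h1, Ext.comp_assoc]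
  · exact hl
  · omega

theorem H1Cond_of_locCoh {f : A} {c : ℕ} (h : ∀ x : LocCoh.H m 1 M, f ^ c • x = 0) :
    H1Cond m f c M := by
  intro k g
  let x : Ext.{u} (ModuleCat.of A ↥(m ^ k)) (ModuleCat.of A M) 0 :=
    f ^ c • Ext.mk₀ (ModuleCat.ofHom g)
  obtain ⟨l, hl, h1⟩ := toH_extClass_eq_zero (n := 1) 0 x rfl (by
    simp only [x, Ext.comp_smul, map_smul]
    exact h _)
  obtain ⟨x₂, hx₂⟩ := Ext.contravariant_sequence_exact₁ (powSC_shortExact m l) _ _ _ h1
  obtain ⟨y, rfl⟩ := (Ext.mk₀_bijective _ _).2 x₂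
  refine ⟨l, hl, y 1, fun z => ?_⟩
  have h2 : Ext.mk₀ ((powSC m l).f ≫ y) = Ext.mk₀ (f ^ c • (powIncl m hl ≫ ModuleCat.ofHom g)) := by
    rw [← Ext.mk₀_comp_mk₀, hx₂]
    simp only [x, Ext.comp_smul, Ext.mk₀_comp_mk₀]
    rw [Ext.mk₀_smul]
  have h3 := (Ext.mk₀_bijective _ _).1 h2
  have h4 : y ((z : A)) = f ^ c • g ⟨z, _⟩ := congr($h3 z)
  rw [← h4]
  have h5 : y ((z : A)) = y.hom ((z : A) • (1 : A)) := by rw [smul_eq_mul, mul_one]
  rw [h5, map_smul]

theorem H2Cond_of_locCoh {f : A} {c : ℕ} (h : ∀ x : LocCoh.H m 2 M, f ^ c • x = 0) :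
    H2Cond m f c M := by
  intro k E _ _ i π hi hex hπ
  let E' : Submodule A E := Submodule.comap π (m ^ k : Submodule A A)
  let i' : M →ₗ[A] E' := LinearMap.codRestrict E' i (fun x => by
    have : π (i x) = 0 := (hex _).2 ⟨x, rfl⟩
    change π (i x) ∈ m ^ k
    rw [this]; exact zero_mem _)
  let π' : E' →ₗ[A] ↥(m ^ k) := LinearMap.codRestrict (m ^ k) (π.comp E'.subtype) (fun e => e.2)
  have hi' : Function.Injective i' := fun x y hxy => hi (congrArg Subtype.val hxy)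
  have hπ' : Function.Surjective π' := by
    rintro ⟨x, hx⟩
    obtain ⟨e, rfl⟩ := hπ x hx
    exact ⟨⟨e, hx⟩, rfl⟩
  have hex' : Function.Exact i' π' := by
    rintro ⟨e, he⟩
    constructor
    · intro h0
      obtain ⟨x, rfl⟩ := (hex e).1 (congrArg Subtype.val h0)
      exact ⟨x, rfl⟩
    · rintro ⟨x, hx⟩
      apply Subtype.ext
      exact (hex e).2 ⟨x, congrArg Subtype.val hx⟩
  have hS := sc_shortExact i' π' hi' hπ' hex'
  obtain ⟨l, hl, h1⟩ := toH_extClass_eq_zero (m := m) (k := k) (n := 2) 1 (f ^ c • hS.extClass) rfl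
    (by
      simp only [Ext.comp_smul, map_smul]
      exact h _)
  obtain ⟨x₂, hx₂⟩ := Ext.contravariant_sequence_exact₁ (powSC_shortExact m l) _ _ _ h1
  have hproj : Projective (ModuleCat.of A A) := inferInstance
  rw [Ext.eq_zero_of_projective (P := ModuleCat.of A A) x₂, Ext.comp_zero, Ext.comp_smul,
    ← Ext.smul_comp, ← Ext.mk₀_smul] at hx₂
  obtain ⟨x₃, hx₃⟩ := Ext.covariant_sequence_exact₃ (ModuleCat.of A ↥(m ^ l)) hS
    (Ext.mk₀ (f ^ c • powIncl m hl)) rfl hx₂.symm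
  obtain ⟨σ, rfl⟩ := (Ext.mk₀_bijective _ _).2 x₃
  rw [Ext.mk₀_comp_mk₀] at hx₃
  have h3 := (Ext.mk₀_bijective _ _).1 hx₃
  refine ⟨l, E'.subtype.comp σ.hom, fun x => ?_⟩
  have h4 : π' (σ.hom x) = f ^ c • (Submodule.inclusion (Ideal.pow_le_pow_right hl) x) :=
    congr($h3 x)
  exact congrArg Subtype.val h4

end Groth.Agent.Pi1C.MLift
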