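import Mathlib.RingTheory.Artinian.Module
import Mathlib.RingTheory.Finiteness.Basic
import Mathlib.RingTheory.Noetherian.Basic
import Mathlib.Tactic.Abel

set_option autoImplicit false

/-!
# Melkersson's criterion for Artinian modules

If every element of `X` is killed by a power of `x` and `X[x]` is Artinian, then `X` is Artinian.
-/

namespace Groth.Agent.Pi1C.Melkersson

variable {A : Type*} [CommRing A] {X : Type*} [AddCommGroup X] [Module A X]

/-- `x^n • (Y ∩ X[x^(n+1)])` as a submodule of `X[x]`. -/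
def W (x : A) (Y : Submodule A X) (n : ℕ) : Submodule A (LinearMap.ker (LinearMap.lsmul A X x)) :=
  ((Y ⊓ LinearMap.ker (LinearMap.lsmul A X (x ^ (n + 1)))).map (LinearMap.lsmul A X (x ^ n))).comap
    (LinearMap.ker (LinearMap.lsmul A X x)).subtype

theorem mem_W {x : A} {Y : Submodule A X} {n : ℕ} {z : LinearMap.ker (LinearMap.lsmul A X x)} :
    z ∈ W x Y n ↔ ∃ y ∈ Y, x ^ (n + 1) • y = 0 ∧ x ^ n • y = z.1 := by
  constructor
  · rintro ⟨y, ⟨hy, hy'⟩, h⟩
    exact ⟨y, hy, hy', h⟩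
  · rintro ⟨y, hy, hy', h⟩
    exact ⟨y, ⟨hy, hy'⟩, h⟩

theorem W_mono {x : A} {Y Y' : Submodule A X} (h : Y ≤ Y') (n : ℕ) : W x Y n ≤ W x Y' n := by
  intro z hz
  obtain ⟨y, hy, h1, h2⟩ := mem_W.1 hz
  exact mem_W.2 ⟨y, h hy, h1, h2⟩

theorem W_anti {x : A} {Y : Submodule A X} (n : ℕ) : W x Y (n + 1) ≤ W x Y n := by
  intro z hz
  obtain ⟨y, hy, h1, h2⟩ := mem_W.1 hz
  refine mem_W.2 ⟨x • y, Y.smul_mem _ hy, ?_, ?_⟩
  · rw [smul_smul, ← pow_succ]; exact h1
  · rw [smul_smul, ← pow_succ]; exact h2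

/-- Melkersson's criterion. -/
theorem isArtinian_of_torsion (x : A) (htors : ∀ m : X, ∃ n : ℕ, x ^ n • m = 0)
    (h : IsArtinian A (LinearMap.ker (LinearMap.lsmul A X x))) : IsArtinian A X := by
  rw [← monotone_stabilizes_iff_artinian]
  intro Y
  have hY : ∀ {k l : ℕ}, k ≤ l → (OrderDual.ofDual (Y l) : Submodule A X) ≤ OrderDual.ofDual (Y k) :=
    fun hkl => Y.monotone hkl
  let w : ℕ → ℕ → Submodule A (LinearMap.ker (LinearMap.lsmul A X x)) := fun k n =>
    W x (OrderDual.ofDual (Y k)) n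
  have wk : ∀ n {k l : ℕ}, k ≤ l → w l n ≤ w k n := fun n k l hkl => W_mono (hY hkl) n
  have wn : ∀ k {n m : ℕ}, n ≤ m → w k m ≤ w k n := fun k n m hnm => by
    obtain ⟨j, rfl⟩ := Nat.exists_eq_add_of_le hnm
    clear hnm
    induction j with
    | zero => exact le_rfl
    | succ j ih => exact (W_anti (n + j)).trans ih
  have stab := monotone_stabilizes_iff_artinian.mpr h
  have hk : ∀ n, ∃ k, ∀ l, k ≤ l → w l n = w k n := by
    intro n
    obtain ⟨k, hk⟩ := stab ⟨fun k => OrderDual.toDual (w k n), fun k l hkl => wk n hkl⟩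
    exact ⟨k, fun l hl => (hk l hl).symm⟩
  choose k hk using hk
  have hinf : ∀ n l, w (k n) n ≤ w l n := by
    intro n l
    rcases le_total (k n) l with hl | hl
    · exact (hk n l hl).ge
    · exact wk n hl
  have hVn : ∀ {n m : ℕ}, n ≤ m → w (k m) m ≤ w (k n) n := fun {n m} hnm =>
    (hinf m (k n)).trans (wn _ hnm)
  obtain ⟨n0, hn0⟩ := stab ⟨fun n => OrderDual.toDual (w (k n) n), fun n m hnm => hVn hnm⟩
  have hn0' : ∀ n, n0 ≤ n → w (k n) n = w (k n0) n0 := fun n hn => (hn0 n hn).symm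
  let k1 := (Finset.range (n0 + 1)).sup k
  have hk1 : ∀ n ≤ n0, k n ≤ k1 := fun n hn =>
    Finset.le_sup (f := k) (Finset.mem_range.2 (Nat.lt_succ_of_le hn))
  have hall : ∀ l, k1 ≤ l → ∀ n, w l n = w (k n) n := by
    intro l hl n
    rcases le_total n n0 with hn | hn
    · exact hk n l ((hk1 n hn).trans hl)
    · refine le_antisymm ?_ (hinf n l)
      rw [hn0' n hn]
      exact (wn l hn).trans (hk n0 l ((hk1 n0 le_rfl).trans hl)).le
  refine ⟨k1, fun l hl => ?_⟩
  refine (show (OrderDual.ofDual (Y k1) : Submodule A X) = OrderDual.ofDual (Y l) from ?_)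
  refine le_antisymm ?_ (hY hl)
  have key : ∀ (n : ℕ) (y : X), y ∈ (OrderDual.ofDual (Y k1) : Submodule A X) → x ^ n • y = 0 →
      y ∈ (OrderDual.ofDual (Y l) : Submodule A X) := by
    intro n
    induction n with
    | zero =>
      intro y _ h0
      rw [pow_zero, one_smul] at h0
      rw [h0]
      exact Submodule.zero_mem _
    | succ n ih =>
      intro y hy h0
      have hz : (⟨x ^ n • y, by
          rw [LinearMap.mem_ker, LinearMap.lsmul_apply, smul_smul, ← pow_succ']; exact h0⟩ :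
          LinearMap.ker (LinearMap.lsmul A X x)) ∈ w k1 n := mem_W.2 ⟨y, hy, h0, rfl⟩
      rw [hall k1 le_rfl n, ← hall l hl n] at hz
      obtain ⟨y', hy', h1, h2⟩ := mem_W.1 hz
      have h3 : y - y' ∈ (OrderDual.ofDual (Y l) : Submodule A X) := by
        refine ih _ (Submodule.sub_mem _ hy (hY hl hy')) ?_
        rw [smul_sub, h2, sub_self]
      have := Submodule.add_mem _ h3 hy'
      rwa [sub_add_cancel] at this
  intro y hy
  obtain ⟨n, hn⟩ := htors y
  exact key n y hy hn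

end Groth.Agent.Pi1C.Melkersson
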