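import Groth.Agent.Etalg.Milnor
import Groth.Agent.S2021
import Mathlib.RingTheory.Smooth.Fiber
import Mathlib.RingTheory.Smooth.Flat
import Mathlib.RingTheory.Finiteness.ModuleFinitePresentation
import Mathlib.RingTheory.Flat.FaithfullyFlat.Algebra
import Mathlib.RingTheory.Kaehler.TensorProduct
import Mathlib.RingTheory.IsTensorProduct

/-!
# Milnor patching of finite etale algebras

`B' = B ×_A A'` with `A' → A` surjective.  If `T` is finite etale over `B`, `S'` finite etale over
`A'`, and `P` is an `A`-algebra which is the base change of both, then `D = T ×_P S'` is finite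
etale over `B'` and its base changes to `B` and `A'` are `T` and `S'`.
-/

set_option autoImplicit false
universe u
open TensorProduct

namespace Groth.Agent.Pi1C.MilnorEt

/-- In a Milnor square `D = T ×_P S'` a `D`-module which vanishes after base change to `T` and to
`S'` is zero. -/
theorem subsingleton_of_baseChange (D T S' P : Type u) [CommRing D] [CommRing T] [CommRing S']
    [CommRing P] [Algebra D T] [Algebra D S'] [Algebra T P] [Algebra S' P] [Algebra D P]
    [IsScalarTower D T P] [IsScalarTower D S' P] (hsq : EtMil.IsFibreSquare D T S' P)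
    (M : Type u) [AddCommGroup M] [Module D M] (hT : Subsingleton (T ⊗[D] M))
    (hS : Subsingleton (S' ⊗[D] M)) : Subsingleton M := by
  have h1 : ∀ k ∈ RingHom.ker (algebraMap D T), ∀ m : M, k • m = 0 := by
    intro k hk m
    rw [RingHom.mem_ker] at hk
    have hkP : algebraMap S' P (algebraMap D S' k) = 0 := by
      rw [← Etalg.Milnor.compat (B := T), hk, map_zero]
    -- the `D`-linear map `S' → D`, `s ↦ (0, k s)`
    have hex : ∀ s : S', ∃ d : D, algebraMap D T d = 0 ∧ algebraMap D S' d = algebraMap D S' k * s := by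
      intro s
      refine Etalg.Milnor.exists_mem hsq 0 _ ?_
      rw [map_zero, map_mul, hkP, zero_mul]
    choose μ hμ1 hμ2 using hex
    let μl : S' →ₗ[D] D :=
      { toFun := μ
        map_add' := fun x y => Etalg.Milnor.ext_of hsq
          (by rw [map_add, hμ1, hμ1, hμ1, add_zero])
          (by rw [map_add, hμ2, hμ2, hμ2, mul_add])
        map_smul' := fun r x => Etalg.Milnor.ext_of hsq
          (by rw [RingHom.id_apply, smul_eq_mul, map_mul, hμ1, hμ1, mul_zero])
          (by rw [RingHom.id_apply, smul_eq_mul, map_mul, hμ2, hμ2, Algebra.smul_def]; ring) }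
    have hk1 : μl 1 = k := Etalg.Milnor.ext_of hsq (by
      change algebraMap D T (μ 1) = _
      rw [hμ1, hk]) (by
      change algebraMap D S' (μ 1) = _
      rw [hμ2, mul_one])
    have h2 : (TensorProduct.lid D M) (μl.rTensor M ((1 : S') ⊗ₜ[D] m)) = k • m := by
      rw [LinearMap.rTensor_tmul, TensorProduct.lid_tmul, hk1]
    rw [← h2, Subsingleton.elim ((1 : S') ⊗ₜ[D] m) 0, map_zero, map_zero]
  refine ⟨fun x y => ?_⟩
  rw [← sub_eq_zero]
  have h3 : (1 : T) ⊗ₜ[D] (x - y) = 0 := Subsingleton.elim _ _
  rw [Etalg.Milnor.one_tmul_eq_zero_iff (Etalg.Milnor.surjective_B hsq)] at h3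
  refine Submodule.smul_induction_on h3 (fun k hk m _ => h1 k hk m) (fun a b ha hb => ?_)
  rw [ha, hb, add_zero]

section main

variable (B' B A' A : Type u) [CommRing B'] [CommRing B] [CommRing A'] [CommRing A]
  [Algebra B' B] [Algebra B' A'] [Algebra B A] [Algebra A' A] [Algebra B' A]
  [IsScalarTower B' B A] [IsScalarTower B' A' A]
  (D T S' P : Type u) [CommRing D] [CommRing T] [CommRing S'] [CommRing P]
  [Algebra D T] [Algebra D S'] [Algebra T P] [Algebra S' P] [Algebra D P]
  [IsScalarTower D T P] [IsScalarTower D S' P]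
  [Algebra B' D] [Algebra B T] [Algebra A' S'] [Algebra A P]
  [Algebra B' T] [Algebra B' S'] [Algebra B P] [Algebra A' P] [Algebra B' P]
  [IsScalarTower B' D T] [IsScalarTower B' D S'] [IsScalarTower B' B T] [IsScalarTower B' A' S']
  [IsScalarTower B A P] [IsScalarTower B T P] [IsScalarTower A' A P] [IsScalarTower A' S' P]
  [Algebra.IsPushout B A T P] [Algebra.IsPushout A' A S' P]

/-- The comparison of the two base changes to `A`. -/
noncomputable def phi : A ⊗[B] T ≃ₗ[A] A ⊗[A'] S' :=
  (Algebra.IsPushout.equiv B A T P).toLinearEquiv ≪≫ₗ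
    (Algebra.IsPushout.equiv A' A S' P).symm.toLinearEquiv

theorem phi_one_tmul_eq_iff (t : T) (s : S') :
    phi B A' A T S' P ((1 : A) ⊗ₜ[B] t) = (1 : A) ⊗ₜ[A'] s ↔
      algebraMap T P t = algebraMap S' P s := by
  have h1 : (Algebra.IsPushout.equiv B A T P) ((1 : A) ⊗ₜ[B] t) = algebraMap T P t := by
    rw [Algebra.IsPushout.equiv_tmul, map_one, one_mul]
  have h2 : (Algebra.IsPushout.equiv A' A S' P) ((1 : A) ⊗ₜ[A'] s) = algebraMap S' P s := by
    rw [Algebra.IsPushout.equiv_tmul, map_one, one_mul]
  change (Algebra.IsPushout.equiv A' A S' P).symm ((Algebra.IsPushout.equiv B A T P)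
    ((1 : A) ⊗ₜ[B] t)) = _ ↔ _
  rw [AlgEquiv.symm_apply_eq, h1, h2]

/-- `D = T ×_P S'` is the glued module. -/
noncomputable def equivGlue (hD : EtMil.IsFibreSquare D T S' P) :
    D ≃ₗ[B'] EtMil.glue B' (phi B A' A T S' P) :=
  LinearEquiv.ofBijective
    (LinearMap.codRestrict _
      ((IsScalarTower.toAlgHom B' D T).toLinearMap.prod (IsScalarTower.toAlgHom B' D S').toLinearMap)
      (fun d => by
        change phi B A' A T S' P ((1 : A) ⊗ₜ[B] (algebraMap D T d)) = (1 : A) ⊗ₜ[A'] (algebraMap D S' d)
        rw [phi_one_tmul_eq_iff]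
        exact Etalg.Milnor.compat d))
    ⟨fun x y h => by
      have h' := congrArg Subtype.val h
      exact Etalg.Milnor.ext_of hD (congrArg Prod.fst h') (congrArg Prod.snd h'),
    fun ⟨⟨t, s⟩, hts⟩ => by
      have h := (phi_one_tmul_eq_iff B A' A T S' P t s).mp hts
      obtain ⟨d, h1, h2⟩ := Etalg.Milnor.exists_mem hD t s h
      exact ⟨d, Subtype.ext (Prod.ext h1 h2)⟩⟩

theorem glueFst_equivGlue (hD : EtMil.IsFibreSquare D T S' P) (d : D) :
    EtMil.glueFst B' (phi B A' A T S' P) (equivGlue B' B A' A D T S' P hD d) =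
      algebraMap D T d := rfl

theorem glueSnd_equivGlue (hD : EtMil.IsFibreSquare D T S' P) (d : D) :
    EtMil.glueSnd B' (phi B A' A T S' P) (equivGlue B' B A' A D T S' P hD d) =
      algebraMap D S' d := rfl

theorem isPushout_left (hsq : EtMil.IsFibreSquare B' B A' A) (hD : EtMil.IsFibreSquare D T S' P) :
    Algebra.IsPushout B' B D T := by
  constructor
  have h1 : IsBaseChange B (EtMil.glueFst B' (phi B A' A T S' P)) := by
    refine IsBaseChange.of_equiv (LinearEquiv.ofBijective _
      (Etalg.Milnor.baseChange_fst_bijective hsq (phi B A' A T S' P))) (fun x => ?_)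
    rw [LinearEquiv.ofBijective_apply, LinearMap.liftBaseChange_tmul, one_smul]
  have h2 := IsBaseChange.comp_equiv (equivGlue B' B A' A D T S' P hD) _ h1
  have h3 : (IsScalarTower.toAlgHom B' D T).toLinearMap =
      EtMil.glueFst B' (phi B A' A T S' P) ∘ₗ (equivGlue B' B A' A D T S' P hD).toLinearMap :=
    LinearMap.ext fun d => (glueFst_equivGlue B' B A' A D T S' P hD d).symm
  rw [h3]
  exact h2

theorem isPushout_right (hsq : EtMil.IsFibreSquare B' B A' A) (hD : EtMil.IsFibreSquare D T S' P) :
    Algebra.IsPushout B' A' D S' := by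
  constructor
  have h1 : IsBaseChange A' (EtMil.glueSnd B' (phi B A' A T S' P)) := by
    refine IsBaseChange.of_equiv (LinearEquiv.ofBijective _
      (Etalg.Milnor.baseChange_snd_bijective hsq (phi B A' A T S' P))) (fun x => ?_)
    rw [LinearEquiv.ofBijective_apply, LinearMap.liftBaseChange_tmul, one_smul]
  have h2 := IsBaseChange.comp_equiv (equivGlue B' B A' A D T S' P hD) _ h1
  have h3 : (IsScalarTower.toAlgHom B' D S').toLinearMap =
      EtMil.glueSnd B' (phi B A' A T S' P) ∘ₗ (equivGlue B' B A' A D T S' P hD).toLinearMap :=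
    LinearMap.ext fun d => (glueSnd_equivGlue B' B A' A D T S' P hD d).symm
  rw [h3]
  exact h2

theorem finite_projective (hsq : EtMil.IsFibreSquare B' B A' A) (hD : EtMil.IsFibreSquare D T S' P)
    [Module.Finite B T] [Module.Projective B T] [Module.Finite A' S'] [Module.Projective A' S'] :
    Module.Finite B' D ∧ Module.Projective B' D := by
  have h := (Groth.Agent.S2021.result B' B A' A hsq T S' (phi B A' A T S' P)).2
    inferInstance inferInstance inferInstance inferInstance
  have := h.1
  have := h.2
  exact ⟨Module.Finite.equiv (equivGlue B' B A' A D T S' P hD).symm,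
    Module.Projective.of_equiv (equivGlue B' B A' A D T S' P hD).symm⟩

theorem formallyUnramified (hsq : EtMil.IsFibreSquare B' B A' A)
    (hD : EtMil.IsFibreSquare D T S' P) [Algebra.FormallyUnramified B T]
    [Algebra.FormallyUnramified A' S'] : Algebra.FormallyUnramified B' D := by
  constructor
  have := isPushout_left B' B A' A D T S' P hsq hD
  have := isPushout_right B' B A' A D T S' P hsq hD
  refine subsingleton_of_baseChange D T S' P hD _ ?_ ?_
  · exact (KaehlerDifferential.tensorKaehlerEquiv B' B D T).toEquiv.subsingleton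
  · exact (KaehlerDifferential.tensorKaehlerEquiv B' A' D S').toEquiv.subsingleton

theorem etale (hsq : EtMil.IsFibreSquare B' B A' A)
    (hD : EtMil.IsFibreSquare D T S' P) [Algebra.Etale B T] [Module.Finite B T]
    [Algebra.Etale A' S'] [Module.Finite A' S'] :
    Algebra.Etale B' D ∧ Module.Finite B' D := by
  have : Module.Flat B T := inferInstance
  have : Module.Flat A' S' := inferInstance
  have : Module.FinitePresentation B T := .of_finite_of_finitePresentation _ _
  have : Module.FinitePresentation A' S' := .of_finite_of_finitePresentation _ _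
  have : Module.Projective B T := Module.Flat.projective_of_finitePresentation
  have : Module.Projective A' S' := Module.Flat.projective_of_finitePresentation
  have h := finite_projective B' B A' A D T S' P hsq hD
  have := h.1
  have := h.2
  have := formallyUnramified B' B A' A D T S' P hsq hD
  have : Module.FinitePresentation B' D := Module.finitePresentation_of_projective _ _
  have : Algebra.FinitePresentation B' D := inferInstance
  exact ⟨Algebra.Etale.of_formallyUnramified_of_flat, inferInstance⟩

end main

end Groth.Agent.Pi1C.MilnorEt
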