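import Groth.Agent.Pi1C.MilnorEt
import Mathlib.Algebra.Category.Ring.Constructions
import Mathlib.RingTheory.RingHom.Etale
import Mathlib.RingTheory.RingHom.Finite

/-!
# Milnor patching of finite etale algebras, in `CommRingCat`
-/

set_option autoImplicit false
universe u
open CategoryTheory

namespace Groth.Agent.Pi1C.MilnorEt

/-- A commutative square of rings `B' → B → A`, `B' → A' → A` is a Milnor square: `A' → A` is
surjective and `B'` is the fibre product. -/
structure IsMilnor {B' B A' A : CommRingCat.{u}} (p : B' ⟶ B) (q : B' ⟶ A') (r : B ⟶ A)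
    (s : A' ⟶ A) : Prop where
  w : p ≫ r = q ≫ s
  surj : Function.Surjective s.hom
  lift : ∀ (b : B) (a : A'), r.hom b = s.hom a → ∃ x : B', p.hom x = b ∧ q.hom x = a
  ext : ∀ x y : B', p.hom x = p.hom y → q.hom x = q.hom y → x = y

theorem etale_of_isMilnor {B' B A' A D T S P : CommRingCat.{u}} {p : B' ⟶ B} {q : B' ⟶ A'}
    {r : B ⟶ A} {s : A' ⟶ A} (h : IsMilnor p q r s) {p₂ : D ⟶ T} {q₂ : D ⟶ S} {r₂ : T ⟶ P}
    {s₂ : S ⟶ P} (h₂ : IsMilnor p₂ q₂ r₂ s₂) {d : B' ⟶ D} {t : B ⟶ T} {c : A' ⟶ S} {e : A ⟶ P}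
    (hp : p ≫ t = d ≫ p₂) (hq : q ≫ c = d ≫ q₂) (hr : IsPushout r t e r₂)
    (hs : IsPushout s c e s₂) (ht : t.hom.Etale) (ht' : t.hom.Finite) (hc : c.hom.Etale)
    (hc' : c.hom.Finite) :
    d.hom.Etale ∧ d.hom.Finite ∧ IsPushout p d t p₂ ∧ IsPushout q d c q₂ := by
  letI : Algebra B' B := p.hom.toAlgebra
  letI : Algebra B' A' := q.hom.toAlgebra
  letI : Algebra B A := r.hom.toAlgebra
  letI : Algebra A' A := s.hom.toAlgebra
  letI : Algebra B' A := (p ≫ r).hom.toAlgebra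
  letI : Algebra D T := p₂.hom.toAlgebra
  letI : Algebra D S := q₂.hom.toAlgebra
  letI : Algebra T P := r₂.hom.toAlgebra
  letI : Algebra S P := s₂.hom.toAlgebra
  letI : Algebra D P := (p₂ ≫ r₂).hom.toAlgebra
  letI : Algebra B' D := d.hom.toAlgebra
  letI : Algebra B T := t.hom.toAlgebra
  letI : Algebra A' S := c.hom.toAlgebra
  letI : Algebra A P := e.hom.toAlgebra
  letI : Algebra B' T := (p ≫ t).hom.toAlgebra
  letI : Algebra B' S := (q ≫ c).hom.toAlgebra
  letI : Algebra B P := (r ≫ e).hom.toAlgebra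
  letI : Algebra A' P := (s ≫ e).hom.toAlgebra
  letI : Algebra B' P := (p ≫ r ≫ e).hom.toAlgebra
  haveI : IsScalarTower B' B A := .of_algebraMap_eq' rfl
  haveI : IsScalarTower B' A' A := .of_algebraMap_eq' (by
    change (p ≫ r).hom = (q ≫ s).hom
    rw [h.w])
  haveI : IsScalarTower D T P := .of_algebraMap_eq' rfl
  haveI : IsScalarTower D S P := .of_algebraMap_eq' (by
    change (p₂ ≫ r₂).hom = (q₂ ≫ s₂).hom
    rw [h₂.w])
  haveI : IsScalarTower B' D T := .of_algebraMap_eq' (by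
    change (p ≫ t).hom = (d ≫ p₂).hom
    rw [hp])
  haveI : IsScalarTower B' D S := .of_algebraMap_eq' (by
    change (q ≫ c).hom = (d ≫ q₂).hom
    rw [hq])
  haveI : IsScalarTower B' B T := .of_algebraMap_eq' rfl
  haveI : IsScalarTower B' A' S := .of_algebraMap_eq' rfl
  haveI : IsScalarTower B A P := .of_algebraMap_eq' rfl
  haveI : IsScalarTower B T P := .of_algebraMap_eq' (by
    change (r ≫ e).hom = (t ≫ r₂).hom
    rw [hr.w])
  haveI : IsScalarTower A' A P := .of_algebraMap_eq' rfl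
  haveI : IsScalarTower A' S P := .of_algebraMap_eq' (by
    change (s ≫ e).hom = (c ≫ s₂).hom
    rw [hs.w])
  haveI : Algebra.IsPushout B A T P := CommRingCat.isPushout_iff_isPushout.mp hr
  haveI : Algebra.IsPushout A' A S P := CommRingCat.isPushout_iff_isPushout.mp hs
  have hsq : EtMil.IsFibreSquare B' B A' A := ⟨h.surj, fun b a hba => by
    obtain ⟨x, hx1, hx2⟩ := h.lift b a hba
    exact ⟨x, ⟨hx1, hx2⟩, fun y hy => h.ext _ _ (hy.1.trans hx1.symm) (hy.2.trans hx2.symm)⟩⟩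
  have hD : EtMil.IsFibreSquare D T S P := ⟨h₂.surj, fun b a hba => by
    obtain ⟨x, hx1, hx2⟩ := h₂.lift b a hba
    exact ⟨x, ⟨hx1, hx2⟩, fun y hy => h₂.ext _ _ (hy.1.trans hx1.symm) (hy.2.trans hx2.symm)⟩⟩
  haveI : Algebra.Etale B T := ht
  haveI : Algebra.Etale A' S := hc
  haveI : Module.Finite B T := ht'
  haveI : Module.Finite A' S := hc'
  have key := etale B' B A' A D T S P hsq hD
  have k1 := isPushout_left B' B A' A D T S P hsq hD
  have k2 := isPushout_right B' B A' A D T S P hsq hD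
  exact ⟨key.1, key.2, CommRingCat.isPushout_iff_isPushout.mpr k1.symm |>.flip,
    CommRingCat.isPushout_iff_isPushout.mpr k2.symm |>.flip⟩

end Groth.Agent.Pi1C.MilnorEt
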