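import Groth.Agent.Pi1C.NbhdExt
import Groth.Agent.S0238

/-!
# The case of a nilpotent `f`
-/

set_option autoImplicit false
universe u

open AlgebraicGeometry CategoryTheory CategoryTheory.Limits

namespace Groth.Agent.Pi1C.NbhdExt

open PurityQuot

theorem mem_range_mk {A : Type u} [CommRing A] {f : A} (hf : IsNilpotent f) (p : PrimeSpectrum A) :
    p ∈ Set.range (PrimeSpectrum.comap (Ideal.Quotient.mk (Ideal.span {f}))) := by
  rw [range_comap_of_surjective _ _ Ideal.Quotient.mk_surjective, Ideal.mk_ker,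
    PrimeSpectrum.mem_zeroLocus, SetLike.coe_subset_coe, Ideal.span_singleton_le_iff_mem]
  obtain ⟨n, hn⟩ := hf
  exact p.2.mem_of_pow_mem n (hn ▸ Ideal.zero_mem _)

theorem surjective_mk {A : Type u} [CommRing A] {f : A} (hf : IsNilpotent f) :
    Surjective (mk A f) := ⟨fun p => mem_range_mk hf p⟩

/-- For `f` nilpotent, every cover extends. -/
theorem nbhdExt_of_isNilpotent {A : Type u} [CommRing A] [IsLocalRing A] {f : A}
    (hf : IsNilpotent f) : NbhdExt A f := by
  intro U0 l s hs V0
  have h1 : IsClosedImmersion (mk A f) :=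
    IsClosedImmersion.spec_of_surjective _ Ideal.Quotient.mk_surjective
  have h2 : Surjective (mk A f) := surjective_mk hf
  have h3 : IsClosedImmersion l := MorphismProperty.of_isPullback hs.flip h1
  have h4 : Surjective l := MorphismProperty.of_isPullback hs.flip h2
  have h5 : (FEt.restrict l).IsEquivalence := Groth.Agent.S0238.result l
  let V := (FEt.restrict l).objPreimage V0
  let i : (FEt.restrict l).obj V ≅ V0 := (FEt.restrict l).objObjPreimageIso V0
  let X : Scheme.{u} := (FEt.puncturedSpec A : Scheme.{u})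
  let t : U0 ⟶ ((⊤ : X.Opens) : Scheme.{u}) := l ≫ (Scheme.topIso X).inv
  have ht : t ≫ (⊤ : X.Opens).ι = l := by
    rw [← Scheme.topIso_hom, Category.assoc, Iso.inv_hom_id, Category.comp_id]
  exact ⟨⊤, fun _ _ => trivial, (FEt.restrict (⊤ : X.Opens).ι).obj V, t, ht,
    ⟨((restrictComp t (⊤ : X.Opens).ι).symm ≪≫ restrictCongr ht).app V ≪≫ i⟩⟩

end Groth.Agent.Pi1C.NbhdExt
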