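import Groth.Agent.Pi1C.MLift
import Groth.Agent.Pi1A.DepthTwo
import Mathlib.RingTheory.MvPowerSeries.Basic
import Mathlib.RingTheory.MvPowerSeries.Equiv

/-!
Box truncations of `A[[x_1, ..., x_d]]`.
-/

set_option autoImplicit false

universe u

namespace Groth.Agent.Pi1C.PSeries

open Groth.Agent.Pi1C.MLift MvPowerSeries

section MClosed

variable {A : Type u} [CommRing A] {m : Ideal A}

lemma mClosed_congr {M N : Type*} [AddCommGroup M] [Module A M] [AddCommGroup N] [Module A N]
    (e : M ≃ₗ[A] N) (h : MClosed m M) : MClosed m N := by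
  constructor
  · intro k φ
    obtain ⟨y, hy⟩ := h.exists_smul k (e.symm.toLinearMap.comp φ)
    refine ⟨e y, fun x => ?_⟩
    rw [← map_smul, ← hy]
    simp
  · intro k y hy
    have h1 : e.symm y = 0 := by
      apply h.eq_zero k
      intro x hx
      rw [← map_smul, hy x hx, map_zero]
    simpa using h1

lemma mClosed_pi {ι : Type*} {Q : Type*} [AddCommGroup Q] [Module A Q] (hQ : MClosed m Q) :
    MClosed m (ι → Q) := by
  constructor
  · intro k h
    have key := fun i => hQ.exists_smul k ((LinearMap.proj i).comp h)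
    choose y hy using key
    refine ⟨y, fun x => ?_⟩
    ext i
    exact hy i x
  · intro k y hy
    ext i
    exact hQ.eq_zero k (y i) (fun x hx => congrFun (hy x hx) i)

lemma mClosed_of_isRegPair {x y : A} (hx : x ∈ m) (hy : y ∈ m)
    (h : Groth.Agent.Pi1A.DepthTwo.IsRegPair x y) : MClosed m A := by
  have hz : ∀ (k : ℕ) (b : A), x ^ k * b = 0 → b = 0 := fun k => (h.pow k k).fst
  constructor
  · intro k φ
    have hxk : x ^ k ∈ m ^ k := Ideal.pow_mem_pow hx k
    have hyk : y ^ k ∈ m ^ k := Ideal.pow_mem_pow hy k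
    have h1 : ∀ a b : ↥(m ^ k), (a : A) * φ b = (b : A) * φ a := by
      intro a b
      rw [← smul_eq_mul, ← smul_eq_mul, ← map_smul, ← map_smul]
      exact congrArg φ (Subtype.ext (mul_comm _ _))
    obtain ⟨c, hc⟩ := (h.pow k k).snd (φ ⟨x ^ k, hxk⟩) (φ ⟨y ^ k, hyk⟩)
      (h1 ⟨y ^ k, hyk⟩ ⟨x ^ k, hxk⟩)
    refine ⟨c, fun a => ?_⟩
    rw [← sub_eq_zero]
    apply hz k
    have h2 := h1 ⟨x ^ k, hxk⟩ a
    have h3 : x ^ k * φ a = (a : A) * φ ⟨x ^ k, hxk⟩ := h2
    rw [mul_sub, h3, hc, smul_eq_mul]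
    ring
  · intro k b hb
    exact hz k b (hb _ (Ideal.pow_mem_pow hx k))

theorem mClosed_of_depth [IsLocalRing A] (hA : (2 : ℕ∞) ≤ LocCoh.depth A A) :
    MClosed (IsLocalRing.maximalIdeal A) A := by
  obtain ⟨x, hx, y, hy, hxy⟩ := Groth.Agent.Pi1A.DepthTwo.exists_isRegPair_of_two_le_depth A hA
  exact mClosed_of_isRegPair hx hy hxy

end MClosed

variable (A : Type u) [CommRing A] (d : ℕ)

/-- The power series whose coefficients in the box `[0, n] ^ d` vanish. -/
def J (n : ℕ) : Ideal (MvPowerSeries (Fin d) A) where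
  carrier := {f | ∀ α : Fin d →₀ ℕ, (∀ i, α i ≤ n) → coeff α f = 0}
  add_mem' := by
    intro f g hf hg α hα
    rw [map_add, hf α hα, hg α hα, add_zero]
  zero_mem' := fun α _ => map_zero _
  smul_mem' := by
    classical
    intro g f hf α hα
    rw [smul_eq_mul, coeff_mul]
    apply Finset.sum_eq_zero
    rintro ⟨β, γ⟩ h
    have h1 : β + γ = α := Finset.mem_antidiagonal.1 h
    have h2 : coeff γ f = 0 := hf γ (fun i => by
      have h3 : β i + γ i = α i := by rw [← h1]; rfl
      have := hα i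
      omega)
    rw [h2, mul_zero]

variable {A d}

lemma mem_J {n : ℕ} {f : MvPowerSeries (Fin d) A} :
    f ∈ J A d n ↔ ∀ α : Fin d →₀ ℕ, (∀ i, α i ≤ n) → coeff α f = 0 := Iff.rfl

lemma J_succ_le (n : ℕ) : J A d (n + 1) ≤ J A d n := fun _ hf α hα =>
  hf α (fun i => (hα i).trans (Nat.le_succ n))

lemma mem_J_zero {f : MvPowerSeries (Fin d) A} : f ∈ J A d 0 ↔ constantCoeff f = 0 := by
  rw [mem_J]
  constructor
  · intro h
    have := h 0 (fun i => le_rfl)
    simpa using this
  · intro h α hα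
    have : α = 0 := by
      ext i
      exact Nat.le_zero.1 (hα i)
    rw [this]
    simpa using h

lemma exists_pow_mem (f : MvPowerSeries (Fin d) A) (hf : constantCoeff f = 0) (n : ℕ) :
    ∃ k, f ^ k ∈ J A d n := by
  refine ⟨1 + d * n, fun α hα => ?_⟩
  apply coeff_eq_zero_of_constantCoeff_nilpotent (m := 1) (by rw [pow_one, hf])
  have h1 : Finsupp.degree α ≤ d * n := by
    rw [Finsupp.degree_eq_sum]
    calc ∑ i, α i ≤ ∑ _i : Fin d, n := Finset.sum_le_sum fun i _ => hα i
      _ = d * n := by simp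
  omega

/-- The box. -/
abbrev Box (d n : ℕ) : Type := {α : Fin d →₀ ℕ // ∀ i, α i ≤ n}

open Classical in
/-- The power series with given coefficients in the box and `0` elsewhere. -/
noncomputable def ofBox (n : ℕ) : (Box d n → A) →ₗ[A] MvPowerSeries (Fin d) A where
  toFun v := fun α => if h : ∀ i, α i ≤ n then v ⟨α, h⟩ else 0
  map_add' v w := by
    ext α
    change (if h : ∀ i, α i ≤ n then (v + w) ⟨α, h⟩ else 0) =
      (if h : ∀ i, α i ≤ n then v ⟨α, h⟩ else 0) + (if h : ∀ i, α i ≤ n then w ⟨α, h⟩ else 0)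
    split_ifs <;> simp
  map_smul' a v := by
    ext α
    change (if h : ∀ i, α i ≤ n then (a • v) ⟨α, h⟩ else 0) =
      a * (if h : ∀ i, α i ≤ n then v ⟨α, h⟩ else 0)
    split_ifs <;> simp

lemma coeff_ofBox {n : ℕ} (v : Box d n → A) (α : Fin d →₀ ℕ) (h : ∀ i, α i ≤ n) :
    coeff α (ofBox n v) = v ⟨α, h⟩ := by
  classical
  exact dif_pos h

/-- `B / J n` is free with basis the monomials in the box. -/
noncomputable def quotEquiv (n : ℕ) :
    (Box d n → A) ≃ₗ[A] (MvPowerSeries (Fin d) A ⧸ J A d n) :=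
  LinearEquiv.ofBijective ((Ideal.Quotient.mkₐ A (J A d n)).toLinearMap.comp (ofBox n)) (by
    constructor
    · rw [injective_iff_map_eq_zero]
      intro v hv
      have h1 : ofBox n v ∈ J A d n := Ideal.Quotient.eq_zero_iff_mem.1 hv
      ext ⟨α, hα⟩
      rw [← coeff_ofBox v α hα]
      exact h1 α hα
    · intro q
      obtain ⟨f, rfl⟩ := Ideal.Quotient.mk_surjective q
      refine ⟨fun α => coeff α.1 f, ?_⟩
      change Ideal.Quotient.mk (J A d n) _ = _
      rw [Ideal.Quotient.eq]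
      intro α hα
      rw [map_sub, coeff_ofBox _ α hα, sub_self])

theorem mClosed [IsLocalRing A] (hA : (2 : ℕ∞) ≤ LocCoh.depth A A) (n : ℕ) :
    MClosed (IsLocalRing.maximalIdeal A) (MvPowerSeries (Fin d) A ⧸ J A d n) :=
  mClosed_congr (quotEquiv n) (mClosed_pi (mClosed_of_depth hA))

lemma eq_zero_of_forall_mem (f : MvPowerSeries (Fin d) A) (hf : ∀ n, f ∈ J A d n) : f = 0 := by
  ext α
  exact hf (Finset.univ.sup α) α (fun i => Finset.le_sup (Finset.mem_univ i))

theorem exists_lift (q : ∀ n, MvPowerSeries (Fin d) A ⧸ J A d n)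
    (hq : ∀ n, Ideal.Quotient.factor (J_succ_le n) (q (n + 1)) = q n) :
    ∃ r, ∀ n, Ideal.Quotient.mk _ r = q n := by
  have key := fun n => Ideal.Quotient.mk_surjective (q n)
  choose f hf using key
  have h1 : ∀ n, f (n + 1) - f n ∈ J A d n := by
    intro n
    rw [← Ideal.Quotient.eq, hf, ← hq, ← hf (n + 1)]
    rfl
  have h2 : ∀ (n k : ℕ) (α : Fin d →₀ ℕ), (∀ i, α i ≤ n) → coeff α (f (n + k)) = coeff α (f n) := by
    intro n k
    induction k with
    | zero => intro α _; rfl
    | succ k ih =>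
      intro α hα
      rw [← ih α hα, ← sub_eq_zero, ← map_sub]
      exact h1 (n + k) α (fun i => (hα i).trans (Nat.le_add_right n k))
  refine ⟨fun α => coeff α (f (Finset.univ.sup α)), fun n => ?_⟩
  rw [← hf n, Ideal.Quotient.eq]
  intro α hα
  rw [map_sub, sub_eq_zero]
  have h3 : Finset.univ.sup α ≤ n := Finset.sup_le fun i _ => hα i
  have h4 := h2 (Finset.univ.sup α) (n - Finset.univ.sup α) α
    (fun i => Finset.le_sup (Finset.mem_univ i))
  rw [Nat.add_sub_cancel' h3] at h4
  exact h4.symm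

end Groth.Agent.Pi1C.PSeries
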