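import Groth.Agent.Pi1C.PuncSpec

/-!
Lifting of clopens of `V(f) ∩ (Spec B \ V(mB))` to idempotents of `B`.
-/

set_option autoImplicit false

universe u

open CategoryTheory CategoryTheory.Limits AlgebraicGeometry TopologicalSpace Opposite

namespace Groth.Agent.Pi1C.PuncSpec

open Groth.Agent.Pi1C.MLift Groth.Agent.Pi1C.PuncturedSections Groth.Agent.Sga2.IdemClopen

variable {A B : Type u} [CommRing A] [CommRing B] [Algebra A B] {m : Ideal A}

/-- The open `Spec R \ V(mR)`. -/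
noncomputable def punc (m : Ideal A) (R : Type u) [CommRing R] [Algebra A R] :
    (Spec (CommRingCat.of R)).Opens :=
  ⨆ g : m, DD (A := CommRingCat.of R) (algebraMap A R g)

lemma isPunc_punc (m : Ideal A) (R : Type u) [CommRing R] [Algebra A R] :
    IsPunc m (punc m R) where
  le g hg := le_iSup (fun g : m => DD (A := CommRingCat.of R) (algebraMap A R g)) ⟨g, hg⟩
  cov x hx := by
    obtain ⟨g, hg⟩ := Opens.mem_iSup.mp hx
    exact ⟨g, g.2, hg⟩

lemma IsPunc.preimage {R R' : Type u} [CommRing R] [Algebra A R] [CommRing R'] [Algebra A R']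
    (φ : R →ₐ[A] R') {W : (Spec (CommRingCat.of R)).Opens} (hW : IsPunc m W) :
    IsPunc m (Spec.map (CommRingCat.ofHom φ.toRingHom) ⁻¹ᵁ W) where
  le g hg := by
    have h := hW.le g hg
    intro x hx
    apply h
    change algebraMap A R g ∉ Ideal.comap φ.toRingHom (x : PrimeSpectrum R').asIdeal
    have h2 : φ.toRingHom (algebraMap A R g) = algebraMap A R' g := φ.commutes g
    rw [Ideal.mem_comap, h2]
    exact hx
  cov x hx := by
    obtain ⟨g, hg, h⟩ := hW.cov _ hx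
    refine ⟨g, hg, ?_⟩
    have h : algebraMap A R g ∉ Ideal.comap φ.toRingHom (x : PrimeSpectrum R').asIdeal := h
    have h2 : φ.toRingHom (algebraMap A R g) = algebraMap A R' g := φ.commutes g
    rw [Ideal.mem_comap, h2] at h
    exact h

/-- Kernel of `B → Γ(W, O)` for `W ⊆ Spec (B / a)`. -/
lemma exists_eq_mul_of_rho_mk_eq_zero (hm : m.FG) (hB : MClosed m B) {a : B}
    (ha : ∀ b : B, a * b = 0 → b = 0)
    {W : (Spec (CommRingCat.of (B ⧸ Ideal.span {a}))).Opens} (hW : IsPunc m W) (b : B)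
    (hb : rho W (Ideal.Quotient.mk _ b) = 0) : ∃ b', b = a * b' := by
  obtain ⟨k, hk⟩ := hW.ker hm _ hb
  have key : ∀ x : ↥(m ^ k), ∃ y, a * y = (x : A) • b := by
    intro x
    have h1 := hk x x.2
    have h2 : Ideal.Quotient.mk (Ideal.span {a}) ((x : A) • b) = 0 := by
      rw [← h1]; rfl
    obtain ⟨y, hy⟩ := Ideal.mem_span_singleton'.1 (Ideal.Quotient.eq_zero_iff_mem.1 h2)
    exact ⟨y, by rw [mul_comm]; exact hy⟩
  choose h hh using key
  let H : ↥(m ^ k) →ₗ[A] B :=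
    { toFun := h
      map_add' := fun x y => by
        rw [← sub_eq_zero]
        apply ha
        rw [mul_sub, mul_add, hh, hh, hh, Submodule.coe_add, add_smul, sub_self]
      map_smul' := fun r x => by
        rw [← sub_eq_zero]
        apply ha
        rw [mul_sub, RingHom.id_apply, mul_smul_comm, hh, hh, Submodule.coe_smul, smul_assoc,
          sub_self] }
  obtain ⟨y, hy⟩ := hB.exists_smul k H
  refine ⟨y, ?_⟩
  rw [← sub_eq_zero]
  apply hB.eq_zero k
  intro x hx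
  have h3 : h ⟨x, hx⟩ = x • y := hy ⟨x, hx⟩
  rw [smul_sub, ← mul_smul_comm, ← h3, hh, sub_self]

lemma not_mem_DD_of_isNilpotent {R : CommRingCat.{u}} {r : R} (hr : IsNilpotent r) (x : Spec R) :
    x ∉ DD r := by
  rw [mem_DD, not_not]
  exact nilpotent_iff_mem_prime.mp hr _ (x : PrimeSpectrum R).2

theorem exists_idem_of_H2Cond (hm : m.FG) (f : A) (c : ℕ)
    (hf : ∀ b : B, f • b = 0 → b = 0) (hB : MClosed m B) (hP : H2Cond m f c B)
    (hlift : ∀ b : B, (∃ b', b * b - b = algebraMap A B f * b') →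
      ∃ e : B, e * e = e ∧ ∃ b', e - b = algebraMap A B f * b')
    (O₁ O₂ : (Spec (CommRingCat.of B)).Opens)
    (h1 : ∀ x : Spec (CommRingCat.of B), (∃ g ∈ m, x ∈ DD (A := CommRingCat.of B)
      (algebraMap A B g)) → x ∉ DD (A := CommRingCat.of B) (algebraMap A B f) → x ∈ O₁ ∨ x ∈ O₂)
    (h2 : ∀ x : Spec (CommRingCat.of B), (∃ g ∈ m, x ∈ DD (A := CommRingCat.of B)
      (algebraMap A B g)) → x ∉ DD (A := CommRingCat.of B) (algebraMap A B f) →
      x ∈ O₁ → x ∈ O₂ → False) :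
    ∃ e : B, e * e = e ∧ ∀ x : Spec (CommRingCat.of B), (∃ g ∈ m, x ∈ DD (A := CommRingCat.of B)
      (algebraMap A B g)) → x ∉ DD (A := CommRingCat.of B) (algebraMap A B f) →
      (x ∈ DD (A := CommRingCat.of B) e ↔ x ∈ O₁) := by
  set F : B := algebraMap A B f with hF
  have hF0 : ∀ b : B, F * b = 0 → b = 0 := fun b hb => hf b (by rw [Algebra.smul_def]; exact hb)
  have hFn0 : ∀ (n : ℕ) (b : B), F ^ n * b = 0 → b = 0 := by
    intro n
    induction n with
    | zero => intro b hb; simpa using hb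
    | succ n ih => intro b hb; rw [pow_succ, mul_assoc] at hb; exact hF0 b (ih _ hb)
  let J' : Ideal B := Ideal.span {F ^ (1 + c)}
  let J₁ : Ideal B := Ideal.span {F}
  have hJ : J' ≤ J₁ := by
    rw [Ideal.span_singleton_le_span_singleton, pow_add, pow_one]
    exact Dvd.intro _ rfl
  let φ : B ⧸ J' →ₐ[A] B ⧸ J₁ := Ideal.Quotient.factorₐ A hJ
  let W' := punc m (B ⧸ J')
  have hW' : IsPunc m W' := isPunc_punc m _
  let Φ : CommRingCat.of (B ⧸ J') ⟶ CommRingCat.of (B ⧸ J₁) := CommRingCat.ofHom φ.toRingHom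
  let W₁ := Spec.map Φ ⁻¹ᵁ W'
  have hW₁ : IsPunc m W₁ := hW'.preimage φ
  let t : W₁.toScheme ⟶ W'.toScheme := Spec.map Φ ∣_ W'
  have ht : t ≫ W'.ι = W₁.ι ≫ Spec.map Φ := morphismRestrict_ι _ _
  let μ' : CommRingCat.of B ⟶ CommRingCat.of (B ⧸ J') := CommRingCat.ofHom (Ideal.Quotient.mk J')
  let μ₁ : CommRingCat.of B ⟶ CommRingCat.of (B ⧸ J₁) := CommRingCat.ofHom (Ideal.Quotient.mk J₁)
  have hμ : μ' ≫ Φ = μ₁ := rfl
  let q' : W'.toScheme ⟶ Spec (CommRingCat.of B) := W'.ι ≫ Spec.map μ'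
  let q₁ : W₁.toScheme ⟶ Spec (CommRingCat.of B) := W₁.ι ≫ Spec.map μ₁
  have hq : t ≫ q' = q₁ := by
    rw [← Category.assoc, ht, Category.assoc, ← Spec.map_comp, hμ]
  -- image of `q'`
  have hq'1 : ∀ y : W'.toScheme, ∃ g ∈ m, q' y ∈ DD (A := CommRingCat.of B) (algebraMap A B g) := by
    intro y
    obtain ⟨g, hg, hy⟩ := hW'.cov (W'.ι y) (by simp)
    refine ⟨g, hg, ?_⟩
    exact hy
  have hq'2 : ∀ y : W'.toScheme, q' y ∉ DD (A := CommRingCat.of B) F := by
    intro y hy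
    have h3 : W'.ι y ∈ DD (A := CommRingCat.of (B ⧸ J')) (Ideal.Quotient.mk J' F) := hy
    refine not_mem_DD_of_isNilpotent (R := CommRingCat.of (B ⧸ J')) ⟨1 + c, ?_⟩ _ h3
    exact (map_pow (Ideal.Quotient.mk J') F (1 + c)).symm.trans
      (Ideal.Quotient.eq_zero_iff_mem.2 (Ideal.mem_span_singleton_self _))
  -- the clopen in `V'`
  have hsup : q' ⁻¹ᵁ O₁ ⊔ q' ⁻¹ᵁ O₂ = ⊤ := by
    ext y
    simp only [Opens.coe_sup, Opens.coe_top, Set.mem_univ, iff_true]
    exact h1 (q' y) (hq'1 y) (hq'2 y)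
  have hinf : q' ⁻¹ᵁ O₁ ⊓ q' ⁻¹ᵁ O₂ = ⊥ := by
    ext y
    simp only [Opens.coe_inf, Opens.coe_bot, Set.mem_empty_iff_false, iff_false]
    intro hy
    exact h2 (q' y) (hq'1 y) (hq'2 y) hy.1 hy.2
  obtain ⟨s', hs'⟩ := exists_isInd hsup hinf
  have hs := hs'.comap t
  have hsup₁ : t ⁻¹ᵁ q' ⁻¹ᵁ O₁ ⊔ t ⁻¹ᵁ q' ⁻¹ᵁ O₂ = ⊤ := by
    rw [← Scheme.Hom.preimage_sup, hsup, Scheme.Hom.preimage_top]
  set s := t.appTop s' with hsdef
  -- the linear maps
  let _ := algΓ A W'
  let _ := algΓ A W₁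
  let ρ' : B →ₗ[A] Γ(W'.toScheme, ⊤) :=
    { toFun := fun b => rho W' (Ideal.Quotient.mk J' b)
      map_add' := fun x y => by rw [map_add, map_add]
      map_smul' := fun a x => by
        rw [Algebra.smul_def, map_mul, map_mul]; rfl }
  let ρ : B →ₗ[A] Γ(W₁.toScheme, ⊤) :=
    { toFun := fun b => rho W₁ (Ideal.Quotient.mk J₁ b)
      map_add' := fun x y => by rw [map_add, map_add]
      map_smul' := fun a x => by
        rw [Algebra.smul_def, map_mul, map_mul]; rfl }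
  have hρρ' : ∀ b, t.appTop (ρ' b) = ρ b := by
    intro b
    change t.appTop (W'.ι.appTop ((Scheme.ΓSpecIso _).inv (Ideal.Quotient.mk J' b))) =
      W₁.ι.appTop ((Scheme.ΓSpecIso _).inv (Ideal.Quotient.mk J₁ b))
    have h3 := congr(Scheme.Hom.appTop $ht)
    rw [Scheme.Hom.comp_appTop, Scheme.Hom.comp_appTop] at h3
    have h4 := congr($h3 ((Scheme.ΓSpecIso (CommRingCat.of (B ⧸ J'))).inv (Ideal.Quotient.mk J' b)))
    have h5 := Scheme.ΓSpecIso_inv_naturality Φ
    have h6 := congr($h5 (Ideal.Quotient.mk J' b))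
    refine h4.trans ?_
    change W₁.ι.appTop ((Spec.map Φ).appTop _) = _
    congr 1
    exact h6.symm
  have hρsmul : ∀ (a : A) (z : Γ(W'.toScheme, ⊤)), t.appTop (a • z) = a • t.appTop z := by
    intro a z
    rw [Algebra.smul_def, Algebra.smul_def, map_mul]
    congr 1
    exact hρρ' (algebraMap A B a)
  obtain ⟨b, hb⟩ := exists_lift_of_H2Cond (m := m) (f := f) ρ ρ' s s' 1 c hf hB hP
    (fun b => by
      constructor
      · intro hb
        obtain ⟨b', hb'⟩ := exists_eq_mul_of_rho_mk_eq_zero hm hB (hFn0 (1 + c)) hW' b hb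
        exact ⟨b', by rw [Algebra.smul_def, map_pow]; exact hb'⟩
      · rintro ⟨b', rfl⟩
        have h3 : Ideal.Quotient.mk J' (f ^ (1 + c) • b') = 0 := by
          rw [Ideal.Quotient.eq_zero_iff_mem, Algebra.smul_def, map_pow]
          exact Ideal.mul_mem_right _ _ (Ideal.mem_span_singleton_self _)
        change rho W' _ = 0
        rw [h3, map_zero])
    (fun b => by
      have h3 : Ideal.Quotient.mk J₁ (f ^ 1 • b) = 0 := by
        rw [Ideal.Quotient.eq_zero_iff_mem, Algebra.smul_def, map_pow, pow_one]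
        exact Ideal.mul_mem_right _ _ (Ideal.mem_span_singleton_self _)
      change rho W₁ _ = 0
      rw [h3, map_zero])
    (by
      obtain ⟨k, hk⟩ := hW'.coker hm s'
      refine ⟨k, fun x hx => ?_⟩
      obtain ⟨r, hr⟩ := hk x hx
      obtain ⟨b, rfl⟩ := Ideal.Quotient.mk_surjective r
      exact ⟨b, hr⟩)
    (fun b x h => by rw [← hρρ', h, hρsmul])
    (fun t k h => hW₁.mClosed.eq_zero k t h)
  have hss : s * s = s := hs.idem hsup₁
  obtain ⟨e, he, b₁, hb₁⟩ := hlift b (by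
    apply exists_eq_mul_of_rho_mk_eq_zero hm hB hF0 hW₁
    rw [map_sub, map_mul, map_sub, map_mul, sub_eq_zero]
    change ρ b * ρ b = ρ b
    rw [hb, hss])
  have hρe : ρ e = s := by
    rw [← hb, ← sub_eq_zero, ← map_sub, hb₁]
    change rho W₁ (Ideal.Quotient.mk J₁ _) = 0
    rw [map_mul, Ideal.Quotient.eq_zero_iff_mem.2 (Ideal.mem_span_singleton_self _), zero_mul,
      map_zero]
  refine ⟨e, he, ?_⟩
  rintro x ⟨g, hg, hxg⟩ hxf
  -- `x` comes from a point of `W₁`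
  have hx1 : x ∈ Set.range (Spec.map μ₁) := by
    have h3 : Set.range (Spec.map μ₁) = PrimeSpectrum.zeroLocus (J₁ : Set B) := by
      have := range_comap_of_surjective (B ⧸ J₁) (Ideal.Quotient.mk J₁)
        Ideal.Quotient.mk_surjective
      rw [Ideal.mk_ker] at this
      exact this
    rw [h3]
    change (J₁ : Set B) ⊆ _
    rw [SetLike.coe_subset_coe, Ideal.span_singleton_le_iff_mem]
    rw [mem_DD, not_not] at hxf
    exact hxf
  obtain ⟨y₀, rfl⟩ := hx1
  have hy₀ : y₀ ∈ W₁ := by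
    apply hW₁.le g hg
    exact hxg
  let y : W₁.toScheme := ⟨y₀, hy₀⟩
  have hb2 := hs.basicOpen_eq hsup₁
  have h4 : y ∈ W₁.toScheme.basicOpen (rho W₁ (Ideal.Quotient.mk J₁ e)) ↔
      y ∈ t ⁻¹ᵁ q' ⁻¹ᵁ O₁ := by
    have : rho W₁ (Ideal.Quotient.mk J₁ e) = s := hρe
    rw [this, hb2]
  rw [basicOpen_rho, ← Scheme.Hom.comp_preimage, hq] at h4
  exact h4

end Groth.Agent.Pi1C.PuncSpec
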