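import Groth.Agent.Pi1C.PuncFinite
import Groth.Agent.Pi1C.PuncLift
import Groth.Agent.Pi1C.MLift3
import Mathlib.CategoryTheory.Limits.Shapes.Pullback.Mono
import Mathlib.RingTheory.RingHom.Flat
import Mathlib.RingTheory.Henselian

/-!
Finite flat covers of `U = Spec A \ V(m)`: their sections, and lifting of clopens from `V(f)`.
-/

set_option autoImplicit false

universe u

open CategoryTheory CategoryTheory.Limits AlgebraicGeometry TopologicalSpace Opposite

namespace Groth.Agent.Pi1C.PuncCover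

open Groth.Agent.Pi1C.MLift Groth.Agent.Pi1C.PuncturedSections Groth.Agent.Sga2.IdemClopen
open Groth.Agent.Pi1C.PuncSpec TensorProduct

variable {A : Type u} [CommRing A] {m : Ideal A}

lemma isPullback_comp_mono {P X Y Z W : Scheme.{u}} {a : P ⟶ X} {b : P ⟶ Y} {f : X ⟶ Z}
    {g : Y ⟶ Z} (h : IsPullback a b f g) (i : Z ⟶ W) [Mono i] :
    IsPullback a b (f ≫ i) (g ≫ i) :=
  ⟨⟨by rw [← Category.assoc, h.w, Category.assoc]⟩,
    ⟨PullbackCone.isLimitOfCompMono f g i _ h.isLimit⟩⟩

/-- The structure map `A → Γ(V)`. -/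
noncomputable abbrev γ {V : Scheme.{u}} (h : V ⟶ Spec (CommRingCat.of A)) :
    CommRingCat.of A ⟶ Γ(V, ⊤) := (Scheme.ΓSpecIso (CommRingCat.of A)).inv ≫ h.appTop

lemma toSpecΓ_γ {V : Scheme.{u}} (h : V ⟶ Spec (CommRingCat.of A)) :
    V.toSpecΓ ≫ Spec.map (γ h) = h := by
  rw [γ, Spec.map_comp, ← Scheme.toSpecΓ_naturality_assoc]
  simp

lemma basicOpen_γ {V : Scheme.{u}} (h : V ⟶ Spec (CommRingCat.of A)) (a : A) :
    V.basicOpen (γ h a) = h ⁻¹ᵁ (DD (A := CommRingCat.of A) a) := by
  conv_rhs => rw [← toSpecΓ_γ h]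
  rw [Scheme.Hom.comp_preimage, preimage_DD, toSpecΓ_preimage_DD]

/-- The `A`-algebra structure on `Γ(V)`. -/
@[reducible] noncomputable def alg {V : Scheme.{u}} (h : V ⟶ Spec (CommRingCat.of A)) :
    Algebra A Γ(V, ⊤) := (γ h).hom.toAlgebra

theorem finite_flat {U : (Spec (CommRingCat.of A)).Opens} (hU : IsPunc m U)
    {V : Scheme.{u}} [CompactSpace V] [QuasiSeparatedSpace V] (v : V ⟶ U) [IsFinite v] [Flat v]
    (g : A) (hg : g ∈ m) :
    letI := alg (v ≫ U.ι)
    Module.Finite (Localization.Away g) (Localization.Away g ⊗[A] Γ(V, ⊤)) ∧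
      Module.Flat (Localization.Away g) (Localization.Away g ⊗[A] Γ(V, ⊤)) := by
  let _ := alg (v ≫ U.ι)
  let α : CommRingCat.of A ⟶ CommRingCat.of (Localization.Away g) :=
    CommRingCat.ofHom (algebraMap A (Localization.Away g))
  have hα : IsOpenImmersion (Spec.map α) := IsOpenImmersion.of_isLocalization g
  have hflat : Flat (Spec.map α) := inferInstance
  have hrange : Set.range (Spec.map α) ⊆ Set.range U.ι := by
    have h1 := PrimeSpectrum.localization_away_comap_range (Localization.Away g) g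
    rw [Scheme.Opens.range_ι]
    intro x hx
    have h2 : x ∈ (PrimeSpectrum.basicOpen g : Set (PrimeSpectrum A)) := by
      rw [← h1]; exact hx
    exact hU.le g hg h2
  let ι : Spec (CommRingCat.of (Localization.Away g)) ⟶ U := IsOpenImmersion.lift U.ι _ hrange
  have hι : ι ≫ U.ι = Spec.map α := IsOpenImmersion.lift_fac _ _ _
  have hP := isPullback_comp_mono (IsPullback.of_hasPullback v ι) U.ι
  rw [hι] at hP
  have hpo := isPushout_sections α (v ≫ U.ι) _ _ hP
  set p := pullback.fst v ι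
  set q := pullback.snd v ι
  have hqfin : IsFinite q := inferInstance
  have hqflat : Flat q := inferInstance
  have haff : IsAffine (pullback v ι) := isAffine_of_isAffineHom q
  let β : CommRingCat.of (Localization.Away g) ⟶ Γ(pullback v ι, ⊤) :=
    (Scheme.ΓSpecIso _).inv ≫ q.appTop
  have hfin : β.hom.Finite := by
    have h1 : (q.appTop).hom.Finite := IsFinite.finite_app (f := q) ⊤ (isAffineOpen_top _)
    have h2 : (Scheme.ΓSpecIso (CommRingCat.of (Localization.Away g))).inv.hom.Finite :=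
      RingHom.Finite.of_surjective _
        (ConcreteCategory.bijective_of_isIso (Scheme.ΓSpecIso _).inv).2
    exact h1.comp h2
  have hfl : β.hom.Flat := by
    have h1 : (q.appTop).hom.Flat := by
      have := HasRingHomProperty.appLE @Flat q hqflat ⟨⊤, isAffineOpen_top _⟩
        ⟨⊤, isAffineOpen_top _⟩ (fun _ _ => trivial)
      rwa [appLE_top] at this
    have h2 : (Scheme.ΓSpecIso (CommRingCat.of (Localization.Away g))).inv.hom.Flat :=
      RingHom.Flat.of_bijective (ConcreteCategory.bijective_of_isIso (Scheme.ΓSpecIso _).inv)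
    exact RingHom.Flat.comp h2 h1
  let _ : Algebra (Localization.Away g) Γ(pullback v ι, ⊤) := β.hom.toAlgebra
  let _ : Algebra Γ(V, ⊤) Γ(pullback v ι, ⊤) := p.appTop.hom.toAlgebra
  let _ : Algebra A Γ(pullback v ι, ⊤) := (α ≫ β).hom.toAlgebra
  have _ : IsScalarTower A (Localization.Away g) Γ(pullback v ι, ⊤) :=
    .of_algebraMap_eq (fun _ => rfl)
  have _ : IsScalarTower A Γ(V, ⊤) Γ(pullback v ι, ⊤) :=
    .of_algebraMap_eq (fun x => congr($(hpo.w.symm) x))
  have hpo2 : Algebra.IsPushout A (Localization.Away g) Γ(V, ⊤) Γ(pullback v ι, ⊤) := by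
    rw [← CommRingCat.isPushout_iff_isPushout]
    exact hpo.flip
  have hfin2 : Module.Finite (Localization.Away g) Γ(pullback v ι, ⊤) := hfin
  have hflat2 : Module.Flat (Localization.Away g) Γ(pullback v ι, ⊤) := hfl
  let e := (Algebra.IsPushout.equiv A (Localization.Away g) Γ(V, ⊤)
    Γ(pullback v ι, ⊤)).toLinearEquiv
  exact ⟨Module.Finite.equiv e.symm, Module.Flat.of_linearEquiv e⟩

/-- Idempotent lifting property (equivalent to `(A, I)` being a henselian pair). -/
def IdemLift (A : Type u) [CommRing A] (I : Ideal A) : Prop :=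
  ∀ (B : Type u) [CommRing B] [Algebra A B], Module.Finite A B →
    Set.BijOn (Ideal.Quotient.mk (Ideal.map (algebraMap A B) I))
      {e : B | IsIdempotentElem e} {e | IsIdempotentElem e}

lemma IdemLift.exists_lift {f : A} (h : IdemLift A (Ideal.span {f})) (B : Type u) [CommRing B]
    [Algebra A B] [Module.Finite A B] (b : B) (hb : ∃ b', b * b - b = algebraMap A B f * b') :
    ∃ e : B, e * e = e ∧ ∃ b', e - b = algebraMap A B f * b' := by
  have hmap : Ideal.map (algebraMap A B) (Ideal.span {f}) = Ideal.span {algebraMap A B f} := by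
    rw [Ideal.map_span, Set.image_singleton]
  obtain ⟨b', hb'⟩ := hb
  have h1 : IsIdempotentElem (Ideal.Quotient.mk (Ideal.map (algebraMap A B) (Ideal.span {f})) b) := by
    change _ * _ = _
    rw [← map_mul, ← sub_eq_zero, ← map_sub, Ideal.Quotient.eq_zero_iff_mem, hmap, hb']
    exact Ideal.mul_mem_right _ _ (Ideal.mem_span_singleton_self _)
  obtain ⟨e, he, hee⟩ := (h B inferInstance).surjOn h1
  refine ⟨e, he, ?_⟩
  rw [Ideal.Quotient.eq, hmap, Ideal.mem_span_singleton'] at hee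
  obtain ⟨b'', hb''⟩ := hee
  exact ⟨b'', by rw [← hb'', mul_comm]⟩

lemma IdemLift.eq_zero {f : A} (h : IdemLift A (Ideal.span {f})) (B : Type u) [CommRing B]
    [Algebra A B] [Module.Finite A B] (e : B) (he : e * e = e)
    (hb : ∃ b', e = algebraMap A B f * b') : e = 0 := by
  have hmap : Ideal.map (algebraMap A B) (Ideal.span {f}) = Ideal.span {algebraMap A B f} := by
    rw [Ideal.map_span, Set.image_singleton]
  obtain ⟨b', hb'⟩ := hb
  refine (h B inferInstance).injOn he (zero_mul 0) ?_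
  rw [map_zero, Ideal.Quotient.eq_zero_iff_mem, hmap, hb']
  exact Ideal.mul_mem_right _ _ (Ideal.mem_span_singleton_self _)

lemma IdemLift.quot {A' : Type u} [CommRing A'] [Algebra A A']
    (hs : Function.Surjective (algebraMap A A')) {f : A} (h : IdemLift A (Ideal.span {f})) :
    IdemLift A' (Ideal.span {algebraMap A A' f}) := by
  intro B _ _ hfin
  let _ : Algebra A B := ((algebraMap A' B).comp (algebraMap A A')).toAlgebra
  have _ : IsScalarTower A A' B := .of_algebraMap_eq fun _ => rfl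
  have h1 : Module.Finite A A' := Module.Finite.of_surjective (Algebra.linearMap A A') hs
  have h2 : Module.Finite A B := Module.Finite.trans A' B
  have h3 := h B h2
  have h4 : Ideal.map (algebraMap A B) (Ideal.span {f}) =
      Ideal.map (algebraMap A' B) (Ideal.span {algebraMap A A' f}) := by
    rw [Ideal.map_span, Ideal.map_span, Set.image_singleton, Set.image_singleton]
    rfl
  have key : ∀ I J : Ideal B, I = J →
      Set.BijOn (Ideal.Quotient.mk I) {e : B | IsIdempotentElem e} {e | IsIdempotentElem e} →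
      Set.BijOn (Ideal.Quotient.mk J) {e : B | IsIdempotentElem e} {e | IsIdempotentElem e} := by
    rintro I _ rfl h
    exact h
  exact key _ _ h4 h3

/-- An idempotent global section supported on the locus where `r` is invertible is a multiple
of `r`. -/
lemma exists_eq_mul_of_basicOpen_le {V : Scheme.{u}} [CompactSpace V] [QuasiSeparatedSpace V]
    (r e : Γ(V, ⊤)) (he : e * e = e) (h : V.basicOpen e ≤ V.basicOpen r) : ∃ b, e = r * b := by
  have h1 : IsLocalization.Away e Γ(V, V.basicOpen e) :=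
    isLocalization_basicOpen_of_qcqs isCompact_univ isQuasiSeparated_univ e
  have h2 : IsUnit (V.presheaf.map (homOfLE le_top : V.basicOpen e ⟶ ⊤).op r) := by
    have h3 := RingedSpace.isUnit_res_basicOpen V.toLocallyRingedSpace.toRingedSpace r
    have h4 := h3.map (V.presheaf.map (homOfLE h : V.basicOpen e ⟶ V.basicOpen r).op).hom
    have h5 : (V.presheaf.map (homOfLE h : V.basicOpen e ⟶ V.basicOpen r).op)
        (V.presheaf.map (homOfLE le_top : V.basicOpen r ⟶ ⊤).op r) =
        V.presheaf.map (homOfLE le_top : V.basicOpen e ⟶ ⊤).op r := by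
      rw [← CommRingCat.comp_apply, ← V.presheaf.map_comp]
      rfl
    rw [← h5]
    exact h4
  obtain ⟨y, hy⟩ := h2.exists_right_inv
  obtain ⟨⟨b, ⟨_, n, rfl⟩⟩, hb⟩ := IsLocalization.surj (Submonoid.powers e) y
  have hb' : y * V.presheaf.map (homOfLE le_top : V.basicOpen e ⟶ ⊤).op (e ^ n) =
    V.presheaf.map (homOfLE le_top : V.basicOpen e ⟶ ⊤).op b := hb
  have h6 : V.presheaf.map (homOfLE le_top : V.basicOpen e ⟶ ⊤).op (e ^ n) =
      V.presheaf.map (homOfLE le_top : V.basicOpen e ⟶ ⊤).op (r * b) := by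
    rw [map_mul, ← hb', ← mul_assoc, hy, one_mul]
  obtain ⟨⟨_, k, rfl⟩, hk⟩ := IsLocalization.exists_of_eq (M := Submonoid.powers e)
    (S := Γ(V, V.basicOpen e)) h6
  have hid : IsIdempotentElem e := he
  have h7 : e ^ k * e ^ n = e ^ k * (r * b) := hk
  refine ⟨e * (e ^ k * b), ?_⟩
  calc e = e * (e ^ k * e ^ n) := by
        rw [← pow_add, ← pow_succ', hid.pow_succ_eq]
    _ = _ := by rw [h7]; ring

theorem nzd_case [IsNoetherianRing A] {f : A} (hfm : f ∈ m) (hf : ∀ a : A, f * a = 0 → a = 0)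
    {c c' : ℕ} (h1 : H1Cond m f c A) (h2 : H2Cond m f c' A)
    (hlift : IdemLift A (Ideal.span {f})) {U : (Spec (CommRingCat.of A)).Opens} (hU : IsPunc m U)
    {V : Scheme.{u}} (v : V ⟶ U) [IsFinite v] [Flat v] :
    (∀ C : Set V, IsClopen C → (∀ x ∈ C, (v ≫ U.ι) x ∈ DD (A := CommRingCat.of A) f) → C = ∅) ∧
    (∀ C₀ C₁ : Set V, IsClosed C₀ → IsClosed C₁ →
      (∀ x, (v ≫ U.ι) x ∉ DD (A := CommRingCat.of A) f → (x ∈ C₀ ↔ x ∉ C₁)) →
      ∃ C : Set V, IsClopen C ∧
        ∀ x, (v ≫ U.ι) x ∉ DD (A := CommRingCat.of A) f → (x ∈ C ↔ x ∈ C₀)) := by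
  have hm : m.FG := IsNoetherian.noetherian m
  have hUc : CompactSpace U := hU.compactSpace hm
  have hVc : CompactSpace V := QuasiCompact.compactSpace_of_compactSpace v
  have hVs : QuasiSeparatedSpace V := quasiSeparatedSpace_of_quasiSeparated v
  let _ := alg (v ≫ U.ι)
  have hcov : ∀ x : V, ∃ g ∈ m, x ∈ V.basicOpen (algebraMap A Γ(V, ⊤) g) := by
    intro x
    obtain ⟨g, hg, hx⟩ := hU.cov ((v ≫ U.ι) x) (by
      rw [Scheme.Hom.comp_apply]
      exact (v x).2)
    refine ⟨g, hg, ?_⟩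
    have h3 := basicOpen_γ (v ≫ U.ι) g
    change x ∈ V.basicOpen (γ (v ≫ U.ι) g)
    rw [h3]
    exact hx
  have hB : MClosed m Γ(V, ⊤) := SectionsClosed.mClosed m hcov
  have hfin := fun g hg => (finite_flat hU v g hg).1
  have hflat := fun g hg => (finite_flat hU v g hg).2
  have hBfin : Module.Finite A Γ(V, ⊤) := PuncFinite.finite hfm hf h1 hB.eq_zero hfin hflat
  have hfB := PuncFinite.eq_zero_of_flat hm hB.eq_zero hflat f hf
  obtain ⟨c₂, hc₂⟩ := PuncFinite.exists_H2Cond hfm hf h1 h2 hB.eq_zero hfin hflat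
  constructor
  · intro C hC hCf
    let O₁ : V.Opens := ⟨C, hC.2⟩
    let O₂ : V.Opens := ⟨Cᶜ, hC.1.isOpen_compl⟩
    have hsup : O₁ ⊔ O₂ = ⊤ := by
      ext x; simp [O₁, O₂]
    have hinf : O₁ ⊓ O₂ = ⊥ := by
      ext x; simp [O₁, O₂]
    obtain ⟨e, he⟩ := exists_isInd hsup hinf
    have he0 : e = 0 := by
      apply hlift.eq_zero Γ(V, ⊤) e (he.idem hsup)
      apply exists_eq_mul_of_basicOpen_le _ _ (he.idem hsup)
      rw [he.basicOpen_eq hsup]
      intro x hx
      change x ∈ V.basicOpen (γ (v ≫ U.ι) f)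
      rw [basicOpen_γ]
      exact hCf x hx
    have h4 := he.left_eq_bot he0
    exact congrArg (fun O : V.Opens => (O : Set V)) h4
  · intro C₀ C₁ hC₀ hC₁ hC
    have hpb := isPullback_toSpecΓ v
    have hopen : IsOpenImmersion V.toSpecΓ := MorphismProperty.of_isPullback hpb.flip inferInstance
    let j := V.toSpecΓ
    have hDD : ∀ (x : V) (a : A), j x ∈ DD (A := Γ(V, ⊤)) (algebraMap A Γ(V, ⊤) a) ↔
        (v ≫ U.ι) x ∈ DD (A := CommRingCat.of A) a := by
      intro x a
      have h3 := basicOpen_γ (v ≫ U.ι) a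
      rw [← toSpecΓ_preimage_DD] at h3
      exact Iff.of_eq (congrArg (x ∈ ·) h3)
    have hrange : ∀ y : Spec Γ(V, ⊤), (∃ g ∈ m, y ∈ DD (A := Γ(V, ⊤)) (algebraMap A Γ(V, ⊤) g)) →
        ∃ x : V, j x = y := by
      rintro y ⟨g, hg, hy⟩
      have h5 : IsPullback V.toSpecΓ v (Spec.map (γ (v ≫ U.ι))) U.ι := hpb
      have h4 : (Spec.map (γ (v ≫ U.ι))) y ∈ Set.range U.ι := by
        rw [Scheme.Opens.range_ι]
        exact hU.le g hg hy
      obtain ⟨z, hz⟩ := h4
      obtain ⟨x, hx, -⟩ := Scheme.exists_preimage_of_isPullback h5 y z hz.symm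
      exact ⟨x, hx⟩
    have hinj : Function.Injective j := V.toSpecΓ.isOpenEmbedding.injective
    let O₁ : (Spec Γ(V, ⊤)).Opens := j ''ᵁ ⟨C₁ᶜ, hC₁.isOpen_compl⟩
    let O₂ : (Spec Γ(V, ⊤)).Opens := j ''ᵁ ⟨C₀ᶜ, hC₀.isOpen_compl⟩
    have hO₁ : ∀ x, j x ∈ O₁ ↔ x ∉ C₁ := fun x => hinj.mem_set_image
    have hO₂ : ∀ x, j x ∈ O₂ ↔ x ∉ C₀ := fun x => hinj.mem_set_image
    obtain ⟨e, he, hee⟩ := exists_idem_of_H2Cond (B := Γ(V, ⊤)) hm f c₂ hfB hB hc₂
      (fun b hb => hlift.exists_lift Γ(V, ⊤) b hb) O₁ O₂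
      (by
        intro y hy hyf
        obtain ⟨x, rfl⟩ := hrange y hy
        erw [hDD] at hyf
        rw [hO₁, hO₂]
        have := hC x hyf
        tauto)
      (by
        intro y hy hyf h5 h6
        obtain ⟨x, rfl⟩ := hrange y hy
        erw [hDD] at hyf
        rw [hO₁] at h5
        rw [hO₂] at h6
        exact h6 ((hC x hyf).2 h5))
    refine ⟨V.basicOpen e, ⟨?_, (V.basicOpen e).2⟩, fun x hx => ?_⟩
    · have h5 : (V.basicOpen e : Set V) = (V.basicOpen (1 - e) : Set V)ᶜ := by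
        apply Set.Subset.antisymm
        · intro x hx hx'
          have : x ∈ V.basicOpen e ⊓ V.basicOpen (1 - e) := ⟨hx, hx'⟩
          rw [basicOpen_inf he] at this
          exact this
        · intro x hx
          have : x ∈ V.basicOpen e ⊔ V.basicOpen (1 - e) := by
            rw [basicOpen_sup]; trivial
          exact this.resolve_right hx
      rw [h5]
      exact (V.basicOpen (1 - e)).2.isClosed_compl
    · have h6 := hee (j x) (by
        obtain ⟨g, hg, hx⟩ := hcov x
        refine ⟨g, hg, ?_⟩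
        rw [← toSpecΓ_preimage_DD] at hx
        exact hx) (by
        intro h7
        exact hx ((hDD x f).1 h7))
      rw [hO₁, ← hC x hx] at h6
      rw [← h6, ← toSpecΓ_preimage_DD]
      rfl

end Groth.Agent.Pi1C.PuncCover
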