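import Groth.Agent.Pi1C.PuncSystem
import Groth.Agent.Pi1C.PuncCover

/-!
Finite flat covers of `U = Spec R \ V(I)`, and lifting of clopens from `V(J 0)`, when
`R = lim Γ(U, O / J n)`.
-/

set_option autoImplicit false

universe u

open CategoryTheory CategoryTheory.Limits AlgebraicGeometry TopologicalSpace Opposite

namespace Groth.Agent.Pi1C.PuncSystem

open Groth.Agent.Pi1C.MLift Groth.Agent.Pi1C.PuncturedSections Groth.Agent.Sga2.IdemClopen
open Groth.Agent.Pi1C.PuncSpec Groth.Agent.Pi1C.PuncCover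

variable {R : Type u} [CommRing R] {I : Ideal R}

theorem cover_case [IsNoetherianRing R] (J : ℕ → Ideal R) (hJ : ∀ n, J (n + 1) ≤ J n)
    (hrad : ∀ n, ∀ x ∈ J 0, ∃ k, x ^ k ∈ J n)
    (hQ : ∀ n, MClosed I (R ⧸ J n)) (hsepQ : ∀ c : R, (∀ n, c ∈ J n) → c = 0)
    (hcomplete : ∀ q : ∀ n, R ⧸ J n, (∀ n, Ideal.Quotient.factor (hJ n) (q (n + 1)) = q n) →
      ∃ x, ∀ n, Ideal.Quotient.mk _ x = q n)
    {U : (Spec (CommRingCat.of R)).Opens} (hU : IsPunc I U)
    {V : Scheme.{u}} (v : V ⟶ U) [IsFinite v] [Flat v] :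
    (∀ C : Set V, IsClopen C →
      (∀ x ∈ C, ∃ j ∈ J 0, (v ≫ U.ι) x ∈ DD (A := CommRingCat.of R) j) → C = ∅) ∧
    (∀ C₀ C₁ : Set V, IsClosed C₀ → IsClosed C₁ →
      (∀ x, (∀ j ∈ J 0, (v ≫ U.ι) x ∉ DD (A := CommRingCat.of R) j) → (x ∈ C₀ ↔ x ∉ C₁)) →
      ∃ C : Set V, IsClopen C ∧
        ∀ x, (∀ j ∈ J 0, (v ≫ U.ι) x ∉ DD (A := CommRingCat.of R) j) → (x ∈ C ↔ x ∈ C₀)) := by
  have hI : I.FG := IsNoetherian.noetherian I
  have hUc : CompactSpace U := hU.compactSpace hI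
  have hVc : CompactSpace V := QuasiCompact.compactSpace_of_compactSpace v
  have hVs : QuasiSeparatedSpace V := quasiSeparatedSpace_of_quasiSeparated v
  let _ := alg (v ≫ U.ι)
  have hcov : ∀ x : V, ∃ g ∈ I, x ∈ V.basicOpen (algebraMap R Γ(V, ⊤) g) := by
    intro x
    obtain ⟨g, hg, hx⟩ := hU.cov ((v ≫ U.ι) x) (by
      rw [Scheme.Hom.comp_apply]
      exact (v x).2)
    refine ⟨g, hg, ?_⟩
    have h3 := basicOpen_γ (v ≫ U.ι) g
    change x ∈ V.basicOpen (γ (v ≫ U.ι) g)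
    rw [h3]
    exact hx
  have hB : MClosed I Γ(V, ⊤) := SectionsClosed.mClosed I hcov
  have hfin := fun g hg => (finite_flat hU v g hg).1
  have hflat := fun g hg => (finite_flat hU v g hg).2
  obtain ⟨hsep, hlift⟩ := CLift.main (R := R) (I := I) (C := Γ(V, ⊤)) hB hfin hflat J
    (fun n => (rhoA I J Γ(V, ⊤) n).toLinearMap) (fun n => (tA I Γ(V, ⊤) hJ n).toLinearMap)
    (fun n c => tA_rhoA I Γ(V, ⊤) hJ n c)
    (fun n => (SS_mClosed I J Γ(V, ⊤) n).eq_zero)
    (fun n s => rhoA_coker J Γ(V, ⊤) hI n s)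
    (fun n c => rhoA_eq_zero_iff J Γ(V, ⊤) hI n c)
    (fun n => (J n).mkQ)
    (fun n => (Ideal.Quotient.factorₐ R (hJ n)).toLinearMap)
    (fun n c => rfl)
    hQ
    (fun n c => Ideal.Quotient.eq_zero_iff_mem)
    hsepQ
    (fun q hq => hcomplete q hq)
  have hDD : ∀ (x : V) (a : R), V.toSpecΓ x ∈ DD (A := Γ(V, ⊤)) (algebraMap R Γ(V, ⊤) a) ↔
      (v ≫ U.ι) x ∈ DD (A := CommRingCat.of R) a := by
    intro x a
    have h3 := basicOpen_γ (v ≫ U.ι) a
    rw [← toSpecΓ_preimage_DD] at h3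
    exact Iff.of_eq (congrArg (x ∈ ·) h3)
  have hrange : ∀ y : Spec Γ(V, ⊤), (∃ g ∈ I, y ∈ DD (A := Γ(V, ⊤)) (algebraMap R Γ(V, ⊤) g)) →
      ∃ x : V, V.toSpecΓ x = y := by
    rintro y ⟨g, hg, hy⟩
    have h5 : IsPullback V.toSpecΓ v (Spec.map (γ (v ≫ U.ι))) U.ι := isPullback_toSpecΓ v
    have h4 : (Spec.map (γ (v ≫ U.ι))) y ∈ Set.range U.ι := by
      rw [Scheme.Opens.range_ι]
      exact hU.le g hg hy
    obtain ⟨z, hz⟩ := h4
    obtain ⟨x, hx, -⟩ := Scheme.exists_preimage_of_isPullback h5 y z hz.symm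
    exact ⟨x, hx⟩
  constructor
  · intro C hC hCf
    let O₁ : V.Opens := ⟨C, hC.2⟩
    let O₂ : V.Opens := ⟨Cᶜ, hC.1.isOpen_compl⟩
    have hsup : O₁ ⊔ O₂ = ⊤ := by
      ext x; simp [O₁, O₂]
    have hinf : O₁ ⊓ O₂ = ⊥ := by
      ext x; simp [O₁, O₂]
    obtain ⟨e, he⟩ := exists_isInd hsup hinf
    have he0 : e = 0 := by
      refine eq_zero_of_complete I Γ(V, ⊤) hrad hsep e (he.idem hsup) ?_
      intro y hy hyj hye
      obtain ⟨x, rfl⟩ := hrange y hy
      have h6 : x ∈ V.basicOpen e := by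
        rw [← toSpecΓ_preimage_DD]
        exact hye
      rw [he.basicOpen_eq hsup] at h6
      obtain ⟨j, hj, hxj⟩ := hCf x h6
      exact hyj j hj ((hDD x j).2 hxj)
    have h4 := he.left_eq_bot he0
    exact congrArg (fun O : V.Opens => (O : Set V)) h4
  · intro C₀ C₁ hC₀ hC₁ hC
    have hpb := isPullback_toSpecΓ v
    have hopen : IsOpenImmersion V.toSpecΓ := MorphismProperty.of_isPullback hpb.flip inferInstance
    have hinj : Function.Injective V.toSpecΓ := V.toSpecΓ.isOpenEmbedding.injective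
    let O₁ : (Spec Γ(V, ⊤)).Opens := V.toSpecΓ ''ᵁ ⟨C₁ᶜ, hC₁.isOpen_compl⟩
    let O₂ : (Spec Γ(V, ⊤)).Opens := V.toSpecΓ ''ᵁ ⟨C₀ᶜ, hC₀.isOpen_compl⟩
    have hO₁ : ∀ x, V.toSpecΓ x ∈ O₁ ↔ x ∉ C₁ := fun x => hinj.mem_set_image
    have hO₂ : ∀ x, V.toSpecΓ x ∈ O₂ ↔ x ∉ C₀ := fun x => hinj.mem_set_image
    obtain ⟨e, he, hee⟩ := exists_idem_of_complete I Γ(V, ⊤) hJ hrad hsep hlift O₁ O₂
      (by
        intro y hy hyf
        obtain ⟨x, rfl⟩ := hrange y hy
        have h7 := hC x (fun j hj h => hyf j hj ((hDD x j).2 h))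
        rw [hO₁, hO₂]
        tauto)
      (by
        intro y hy hyf h5 h6
        obtain ⟨x, rfl⟩ := hrange y hy
        have h7 := hC x (fun j hj h => hyf j hj ((hDD x j).2 h))
        rw [hO₁] at h5
        rw [hO₂] at h6
        exact h6 (h7.2 h5))
    refine ⟨V.basicOpen e, ⟨?_, (V.basicOpen e).2⟩, fun x hx => ?_⟩
    · have h5 : (V.basicOpen e : Set V) = (V.basicOpen (1 - e) : Set V)ᶜ := by
        apply Set.Subset.antisymm
        · intro x hx hx'
          have : x ∈ V.basicOpen e ⊓ V.basicOpen (1 - e) := ⟨hx, hx'⟩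
          rw [basicOpen_inf he] at this
          exact this
        · intro x hx
          have : x ∈ V.basicOpen e ⊔ V.basicOpen (1 - e) := by
            rw [basicOpen_sup]; trivial
          exact this.resolve_right hx
      rw [h5]
      exact (V.basicOpen (1 - e)).2.isClosed_compl
    · have h6 := hee (V.toSpecΓ x) (by
        obtain ⟨g, hg, hx⟩ := hcov x
        refine ⟨g, hg, ?_⟩
        rw [← toSpecΓ_preimage_DD] at hx
        exact hx) (fun j hj h => hx j hj ((hDD x j).1 h))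
      rw [hO₁, ← hC x hx] at h6
      rw [← h6, ← toSpecΓ_preimage_DD]
      rfl

/-- Transfer of `MClosed` along a change of ring and ideal. -/
lemma mClosed_transfer {A : Type u} [CommRing A] [Algebra A R] {m : Ideal A} {J : Ideal R}
    {Q : Type*} [AddCommGroup Q] [Module A Q] [Module R Q] [IsScalarTower A R Q]
    (hJQ : ∀ j ∈ J, ∀ y : Q, j • y = 0)
    (h : ∀ k : ℕ, ∃ k' : ℕ, ∀ a ∈ m ^ k', ∃ x ∈ I ^ k, algebraMap A R a - x ∈ J)
    (hQ : MClosed m Q) : MClosed I Q := by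
  have hz : ∀ (k : ℕ) (y : Q), (∀ x ∈ I ^ k, x • y = 0) → y = 0 := by
    intro k y hy
    obtain ⟨k', hk'⟩ := h k
    apply hQ.eq_zero k'
    intro a ha
    obtain ⟨x, hx, hax⟩ := hk' a ha
    have h1 : algebraMap A R a • y = (algebraMap A R a - x) • y + x • y := by
      rw [sub_smul, sub_add_cancel]
    rw [← algebraMap_smul R a y, h1, hJQ _ hax, hy x hx, add_zero]
  refine ⟨fun k H => ?_, hz⟩
  -- `H` kills `I ^ k ∩ J`
  have hH0 : ∀ x : ↥(I ^ k), (x : R) ∈ J → H x = 0 := by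
    intro x hx
    apply hz k
    intro z hz
    have h1 : z • H x = (x : R) • H ⟨z, hz⟩ := by
      rw [← map_smul, ← map_smul]
      exact congrArg H (Subtype.ext (mul_comm _ _))
    rw [h1, hJQ _ hx]
  have hHeq : ∀ x x' : ↥(I ^ k), (x : R) - x' ∈ J → H x = H x' := by
    intro x x' hxx'
    rw [← sub_eq_zero, ← map_sub]
    exact hH0 _ hxx'
  obtain ⟨k', hk'⟩ := h k
  have key : ∀ a : ↥(m ^ k'), ∃ x : ↥(I ^ k), algebraMap A R (a : A) - x ∈ J := by
    intro a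
    obtain ⟨x, hx, hax⟩ := hk' a a.2
    exact ⟨⟨x, hx⟩, hax⟩
  choose ξ hξ using key
  let h' : ↥(m ^ k') →ₗ[A] Q :=
    { toFun := fun a => H (ξ a)
      map_add' := fun a b => by
        rw [← map_add]
        apply hHeq
        have h1 := J.sub_mem (J.add_mem (hξ a) (hξ b)) (hξ (a + b))
        rw [Submodule.coe_add, map_add] at h1
        rw [Submodule.coe_add]
        convert h1 using 1
        ring
      map_smul' := fun a b => by
        rw [RingHom.id_apply, ← algebraMap_smul R a (H (ξ b)), ← map_smul]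
        apply hHeq
        have h1 := J.sub_mem (J.mul_mem_left (algebraMap A R a) (hξ b)) (hξ (a • b))
        rw [Submodule.coe_smul, smul_eq_mul, map_mul] at h1
        rw [Submodule.coe_smul, smul_eq_mul]
        convert h1 using 1
        ring }
  obtain ⟨y, hy⟩ := hQ.exists_smul k' h'
  refine ⟨y, fun x => ?_⟩
  rw [← sub_eq_zero]
  apply hQ.eq_zero k'
  intro a ha
  have h1 : H (ξ ⟨a, ha⟩) = a • y := hy ⟨a, ha⟩
  have h2 : algebraMap A R a • H x = (ξ ⟨a, ha⟩ : R) • H x := by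
    rw [← sub_eq_zero, ← sub_smul]
    exact hJQ _ (hξ ⟨a, ha⟩) _
  have h3 : (ξ ⟨a, ha⟩ : R) • H x = (x : R) • H (ξ ⟨a, ha⟩) := by
    rw [← map_smul, ← map_smul]
    exact congrArg H (Subtype.ext (mul_comm _ _))
  rw [smul_sub, ← algebraMap_smul R a (H x), h2, h3, h1, ← algebraMap_smul R a y,
    ← algebraMap_smul R a ((x : R) • y), smul_comm, sub_self]

end Groth.Agent.Pi1C.PuncSystem
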