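import Mathlib.RingTheory.Henselian
import Mathlib.RingTheory.Localization.Away.Basic
import Mathlib.Algebra.Module.Projective
import Mathlib.RingTheory.Noetherian.Basic

/-!
# S1135: interface between the Čech / scheme / algebra parts

`A` a ring, `g : ι → A` a finite family, `f : A`, `M` an `A`-module.  Fractions are avoided:
`x i / g i ^ p` is an element of `M_{g i}`, `z i j / (g i * g j) ^ p` an element of `M_{g i g j}`.
-/

set_option autoImplicit false

universe u

namespace Groth.Agent.Pi1C.PuncDefs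

variable {A : Type*} [CommRing A] {ι : Type*}

/-- `f ^ c` kills `coker (M → ker (∏ M_{g i} → ∏ M_{g i g j}))`. -/
def T1 (g : ι → A) (f : A) (c : ℕ) (M : Type*) [AddCommGroup M] [Module A M] : Prop :=
  ∀ (p : ℕ) (x : ι → M), (∀ i j, g j ^ p • x i = g i ^ p • x j) →
    ∃ (a : M) (N : ℕ), ∀ i, g i ^ N • (f ^ c • x i - g i ^ p • a) = 0

/-- `f ^ c` kills the Čech `H^1` of `M` with respect to `g`. -/
def T2 (g : ι → A) (f : A) (c : ℕ) (M : Type*) [AddCommGroup M] [Module A M] : Prop :=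
  ∀ (p : ℕ) (z : ι → ι → M),
    (∀ i j k, g k ^ p • z i j + g i ^ p • z j k = g j ^ p • z i k) →
    ∃ (k : ℕ) (b : ι → M), ∀ i j,
      (g i * g j) ^ k • f ^ c • z i j = g j ^ (p + k) • b i - g i ^ (p + k) • b j

/-- The algebra statement (idempotents of `C = Γ(T)` versus idempotents of `Γ(T ×_A A/f)`). -/
def Core : Prop :=
  ∀ (A : Type u) [CommRing A] [IsNoetherianRing A] (f : A) [HenselianRing A (Ideal.span {f})]
    (n : ℕ) (g : Fin n → A) (_ : f ∈ Ideal.span (Set.range g)) (c : ℕ)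
    (_ : T1 g f c A) (_ : T2 g f c A)
    (C : Type u) [CommRing C] [Algebra A C]
    -- `C` is the ring of sections of a sheaf of algebras on the union of the `D(g i)`
    (_ : ∀ (x : C) (N : ℕ), (∀ i, g i ^ N • x = 0) → x = 0)
    (_ : ∀ (p : ℕ) (x : Fin n → C), (∀ i j, g j ^ p • x i = g i ^ p • x j) →
      ∃ a : C, ∀ i, ∃ N : ℕ, g i ^ N • (x i - g i ^ p • a) = 0)
    -- `C_{g i}` is finite projective over `A_{g i}`
    (Ai Ci : Fin n → Type u) [∀ i, CommRing (Ai i)] [∀ i, CommRing (Ci i)]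
    [∀ i, Algebra A (Ai i)] [∀ i, Algebra C (Ci i)] [∀ i, Algebra (Ai i) (Ci i)]
    [∀ i, Algebra A (Ci i)] [∀ i, IsScalarTower A (Ai i) (Ci i)] [∀ i, IsScalarTower A C (Ci i)]
    [∀ i, IsLocalization.Away (g i) (Ai i)]
    [∀ i, IsLocalization.Away (algebraMap A C (g i)) (Ci i)]
    [∀ i, Module.Finite (Ai i) (Ci i)] [∀ i, Module.Projective (Ai i) (Ci i)],
    -- uniqueness
    (∀ e : C, e * e = e → (∀ i, ∃ (N : ℕ) (y : C), g i ^ N • e = f • y) → e = 0) ∧
    -- existence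
    (∀ (p : ℕ) (x : Fin n → C),
      (∀ i, ∃ (N : ℕ) (y : C), g i ^ N • (x i * x i - g i ^ p • x i) = f • y) →
      (∀ i j, ∃ (N : ℕ) (y : C), (g i * g j) ^ N • (g j ^ p • x i - g i ^ p • x j) = f • y) →
      ∃ e : C, e * e = e ∧ ∀ i, ∃ (N : ℕ) (y : C), g i ^ N • (x i - g i ^ p • e) = f • y)

end Groth.Agent.Pi1C.PuncDefs
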