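import Groth.Agent.Pi1C.PuncCover

/-!
Lifting of clopens from `V(f)`, for finite flat covers of `Spec A \ V(m)`, when `f` is not
necessarily a nonzerodivisor.
-/

set_option autoImplicit false

universe u

open CategoryTheory CategoryTheory.Limits AlgebraicGeometry TopologicalSpace Opposite

namespace Groth.Agent.Pi1C.PuncCover

open Groth.Agent.Pi1C.MLift Groth.Agent.Pi1C.PuncturedSections
open Groth.Agent.Pi1C.PuncSpec

variable {A : Type u} [CommRing A] {m : Ideal A}

lemma exists_torsion_bound [IsNoetherianRing A] (f : A) :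
    ∃ t : ℕ, ∀ (n : ℕ) (a : A), f ^ n * a = 0 → f ^ t * a = 0 := by
  let K : ℕ →o Submodule A A := ⟨fun n => LinearMap.ker (LinearMap.mulLeft A (f ^ n)), by
    intro n n' hn a ha
    rw [LinearMap.mem_ker, LinearMap.mulLeft_apply] at ha ⊢
    rw [← Nat.sub_add_cancel hn, pow_add, mul_assoc, ha, mul_zero]⟩
  obtain ⟨t, ht⟩ := monotone_stabilizes_iff_noetherian.2 ‹IsNoetherianRing A› K
  refine ⟨t, fun n a ha => ?_⟩
  have h1 : a ∈ K (t + n) := by
    change a ∈ LinearMap.ker (LinearMap.mulLeft A (f ^ (t + n)))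
    rw [LinearMap.mem_ker, LinearMap.mulLeft_apply, pow_add, mul_assoc, ha, mul_zero]
  rw [← ht (t + n) (by omega)] at h1
  exact h1

theorem general_case [IsNoetherianRing A] {f : A} (hfm : f ∈ m)
    {c c' : ℕ} (h1 : H1Cond m f c A) (h2 : H2Cond m f c' A)
    (hlift : IdemLift A (Ideal.span {f})) {U : (Spec (CommRingCat.of A)).Opens} (hU : IsPunc m U)
    {V : Scheme.{u}} (v : V ⟶ U) [IsFinite v] [Flat v] :
    (∀ C : Set V, IsClopen C → (∀ x ∈ C, (v ≫ U.ι) x ∈ DD (A := CommRingCat.of A) f) → C = ∅) ∧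
    (∀ C₀ C₁ : Set V, IsClosed C₀ → IsClosed C₁ →
      (∀ x, (v ≫ U.ι) x ∉ DD (A := CommRingCat.of A) f → (x ∈ C₀ ↔ x ∉ C₁)) →
      ∃ C : Set V, IsClopen C ∧
        ∀ x, (v ≫ U.ι) x ∉ DD (A := CommRingCat.of A) f → (x ∈ C ↔ x ∈ C₀)) := by
  obtain ⟨t, ht⟩ := exists_torsion_bound f
  let K : Ideal A := LinearMap.ker (LinearMap.mulLeft A (f ^ t))
  have hK : ∀ a, a ∈ K ↔ f ^ t * a = 0 := fun a => by
    rw [LinearMap.mem_ker, LinearMap.mulLeft_apply]
  let A' := A ⧸ K
  have hs : Function.Surjective (algebraMap A A') := Ideal.Quotient.mk_surjective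
  have _ : IsNoetherianRing A' := isNoetherianRing_of_surjective A A' (algebraMap A A') hs
  have hk : ∀ a : A, algebraMap A A' a = 0 → f ^ t * a = 0 := fun a ha =>
    (hK a).1 (Ideal.Quotient.eq_zero_iff_mem.1 ha)
  have hf' : ∀ a : A', algebraMap A A' f * a = 0 → a = 0 := by
    intro a ha
    obtain ⟨a, rfl⟩ := hs a
    rw [← map_mul] at ha
    have h3 := hk _ ha
    apply Ideal.Quotient.eq_zero_iff_mem.2
    rw [hK]
    apply ht (t + 1)
    rw [pow_succ, mul_assoc, h3]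
  let m' := m.map (algebraMap A A')
  have h1' := h1.quot hs hk
  have h2' := h2.quot hs hk
  let μ : CommRingCat.of A ⟶ CommRingCat.of A' := CommRingCat.ofHom (algebraMap A A')
  let U' : (Spec (CommRingCat.of A')).Opens := Spec.map μ ⁻¹ᵁ U
  have hU' : IsPunc m' U' := by
    constructor
    · intro g hg
      obtain ⟨a, ha, rfl⟩ := (Ideal.mem_map_iff_of_surjective _ hs).1 hg
      intro x hx
      exact hU.le a ha hx
    · intro x hx
      obtain ⟨a, ha, hx⟩ := hU.cov _ hx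
      exact ⟨algebraMap A A' a, Ideal.mem_map_of_mem _ ha, hx⟩
  let ν : U'.toScheme ⟶ U.toScheme := Spec.map μ ∣_ U
  have hν : ν ≫ U.ι = U'.ι ≫ Spec.map μ := morphismRestrict_ι _ _
  have hνcl : IsClosedImmersion ν := by
    have : IsClosedImmersion (Spec.map μ) := IsClosedImmersion.spec_of_surjective _ hs
    exact inferInstance
  let V' := pullback v ν
  let p : V' ⟶ V := pullback.fst v ν
  let v' : V' ⟶ U' := pullback.snd v ν
  have hpcl : IsClosedImmersion p := inferInstance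
  have hpv : p ≫ v ≫ U.ι = (v' ≫ U'.ι) ≫ Spec.map μ := by
    rw [Category.assoc, ← hν, ← Category.assoc, ← Category.assoc, pullback.condition]
  have hDD : ∀ x : V', (v' ≫ U'.ι) x ∈ DD (A := CommRingCat.of A') (algebraMap A A' f) ↔
      (v ≫ U.ι) (p x) ∈ DD (A := CommRingCat.of A) f := by
    intro x
    rw [← Scheme.Hom.comp_apply p, hpv, Scheme.Hom.comp_apply (v' ≫ U'.ι)]
    rfl
  have hrange : ∀ x : V, (v ≫ U.ι) x ∈ DD (A := CommRingCat.of A) f → ∃ y, p y = x := by
    intro x hx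
    have h3 : (v ≫ U.ι) x ∈ Set.range (Spec.map μ) := by
      have h4 : Set.range (Spec.map μ) = PrimeSpectrum.zeroLocus (K : Set A) := by
        have := range_comap_of_surjective A' (Ideal.Quotient.mk K)
          Ideal.Quotient.mk_surjective
        rw [Ideal.mk_ker] at this
        exact this
      rw [h4]
      change (K : Set A) ⊆ _
      intro a ha
      rw [SetLike.mem_coe, hK] at ha
      set P : Ideal A := PrimeSpectrum.asIdeal ((v ≫ U.ι) x) with hP
      have hPp : P.IsPrime := PrimeSpectrum.isPrime ((v ≫ U.ι) x)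
      have hx' : f ∉ P := hx
      have h5 : f ^ t * a ∈ P := by rw [ha]; exact P.zero_mem
      exact (hPp.mem_or_mem h5).resolve_left (fun h6 => hx' (hPp.mem_of_pow_mem t h6))
    obtain ⟨z, hz⟩ := h3
    have h6 : z ∈ U' := by
      change (Spec.map μ) z ∈ U
      rw [hz, Scheme.Hom.comp_apply]
      exact (v x).2
    have h7 : ν ⟨z, h6⟩ = v x := by
      apply U.ι.isOpenEmbedding.injective
      rw [← Scheme.Hom.comp_apply, hν, ← Scheme.Hom.comp_apply, Scheme.Hom.comp_apply]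
      exact hz
    obtain ⟨y, hy, -⟩ := Scheme.exists_preimage_of_isPullback (IsPullback.of_hasPullback v ν) x
      ⟨z, h6⟩ h7.symm
    exact ⟨y, hy⟩
  have hpinj : Function.Injective p := p.isClosedEmbedding.injective
  have hpclosed : IsClosedMap p := p.isClosedEmbedding.isClosedMap
  obtain ⟨H1, H2⟩ := nzd_case (m := m') (Ideal.mem_map_of_mem _ hfm) hf' h1' h2'
    (hlift.quot hs) hU' v'
  constructor
  · intro C hC hCf
    have h3 := H1 (p ⁻¹' C) (hC.preimage p.continuous) (fun x hx => (hDD x).2 (hCf _ hx))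
    apply Set.eq_empty_of_forall_notMem
    intro x hx
    obtain ⟨y, rfl⟩ := hrange x (hCf x hx)
    have : y ∈ p ⁻¹' C := hx
    rw [h3] at this
    exact this
  · intro C₀ C₁ hC₀ hC₁ hC
    obtain ⟨C', hC', hC'0⟩ := H2 (p ⁻¹' C₀) (p ⁻¹' C₁) (hC₀.preimage p.continuous)
      (hC₁.preimage p.continuous) (fun x hx => hC (p x) (fun h => hx ((hDD x).2 h)))
    let Z : Set V := {x | (v ≫ U.ι) x ∉ DD (A := CommRingCat.of A) f}
    have hZ : IsClosed Z := by
      have : IsOpen Zᶜ := by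
        have h4 : Zᶜ = ((v ≫ U.ι) ⁻¹ᵁ (DD (A := CommRingCat.of A) f) : Set V) := by
          ext x; simp [Z]
        rw [h4]
        exact ((v ≫ U.ι) ⁻¹ᵁ (DD (A := CommRingCat.of A) f)).2
      exact ⟨this⟩
    have key : ∀ y : V', p y ∈ Z → (y ∈ C' ↔ p y ∈ C₀) := fun y hy =>
      hC'0 y (fun h => hy ((hDD y).1 h))
    let C : Set V := p '' C' ∪ (C₀ ∩ Z)
    let D : Set V := p '' C'ᶜ ∪ (C₁ ∩ Z)
    have hCcl : IsClosed C := (hpclosed _ hC'.1).union (hC₀.inter hZ)
    have hDcl : IsClosed D := (hpclosed _ hC'.2.isClosed_compl).union (hC₁.inter hZ)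
    have hCD : C = Dᶜ := by
      apply Set.Subset.antisymm
      · rintro x (⟨y, hy, rfl⟩ | ⟨hx, hxZ⟩) (⟨y', hy', hyy'⟩ | ⟨hx', hx'Z⟩)
        · exact hy' (hpinj hyy' ▸ hy)
        · exact (hC _ hx'Z).1 ((key y hx'Z).1 hy) hx'
        · subst hyy'
          exact hy' ((key y' hxZ).2 hx)
        · exact (hC _ hxZ).1 hx hx'
      · intro x hx
        have hx1 : x ∉ p '' C'ᶜ := fun h => hx (Or.inl h)
        have hx2 : x ∉ C₁ ∩ Z := fun h => hx (Or.inr h)
        by_cases hxZ : x ∈ Z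
        · exact Or.inr ⟨(hC x hxZ).2 (fun h => hx2 ⟨h, hxZ⟩), hxZ⟩
        · obtain ⟨y, rfl⟩ := hrange x (not_not.1 hxZ)
          left
          refine ⟨y, ?_, rfl⟩
          by_contra hcon
          exact hx1 ⟨y, hcon, rfl⟩
    refine ⟨C, ⟨hCcl, ?_⟩, fun x hx => ⟨?_, fun h => Or.inr ⟨h, hx⟩⟩⟩
    · rw [hCD]
      exact hDcl.isOpen_compl
    · rintro (⟨y, hy, rfl⟩ | h)
      · exact (key y hx).1 hy
      · exact h.1

end Groth.Agent.Pi1C.PuncCover
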