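import Groth.Agent.Pi1C.SectionsClosed
import Groth.Agent.Sga2.IdemClopen

/-!
The open `Spec R \ V(mR)` of `Spec R` for an `A`-algebra `R` and an ideal `m` of `A`, its sections;
lifting of clopens of its closed subset `f = 0`.
-/

set_option autoImplicit false

universe u

open CategoryTheory CategoryTheory.Limits AlgebraicGeometry TopologicalSpace Opposite

namespace Groth.Agent.Pi1C.PuncSpec

open Groth.Agent.Pi1C.MLift Groth.Agent.Pi1C.PuncturedSections

section

variable {A R : Type u} [CommRing A] [CommRing R] [Algebra A R] (m : Ideal A)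

/-- `W` is the complement of `V(mR)` -/
structure IsPunc (W : (Spec (CommRingCat.of R)).Opens) : Prop where
  le : ∀ g ∈ m, DD (A := CommRingCat.of R) (algebraMap A R g) ≤ W
  cov : ∀ x ∈ W, ∃ g ∈ m, x ∈ DD (A := CommRingCat.of R) (algebraMap A R g)

/-- `R → Γ(W, O)` -/
noncomputable def rho (W : (Spec (CommRingCat.of R)).Opens) : R →+* Γ(W.toScheme, ⊤) :=
  ((Scheme.ΓSpecIso (CommRingCat.of R)).inv ≫ W.ι.appTop).hom

lemma rho_apply (W : (Spec (CommRingCat.of R)).Opens) (r : R) :
    rho W r = W.ι.appTop ((Scheme.ΓSpecIso (CommRingCat.of R)).inv r) := rfl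

lemma basicOpen_inv (r : R) :
    (Spec (CommRingCat.of R)).basicOpen ((Scheme.ΓSpecIso (CommRingCat.of R)).inv r) =
      DD (A := CommRingCat.of R) r :=
  basicOpen_eq_of_affine (R := CommRingCat.of R) r

instance (W : (Spec (CommRingCat.of R)).Opens) : QuasiSeparatedSpace W.toScheme :=
  quasiSeparatedSpace_of_quasiSeparated W.ι

lemma basicOpen_rho (W : (Spec (CommRingCat.of R)).Opens) (r : R) :
    W.toScheme.basicOpen (rho W r) = W.ι ⁻¹ᵁ (DD (A := CommRingCat.of R) r) := by
  rw [rho_apply, ← Scheme.preimage_basicOpen_top, basicOpen_inv]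

variable (A) in
/-- The `A`-algebra structure on `Γ(W, O)`. -/
@[reducible] noncomputable def algΓ (W : (Spec (CommRingCat.of R)).Opens) :
    Algebra A Γ(W.toScheme, ⊤) := ((rho W).comp (algebraMap A R)).toAlgebra

variable {m} {W : (Spec (CommRingCat.of R)).Opens} (hW : IsPunc m W)

include hW

lemma IsPunc.cov' (x : W.toScheme) :
    ∃ g ∈ m, x ∈ W.toScheme.basicOpen (rho W (algebraMap A R g)) := by
  obtain ⟨g, hg, hx⟩ := hW.cov (W.ι x) (by simp)
  exact ⟨g, hg, by rw [basicOpen_rho]; exact hx⟩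

lemma IsPunc.mClosed : letI := algΓ A W; MClosed m Γ(W.toScheme, ⊤) :=
  letI := algΓ A W
  SectionsClosed.mClosed m hW.cov'

lemma IsPunc.eq_iSup : W = ⨆ g : m, DD (A := CommRingCat.of R) (algebraMap A R g) := by
  apply le_antisymm
  · intro x hx
    obtain ⟨g, hg, hx⟩ := hW.cov x hx
    exact Opens.mem_iSup.mpr ⟨⟨g, hg⟩, hx⟩
  · exact iSup_le fun g => hW.le g g.2

lemma IsPunc.compactSpace (hm : m.FG) : CompactSpace W.toScheme := by
  obtain ⟨s, hs⟩ := hm
  have h1 : W = ⨆ g : s, DD (A := CommRingCat.of R) (algebraMap A R g) := by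
    apply le_antisymm
    · intro x hx
      by_contra hcon
      obtain ⟨g, hg, hx⟩ := hW.cov x hx
      apply hx
      have h2 : m ≤ Ideal.comap (algebraMap A R) (x : PrimeSpectrum R).asIdeal := by
        rw [← hs, Ideal.span_le]
        intro a ha
        by_contra hcon2
        exact hcon (Opens.mem_iSup.mpr ⟨⟨a, ha⟩, hcon2⟩)
      exact h2 hg
    · exact iSup_le fun g => hW.le g (hs ▸ Ideal.subset_span g.2)
  have h2 : IsCompact (W : Set (Spec (CommRingCat.of R))) := by
    rw [h1, Opens.coe_iSup]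
    exact isCompact_iUnion fun g => PrimeSpectrum.isCompact_basicOpen _
  exact isCompact_iff_compactSpace.mp h2

lemma isIso_app_basicOpen {g : A} (hg : g ∈ m) :
    IsIso (W.ι.app ((Spec (CommRingCat.of R)).basicOpen
      ((Scheme.ΓSpecIso (CommRingCat.of R)).inv (algebraMap A R g)))) := by
  apply W.ι.isIso_app
  rw [basicOpen_inv, Scheme.Opens.opensRange_ι]
  exact hW.le g hg

theorem IsPunc.ker (hm : m.FG) (r : R) (hr : rho W r = 0) :
    ∃ k : ℕ, ∀ x ∈ m ^ k, x • r = 0 := by
  have := hW.compactSpace hm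
  refine exists_pow_smul_eq_zero m hm r fun g hg => ?_
  obtain ⟨n, hn⟩ := exists_pow_mul_eq_zero_of_isIso_app W.ι _ (isIso_app_basicOpen hW hg) _ hr
  refine ⟨n, ?_⟩
  have h1 : (Scheme.ΓSpecIso (CommRingCat.of R)).inv (algebraMap A R g ^ n * r) = 0 := by
    rw [map_mul, map_pow]
    exact hn
  have h2 := congrArg (Scheme.ΓSpecIso (CommRingCat.of R)).hom h1
  rw [map_zero] at h2
  rw [Algebra.smul_def, map_pow]
  simpa using h2

theorem IsPunc.coker (hm : m.FG) (s : Γ(W.toScheme, ⊤)) :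
    letI := algΓ A W
    ∃ k : ℕ, ∀ x ∈ m ^ k, ∃ r, rho W r = x • s := by
  let _ := algΓ A W
  have := hW.compactSpace hm
  let N : Submodule A Γ(W.toScheme, ⊤) := LinearMap.range
    (⟨⟨rho W, map_add _⟩, fun a r => by
      change rho W (a • r) = rho W (algebraMap A R a) * rho W r
      rw [Algebra.smul_def, map_mul]⟩ : R →ₗ[A] Γ(W.toScheme, ⊤))
  refine exists_pow_smul_mem m hm N s fun g hg => ?_
  obtain ⟨n, x, hx⟩ := exists_pow_mul_eq_of_isIso_app W.ι _ (isIso_app_basicOpen hW hg) s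
  refine ⟨n, (Scheme.ΓSpecIso (CommRingCat.of R)).hom x, ?_⟩
  change rho W _ = _
  rw [Algebra.smul_def, map_pow]
  refine Eq.trans ?_ hx
  rw [rho_apply]
  congr 1
  simp

end

end Groth.Agent.Pi1C.PuncSpec
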