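import Groth.Agent.Pi1C.PuncLift
import Groth.Agent.Pi1C.CLift2

/-!
The system of sections of `O / J n` on the complement of `V(I)`, and lifting clopens to idempotents
when every compatible family of sections lifts.
-/

set_option autoImplicit false

universe u

open CategoryTheory CategoryTheory.Limits AlgebraicGeometry TopologicalSpace Opposite

namespace Groth.Agent.Pi1C.PuncSystem

open Groth.Agent.Pi1C.MLift Groth.Agent.Pi1C.PuncturedSections Groth.Agent.Sga2.IdemClopen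
open Groth.Agent.Pi1C.PuncSpec

variable {R : Type u} [CommRing R] (I : Ideal R) (J : ℕ → Ideal R)
  (C : Type u) [CommRing C] [Algebra R C]

/-- The open `Spec (C / J n) \ V(I)`. -/
noncomputable def WW (n : ℕ) :
    (Spec (CommRingCat.of (C ⧸ (J n).map (algebraMap R C)))).Opens := punc I _

lemma isPunc_WW (n : ℕ) : IsPunc I (WW I J C n) := isPunc_punc I _

/-- Sections of `O / J n` on the complement of `V(I)`. -/
def SS (n : ℕ) : Type u := Γ((WW I J C n).toScheme, ⊤)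

noncomputable instance (n : ℕ) : CommRing (SS I J C n) :=
  inferInstanceAs (CommRing Γ((WW I J C n).toScheme, ⊤))

noncomputable instance (n : ℕ) : Algebra R (SS I J C n) := algΓ R (WW I J C n)

/-- `C → Γ(W_n, O)`. -/
noncomputable def rhoA (n : ℕ) : C →ₐ[R] SS I J C n :=
  { (rho (WW I J C n)).comp (Ideal.Quotient.mk _) with commutes' := fun _ => rfl }

lemma rhoA_apply (n : ℕ) (c : C) : rhoA I J C n c = rho (WW I J C n) (Ideal.Quotient.mk _ c) := rfl

variable {J} (hJ : ∀ n, J (n + 1) ≤ J n)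

/-- `C / J (n+1) → C / J n`. -/
noncomputable def Phi (n : ℕ) :
    C ⧸ (J (n + 1)).map (algebraMap R C) →ₐ[R] C ⧸ (J n).map (algebraMap R C) :=
  Ideal.Quotient.factorₐ R (Ideal.map_mono (hJ n))

lemma WW_eq (n : ℕ) :
    WW I J C n = Spec.map (CommRingCat.ofHom (Phi C hJ n).toRingHom) ⁻¹ᵁ (WW I J C (n + 1)) :=
  (isPunc_WW I J C n).eq_iSup.trans ((isPunc_WW I J C (n + 1)).preimage (Phi C hJ n)).eq_iSup.symm

/-- `W_n → W_{n+1}`. -/
noncomputable def trans (n : ℕ) : (WW I J C n).toScheme ⟶ (WW I J C (n + 1)).toScheme :=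
  (Spec.map (CommRingCat.ofHom (Phi C hJ n).toRingHom)).resLE _ _ (WW_eq I C hJ n).le

lemma trans_ι (n : ℕ) : trans I C hJ n ≫ (WW I J C (n + 1)).ι =
    (WW I J C n).ι ≫ Spec.map (CommRingCat.ofHom (Phi C hJ n).toRingHom) :=
  Scheme.Hom.resLE_comp_ι _ _

lemma trans_rho (n : ℕ) (c : C) :
    (trans I C hJ n).appTop (rho (WW I J C (n + 1)) (Ideal.Quotient.mk _ c)) =
      rho (WW I J C n) (Ideal.Quotient.mk _ c) := by
  have h3 := congr(Scheme.Hom.appTop $(trans_ι I C hJ n))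
  rw [Scheme.Hom.comp_appTop, Scheme.Hom.comp_appTop] at h3
  have h4 := congr($h3 ((Scheme.ΓSpecIso (CommRingCat.of (C ⧸ (J (n + 1)).map (algebraMap R C)))).inv
    (Ideal.Quotient.mk _ c)))
  have h5 := Scheme.ΓSpecIso_inv_naturality (CommRingCat.ofHom (Phi C hJ n).toRingHom)
  have h6 := congr($h5 (Ideal.Quotient.mk _ c))
  refine h4.trans ?_
  change (WW I J C n).ι.appTop ((Spec.map _).appTop _) = _
  rw [rho_apply]
  congr 1
  exact h6.symm

/-- `Γ(W_{n+1}) → Γ(W_n)`. -/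
noncomputable def tA (n : ℕ) : SS I J C (n + 1) →ₐ[R] SS I J C n :=
  { (trans I C hJ n).appTop.hom with
    commutes' := fun r => trans_rho I C hJ n (algebraMap R C r) }

lemma tA_apply (n : ℕ) (s : SS I J C (n + 1)) : tA I C hJ n s = (trans I C hJ n).appTop s := rfl

lemma tA_rhoA (n : ℕ) (c : C) : tA I C hJ n (rhoA I J C (n + 1) c) = rhoA I J C n c :=
  trans_rho I C hJ n c

variable (J)

lemma SS_mClosed (n : ℕ) : MClosed I (SS I J C n) := (isPunc_WW I J C n).mClosed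

variable {I} in
lemma rhoA_coker (hI : I.FG) (n : ℕ) (s : SS I J C n) :
    ∃ k : ℕ, ∀ x ∈ I ^ k, ∃ c, rhoA I J C n c = x • s := by
  obtain ⟨k, hk⟩ := (isPunc_WW I J C n).coker hI s
  refine ⟨k, fun x hx => ?_⟩
  obtain ⟨r, hr⟩ := hk x hx
  obtain ⟨b, rfl⟩ := Ideal.Quotient.mk_surjective r
  exact ⟨b, hr⟩

variable {I} in
lemma rhoA_eq_zero_iff (hI : I.FG) (n : ℕ) (c : C) :
    rhoA I J C n c = 0 ↔ ∃ k : ℕ, ∀ x ∈ I ^ k, x • c ∈ (J n • ⊤ : Submodule R C) := by
  constructor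
  · intro h
    obtain ⟨k, hk⟩ := (isPunc_WW I J C n).ker hI _ h
    refine ⟨k, fun x hx => ?_⟩
    rw [Ideal.smul_top_eq_map, Submodule.restrictScalars_mem, ← Ideal.Quotient.eq_zero_iff_mem]
    exact hk x hx
  · rintro ⟨k, hk⟩
    apply (SS_mClosed I J C n).eq_zero k
    intro x hx
    rw [← map_smul, rhoA_apply]
    have h1 := hk x hx
    rw [Ideal.smul_top_eq_map, Submodule.restrictScalars_mem, ← Ideal.Quotient.eq_zero_iff_mem] at h1
    rw [h1]
    exact map_zero (rho (WW I J C n))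

variable {J}

/-- `W_n → Spec C`. -/
noncomputable def qq (J : ℕ → Ideal R) (n : ℕ) :
    (WW I J C n).toScheme ⟶ Spec (CommRingCat.of C) :=
  (WW I J C n).ι ≫ Spec.map (CommRingCat.ofHom (Ideal.Quotient.mk ((J n).map (algebraMap R C))))

lemma trans_qq (n : ℕ) : trans I C hJ n ≫ qq I C J (n + 1) = qq I C J n := by
  rw [qq, ← Category.assoc, trans_ι, Category.assoc, ← Spec.map_comp, qq]
  rfl

lemma basicOpen_rhoA (n : ℕ) (c : C) :
    (WW I J C n).toScheme.basicOpen (rhoA I J C n c : Γ((WW I J C n).toScheme, ⊤)) =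
      qq I C J n ⁻¹ᵁ (DD (A := CommRingCat.of C) c) := by
  rw [rhoA_apply, basicOpen_rho, qq, Scheme.Hom.comp_preimage, preimage_DD]
  rfl

lemma qq_mem (n : ℕ) (y : (WW I J C n).toScheme) :
    ∃ g ∈ I, qq I C J n y ∈ DD (A := CommRingCat.of C) (algebraMap R C g) := by
  obtain ⟨g, hg, hy⟩ := (isPunc_WW I J C n).cov ((WW I J C n).ι y) (by simp)
  exact ⟨g, hg, hy⟩

lemma qq_notMem (hrad : ∀ n, ∀ x ∈ J 0, ∃ k, x ^ k ∈ J n) (n : ℕ) (y : (WW I J C n).toScheme)
    (j : R) (hj : j ∈ J 0) : qq I C J n y ∉ DD (A := CommRingCat.of C) (algebraMap R C j) := by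
  intro hy
  have h3 : (WW I J C n).ι y ∈ DD (A := CommRingCat.of (C ⧸ (J n).map (algebraMap R C)))
    (Ideal.Quotient.mk _ (algebraMap R C j)) := hy
  obtain ⟨k, hk⟩ := hrad n j hj
  refine not_mem_DD_of_isNilpotent (R := CommRingCat.of (C ⧸ (J n).map (algebraMap R C)))
    ⟨k, ?_⟩ _ h3
  have h4 : algebraMap R C (j ^ k) ∈ (J n).map (algebraMap R C) := Ideal.mem_map_of_mem _ hk
  rw [map_pow] at h4
  exact (map_pow (Ideal.Quotient.mk ((J n).map (algebraMap R C))) (algebraMap R C j) k).symm.trans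
    (Ideal.Quotient.eq_zero_iff_mem.2 h4)

lemma exists_qq (x : Spec (CommRingCat.of C))
    (hx : ∃ g ∈ I, x ∈ DD (A := CommRingCat.of C) (algebraMap R C g))
    (hx0 : ∀ j ∈ J 0, x ∉ DD (A := CommRingCat.of C) (algebraMap R C j)) :
    ∃ y, qq I C J 0 y = x := by
  obtain ⟨g, hg, hxg⟩ := hx
  have hx1 : x ∈ Set.range (Spec.map (CommRingCat.ofHom
      (Ideal.Quotient.mk ((J 0).map (algebraMap R C))))) := by
    have h3 : Set.range (Spec.map (CommRingCat.ofHom
        (Ideal.Quotient.mk ((J 0).map (algebraMap R C))))) =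
        PrimeSpectrum.zeroLocus ((J 0).map (algebraMap R C) : Set C) := by
      have := range_comap_of_surjective (C ⧸ (J 0).map (algebraMap R C))
        (Ideal.Quotient.mk ((J 0).map (algebraMap R C))) Ideal.Quotient.mk_surjective
      rw [Ideal.mk_ker] at this
      exact this
    rw [h3]
    change (((J 0).map (algebraMap R C) : Ideal C) : Set C) ⊆ _
    rw [SetLike.coe_subset_coe, Ideal.map_le_iff_le_comap]
    intro j hj
    have := hx0 j hj
    rw [mem_DD, not_not] at this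
    exact this
  obtain ⟨y₀, rfl⟩ := hx1
  exact ⟨⟨y₀, (isPunc_WW I J C 0).le g hg hxg⟩, rfl⟩

theorem eq_zero_of_complete
    (hrad : ∀ n, ∀ x ∈ J 0, ∃ k, x ^ k ∈ J n)
    (hsep : ∀ c : C, (∀ n, rhoA I J C n c = 0) → c = 0)
    (e : C) (he : e * e = e)
    (h : ∀ x : Spec (CommRingCat.of C), (∃ g ∈ I, x ∈ DD (A := CommRingCat.of C)
      (algebraMap R C g)) → (∀ j ∈ J 0, x ∉ DD (A := CommRingCat.of C) (algebraMap R C j)) →
      x ∉ DD (A := CommRingCat.of C) e) : e = 0 := by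
  apply hsep
  intro n
  have h1 : rhoA I J C n e * rhoA I J C n e = rhoA I J C n e := by rw [← map_mul, he]
  have h2 := isInd_of_idem (Z := (WW I J C n).toScheme) h1
  refine h2.eq_zero (basicOpen_sup (Z := (WW I J C n).toScheme) _) ?_
  rw [basicOpen_rhoA]
  ext y
  simp only [Opens.coe_bot, Set.mem_empty_iff_false, iff_false]
  intro hy
  exact h (qq I C J n y) (qq_mem I C n y) (fun j hj => qq_notMem I C hrad n y j hj) hy

include hJ in
theorem exists_idem_of_complete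
    (hrad : ∀ n, ∀ x ∈ J 0, ∃ k, x ^ k ∈ J n)
    (hsep : ∀ c : C, (∀ n, rhoA I J C n c = 0) → c = 0)
    (hlift : ∀ s : ∀ n, SS I J C n, (∀ n, tA I C hJ n (s (n + 1)) = s n) →
      ∃ c, ∀ n, rhoA I J C n c = s n)
    (O₁ O₂ : (Spec (CommRingCat.of C)).Opens)
    (h1 : ∀ x : Spec (CommRingCat.of C), (∃ g ∈ I, x ∈ DD (A := CommRingCat.of C)
      (algebraMap R C g)) → (∀ j ∈ J 0, x ∉ DD (A := CommRingCat.of C) (algebraMap R C j)) →
      x ∈ O₁ ∨ x ∈ O₂)
    (h2 : ∀ x : Spec (CommRingCat.of C), (∃ g ∈ I, x ∈ DD (A := CommRingCat.of C)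
      (algebraMap R C g)) → (∀ j ∈ J 0, x ∉ DD (A := CommRingCat.of C) (algebraMap R C j)) →
      x ∈ O₁ → x ∈ O₂ → False) :
    ∃ e : C, e * e = e ∧ ∀ x : Spec (CommRingCat.of C), (∃ g ∈ I, x ∈ DD (A := CommRingCat.of C)
      (algebraMap R C g)) → (∀ j ∈ J 0, x ∉ DD (A := CommRingCat.of C) (algebraMap R C j)) →
      (x ∈ DD (A := CommRingCat.of C) e ↔ x ∈ O₁) := by
  have hsup : ∀ n, qq I C J n ⁻¹ᵁ O₁ ⊔ qq I C J n ⁻¹ᵁ O₂ = ⊤ := by
    intro n
    ext y
    simp only [Opens.coe_sup, Opens.coe_top, Set.mem_univ, iff_true]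
    exact h1 (qq I C J n y) (qq_mem I C n y) (fun j hj => qq_notMem I C hrad n y j hj)
  have hinf : ∀ n, qq I C J n ⁻¹ᵁ O₁ ⊓ qq I C J n ⁻¹ᵁ O₂ = ⊥ := by
    intro n
    ext y
    simp only [Opens.coe_inf, Opens.coe_bot, Set.mem_empty_iff_false, iff_false]
    intro hy
    exact h2 (qq I C J n y) (qq_mem I C n y) (fun j hj => qq_notMem I C hrad n y j hj) hy.1 hy.2
  have hex := fun n => exists_isInd (hsup n) (hinf n)
  choose s hs using hex
  have hcompat : ∀ n, tA I C hJ n (s (n + 1)) = s n := by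
    intro n
    rw [tA_apply]
    have h3 := (hs (n + 1)).comap (trans I C hJ n)
    rw [← Scheme.Hom.comp_preimage, ← Scheme.Hom.comp_preimage, trans_qq] at h3
    exact h3.unique (hsup n) (hs n)
  obtain ⟨e, he⟩ := hlift s hcompat
  refine ⟨e, ?_, ?_⟩
  · rw [← sub_eq_zero]
    apply hsep
    intro n
    rw [map_sub, map_mul, he, sub_eq_zero]
    exact (hs n).idem (hsup n)
  · intro x hx hx0
    obtain ⟨y, rfl⟩ := exists_qq I C x hx hx0
    have h4 := (hs 0).basicOpen_eq (hsup 0)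
    have h5 : s 0 = rhoA I J C 0 e := (he 0).symm
    rw [h5, basicOpen_rhoA] at h4
    exact Iff.of_eq (congrArg (y ∈ ·) h4)

end Groth.Agent.Pi1C.PuncSystem
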