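import Mathlib.AlgebraicGeometry.QuasiAffine
import Mathlib.AlgebraicGeometry.Morphisms.Flat
import Mathlib.AlgebraicGeometry.Morphisms.Finite

/-!
Affine morphisms `π : V ⟶ U` to a quasi-compact open `U` of `Spec A`: `V` is recovered from its ring
of global sections (as an `A`-algebra), and more generally from any `A`-algebra `B ⟶ Γ(V)` which
becomes an isomorphism after inverting any `a : A` with `D(a) ⊆ U`.
-/

set_option autoImplicit false

universe u

open CategoryTheory CategoryTheory.Limits AlgebraicGeometry TopologicalSpace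

namespace Groth.Agent.Pi1C.PuncturedSections

lemma isLocalization_away_comp {B C D : Type*} [CommRing B] [CommRing C] [CommRing D]
    (ψ : B →+* C) (ρ : C →+* D) (b : B)
    (hρ : @IsLocalization.Away C _ (ψ b) D _ ρ.toAlgebra)
    (hinj : ∀ x : B, ψ x = 0 → ∃ n : ℕ, b ^ n * x = 0)
    (hsurj : ∀ y : C, ∃ n : ℕ, ∃ x : B, ψ x = ψ b ^ n * y) :
    @IsLocalization.Away B _ b D _ (ρ.comp ψ).toAlgebra := by
  let _ : Algebra C D := ρ.toAlgebra
  let _ : Algebra B D := (ρ.comp ψ).toAlgebra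
  have e1 : algebraMap C D = ρ := rfl
  have e2 : algebraMap B D = ρ.comp ψ := rfl
  constructor; constructor
  · rintro ⟨_, n, rfl⟩
    rw [e2]
    have := IsLocalization.map_units D (⟨ψ b ^ n, n, rfl⟩ : Submonoid.powers (ψ b))
    simpa [e1] using this
  · intro z
    obtain ⟨⟨y, ⟨_, n, rfl⟩⟩, hy⟩ := IsLocalization.surj (Submonoid.powers (ψ b)) z
    obtain ⟨m, x, hx⟩ := hsurj y
    refine ⟨⟨x, ⟨_, m + n, rfl⟩⟩, ?_⟩
    simp only [e1, e2, RingHom.comp_apply, map_pow] at hy ⊢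
    rw [hx, map_mul, map_pow, ← hy, pow_add]
    ring
  · intro x y hxy
    simp only [e2, RingHom.comp_apply] at hxy
    rw [← e1] at hxy
    obtain ⟨⟨_, n, rfl⟩, hn⟩ := IsLocalization.exists_of_eq (M := Submonoid.powers (ψ b)) hxy
    have h1 : ψ (b ^ n * (x - y)) = 0 := by
      rw [map_mul, map_pow, map_sub, mul_sub, sub_eq_zero]
      exact hn
    obtain ⟨m, hm⟩ := hinj _ h1
    refine ⟨⟨_, m + n, rfl⟩, ?_⟩
    rw [← mul_assoc, ← pow_add, mul_sub, sub_eq_zero] at hm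
    exact hm

/-- The basic open `D(a)` as an open of the scheme `Spec A`. -/
abbrev DD {A : CommRingCat.{u}} (a : A) : (Spec A).Opens := PrimeSpectrum.basicOpen a

lemma preimage_DD {A B : CommRingCat.{u}} (b : A ⟶ B) (a : A) :
    Spec.map b ⁻¹ᵁ DD a = DD (b a) := rfl

lemma toSpecΓ_preimage_DD (V : Scheme.{u}) (r : Γ(V, ⊤)) :
    V.toSpecΓ ⁻¹ᵁ DD r = V.basicOpen r := Scheme.toSpecΓ_preimage_basicOpen _ _

lemma mem_DD {A : CommRingCat.{u}} (a : A) (x : Spec A) :
    x ∈ DD a ↔ a ∉ (x : PrimeSpectrum A).asIdeal := Iff.rfl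

lemma exists_DD_le {A : CommRingCat.{u}} {U : (Spec A).Opens} {x : Spec A} (hx : x ∈ U) :
    ∃ a : A, x ∈ DD a ∧ DD a ≤ U := by
  obtain ⟨_, ⟨_, ⟨a, rfl⟩, rfl⟩, hxa, haU⟩ :=
    (PrimeSpectrum.isBasis_basic_opens (R := A)).exists_subset_of_mem_open
      (a := x) (u := (U : Set (Spec A))) hx U.2
  exact ⟨a, hxa, haU⟩

/-- Let `U` be an open of `Spec A`, `π : V ⟶ U` an affine morphism from a qcqs scheme, and
`g : V ⟶ Spec B` a morphism over `Spec A`. If `B → Γ(V)` becomes bijective after inverting each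
`a` with `D(a) ⊆ U`, then `V = Spec B ×_{Spec A} U`. -/
theorem isPullback_of_localization {A B : CommRingCat.{u}} (b : A ⟶ B) {U : (Spec A).Opens}
    {V : Scheme.{u}} [CompactSpace V] [QuasiSeparatedSpace V] (π : V ⟶ U) [IsAffineHom π]
    (g : V ⟶ Spec B) (w : g ≫ Spec.map b = π ≫ U.ι)
    (hinj : ∀ a : A, DD a ≤ U → ∀ x : B,
      ((Scheme.ΓSpecIso B).inv ≫ g.appTop) x = 0 → ∃ n : ℕ, b a ^ n * x = 0)
    (hsurj : ∀ a : A, DD a ≤ U → ∀ y : Γ(V, ⊤), ∃ n : ℕ, ∃ x : B,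
      ((Scheme.ΓSpecIso B).inv ≫ g.appTop) x =
        ((Scheme.ΓSpecIso B).inv ≫ g.appTop) (b a) ^ n * y) :
    IsPullback g π (Spec.map b) U.ι := by
  set ψ : B ⟶ Γ(V, ⊤) := (Scheme.ΓSpecIso B).inv ≫ g.appTop with hψ
  have hg : g = V.toSpecΓ ≫ Spec.map ψ := by
    rw [hψ, Spec.map_comp, ← Scheme.toSpecΓ_naturality_assoc]
    simp
  clear_value ψ
  -- the basic facts over `D(a)`
  have hpre : ∀ a : A, g ⁻¹ᵁ (DD (b a)) = V.basicOpen (ψ (b a)) := by
    intro a
    rw [hg, Scheme.Hom.comp_preimage, preimage_DD, toSpecΓ_preimage_DD]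
  have haff : ∀ a : A, DD a ≤ U → IsAffineOpen (V.basicOpen (ψ (b a))) := by
    intro a ha
    rw [← hpre a, ← preimage_DD, ← Scheme.Hom.comp_preimage, w, Scheme.Hom.comp_preimage]
    apply IsAffineOpen.preimage
    apply (IsAffineOpen.Spec_basicOpen a).preimage_of_isOpenImmersion
    simpa using ha
  have hloc : ∀ a : A, DD a ≤ U →
      @IsLocalization.Away B _ (b a) Γ(V, V.basicOpen (ψ (b a))) _
        ((V.presheaf.map (homOfLE le_top).op).hom.comp ψ.hom).toAlgebra := by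
    intro a ha
    apply isLocalization_away_comp
    · exact isLocalization_basicOpen_of_qcqs isCompact_univ isQuasiSeparated_univ (ψ (b a))
    · exact hinj a ha
    · exact hsurj a ha
  have hfac : ∀ (a : A) (ha : DD a ≤ U),
      (V.basicOpen (ψ (b a))).ι ≫ g = (haff a ha).isoSpec.hom ≫
        Spec.map (ψ ≫ V.presheaf.map (homOfLE le_top).op) := by
    intro a ha
    rw [hg, Spec.map_comp, ← Scheme.Opens.toSpecΓ_SpecMap_presheaf_map_top_assoc]
    simp [IsAffineOpen.isoSpec_hom]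
  have hmap : ∀ (a : A) (ha : DD a ≤ U),
      IsOpenImmersion (Spec.map (ψ ≫ V.presheaf.map (homOfLE le_top :
        V.basicOpen (ψ (b a)) ⟶ ⊤).op)) ∧
      (DD (b a) : Set (Spec B)) ⊆ Set.range (Spec.map (ψ ≫ V.presheaf.map (homOfLE le_top :
        V.basicOpen (ψ (b a)) ⟶ ⊤).op)) := by
    intro a ha
    let _ := ((V.presheaf.map (homOfLE le_top :
        V.basicOpen (ψ (b a)) ⟶ ⊤).op).hom.comp ψ.hom).toAlgebra
    have h1 : IsLocalization.Away (b a) Γ(V, V.basicOpen (ψ (b a))) := hloc a ha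
    have h2 : IsOpenImmersion (Spec.map (CommRingCat.ofHom (algebraMap B
      Γ(V, V.basicOpen (ψ (b a)))))) := IsOpenImmersion.of_isLocalization (b a)
    refine ⟨h2, ?_⟩
    have h3 := PrimeSpectrum.localization_away_comap_range Γ(V, V.basicOpen (ψ (b a))) (b a)
    exact h3.symm.le
  have hopen : IsOpenImmersion g := by
    refine IsZariskiLocalAtTarget.of_forall_source_exists_preimage _ fun x ↦ ?_
    obtain ⟨a, hxa, haU⟩ := exists_DD_le (π x).2
    refine ⟨DD (b a), ?_, ?_⟩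
    · have h1 : (π ≫ U.ι) x ∈ DD a := by
        rw [Scheme.Hom.comp_apply]
        exact hxa
      rw [← w] at h1
      rwa [Scheme.Hom.comp_apply] at h1
    · rw [hpre, hfac a haU]
      have := (hmap a haU).1
      infer_instance
  apply IsPullback.flip
  refine IsOpenImmersion.isPullback _ _ _ _ w ?_
  apply le_antisymm
  · intro q hq
    obtain ⟨a, hxa, haU⟩ := exists_DD_le (U := U) (x := Spec.map b q) (by simpa using hq)
    have hq' : q ∈ DD (b a) := hxa
    obtain ⟨y, hy⟩ := (hmap a haU).2 hq'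
    refine ⟨((V.basicOpen (ψ (b a))).ι) ((haff a haU).isoSpec.inv y), ?_⟩
    rw [← Scheme.Hom.comp_apply, hfac a haU, Scheme.Hom.comp_apply, ← hy]
    simp
  · rintro _ ⟨x, rfl⟩
    have h1 : (g ≫ Spec.map b) x ∈ U.ι.opensRange := by
      rw [w, Scheme.Hom.comp_apply]
      exact ⟨_, rfl⟩
    rwa [Scheme.Hom.comp_apply] at h1

/-- `V = Spec Γ(V) ×_{Spec A} U` for `V ⟶ U` affine and `U ⊆ Spec A` a quasi-compact open. -/
theorem isPullback_toSpecΓ {A : CommRingCat.{u}} {U : (Spec A).Opens}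
    {V : Scheme.{u}} [CompactSpace V] [QuasiSeparatedSpace V] (π : V ⟶ U) [IsAffineHom π] :
    IsPullback V.toSpecΓ π (Spec.map ((Scheme.ΓSpecIso A).inv ≫ (π ≫ U.ι).appTop)) U.ι := by
  have h0 : (Scheme.ΓSpecIso Γ(V, ⊤)).inv ≫ V.toSpecΓ.appTop = 𝟙 _ := by
    simp
  refine isPullback_of_localization _ π _ ?_ ?_ ?_
  · rw [Spec.map_comp, ← Scheme.toSpecΓ_naturality_assoc]
    simp
  · intro a _ x hx
    rw [h0] at hx
    exact ⟨0, by simpa using hx⟩
  · intro a _ y
    rw [h0]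
    exact ⟨0, y, by simp⟩

end Groth.Agent.Pi1C.PuncturedSections
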