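import Groth.Agent.Pi1C.SecOver
import Groth.Agent.Pi1C.MilnorEtCat

/-!
# Finite etale covers over a Ferrand pushout
-/

set_option autoImplicit false
universe u
open AlgebraicGeometry CategoryTheory CategoryTheory.Limits

namespace Groth.Agent.Pi1C.PushEt

open SecOver MilnorEt

/-- A pushout of `i : Z ⟶ X` (closed immersion) and `j : Z ⟶ Y` (integral), described locally. -/
structure IsStrong {X Y Z W : Scheme.{u}} (i : Z ⟶ X) (j : Z ⟶ Y) (a : X ⟶ W) (b : Y ⟶ W) :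
    Prop where
  w : i ≫ a = j ≫ b
  affine_left : IsAffineHom a
  affine_right : IsAffineHom b
  surj : ∀ w : W, (∃ x, a x = w) ∨ (∃ y, b y = w)
  adapted : ∀ (U : X.Opens) (V : Y.Opens), IsAffineOpen U → IsAffineOpen V →
    i ⁻¹ᵁ U = j ⁻¹ᵁ V → ∃ O : W.Opens, IsAffineOpen O ∧ a ⁻¹ᵁ O = U ∧ b ⁻¹ᵁ O = V
  lift : ∀ (O : W.Opens), IsAffineOpen O → ∀ (s : Γ(Y, b ⁻¹ᵁ O)) (t : Γ(X, a ⁻¹ᵁ O)),
    sec O j b (i ≫ a) w.symm s = sec O i a (i ≫ a) rfl t →
      ∃ r : Γ(W, O), b.app O r = s ∧ a.app O r = t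
  ext : ∀ (O : W.Opens), IsAffineOpen O → ∀ (r r' : Γ(W, O)), b.app O r = b.app O r' →
    a.app O r = a.app O r' → r = r'

variable {X Y Z W : Scheme.{u}} {i : Z ⟶ X} {j : Z ⟶ Y} {a : X ⟶ W} {b : Y ⟶ W}

theorem IsStrong.isMilnor (h : IsStrong i j a b) [IsClosedImmersion i] (O : W.Opens)
    (hO : IsAffineOpen O) :
    IsMilnor (b.app O) (a.app O) (sec O j b (i ≫ a) h.w.symm) (sec O i a (i ≫ a) rfl) where
  w := by rw [app_comp_sec, app_comp_sec]
  surj := by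
    have := h.affine_left
    rw [sec_rfl]
    exact Scheme.Hom.app_surjective i _ (hO.preimage a)
  lift := h.lift O hO
  ext := h.ext O hO

/-- An open of the pushout is determined by its preimages. -/
theorem IsStrong.opens_ext (h : IsStrong i j a b) {O O' : W.Opens} (h1 : a ⁻¹ᵁ O = a ⁻¹ᵁ O')
    (h2 : b ⁻¹ᵁ O = b ⁻¹ᵁ O') : O = O' := by
  ext w
  rcases h.surj w with ⟨x, rfl⟩ | ⟨y, rfl⟩
  · exact Set.ext_iff.mp (congrArg (fun V : X.Opens => (V : Set X)) h1) x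
  · exact Set.ext_iff.mp (congrArg (fun V : Y.Opens => (V : Set Y)) h2) y

section main

variable {U V P T : Scheme.{u}} {u : U ⟶ X} {v : V ⟶ Y} {h : P ⟶ Z} {iP : P ⟶ U} {jP : P ⟶ V}
  {aT : U ⟶ T} {bT : V ⟶ T} {k : T ⟶ W}

theorem isAffineHom_of_isStrong (hW : IsStrong i j a b) (hT : IsStrong iP jP aT bT)
    (hiP : iP ≫ u = h ≫ i) (hjP : jP ≫ v = h ≫ j) [IsAffineHom u] [IsAffineHom v]
    (hka : aT ≫ k = u ≫ a) (hkb : bT ≫ k = v ≫ b) : IsAffineHom k := by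
  refine ⟨fun O hO => ?_⟩
  have := hW.affine_left
  have := hW.affine_right
  obtain ⟨O', hO', h1, h2⟩ := hT.adapted (u ⁻¹ᵁ a ⁻¹ᵁ O) (v ⁻¹ᵁ b ⁻¹ᵁ O)
    ((hO.preimage a).preimage u) ((hO.preimage b).preimage v) (by
      have e1 : iP ⁻¹ᵁ (u ⁻¹ᵁ a ⁻¹ᵁ O) = ((iP ≫ u) ≫ a) ⁻¹ᵁ O := rfl
      have e2 : jP ⁻¹ᵁ (v ⁻¹ᵁ b ⁻¹ᵁ O) = ((jP ≫ v) ≫ b) ⁻¹ᵁ O := rfl
      rw [e1, e2, hiP, hjP, Category.assoc, Category.assoc, hW.w])
  have h3 : k ⁻¹ᵁ O = O' := by
    refine hT.opens_ext ?_ ?_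
    · rw [h1, ← Scheme.Hom.comp_preimage, ← Scheme.Hom.comp_preimage, hka]
    · rw [h2, ← Scheme.Hom.comp_preimage, ← Scheme.Hom.comp_preimage, hkb]
  rw [h3]
  exact hO'

theorem sec_etale {W S S' : Scheme.{u}} (O : W.Opens) (f : S ⟶ S') (π' : S' ⟶ W) (π : S ⟶ W)
    (e : f ≫ π' = π) [Etale f] (h' : IsAffineOpen (π' ⁻¹ᵁ O)) (h : IsAffineOpen (π ⁻¹ᵁ O)) :
    (sec O f π' π e).hom.Etale :=
  HasRingHomProperty.appLE (P := @Etale) f inferInstance ⟨_, h'⟩ ⟨_, h⟩ _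

theorem sec_finite {W S S' : Scheme.{u}} (O : W.Opens) (f : S ⟶ S') (π' : S' ⟶ W) (π : S ⟶ W)
    (e : f ≫ π' = π) [IsFinite f] (h' : IsAffineOpen (π' ⁻¹ᵁ O)) :
    (sec O f π' π e).hom.Finite := by
  subst e
  rw [sec_rfl]
  exact f.finite_app _ h'

/-- Finite etale schemes over `X` and `Y` agreeing over `Z` glue over the pushout. -/
theorem main (hW : IsStrong i j a b) (hT : IsStrong iP jP aT bT) [IsClosedImmersion i]
    [IsAffineHom j] (hX : IsPullback h iP i u) (hY : IsPullback h jP j v) [IsFinite u] [Etale u]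
    [IsFinite v] [Etale v] (hka : aT ≫ k = u ≫ a) (hkb : bT ≫ k = v ≫ b) :
    IsFinite k ∧ Etale k ∧ IsPullback aT u k a ∧ IsPullback bT v k b := by
  have hk : IsAffineHom k := isAffineHom_of_isStrong hW hT hX.w.symm hY.w.symm hka hkb
  have := hW.affine_left
  have := hW.affine_right
  have := hT.affine_left
  have := hT.affine_right
  have : IsClosedImmersion iP := MorphismProperty.of_isPullback (P := @IsClosedImmersion) hX inferInstance
  have key : ∀ O : W.Opens, IsAffineOpen O → (k.app O).hom.Etale ∧ (k.app O).hom.Finite ∧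
      IsPushout (b.app O) (k.app O) (sec O v b (bT ≫ k) hkb.symm) (bT.app (k ⁻¹ᵁ O)) ∧
      IsPushout (a.app O) (k.app O) (sec O u a (aT ≫ k) hka.symm) (aT.app (k ⁻¹ᵁ O)) := by
    intro O hO
    have hm := hW.isMilnor O hO
    have hm2 := hT.isMilnor (k ⁻¹ᵁ O) (hO.preimage k)
    have hZ : h ≫ i ≫ a = (iP ≫ aT) ≫ k := by
      rw [Category.assoc, hka, ← Category.assoc, hX.w, Category.assoc]
    refine etale_of_isMilnor hm hm2 (d := k.app O) (t := sec O v b (bT ≫ k) hkb.symm)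
      (c := sec O u a (aT ≫ k) hka.symm) (e := sec O h (i ≫ a) ((iP ≫ aT) ≫ k) hZ) ?_ ?_ ?_ ?_
      ?_ ?_ ?_ ?_
    · exact app_comp_sec O v b (bT ≫ k) hkb.symm
    · exact app_comp_sec O u a (aT ≫ k) hka.symm
    · exact isPushout_sec O hY b (i ≫ a) (bT ≫ k) ((iP ≫ aT) ≫ k) hW.w.symm hkb.symm hZ
        (by rw [← Category.assoc, hT.w]) (hO.preimage b)
        (by
          have e : (i ≫ a) ⁻¹ᵁ O = j ⁻¹ᵁ (b ⁻¹ᵁ O) := by
            rw [← Scheme.Hom.comp_preimage, hW.w]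
          rw [e]
          exact (hO.preimage b).preimage j) ((hO.preimage k).preimage bT)
    · exact isPushout_sec O hX a (i ≫ a) (aT ≫ k) ((iP ≫ aT) ≫ k) rfl hka.symm hZ
        (Category.assoc _ _ _).symm (hO.preimage a)
        ((hO.preimage a).preimage i) ((hO.preimage k).preimage aT)
    · exact sec_etale O v b (bT ≫ k) hkb.symm (hO.preimage b) ((hO.preimage k).preimage bT)
    · exact sec_finite O v b (bT ≫ k) hkb.symm (hO.preimage b)
    · exact sec_etale O u a (aT ≫ k) hka.symm (hO.preimage a) ((hO.preimage k).preimage aT)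
    · exact sec_finite O u a (aT ≫ k) hka.symm (hO.preimage a)
  obtain ⟨hf, he⟩ := isFinite_etale_of_app k (fun O hO => ⟨(key O hO).2.1, (key O hO).1⟩)
  refine ⟨hf, he, ?_, ?_⟩
  · refine isPullback_of_isPushout_sec aT u k a (aT ≫ k) rfl hka.symm ?_
    intro O hO
    rw [sec_rfl]
    exact (key O hO).2.2.2.flip
  · refine isPullback_of_isPushout_sec bT v k b (bT ≫ k) rfl hkb.symm ?_
    intro O hO
    rw [sec_rfl]
    exact (key O hO).2.2.1.flip

end main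

end Groth.Agent.Pi1C.PushEt
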