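import Groth.Agent.Pi1C.PushEt
import Groth.Agent.FlatB.PushMain
import Groth.Agent.S1442

/-!
# Strong form of the Ferrand pushout (adapter)
-/

set_option autoImplicit false
universe u
open AlgebraicGeometry CategoryTheory Limits TopologicalSpace Opposite
open Groth.Agent.FlatB.PushRing Groth.Agent.FlatB.PushPair Groth.Agent.FlatB.PushGlue
open Groth.Agent.FlatB.PushMain

namespace Groth.Agent.Pi1C.PushEt

open SecOver

variable {X Y Z : Scheme.{u}} {i : Z ⟶ X} {j : Z ⟶ Y} [IsClosedImmersion i]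

/-- Sections over a chart. -/
noncomputable def psi (P : Pair i j) (O : (Po i j).Opens) (hO : O = (FlatB.PushGlue.ι P).opensRange) :
    Γ(Po i j, O) ⟶ CommRingCat.of P.R :=
  (FlatB.PushGlue.ι P).appLE O ⊤ (by rw [hO, Scheme.Hom.preimage_opensRange]) ≫
    (Scheme.ΓSpecIso (CommRingCat.of P.R)).hom

theorem isIso_psi (P : Pair i j) (O : (Po i j).Opens)
    (hO : O = (FlatB.PushGlue.ι P).opensRange) : IsIso (psi P O hO) := by
  subst hO
  have h1 : IsIso ((FlatB.PushGlue.ι P).app ((FlatB.PushGlue.ι P).opensRange)) :=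
    (FlatB.PushGlue.ι P).isIso_app _ le_rfl
  have h2 : IsIso ((FlatB.PushGlue.ι P).appLE ((FlatB.PushGlue.ι P).opensRange) ⊤
      (by rw [Scheme.Hom.preimage_opensRange])) := by
    have e : (FlatB.PushGlue.ι P) ⁻¹ᵁ ((FlatB.PushGlue.ι P).opensRange) = ⊤ :=
      Scheme.Hom.preimage_opensRange _
    rw [Scheme.Hom.app_eq_appLE] at h1
    exact (Scheme.Hom.appLE_congr (f := FlatB.PushGlue.ι P) _ rfl e
      (fun φ => IsIso φ)).mp h1
  rw [psi]
  infer_instance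

theorem fromSpec_appLE_top {X : Scheme.{u}} {U : X.Opens} (hU : IsAffineOpen U) :
    hU.fromSpec.appLE U ⊤ (by rw [hU.fromSpec_preimage_self]) ≫
      (Scheme.ΓSpecIso Γ(X, U)).hom = 𝟙 _ := by
  rw [Scheme.Hom.appLE, hU.fromSpec_app_self, Category.assoc, Category.assoc, ← Functor.map_comp_assoc]
  rw [Iso.inv_comp_eq, Category.comp_id]
  have : ((eqToHom hU.fromSpec_preimage_self).op ≫
      (homOfLE (by rw [hU.fromSpec_preimage_self]) : (⊤ : (Spec Γ(X, U)).Opens) ⟶ _).op :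
        op (⊤ : (Spec Γ(X, U)).Opens) ⟶ op ⊤) = 𝟙 _ := Subsingleton.elim _ _
  rw [this, CategoryTheory.Functor.map_id, Category.id_comp]

/-- Naturality of sections over a chart. -/
theorem chart_naturality {T X : Scheme.{u}} {R : CommRingCat.{u}} (ι : Spec R ⟶ T)
    {O : T.Opens} (hO : (⊤ : (Spec R).Opens) ≤ ι ⁻¹ᵁ O) {U : X.Opens} (hU : IsAffineOpen U)
    (a : X ⟶ T) (f : R ⟶ Γ(X, U)) (h : hU.fromSpec ≫ a = Spec.map f ≫ ι) (e : U ≤ a ⁻¹ᵁ O) :
    ι.appLE O ⊤ hO ≫ (Scheme.ΓSpecIso R).hom ≫ f = a.appLE O U e := by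
  rw [← Scheme.ΓSpecIso_naturality, ← Category.assoc]
  have h1 : ι.appLE O ⊤ hO ≫ (Spec.map f).appTop =
      a.appLE O U e ≫ hU.fromSpec.appLE U ⊤ (by rw [hU.fromSpec_preimage_self]) := by
    have e1 : (Spec.map f).appTop = (Spec.map f).appLE ⊤ ⊤ le_rfl :=
      Scheme.Hom.app_eq_appLE _
    rw [e1, Scheme.Hom.appLE_comp_appLE, Scheme.Hom.appLE_comp_appLE]
    simp only [h]
  rw [h1, Category.assoc, fromSpec_appLE_top, Category.comp_id]

section

variable (a : X ⟶ Po i j) (b : Y ⟶ Po i j)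
  (ha : ∀ P : Pair i j, P.hU.fromSpec ≫ a = aS P ≫ FlatB.PushGlue.ι P)
  (hb : ∀ P : Pair i j, P.hV.fromSpec ≫ b = bS P ≫ FlatB.PushGlue.ι P)

include ha in
theorem psi_fst (P : Pair i j) (O : (Po i j).Opens) (hO : O = (FlatB.PushGlue.ι P).opensRange)
    (hU : P.U = a ⁻¹ᵁ O) :
    psi P O hO ≫ CommRingCat.ofHom (eqL.fst P.p P.q) = a.appLE O P.U hU.le := by
  rw [psi, Category.assoc]
  exact chart_naturality _ _ P.hU a (CommRingCat.ofHom (eqL.fst P.p P.q)) (ha P) _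

include hb in
theorem psi_snd (P : Pair i j) (O : (Po i j).Opens) (hO : O = (FlatB.PushGlue.ι P).opensRange)
    (hV : P.V = b ⁻¹ᵁ O) :
    psi P O hO ≫ CommRingCat.ofHom (eqL.snd P.p P.q) = b.appLE O P.V hV.le := by
  rw [psi, Category.assoc]
  exact chart_naturality _ _ P.hV b (CommRingCat.ofHom (eqL.snd P.p P.q)) (hb P) _

variable (H : ∀ y : Y, ∃ P : Pair i j, y ∈ P.V)

include H ha hb in
theorem isStrong_of : IsStrong i j a b := by
  have haff := isAffineHom_a H a ha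
  have hbcl := isClosedImmersion_b H b hb
  have hw := comm H a b ha hb
  have hadapt : ∀ (P : Pair i j), a ⁻¹ᵁ (FlatB.PushGlue.ι P).opensRange = P.U ∧
      b ⁻¹ᵁ (FlatB.PushGlue.ι P).opensRange = P.V := by
    intro P
    refine ⟨?_, ?_⟩
    · rw [preimage_a H a ha P, P.hU.opensRange_fromSpec]
    · rw [preimage_b H b hb P, P.hV.opensRange_fromSpec]
  have hsurj := FlatB.PushMain.surj a b ha hb
  have hopens : ∀ {O O' : (Po i j).Opens}, a ⁻¹ᵁ O = a ⁻¹ᵁ O' → b ⁻¹ᵁ O = b ⁻¹ᵁ O' → O = O' := by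
    intro O O' h1 h2
    ext w
    rcases hsurj w with ⟨x, rfl⟩ | ⟨y, rfl⟩
    · exact Set.ext_iff.mp (congrArg (fun V : X.Opens => (V : Set X)) h1) x
    · exact Set.ext_iff.mp (congrArg (fun V : Y.Opens => (V : Set Y)) h2) y
  have hmain : ∀ (O : (Po i j).Opens), IsAffineOpen O → ∃ (P : Pair i j), P.U = a ⁻¹ᵁ O ∧
      P.V = b ⁻¹ᵁ O ∧ P.W = (i ≫ a) ⁻¹ᵁ O ∧ O = (FlatB.PushGlue.ι P).opensRange := by
    intro O hO
    let P : Pair i j := ⟨a ⁻¹ᵁ O, b ⁻¹ᵁ O, (i ≫ a) ⁻¹ᵁ O, hO.preimage a, hO.preimage b, rfl, by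
      rw [hw]; rfl⟩
    refine ⟨P, rfl, rfl, rfl, ?_⟩
    exact hopens (hadapt P).1.symm (hadapt P).2.symm
  refine ⟨hw, haff, inferInstance, hsurj, ?_, ?_, ?_⟩
  · intro U V hU hV hUV
    let P : Pair i j := ⟨U, V, _, hU, hV, hUV, rfl⟩
    exact ⟨(FlatB.PushGlue.ι P).opensRange, isAffineOpen_opensRange _, (hadapt P).1, (hadapt P).2⟩
  · intro O hO s t hst
    obtain ⟨P, hPU, hPV, hPW, hPO⟩ := hmain O hO
    obtain ⟨U, V, W, hU, hV, hWU, hWV⟩ := P
    dsimp only at hPU hPV hPW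
    subst hPU hPV hPW
    have e1 := psi_fst a ha ⟨_, _, _, hU, hV, hWU, hWV⟩ O hPO rfl
    have e2 := psi_snd b hb ⟨_, _, _, hU, hV, hWU, hWV⟩ O hPO rfl
    have hiso := isIso_psi (⟨_, _, _, hU, hV, hWU, hWV⟩ : Pair i j) O hPO
    have hst' : (⟨_, _, _, hU, hV, hWU, hWV⟩ : Pair i j).p t =
      (⟨_, _, _, hU, hV, hWU, hWV⟩ : Pair i j).q s := hst.symm
    let x : (⟨_, _, _, hU, hV, hWU, hWV⟩ : Pair i j).R := ⟨(t, s), hst'⟩
    have h3 : psi _ O hPO (inv (psi _ O hPO) x) = x := by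
      rw [← CommRingCat.comp_apply, IsIso.inv_hom_id]
      rfl
    refine ⟨inv (psi _ O hPO) x, ?_, ?_⟩
    · have h4 := congrArg (CommRingCat.ofHom (eqL.snd _ _)) h3
      rw [← CommRingCat.comp_apply, e2] at h4
      rw [Scheme.Hom.app_eq_appLE]
      exact h4
    · have h4 := congrArg (CommRingCat.ofHom (eqL.fst _ _)) h3
      rw [← CommRingCat.comp_apply, e1] at h4
      rw [Scheme.Hom.app_eq_appLE]
      exact h4
  · intro O hO r r' h1 h2
    obtain ⟨P, hPU, hPV, hPW, hPO⟩ := hmain O hO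
    obtain ⟨U, V, W, hU, hV, hWU, hWV⟩ := P
    dsimp only at hPU hPV hPW
    subst hPU hPV hPW
    have e1 := psi_fst a ha ⟨_, _, _, hU, hV, hWU, hWV⟩ O hPO rfl
    have e2 := psi_snd b hb ⟨_, _, _, hU, hV, hWU, hWV⟩ O hPO rfl
    have hiso := isIso_psi (⟨_, _, _, hU, hV, hWU, hWV⟩ : Pair i j) O hPO
    rw [Scheme.Hom.app_eq_appLE, ← e2, CommRingCat.comp_apply, CommRingCat.comp_apply] at h1
    rw [Scheme.Hom.app_eq_appLE, ← e1, CommRingCat.comp_apply, CommRingCat.comp_apply] at h2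
    have h5 : psi _ O hPO r = psi _ O hPO r' := eqL.ext h2 h1
    have hinj : Function.Injective (psi _ O hPO) :=
      (ConcreteCategory.bijective_of_isIso (psi _ O hPO)).1
    exact hinj h5

end

/-- Existence of the strong pushout. -/
theorem exists_isStrong {X Y Z : Scheme.{u}} (i : Z ⟶ X) (j : Z ⟶ Y) (_ : IsClosedImmersion i)
    (_ : IsIntegralHom j)
    (h3 : ∀ y : Y, ∃ U : X.Opens, IsAffineOpen U ∧ ∀ z : Z, j.base z = y → i.base z ∈ U) :
    ∃ (W : Scheme.{u}) (a : X ⟶ W) (b : Y ⟶ W), IsPushout i j a b ∧ IsStrong i j a b := by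
  have H : ∀ y : Y, ∃ P : Pair i j, y ∈ P.V := by
    intro y
    obtain ⟨U, V, hU, hV, hy, h⟩ := Groth.Agent.S1442.result i j (fun y => by
      obtain ⟨U, hU, hU'⟩ := h3 y
      exact ⟨U, hU, fun z hz => hU' z hz⟩) y
    exact ⟨⟨U, V, _, hU, hV, h, rfl⟩, hy⟩
  obtain ⟨a, ha⟩ := exists_a H
  obtain ⟨b, hb⟩ := exists_b H
  exact ⟨Po i j, a, b, isPushout H a b ha hb, isStrong_of a b ha hb H⟩

end Groth.Agent.Pi1C.PushEt
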