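import Groth.Agent.Pi1C.PuncturedSections2
import Groth.Agent.Pi1C.MLift

/-!
Global sections of a scheme covered by the loci `V_g`, `g ∈ m`, form an `m`-closed module.
-/

set_option autoImplicit false

universe u

open CategoryTheory CategoryTheory.Limits AlgebraicGeometry TopologicalSpace Opposite

namespace Groth.Agent.Pi1C.SectionsClosed

open Groth.Agent.Pi1C.MLift

variable {A : Type u} [CommRing A] (m : Ideal A) {V : Scheme.{u}} [Algebra A Γ(V, ⊤)]

/-- restriction to a basic open -/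
abbrev res (g : Γ(V, ⊤)) : Γ(V, ⊤) →+* Γ(V, V.basicOpen g) :=
  (V.presheaf.map (homOfLE le_top : V.basicOpen g ⟶ ⊤).op).hom

lemma isUnit_res (g : Γ(V, ⊤)) : IsUnit (res g g) :=
  RingedSpace.isUnit_res_basicOpen V.toLocallyRingedSpace.toRingedSpace g

lemma ext_res (hcov : ∀ x : V, ∃ g ∈ m, x ∈ V.basicOpen (algebraMap A Γ(V, ⊤) g))
    {s t : Γ(V, ⊤)}
    (h : ∀ g ∈ m, res (algebraMap A Γ(V, ⊤) g) s = res (algebraMap A Γ(V, ⊤) g) t) : s = t := by
  apply V.IsSheaf.section_ext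
  intro x _
  obtain ⟨g, hg, hx⟩ := hcov x
  exact ⟨V.basicOpen (algebraMap A Γ(V, ⊤) g), le_top, hx, h g hg⟩

theorem mClosed (hcov : ∀ x : V, ∃ g ∈ m, x ∈ V.basicOpen (algebraMap A Γ(V, ⊤) g)) :
    MClosed m Γ(V, ⊤) := by
  constructor
  · intro k h
    -- local sections
    let W : m → V.Opens := fun g => V.basicOpen (algebraMap A Γ(V, ⊤) g)
    have hu : ∀ g : m, IsUnit (res (algebraMap A Γ(V, ⊤) g) (algebraMap A Γ(V, ⊤) g) ^ k) :=
      fun g => (isUnit_res _).pow k
    let s : ∀ g : m, Γ(V, W g) := fun g =>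
      res (algebraMap A Γ(V, ⊤) g) (h ⟨(g : A) ^ k, Ideal.pow_mem_pow g.2 k⟩) *
        ((hu g).unit⁻¹ : (Γ(V, W g))ˣ)
    have hs : ∀ g : m, s g * res (algebraMap A Γ(V, ⊤) g) (algebraMap A Γ(V, ⊤) g) ^ k =
        res (algebraMap A Γ(V, ⊤) g) (h ⟨(g : A) ^ k, Ideal.pow_mem_pow g.2 k⟩) := by
      intro g
      simp only [s, mul_assoc]
      rw [IsUnit.val_inv_mul, mul_one]
    have cpt : TopCat.Presheaf.IsCompatible V.sheaf.1 W s := by
      intro g g'
      let r₁ : Γ(V, W g) →+* Γ(V, W g ⊓ W g') :=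
        (V.presheaf.map (Opens.infLELeft (W g) (W g')).op).hom
      let r₂ : Γ(V, W g') →+* Γ(V, W g ⊓ W g') :=
        (V.presheaf.map (Opens.infLERight (W g) (W g')).op).hom
      let R : Γ(V, ⊤) →+* Γ(V, W g ⊓ W g') :=
        (V.presheaf.map (homOfLE le_top : W g ⊓ W g' ⟶ ⊤).op).hom
      have hr₁ : ∀ x, r₁ (res (algebraMap A Γ(V, ⊤) g) x) = R x := by
        intro x
        change (V.presheaf.map _ ≫ V.presheaf.map _).hom x = _
        rw [← V.presheaf.map_comp]
        rfl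
      have hr₂ : ∀ x, r₂ (res (algebraMap A Γ(V, ⊤) g') x) = R x := by
        intro x
        change (V.presheaf.map _ ≫ V.presheaf.map _).hom x = _
        rw [← V.presheaf.map_comp]
        rfl
      have hu₁ : IsUnit (R (algebraMap A Γ(V, ⊤) g)) := by
        rw [← hr₁]
        exact (isUnit_res _).map r₁
      have hu₂ : IsUnit (R (algebraMap A Γ(V, ⊤) g')) := by
        rw [← hr₂]
        exact (isUnit_res _).map r₂
      have e₁ := congrArg r₁ (hs g)
      have e₂ := congrArg r₂ (hs g')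
      rw [map_mul, map_pow, hr₁, hr₁] at e₁
      rw [map_mul, map_pow, hr₂, hr₂] at e₂
      change r₁ (s g) = r₂ (s g')
      have key : (g' : A) ^ k • h ⟨(g : A) ^ k, Ideal.pow_mem_pow g.2 k⟩ =
          (g : A) ^ k • h ⟨(g' : A) ^ k, Ideal.pow_mem_pow g'.2 k⟩ := by
        rw [← map_smul, ← map_smul]
        exact congrArg h (Subtype.ext (mul_comm _ _))
      have key2 := congrArg R key
      rw [Algebra.smul_def, Algebra.smul_def, map_mul, map_mul, map_pow, map_pow, map_pow,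
        map_pow] at key2
      apply ((hu₁.pow k).mul (hu₂.pow k)).mul_right_cancel
      rw [← mul_assoc, e₁, mul_comm (R (algebraMap A Γ(V, ⊤) g) ^ k), ← mul_assoc, e₂,
        mul_comm, key2, mul_comm]
    obtain ⟨b, hb, -⟩ := V.sheaf.existsUnique_gluing' W ⊤ (fun g => homOfLE le_top) (by
      intro x _
      obtain ⟨g, hg, hx⟩ := hcov x
      exact Opens.mem_iSup.mpr ⟨⟨g, hg⟩, hx⟩) s cpt
    refine ⟨b, fun x => ?_⟩
    apply ext_res m hcov
    intro g hg
    have hb' : res (algebraMap A Γ(V, ⊤) g) b = s ⟨g, hg⟩ := hb ⟨g, hg⟩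
    apply (hu ⟨g, hg⟩).mul_right_cancel
    have key : g ^ k • h x = (x : A) • h ⟨g ^ k, Ideal.pow_mem_pow hg k⟩ := by
      rw [← map_smul, ← map_smul]
      exact congrArg h (Subtype.ext (mul_comm _ _))
    have key2 := congrArg (res (algebraMap A Γ(V, ⊤) g)) key
    rw [Algebra.smul_def, Algebra.smul_def, map_mul, map_mul, map_pow, map_pow] at key2
    rw [Algebra.smul_def, map_mul, mul_assoc, hb', hs, ← key2, mul_comm]
  · intro k y hy
    apply ext_res m hcov
    intro g hg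
    have h1 := congrArg (res (algebraMap A Γ(V, ⊤) g)) (hy (g ^ k) (Ideal.pow_mem_pow hg k))
    rw [Algebra.smul_def, map_mul, map_pow, map_pow, map_zero] at h1
    rw [map_zero]
    exact ((isUnit_res _).pow k).mul_right_eq_zero.1 h1

end Groth.Agent.Pi1C.SectionsClosed
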