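import Groth.Prelude.Def_Pi1
import Groth.Agent.Pi1A.FEtAffine
import Mathlib.RingTheory.Etale.Pi

/-!
# Split finite etale covers of affine schemes

`nonempty_iso_pi_of_isSplit`: a split finite etale cover of `Spec A` is `Spec (ι → A)`.
-/

set_option autoImplicit false

universe u

open CategoryTheory CategoryTheory.Limits AlgebraicGeometry TensorProduct

namespace Groth.Agent.Pi1C.SplitAlg

open Groth.Agent.Pi1A.FEtAffine

variable {A : Type u} [CommRing A]

theorem nonempty_iso_pi_of_isSplit (Y : FEt.Cat (Spec (CommRingCat.of A))) (h : Pi1.IsSplit Y) :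
    ∃ (ι : Type u) (_ : Finite ι), Nonempty (Y ≅ ofAlgebra A (ι → A)) := by
  obtain ⟨ι, hι, e, he⟩ := h
  have hiso : IsIso (sigmaSpec fun _ : ι => CommRingCat.of A) := inferInstance
  let e' : (∐ fun _ : ι => Spec (CommRingCat.of A)) ≅ Spec (CommRingCat.of (ι → A)) :=
    @asIso _ _ _ _ (sigmaSpec fun _ : ι => CommRingCat.of A) hiso
  refine ⟨ι, hι, ⟨isoMk (e ≪≫ e') ?_⟩⟩
  rw [ofAlgebra_hom]
  have h1 : sigmaSpec (fun _ : ι => CommRingCat.of A) ≫
      Spec.map (CommRingCat.ofHom (algebraMap A (ι → A))) = e.inv ≫ Y.hom := by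
    apply Sigma.hom_ext
    intro i
    rw [ι_sigmaSpec_assoc, ← Spec.map_comp, he i]
    rw [← Spec.map_id]
    rfl
  have h3 : (e.hom ≫ sigmaSpec (fun _ : ι => CommRingCat.of A)) ≫
      Spec.map (CommRingCat.ofHom (algebraMap A (ι → A))) = Y.hom := by
    rw [Category.assoc, h1, Iso.hom_inv_id_assoc]
  exact h3

theorem nonempty_algEquiv_pi_of_isSplit {D : Type u} [CommRing D] [Algebra A D] [Module.Finite A D]
    [Algebra.Etale A D] (Y : FEt.Cat (Spec (CommRingCat.of A))) (e : Y ≅ ofAlgebra A D)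
    (h : Pi1.IsSplit Y) : ∃ (ι : Type u) (_ : Finite ι), Nonempty (D ≃ₐ[A] (ι → A)) := by
  obtain ⟨ι, hι, ⟨e'⟩⟩ := nonempty_iso_pi_of_isSplit Y h
  exact ⟨ι, hι, ⟨algEquivOfIso (e'.symm ≪≫ e)⟩⟩

end Groth.Agent.Pi1C.SplitAlg
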