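import Mathlib.RingTheory.Flat.Equalizer
import Mathlib.RingTheory.Flat.FaithfullyFlat.Algebra
import Mathlib.RingTheory.TensorProduct.Basic
import Mathlib.LinearAlgebra.TensorProduct.Pi
import Mathlib.RingTheory.Idempotents

/-!
# Descent of a split algebra along `A → R`

`A → R` flat, `O`, `C` are `A`-algebras, `e : R ⊗ C ≃ (ι → R ⊗ O)` an `R`-algebra isomorphism, `ι` finite.
Let `B ⊆ C` be the subalgebra of those `c` with `e (1 ⊗ c)` in the image of `ι → R`.
If idempotents of `R ⊗ (R ⊗ O)` come from `R ⊗ R`, then `R ⊗ B → R ⊗ C` has as image all `x` with `e x` in the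
image of `ι → R`.
-/

set_option autoImplicit false

universe u

open TensorProduct

namespace Groth.Agent.Pi1C.SplitDescent

variable {A R O C : Type u} [CommRing A] [CommRing R] [CommRing O] [CommRing C]
  [Algebra A R] [Algebra A O] [Algebra A C] {ι : Type u}
  (e : R ⊗[A] C ≃ₐ[R] (ι → R ⊗[A] O))

/-- The descended algebra. -/
def desc : Subalgebra A C where
  carrier := {c | ∀ i, e (1 ⊗ₜ c) i ∈ (Algebra.TensorProduct.includeLeft : R →ₐ[A] R ⊗[A] O).range}
  mul_mem' := by
    intro a b ha hb i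
    have h : (1 : R) ⊗ₜ[A] (a * b) = (1 ⊗ₜ a) * (1 ⊗ₜ b) := by simp
    rw [h, map_mul, Pi.mul_apply]
    exact mul_mem (ha i) (hb i)
  add_mem' := by
    intro a b ha hb i
    rw [TensorProduct.tmul_add, map_add, Pi.add_apply]
    exact add_mem (ha i) (hb i)
  algebraMap_mem' := by
    intro a i
    have h : (1 : R) ⊗ₜ[A] (algebraMap A C a) = algebraMap R (R ⊗[A] C) (algebraMap A R a) := by
      rw [Algebra.TensorProduct.algebraMap_apply, Algebra.algebraMap_self_apply,
        Algebra.algebraMap_eq_smul_one, Algebra.algebraMap_eq_smul_one, TensorProduct.smul_tmul]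
    rw [h, e.commutes]
    exact ⟨algebraMap A R a, rfl⟩

/-- The elements of `R ⊗ C` which are `R`-valued. -/
def sub : Submodule R (R ⊗[A] C) where
  carrier := {x | ∀ i, e x i ∈ (Algebra.TensorProduct.includeLeft : R →ₐ[A] R ⊗[A] O).range}
  add_mem' := by
    intro a b ha hb i
    rw [map_add, Pi.add_apply]
    exact add_mem (ha i) (hb i)
  zero_mem' := by
    intro i
    rw [map_zero]
    exact zero_mem _
  smul_mem' := by
    intro r x hx i
    rw [map_smul, Pi.smul_apply]
    obtain ⟨s, hs⟩ := hx i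
    refine ⟨r * s, ?_⟩
    rw [← hs]
    change (r * s) ⊗ₜ[A] (1 : O) = r • (s ⊗ₜ[A] (1 : O))
    rw [TensorProduct.smul_tmul', smul_eq_mul]

/-- `C → R ⊗ C → (R ⊗ C) / sub`. -/
noncomputable def psi : C →ₗ[A] (R ⊗[A] C) ⧸ sub e :=
  ((sub e).mkQ.restrictScalars A).comp (Algebra.TensorProduct.includeRight : C →ₐ[A] R ⊗[A] C).toLinearMap

theorem ker_psi : LinearMap.ker (psi e) = Subalgebra.toSubmodule (desc e) := by
  ext c
  rw [LinearMap.mem_ker]
  change (sub e).mkQ (1 ⊗ₜ c) = 0 ↔ _
  rw [Submodule.mkQ_apply, Submodule.Quotient.mk_eq_zero]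
  rfl

/-- `w ↦ e⁻¹ (w δ_j)`. -/
noncomputable def theta [DecidableEq ι] (j : ι) : R ⊗[A] O →ₗ[A] R ⊗[A] C :=
  (e.symm.toLinearMap.restrictScalars A).comp ((LinearMap.single R (fun _ : ι => R ⊗[A] O) j).restrictScalars A)

/-- `x ↦ (e x)_j`. -/
noncomputable def ev (j : ι) : R ⊗[A] C →ₐ[A] R ⊗[A] O :=
  ((Pi.evalAlgHom R (fun _ : ι => R ⊗[A] O) j).comp e.toAlgHom).restrictScalars A

theorem sum_theta_ev [Fintype ι] [DecidableEq ι] (x : R ⊗[A] C) :
    ∑ j, theta e j (ev e j x) = x := by
  have h1 : ∀ j, theta e j (ev e j x) = e.symm (Pi.single j (e x j)) := fun j => rfl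
  simp only [h1]
  rw [← map_sum]
  have h2 : ∑ j, Pi.single j (e x j) = e x := Finset.univ_sum_single (e x)
  rw [h2, AlgEquiv.symm_apply_apply]

theorem mkQ_theta [DecidableEq ι] (j : ι) (r : R) : (sub e).mkQ (theta e j (r ⊗ₜ 1)) = 0 := by
  rw [Submodule.mkQ_apply, Submodule.Quotient.mk_eq_zero]
  intro i
  change e (e.symm (Pi.single j (r ⊗ₜ 1))) i ∈ _
  rw [AlgEquiv.apply_symm_apply]
  by_cases h : i = j
  · subst h
    rw [Pi.single_eq_same]
    exact ⟨r, rfl⟩
  · rw [Pi.single_eq_of_ne h]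
    exact zero_mem _

/-- The idempotent attached to `i`. -/
noncomputable def eps [DecidableEq ι] (i : ι) : R ⊗[A] C := e.symm (Pi.single i 1)

theorem isIdempotentElem_eps [DecidableEq ι] (i : ι) : IsIdempotentElem (eps e i) := by
  unfold IsIdempotentElem eps
  rw [← map_mul, ← Pi.single_mul, one_mul]

theorem lTensor_psi_eps [Finite ι] [DecidableEq ι]
    (hid : ∀ z : R ⊗[A] (R ⊗[A] O), IsIdempotentElem z → ∃ s : R ⊗[A] R,
      LinearMap.lTensor R (Algebra.TensorProduct.includeLeft : R →ₐ[A] R ⊗[A] O).toLinearMap s = z)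
    (i : ι) : LinearMap.lTensor R (psi e) (eps e i) = 0 := by
  have := Fintype.ofFinite ι
  let i13 : R ⊗[A] C →ₐ[A] R ⊗[A] (R ⊗[A] C) :=
    Algebra.TensorProduct.map (AlgHom.id A R) (Algebra.TensorProduct.includeRight : C →ₐ[A] R ⊗[A] C)
  have h1 : LinearMap.lTensor R (psi e) (eps e i) =
      LinearMap.lTensor R ((sub e).mkQ.restrictScalars A) (i13 (eps e i)) := by
    rw [psi, LinearMap.lTensor_comp]
    rfl
  have hidem : IsIdempotentElem (i13 (eps e i)) := (isIdempotentElem_eps e i).map i13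
  generalize i13 (eps e i) = y at h1 hidem
  rw [h1]
  have hy : y = ∑ j, LinearMap.lTensor R (theta e j) (LinearMap.lTensor R (ev e j).toLinearMap y) := by
    have h2 : ∑ j, (LinearMap.lTensor R (theta e j)).comp (LinearMap.lTensor R (ev e j).toLinearMap) =
        (LinearMap.id : R ⊗[A] (R ⊗[A] C) →ₗ[A] _) := by
      simp only [← LinearMap.lTensor_comp]
      have h3 : ∑ j, LinearMap.lTensor R ((theta e j).comp (ev e j).toLinearMap) =
          LinearMap.lTensor R (∑ j, (theta e j).comp (ev e j).toLinearMap) :=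
        (map_sum (LinearMap.lTensorHom R) _ _).symm
      rw [h3, ← LinearMap.lTensor_id]
      congr 1
      refine LinearMap.ext fun x => ?_
      rw [LinearMap.sum_apply]
      exact sum_theta_ev e x
    have h3 := congrArg (fun f => f y) h2
    simpa using h3.symm
  have hj : ∀ j, LinearMap.lTensor R ((sub e).mkQ.restrictScalars A)
      (LinearMap.lTensor R (theta e j) (LinearMap.lTensor R (ev e j).toLinearMap y)) = 0 := by
    intro j
    have h4 : IsIdempotentElem (LinearMap.lTensor R (ev e j).toLinearMap y) :=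
      hidem.map (Algebra.TensorProduct.map (AlgHom.id A R) (ev e j))
    obtain ⟨s, hs⟩ := hid _ h4
    rw [← hs, ← LinearMap.comp_apply, ← LinearMap.comp_apply, ← LinearMap.lTensor_comp,
      ← LinearMap.lTensor_comp]
    have h5 : ((sub e).mkQ.restrictScalars A ∘ₗ theta e j) ∘ₗ
        (Algebra.TensorProduct.includeLeft : R →ₐ[A] R ⊗[A] O).toLinearMap = 0 := by
      ext r : 1
      exact mkQ_theta e j r
    rw [h5, LinearMap.lTensor_zero, LinearMap.zero_apply]
  rw [hy, map_sum]
  exact Finset.sum_eq_zero fun j _ => hj j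

/-- The canonical map `R ⊗ desc → R ⊗ C`. -/
noncomputable def descMap : R ⊗[A] desc e →ₐ[R] R ⊗[A] C :=
  Algebra.TensorProduct.map (AlgHom.id R R) (desc e).val

theorem eps_mem_range [Finite ι] [DecidableEq ι] [Module.Flat A R]
    (hid : ∀ z : R ⊗[A] (R ⊗[A] O), IsIdempotentElem z → ∃ s : R ⊗[A] R,
      LinearMap.lTensor R (Algebra.TensorProduct.includeLeft : R →ₐ[A] R ⊗[A] O).toLinearMap s = z)
    (i : ι) : eps e i ∈ (descMap e).range := by
  have h1 := lTensor_psi_eps e hid i
  have h2 : eps e i ∈ LinearMap.ker (AlgebraTensorModule.lTensor R R (psi e)) := h1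
  rw [Module.Flat.ker_lTensor_eq, ker_psi] at h2
  obtain ⟨x, hx⟩ := h2
  exact ⟨x, hx⟩

theorem mem_range_descMap_iff [Finite ι] [Module.Flat A R]
    (hid : ∀ z : R ⊗[A] (R ⊗[A] O), IsIdempotentElem z → ∃ s : R ⊗[A] R,
      LinearMap.lTensor R (Algebra.TensorProduct.includeLeft : R →ₐ[A] R ⊗[A] O).toLinearMap s = z)
    (x : R ⊗[A] C) : x ∈ (descMap e).range ↔ x ∈ sub e := by
  classical
  have := Fintype.ofFinite ι
  constructor
  · rintro ⟨y, rfl⟩
    change descMap e y ∈ sub e
    induction y using TensorProduct.induction_on with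
    | zero => rw [map_zero]; exact zero_mem _
    | tmul r b =>
      have h : descMap e (r ⊗ₜ b) = r • (1 ⊗ₜ (b : C)) := by
        simp [descMap, TensorProduct.smul_tmul']
      rw [h]
      exact (sub e).smul_mem r (fun i => b.2 i)
    | add x y hx hy => rw [map_add]; exact add_mem hx hy
  · intro hx
    have h1 : ∀ i, ∃ r : R, r ⊗ₜ[A] (1 : O) = e x i := fun i => hx i
    choose r hr using h1
    have h2 : x = ∑ i, r i • eps e i := by
      apply e.injective
      rw [map_sum]
      simp only [map_smul, eps, AlgEquiv.apply_symm_apply]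
      ext i
      rw [Finset.sum_apply, Finset.sum_eq_single i]
      · rw [Pi.smul_apply, Pi.single_eq_same, ← hr i, Algebra.TensorProduct.one_def,
          TensorProduct.smul_tmul', smul_eq_mul, mul_one]
      · intro j _ hj
        rw [Pi.smul_apply, Pi.single_eq_of_ne hj.symm, smul_zero]
      · intro h
        exact absurd (Finset.mem_univ i) h
    rw [h2]
    exact sum_mem fun i _ => (descMap e).range.smul_mem (eps_mem_range e hid i) _

end Groth.Agent.Pi1C.SplitDescent
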