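import Mathlib.RingTheory.Etale.Descent
import Mathlib.RingTheory.Etale.Pi
import Mathlib.RingTheory.Finiteness.Descent
import Mathlib.RingTheory.IsTensorProduct
import Groth.Agent.Pi1C.SplitDescent

/-!
# Descent of a split algebra along `A → R`, continued

`finite_etale_desc`: the subalgebra `desc e` of `C` is finite etale over `A ⧸ ker (A → O)`.
-/

set_option autoImplicit false

universe u

open TensorProduct

namespace Groth.Agent.Pi1C.SplitDescent

theorem finite_etale_of_equiv_pi (A A' R R' B : Type u) [CommRing A] [CommRing A'] [CommRing R] [CommRing R']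
    [CommRing B] [Algebra A A'] [Algebra A R] [Algebra A R'] [Algebra A' R'] [Algebra R R']
    [IsScalarTower A A' R'] [IsScalarTower A R R'] [Algebra.IsPushout A R A' R']
    [Module.FaithfullyFlat A' R'] (hsurj : Function.Surjective (algebraMap R R'))
    [Algebra A B] [Algebra A' B] [IsScalarTower A A' B] (ι : Type u) [Finite ι]
    (f : R ⊗[A] B ≃ₐ[R] (ι → R')) : Module.Finite A' B ∧ Algebra.Etale A' B := by
  let e1 : R' ⊗[A'] B ≃ₐ[R] R ⊗[A] B := Algebra.IsPushout.cancelBaseChangeAlg A R A' R' B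
  let e2 : R' ⊗[A'] B ≃ₐ[R] (ι → R') := e1.trans f
  let e3 : R' ⊗[A'] B ≃ₐ[R'] (ι → R') := AlgEquiv.ofRingEquiv (f := e2.toRingEquiv) (by
    intro x
    obtain ⟨r, rfl⟩ := hsurj x
    have h1 : algebraMap R' (R' ⊗[A'] B) (algebraMap R R' r) = algebraMap R (R' ⊗[A'] B) r :=
      (IsScalarTower.algebraMap_apply R R' (R' ⊗[A'] B) r).symm
    rw [h1]
    exact e2.commutes r)
  have h1 : Module.Finite R' (R' ⊗[A'] B) := Module.Finite.equiv e3.toLinearEquiv.symm
  have h2 : Algebra.Etale R' (R' ⊗[A'] B) := Algebra.Etale.of_equiv e3.symm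
  exact ⟨Module.Finite.of_finite_tensorProduct_of_faithfullyFlat R',
    Algebra.Etale.of_etale_tensorProduct_of_faithfullyFlat (T := R')⟩

variable {A R O C : Type u} [CommRing A] [CommRing R] [CommRing O] [CommRing C]
  [Algebra A R] [Algebra A O] [Algebra A C] {ι : Type u}
  (e : R ⊗[A] C ≃ₐ[R] (ι → R ⊗[A] O))

theorem descMap_injective [Module.Flat A R] : Function.Injective (descMap e) :=
  Module.Flat.lTensor_preserves_injective_linearMap (M := R) (desc e).val.toLinearMap Subtype.val_injective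

attribute [local instance] Algebra.TensorProduct.rightAlgebra

theorem nonempty_equiv_pi [Finite ι] [Module.Flat A R]
    (hid : ∀ z : R ⊗[A] (R ⊗[A] O), IsIdempotentElem z → ∃ s : R ⊗[A] R,
      LinearMap.lTensor R (Algebra.TensorProduct.includeLeft : R →ₐ[A] R ⊗[A] O).toLinearMap s = z)
    (A' : Type u) [CommRing A'] [Algebra A A'] [Algebra A' O] [IsScalarTower A A' O]
    (hs : Function.Surjective (algebraMap A A')) (hi : Function.Injective (algebraMap A' O)) :
    Nonempty (R ⊗[A] desc e ≃ₐ[R] (ι → A' ⊗[A] R)) := by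
  let ψ₀ : R ⊗[A] A' →ₐ[R] R ⊗[A] O :=
    Algebra.TensorProduct.map (AlgHom.id R R) (IsScalarTower.toAlgHom A A' O)
  have hψ₀ : Function.Injective ψ₀ :=
    Module.Flat.lTensor_preserves_injective_linearMap (M := R) (IsScalarTower.toAlgHom A A' O).toLinearMap hi
  have hcomm : ∀ r : R, Algebra.TensorProduct.comm A A' R (algebraMap R (A' ⊗[A] R) r) =
      algebraMap R (R ⊗[A] A') r := by
    intro r
    rfl
  let c : A' ⊗[A] R ≃ₐ[R] R ⊗[A] A' :=
    AlgEquiv.ofRingEquiv (f := (Algebra.TensorProduct.comm A A' R).toRingEquiv) hcomm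
  let ψ : A' ⊗[A] R →ₐ[R] R ⊗[A] O := ψ₀.comp c.toAlgHom
  have hψ : Function.Injective ψ := hψ₀.comp c.injective
  have hψr : ∀ w, w ∈ (Algebra.TensorProduct.includeLeft : R →ₐ[A] R ⊗[A] O).range ↔ ∃ v, ψ v = w := by
    intro w
    constructor
    · rintro ⟨r, rfl⟩
      refine ⟨1 ⊗ₜ r, ?_⟩
      change ψ₀ (r ⊗ₜ 1) = _
      simp [ψ₀]
    · rintro ⟨v, rfl⟩
      induction v using TensorProduct.induction_on with
      | zero => rw [map_zero]; exact zero_mem _
      | tmul a r =>
        obtain ⟨a, rfl⟩ := hs a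
        refine ⟨a • r, ?_⟩
        change (a • r) ⊗ₜ (1 : O) = ψ₀ (r ⊗ₜ (algebraMap A A' a))
        simp only [ψ₀, Algebra.TensorProduct.map_tmul]
        change _ = r ⊗ₜ (algebraMap A' O (algebraMap A A' a))
        rw [← IsScalarTower.algebraMap_apply, TensorProduct.smul_tmul, Algebra.algebraMap_eq_smul_one]
      | add x y hx hy => rw [map_add]; exact add_mem hx hy
  let Φ : R ⊗[A] desc e →ₐ[R] (ι → R ⊗[A] O) := e.toAlgHom.comp (descMap e)
  have hΦ : Function.Injective Φ := e.injective.comp (descMap_injective e)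
  let Ψ : (ι → A' ⊗[A] R) →ₐ[R] (ι → R ⊗[A] O) :=
    AlgHom.pi (fun i => ψ.comp (Pi.evalAlgHom R (fun _ : ι => A' ⊗[A] R) i))
  have hΨ : Function.Injective Ψ := by
    intro x y hxy
    funext i
    exact hψ (congrFun hxy i)
  have hr : Φ.range = Ψ.range := by
    ext v
    constructor
    · rintro ⟨x, rfl⟩
      have h1 : descMap e x ∈ sub e := (mem_range_descMap_iff e hid _).mp ⟨x, rfl⟩
      have h2 : ∀ i, ∃ v, ψ v = e (descMap e x) i := fun i => (hψr _).mp (h1 i)
      choose v hv using h2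
      exact ⟨v, funext hv⟩
    · rintro ⟨v, rfl⟩
      have h1 : e.symm (Ψ v) ∈ sub e := by
        intro i
        rw [AlgEquiv.apply_symm_apply]
        exact (hψr _).mpr ⟨v i, rfl⟩
      obtain ⟨x, hx⟩ := (mem_range_descMap_iff e hid _).mpr h1
      refine ⟨x, ?_⟩
      change e (descMap e x) = Ψ v
      have hx' : descMap e x = e.symm (Ψ v) := hx
      rw [hx', AlgEquiv.apply_symm_apply]
  exact ⟨(AlgEquiv.ofInjective Φ hΦ).trans ((Subalgebra.equivOfEq _ _ hr).trans
    (AlgEquiv.ofInjective Ψ hΨ).symm)⟩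

/-- The descended algebra is finite etale over the image `A'` of `A` in `O`. -/
theorem finite_etale_desc [Finite ι] [Module.FaithfullyFlat A R]
    (hid : ∀ z : R ⊗[A] (R ⊗[A] O), IsIdempotentElem z → ∃ s : R ⊗[A] R,
      LinearMap.lTensor R (Algebra.TensorProduct.includeLeft : R →ₐ[A] R ⊗[A] O).toLinearMap s = z)
    (A' : Type u) [CommRing A'] [Algebra A A'] [Algebra A' O] [IsScalarTower A A' O]
    (hs : Function.Surjective (algebraMap A A')) (hi : Function.Injective (algebraMap A' O))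
    [Algebra A' (desc e)] [IsScalarTower A A' (desc e)] :
    Module.Finite A' (desc e) ∧ Algebra.Etale A' (desc e) := by
  obtain ⟨f⟩ := nonempty_equiv_pi e hid A' hs hi
  refine finite_etale_of_equiv_pi A A' R (A' ⊗[A] R) (desc e) ?_ ι f
  intro x
  induction x using TensorProduct.induction_on with
  | zero => exact ⟨0, map_zero _⟩
  | tmul a r =>
    obtain ⟨a, rfl⟩ := hs a
    refine ⟨a • r, ?_⟩
    change (1 : A') ⊗ₜ[A] (a • r) = _
    rw [← TensorProduct.smul_tmul, Algebra.algebraMap_eq_smul_one]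
  | add x y hx hy =>
    obtain ⟨x', rfl⟩ := hx
    obtain ⟨y', rfl⟩ := hy
    exact ⟨x' + y', map_add _ _ _⟩

/-- `C` is the localization of `desc e` where `O` is a localization of `A`. -/
theorem exists_pow_smul_mem_desc [Finite ι] (a : A) (ha : ∀ o : O, ∃ n : ℕ, ∃ b : A, algebraMap A O b = a ^ n • o)
    (c : C) : ∃ n : ℕ, a ^ n • c ∈ desc e := by
  have := Fintype.ofFinite ι
  have h1 : ∀ w : R ⊗[A] O, ∃ n : ℕ, ∀ m, n ≤ m →
      a ^ m • w ∈ (Algebra.TensorProduct.includeLeft : R →ₐ[A] R ⊗[A] O).range := by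
    intro w
    induction w using TensorProduct.induction_on with
    | zero => exact ⟨0, fun m _ => by rw [smul_zero]; exact zero_mem _⟩
    | tmul r o =>
      obtain ⟨n, b, hb⟩ := ha o
      refine ⟨n, fun m hm => ?_⟩
      obtain ⟨k, rfl⟩ := Nat.exists_eq_add_of_le hm
      refine ⟨(a ^ k * b) • r, ?_⟩
      change ((a ^ k * b) • r) ⊗ₜ (1 : O) = _
      rw [TensorProduct.smul_tmul, ← TensorProduct.tmul_smul, pow_add, mul_comm (a ^ n), mul_smul, mul_smul, ← hb,
        Algebra.algebraMap_eq_smul_one]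
    | add x y hx hy =>
      obtain ⟨n, hn⟩ := hx
      obtain ⟨m, hm⟩ := hy
      refine ⟨max n m, fun k hk => ?_⟩
      rw [smul_add]
      exact add_mem (hn k (le_trans (le_max_left _ _) hk)) (hm k (le_trans (le_max_right _ _) hk))
  have h2 : ∀ i, ∃ n : ℕ, ∀ m, n ≤ m →
      a ^ m • (e (1 ⊗ₜ c) i) ∈ (Algebra.TensorProduct.includeLeft : R →ₐ[A] R ⊗[A] O).range := fun i => h1 _
  choose n hn using h2
  refine ⟨∑ i, n i, fun i => ?_⟩
  have h3 : e (1 ⊗ₜ (a ^ (∑ i, n i) • c)) i = a ^ (∑ i, n i) • (e (1 ⊗ₜ c) i) := by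
    rw [TensorProduct.tmul_smul]
    have h4 : ∀ (b : A) (x : R ⊗[A] C), e (b • x) = b • e x := by
      intro b x
      rw [← algebraMap_smul R b x, map_smul, algebraMap_smul]
    rw [h4, Pi.smul_apply]
  rw [h3]
  exact hn i _ (Finset.single_le_sum (fun _ _ => Nat.zero_le _) (Finset.mem_univ i))

end Groth.Agent.Pi1C.SplitDescent
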