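import Groth.Agent.Pi1C.SplitSections
import Groth.Agent.Pi1C.IdemGeom
import Groth.Agent.Pi1C.FEtExtend
import Groth.Prelude.Def_Pi1

/-!
# Sections of a finite etale cover which is split after a flat base change
-/

set_option autoImplicit false

universe u

open CategoryTheory CategoryTheory.Limits AlgebraicGeometry TensorProduct

namespace Groth.Agent.Pi1C.SplitSections

open Groth.Agent.Pi1C.SectionsOverAffine Groth.Agent.Pi1C.IdemGeom

/-- Global sections of a split finite etale cover of `X` over `Spec R`. -/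
theorem exists_algEquiv_pi_of_isSplit {R : Type u} [CommRing R] {X : Scheme.{u}}
    (q : X ⟶ Spec (CommRingCat.of R)) (Y : FEt.Cat X) (hY : Pi1.IsSplit Y)
    [Algebra R Γ(X, ⊤)] (h1 : algebraMap R Γ(X, ⊤) = toΓ q)
    [Algebra R Γ(Y.left, ⊤)] (h2 : algebraMap R Γ(Y.left, ⊤) = toΓ (Y.hom ≫ q)) :
    ∃ (ι : Type u) (_ : Finite ι), Nonempty (Γ(Y.left, ⊤) ≃ₐ[R] (ι → Γ(X, ⊤))) := by
  obtain ⟨ι, hι, e, he⟩ := hY
  refine ⟨ι, hι, ?_⟩
  let s : ι → (X ⟶ Y.left) := fun i => Sigma.ι (fun _ : ι => X) i ≫ e.inv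
  have hs : ∀ i, s i ≫ Y.hom ≫ q = q := by
    intro i
    have := he i
    rw [← Category.assoc]
    have h3 : s i ≫ Y.hom = 𝟙 X := by
      rw [← this, Category.assoc]
    rw [h3, Category.id_comp]
  let φ : Γ(Y.left, ⊤) →ₐ[R] (ι → Γ(X, ⊤)) := AlgHom.pi (fun i =>
    { (s i).appTop.hom with
      commutes' := fun r => by
        have h4 := Groth.Agent.Pi1C.FEtExtend.toΓ_comp (s i) (Y.hom ≫ q)
        rw [hs i] at h4
        rw [h1, h2, h4]
        rfl })
  have hφ : Function.Bijective φ := by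
    have hb := sections_sigma_bijective (fun _ : ι => X)
    have hiso : IsIso e.inv.appTop := inferInstanceAs (IsIso (e.inv.app ⊤))
    have he : Function.Bijective e.inv.appTop := ConcreteCategory.bijective_of_isIso _
    have := hb.comp he
    convert this using 1
    ext x i
    change (s i).appTop x = (Sigma.ι (fun _ : ι => X) i).appTop (e.inv.appTop x)
    simp [s]
  exact ⟨AlgEquiv.ofBijective φ hφ⟩

/-- Sections of a finite etale cover of an open of `Spec A` which is split after a flat base change `A → R`. -/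
theorem exists_algEquiv_tensor_of_isSplit (A R : Type u) [CommRing A] [CommRing R] [Algebra A R]
    [Module.Flat A R] (U : (Spec (CommRingCat.of A)).Opens) [CompactSpace U]
    (V : FEt.Cat (U : Scheme.{u}))
    (hV : Pi1.IsSplit ((FEt.restrict (pullback.fst U.ι
      (Spec.map (CommRingCat.ofHom (algebraMap A R))))).obj V))
    [Algebra A Γ(U.toScheme, ⊤)] (h1 : algebraMap A Γ(U.toScheme, ⊤) = toΓ U.ι)
    [Algebra A Γ(V.left, ⊤)] (h2 : algebraMap A Γ(V.left, ⊤) = toΓ (V.hom ≫ U.ι)) :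
    ∃ (ι : Type u) (_ : Finite ι),
      Nonempty (R ⊗[A] Γ(V.left, ⊤) ≃ₐ[R] (ι → R ⊗[A] Γ(U.toScheme, ⊤))) := by
  let g : Spec (CommRingCat.of R) ⟶ Spec (CommRingCat.of A) := Spec.map (CommRingCat.ofHom (algebraMap A R))
  have hqs : QuasiSeparatedSpace U.toScheme := quasiSeparatedSpace_of_quasiSeparated U.ι
  let v : V.left ⟶ U.toScheme := V.hom
  have hfin : IsFinite v := V.prop.1
  have hcV : CompactSpace V.left := QuasiCompact.compactSpace_of_compactSpace v
  have hqsV : QuasiSeparatedSpace V.left := quasiSeparatedSpace_of_quasiSeparated v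
  let Y := (FEt.restrict (pullback.fst U.ι g)).obj V
  let _ : Algebra R Γ(pullback U.ι g, ⊤) := (toΓ (pullback.snd U.ι g)).toAlgebra
  let _ : Algebra R Γ(Y.left, ⊤) := (toΓ (Y.hom ≫ pullback.snd U.ι g)).toAlgebra
  obtain ⟨ε, -⟩ := exists_sections_equiv U.ι (pullback.fst U.ι g) (pullback.snd U.ι g)
    (IsPullback.of_hasPullback U.ι g) h1 rfl
  let p : Y.left ⟶ V.left := pullback.fst v (pullback.fst U.ι g)
  let y : Y.left ⟶ pullback U.ι g := Y.hom
  have hp : IsPullback p (y ≫ pullback.snd U.ι g) (v ≫ U.ι) g :=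
    (IsPullback.of_hasPullback v (pullback.fst U.ι g)).paste_vert (IsPullback.of_hasPullback U.ι g)
  obtain ⟨ε', -⟩ := exists_sections_equiv (v ≫ U.ι) p (y ≫ pullback.snd U.ι g) hp h2 rfl
  obtain ⟨ι, hι, ⟨f⟩⟩ := exists_algEquiv_pi_of_isSplit (pullback.snd U.ι g) Y hV rfl rfl
  exact ⟨ι, hι, ⟨(ε'.trans f).trans (AlgEquiv.piCongrRight fun _ => ε.symm)⟩⟩

end Groth.Agent.Pi1C.SplitSections
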