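import Groth.Agent.Pi1C.StrictHensConn

/-!
# Points of `Spec (R ⊗[A] R)` over the closed point, `R` a strict henselization of `A`

* `exists_algHom_comap_eq`: every prime `q` of `R ⊗[A] R` over the maximal ideal of `A` is `φ⁻¹(m_R)` for some
  `A`-algebra map `φ : R ⊗[A] R → R`.
* `isConnected_specializes`: for an open `U ⊆ Spec A` with connected preimage in `Spec R`, the set of
  generizations of `q` lying over `U` is connected.
-/

set_option autoImplicit false

universe u

open AlgebraicGeometry CategoryTheory CategoryTheory.Limits TopologicalSpace TensorProduct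

namespace Groth.Agent.Pi1C.StrictHensTensor

section Point

variable (A R : Type u) [CommRing A] [IsLocalRing A] [CommRing R] [IsLocalRing R] [Algebra A R]
  [IsLocalHom (algebraMap A R)]

theorem exists_tau [Hensel.IsStrictHenselization A R] {F : Type u} [Field F]
    (i1 i2 : IsLocalRing.ResidueField R →+* F)
    (h : i1.comp (IsLocalRing.ResidueField.map (algebraMap A R)) =
      i2.comp (IsLocalRing.ResidueField.map (algebraMap A R))) :
    ∃ τ : IsLocalRing.ResidueField R →+* IsLocalRing.ResidueField R, i1.comp τ = i2 := by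
  have hsc := Hensel.IsStrictHenselization.isSepClosure (R := A) (S := R)
  have hs : IsSepClosed (IsLocalRing.ResidueField R) := hsc.sep_closed
  have hsep : Algebra.IsSeparable (IsLocalRing.ResidueField A) (IsLocalRing.ResidueField R) := hsc.separable
  have key : ∀ y, ∃ x, i1 x = i2 y := by
    intro y
    have h1 : (minpoly (IsLocalRing.ResidueField A) y).Separable := Algebra.IsSeparable.isSeparable _ y
    have hsplit : ((minpoly (IsLocalRing.ResidueField A) y).map
        (algebraMap (IsLocalRing.ResidueField A) (IsLocalRing.ResidueField R))).Splits :=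
      IsSepClosed.splits_codomain _ h1
    have hroot : ((minpoly (IsLocalRing.ResidueField A) y).map
        (i2.comp (IsLocalRing.ResidueField.map (algebraMap A R)))).eval (i2 y) = 0 := by
      rw [← Polynomial.map_map, Polynomial.eval_map_apply]
      have h2 : Polynomial.aeval y (minpoly (IsLocalRing.ResidueField A) y) = 0 := minpoly.aeval _ _
      rw [Polynomial.aeval_def, ← Polynomial.eval_map] at h2
      have h3 : ((minpoly (IsLocalRing.ResidueField A) y).map
        (IsLocalRing.ResidueField.map (algebraMap A R))).eval y = 0 := h2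
      rw [h3, map_zero]
    rw [← h, ← Polynomial.map_map] at hroot
    have hne : (minpoly (IsLocalRing.ResidueField A) y).map
        (algebraMap (IsLocalRing.ResidueField A) (IsLocalRing.ResidueField R)) ≠ 0 :=
      Polynomial.map_ne_zero (minpoly.ne_zero (Algebra.IsSeparable.isIntegral _ y))
    exact hsplit.mem_range_of_isRoot hne hroot
  choose τ hτ using key
  refine ⟨{ toFun := τ, map_one' := ?_, map_mul' := ?_, map_zero' := ?_, map_add' := ?_ }, ?_⟩
  · apply i1.injective; rw [hτ, map_one, map_one]
  · intro x y; apply i1.injective; rw [hτ, map_mul, map_mul, hτ, hτ]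
  · apply i1.injective; rw [hτ, map_zero, map_zero]
  · intro x y; apply i1.injective; rw [hτ, map_add, map_add, hτ, hτ]
  · ext x
    exact hτ x

theorem exists_algHom_comap_eq [Hensel.IsStrictHenselization A R] (q : Ideal (R ⊗[A] R)) [q.IsPrime]
    (hq : q.comap (algebraMap A (R ⊗[A] R)) = IsLocalRing.maximalIdeal A) :
    ∃ φ : R ⊗[A] R →ₐ[A] R, (IsLocalRing.maximalIdeal R).comap φ.toRingHom = q := by
  -- the two maps to the residue field
  let F := q.ResidueField
  let π : R ⊗[A] R →+* F := algebraMap _ F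
  let j1 : R →+* R ⊗[A] R := (Algebra.TensorProduct.includeLeft : R →ₐ[A] R ⊗[A] R).toRingHom
  let j2 : R →+* R ⊗[A] R := (Algebra.TensorProduct.includeRight : R →ₐ[A] R ⊗[A] R).toRingHom
  have hj : ∀ (j : R →+* R ⊗[A] R), (∀ a, j (algebraMap A R a) = algebraMap A (R ⊗[A] R) a) →
      ∀ x ∈ IsLocalRing.maximalIdeal R, (π.comp j) x = 0 := by
    intro j hj x hx
    have h1 : IsLocalRing.maximalIdeal R ≤ (q.comap j) := by
      rw [← Groth.Agent.S0538.result A R, Ideal.map_le_iff_le_comap]
      intro a ha
      rw [Ideal.mem_comap, Ideal.mem_comap, hj]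
      rw [← hq] at ha
      exact ha
    have h2 : j x ∈ q := h1 hx
    rw [RingHom.comp_apply]
    exact Ideal.algebraMap_residueField_eq_zero.mpr h2
  have hj1 : ∀ a, j1 (algebraMap A R a) = algebraMap A (R ⊗[A] R) a := fun a =>
    (Algebra.TensorProduct.includeLeft : R →ₐ[A] R ⊗[A] R).commutes a
  have hj2 : ∀ a, j2 (algebraMap A R a) = algebraMap A (R ⊗[A] R) a := fun a =>
    (Algebra.TensorProduct.includeRight : R →ₐ[A] R ⊗[A] R).commutes a
  let i1 : IsLocalRing.ResidueField R →+* F := Ideal.Quotient.lift _ (π.comp j1) (hj j1 hj1)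
  let i2 : IsLocalRing.ResidueField R →+* F := Ideal.Quotient.lift _ (π.comp j2) (hj j2 hj2)
  have hi1 : ∀ x : R, i1 (IsLocalRing.residue R x) = π (j1 x) := fun x => Ideal.Quotient.lift_mk _ _ _
  have hi2 : ∀ x : R, i2 (IsLocalRing.residue R x) = π (j2 x) := fun x => Ideal.Quotient.lift_mk _ _ _
  have h12 : i1.comp (IsLocalRing.ResidueField.map (algebraMap A R)) =
      i2.comp (IsLocalRing.ResidueField.map (algebraMap A R)) := by
    ext a
    obtain ⟨a, rfl⟩ := IsLocalRing.residue_surjective a
    rw [RingHom.comp_apply, RingHom.comp_apply, IsLocalRing.ResidueField.map_residue, hi1, hi2, hj1, hj2]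
  obtain ⟨τ, hτ⟩ := exists_tau A R i1 i2 h12
  have hT : HenselianLocalRing R := Hensel.IsStrictHenselization.henselian (R := A) (S := R)
  have hcomp : τ.comp (IsLocalRing.ResidueField.map (algebraMap A R)) =
      IsLocalRing.ResidueField.map (algebraMap A R) := by
    ext a
    apply i1.injective
    have := congrArg (fun f => f a) h12
    simp only [RingHom.comp_apply] at this ⊢
    rw [this, ← hτ]
    rfl
  obtain ⟨b, ⟨hb1, hb2⟩, -⟩ := Hensel.IsStrictHenselization.universal (R := A) (S := R) R (algebraMap A R) τ hcomp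
  let b' : R →ₐ[A] R := { b with commutes' := fun a => congrArg (fun f => f a) hb1 }
  let φ : R ⊗[A] R →ₐ[A] R := Algebra.TensorProduct.lift (AlgHom.id A R) b' (fun _ _ => Commute.all _ _)
  refine ⟨φ, ?_⟩
  have key : ∀ w : R ⊗[A] R, i1 (IsLocalRing.residue R (φ w)) = π w := by
    intro w
    induction w using TensorProduct.induction_on with
    | zero => simp
    | tmul x y =>
      have h3 : φ (x ⊗ₜ y) = x * b y := Algebra.TensorProduct.lift_tmul _ _ _ _ _
      have h4 : x ⊗ₜ[A] y = j1 x * j2 y := by
        change x ⊗ₜ[A] y = (x ⊗ₜ 1) * (1 ⊗ₜ y)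
        simp
      rw [h3, map_mul, map_mul, h4, map_mul, hi1, hb2]
      have h5 : i1 (τ (IsLocalRing.residue R y)) = i2 (IsLocalRing.residue R y) := by rw [← hτ]; rfl
      rw [h5, hi2]
    | add x y hx hy => rw [map_add, map_add, map_add, map_add, hx, hy]
  ext w
  change φ w ∈ IsLocalRing.maximalIdeal R ↔ w ∈ q
  rw [← IsLocalRing.residue_eq_zero_iff, ← map_eq_zero_iff i1 i1.injective, key]
  exact Ideal.algebraMap_residueField_eq_zero

end Point

theorem weaklyEtale_specMap {A B : Type u} [CommRing A] [CommRing B] [Algebra A B] [h : Algebra.WeaklyEtale A B] :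
    WeaklyEtale (Spec.map (CommRingCat.ofHom (algebraMap A B))) := by
  refine ⟨?_, ?_⟩
  · rw [Flat.SpecMap_iff]
    exact (RingHom.flat_algebraMap_iff).mpr h.flat
  · rw [diagonal_SpecMap]
    have h2 : Flat (Spec.map (CommRingCat.ofHom (Algebra.TensorProduct.lmul' A :
        TensorProduct A B B →ₐ[A] B).toRingHom)) := by
      rw [Flat.SpecMap_iff]
      exact h.flat_lmul'
    infer_instance

theorem isConnected_specializes (A R : Type u) [CommRing A] [IsLocalRing A] [CommRing R] [IsLocalRing R]
    [Algebra A R] [IsLocalHom (algebraMap A R)] [Hensel.IsStrictHenselization A R]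
    (U : (Spec (CommRingCat.of A)).Opens)
    (hU : ∀ x : Spec (CommRingCat.of A), x ∉ U → x = IsLocalRing.closedPoint A)
    (hc : ConnectedSpace ↑(pullback U.ι (Spec.map (CommRingCat.ofHom (algebraMap A R)))))
    (q : Spec (CommRingCat.of (R ⊗[A] R)))
    (hq : Spec.map (CommRingCat.ofHom (algebraMap A (R ⊗[A] R))) q ∉ U) :
    _root_.IsConnected {z : Spec (CommRingCat.of (R ⊗[A] R)) |
      Spec.map (CommRingCat.ofHom (algebraMap A (R ⊗[A] R))) z ∈ U ∧ z ⤳ q} := by
  have h1 := hU _ hq
  obtain ⟨φ, hφ⟩ := exists_algHom_comap_eq A R q.asIdeal (congrArg PrimeSpectrum.asIdeal h1)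
  let t : Spec (CommRingCat.of R) ⟶ Spec (CommRingCat.of (R ⊗[A] R)) := Spec.map (CommRingCat.ofHom φ.toRingHom)
  have ht : t ≫ Spec.map (CommRingCat.ofHom (algebraMap A (R ⊗[A] R))) =
      Spec.map (CommRingCat.ofHom (algebraMap A R)) := by
    rw [← Spec.map_comp]
    congr 1
    ext a
    exact φ.commutes a
  have hwe : Algebra.WeaklyEtale A R :=
    Groth.Agent.Pi1C.StrictHensWE.weaklyEtale_of_isStrictHenselization A R
  have hwe2 : Algebra.WeaklyEtale R (R ⊗[A] R) := inferInstance
  have hwe3 : Algebra.WeaklyEtale A (R ⊗[A] R) := Algebra.WeaklyEtale.trans A R (R ⊗[A] R)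
  have hw1 : WeaklyEtale (Spec.map (CommRingCat.ofHom (algebraMap A (R ⊗[A] R)))) := weaklyEtale_specMap
  have hw2 : WeaklyEtale (t ≫ Spec.map (CommRingCat.ofHom (algebraMap A (R ⊗[A] R)))) := by
    rw [ht]; exact weaklyEtale_specMap
  have hw3 : WeaklyEtale t := WeaklyEtale.of_comp t (Spec.map (CommRingCat.ofHom (algebraMap A (R ⊗[A] R))))
  have htc : t (IsLocalRing.closedPoint R) = q := PrimeSpectrum.ext hφ
  have key : {z : Spec (CommRingCat.of (R ⊗[A] R)) |
      Spec.map (CommRingCat.ofHom (algebraMap A (R ⊗[A] R))) z ∈ U ∧ z ⤳ q} =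
      t '' (Set.range (pullback.snd U.ι (Spec.map (CommRingCat.ofHom (algebraMap A R))))) := by
    have hr : Set.range (pullback.snd U.ι (Spec.map (CommRingCat.ofHom (algebraMap A R)))) =
        (Spec.map (CommRingCat.ofHom (algebraMap A R))) ⁻¹' (U : Set _) := by
      rw [Scheme.Pullback.range_snd]
      congr 1
      exact U.range_ι
    rw [hr]
    ext z
    constructor
    · rintro ⟨hz1, hz2⟩
      rw [← htc] at hz2
      obtain ⟨r, hr, rfl⟩ := Flat.generalizingMap t hz2
      refine ⟨r, ?_, rfl⟩
      change Spec.map (CommRingCat.ofHom (algebraMap A R)) r ∈ U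
      rw [← ht]
      exact hz1
    · rintro ⟨r, hr, rfl⟩
      have hsp : r ⤳ IsLocalRing.closedPoint R := IsLocalRing.specializes_closedPoint r
      refine ⟨?_, ?_⟩
      · change (t ≫ Spec.map (CommRingCat.ofHom (algebraMap A (R ⊗[A] R)))) r ∈ U
        rw [ht]
        exact hr
      · rw [← htc]
        exact hsp.map t.continuous
  rw [key]
  exact (isConnected_range (pullback.snd U.ι (Spec.map (CommRingCat.ofHom (algebraMap A R)))).continuous).image
    _ t.continuous.continuousOn

end Groth.Agent.Pi1C.StrictHensTensor
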