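import Groth.Agent.Pi1C.SplitDescent2
import Groth.Agent.Pi1C.SplitSections2
import Groth.Agent.Pi1C.IdemGeom
import Groth.Agent.Pi1C.StrictHensTensor
import Groth.Agent.Pi1C.FEtExtend
import Groth.Agent.Pi1C.PuncturedSections2
import Groth.Agent.Pi1A.FEtAffine
import Groth.Agent.S0238

/-!
# Extending a finite etale cover of an open of `Spec A` split over a strict henselization
-/

set_option autoImplicit false

universe u

open CategoryTheory CategoryTheory.Limits AlgebraicGeometry TensorProduct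

namespace Groth.Agent.Pi1C.SplitExtend

open Groth.Agent.Pi1C.SectionsOverAffine Groth.Agent.Pi1C.IdemGeom Groth.Agent.Pi1C.SplitDescent
  Groth.Agent.Pi1C.PuncturedSections

theorem isPullback_of_comp_mono {C : Type*} [Category C] {W X Y Z T : C} {g : W ⟶ X} {h : W ⟶ Y}
    {f : X ⟶ Z} {j : Y ⟶ Z} (i : Z ⟶ T) [Mono i] (H : IsPullback g h (f ≫ i) (j ≫ i)) :
    IsPullback g h f j := by
  refine ⟨⟨by simpa [← cancel_mono i] using H.w⟩, ⟨PullbackCone.IsLimit.mk _
    (fun s => H.lift s.fst s.snd (by rw [s.condition_assoc]))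
    (fun s => H.lift_fst _ _ _) (fun s => H.lift_snd _ _ _) (fun s m h1 h2 => ?_)⟩⟩
  apply H.hom_ext
  · rw [h1, H.lift_fst]
  · rw [h2, H.lift_snd]

/-- If idempotents of `S ⊗ O` come from `S` for `S = R ⊗ R` then the hypothesis of `SplitDescent` holds. -/
theorem lTensor_surjOn_idem (A R O : Type u) [CommRing A] [CommRing R] [CommRing O] [Algebra A R] [Algebra A O]
    (H : ∀ z : (R ⊗[A] R) ⊗[A] O, IsIdempotentElem z → ∃ s : R ⊗[A] R, s ⊗ₜ 1 = z)
    (z : R ⊗[A] (R ⊗[A] O)) (hz : IsIdempotentElem z) : ∃ s : R ⊗[A] R,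
      LinearMap.lTensor R (Algebra.TensorProduct.includeLeft : R →ₐ[A] R ⊗[A] O).toLinearMap s = z := by
  let a : (R ⊗[A] R) ⊗[A] O ≃ₐ[A] R ⊗[A] (R ⊗[A] O) := Algebra.TensorProduct.assoc A A A R R O
  obtain ⟨s, hs⟩ := H (a.symm z) (hz.map a.symm)
  refine ⟨s, ?_⟩
  have h1 : z = a (s ⊗ₜ 1) := by rw [hs, AlgEquiv.apply_symm_apply]
  rw [h1]
  clear h1 hs
  induction s using TensorProduct.induction_on with
  | zero => simp
  | tmul x y => rfl
  | add x y hx hy => rw [map_add, hx, hy, TensorProduct.add_tmul, map_add]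

section

variable (A : Type u) [CommRing A] (U : (Spec (CommRingCat.of A)).Opens)
  [Algebra A Γ(U.toScheme, ⊤)] (halg : algebraMap A Γ(U.toScheme, ⊤) = toΓ U.ι)

include halg in
theorem exists_pow_smul_eq [CompactSpace U] (a : A) (ha : PrimeSpectrum.basicOpen a ≤ U) (o : Γ(U.toScheme, ⊤)) :
    ∃ n : ℕ, ∃ b : A, algebraMap A Γ(U.toScheme, ⊤) b = a ^ n • o := by
  have hqs : QuasiSeparatedSpace U.toScheme := quasiSeparatedSpace_of_quasiSeparated U.ι
  let r : Γ(Spec (CommRingCat.of A), ⊤) := (Scheme.ΓSpecIso (CommRingCat.of A)).inv a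
  have hr : (Spec (CommRingCat.of A)).basicOpen r = PrimeSpectrum.basicOpen a := by
    rw [basicOpen_eq_of_affine]
  have h1 : IsIso (U.ι.app ((Spec (CommRingCat.of A)).basicOpen r)) := by
    apply Scheme.Hom.isIso_app
    rw [hr, Scheme.Opens.opensRange_ι]
    exact ha
  obtain ⟨n, x, hx⟩ := exists_pow_mul_eq_of_isIso_app U.ι r h1 o
  refine ⟨n, (Scheme.ΓSpecIso (CommRingCat.of A)).hom x, ?_⟩
  rw [Algebra.smul_def, map_pow, halg]
  have h2 : toΓ U.ι ((Scheme.ΓSpecIso (CommRingCat.of A)).hom x) = U.ι.appTop x := by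
    change U.ι.appTop (((Scheme.ΓSpecIso (CommRingCat.of A)).hom ≫ (Scheme.ΓSpecIso (CommRingCat.of A)).inv) x) = _
    rw [Iso.hom_inv_id]
    rfl
  rw [h2]
  exact hx

include halg in
theorem ker_le_nilradical [IsLocalRing A] (hU : ∀ x : Spec (CommRingCat.of A), x ∉ U → x = IsLocalRing.closedPoint A)
    (hne : Nonempty U) : RingHom.ker (algebraMap A Γ(U.toScheme, ⊤)) ≤ nilradical A := by
  intro j hj
  have hj : algebraMap A Γ(U.toScheme, ⊤) j = 0 := hj
  rw [nilradical_eq_sInf, Ideal.mem_sInf]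
  intro p hp
  have hp : p.IsPrime := hp
  by_cases hpU : (⟨p, hp⟩ : PrimeSpectrum A) ∈ U
  · by_contra hjp
    have h1 : U.toScheme.basicOpen (toΓ U.ι j) = U.ι ⁻¹ᵁ (PrimeSpectrum.basicOpen j) := basicOpen_toΓ U.ι j
    rw [← halg, hj, Scheme.basicOpen_zero] at h1
    have h2 : (⟨⟨p, hp⟩, hpU⟩ : U) ∈ U.ι ⁻¹ᵁ (PrimeSpectrum.basicOpen j) := hjp
    rw [← h1] at h2
    exact h2
  · have h1 := hU _ hpU
    have h2 : p = IsLocalRing.maximalIdeal A := congrArg PrimeSpectrum.asIdeal h1
    rw [h2]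
    by_contra h3
    have h4 : IsUnit j := by
      by_contra h5
      exact h3 ((IsLocalRing.mem_maximalIdeal j).mpr h5)
    have h5 := h4.map (algebraMap A Γ(U.toScheme, ⊤))
    rw [hj] at h5
    have h6 : Subsingleton Γ(U.toScheme, ⊤) := subsingleton_of_zero_eq_one (by
      obtain ⟨w, hw⟩ := h5.exists_right_inv
      rw [zero_mul] at hw
      exact hw)
    obtain ⟨x⟩ := hne
    have h7 : U.toScheme.basicOpen (1 : Γ(U.toScheme, ⊤)) = U.toScheme.basicOpen (0 : Γ(U.toScheme, ⊤)) := by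
      rw [h6.elim 1 0]
    rw [Scheme.basicOpen_zero, Scheme.basicOpen_of_isUnit _ isUnit_one] at h7
    have h8 : x ∈ (⊤ : U.toScheme.Opens) := trivial
    rw [h7] at h8
    exact h8

end

theorem exists_extension (A : Type u) [CommRing A] [IsLocalRing A] (R : Type u) [CommRing R] [IsLocalRing R]
    [Algebra A R] [IsLocalHom (algebraMap A R)] [Hensel.IsStrictHenselization A R]
    (U : (Spec (CommRingCat.of A)).Opens) [CompactSpace U]
    (hU : ∀ x : Spec (CommRingCat.of A), x ∉ U → x = IsLocalRing.closedPoint A)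
    (hc : ConnectedSpace ↑(pullback U.ι (Spec.map (CommRingCat.ofHom (algebraMap A R)))))
    (V : FEt.Cat (U : Scheme.{u}))
    (hV : Pi1.IsSplit ((FEt.restrict (pullback.fst U.ι
      (Spec.map (CommRingCat.ofHom (algebraMap A R))))).obj V)) :
    ∃ Y : FEt.Cat (Spec (CommRingCat.of A)), Nonempty ((FEt.restrict U.ι).obj Y ≅ V) := by
  -- flatness
  have hfl : Module.Flat A R :=
    Groth.Agent.Pi1C.IndEtaleWE.flat_of_lazard (Groth.Agent.Pi1C.StrictHensWE.lazard_of_isStrictHenselization A R)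
  have hff : Module.FaithfullyFlat A R := Module.FaithfullyFlat.of_flat_of_isLocalHom
  have hqs : QuasiSeparatedSpace U.toScheme := quasiSeparatedSpace_of_quasiSeparated U.ι
  let v : V.left ⟶ U.toScheme := V.hom
  have hfin : IsFinite v := V.prop.1
  have hcV : CompactSpace V.left := QuasiCompact.compactSpace_of_compactSpace v
  have hqsV : QuasiSeparatedSpace V.left := quasiSeparatedSpace_of_quasiSeparated v
  have hne : Nonempty U := by
    obtain ⟨x⟩ := hc.toNonempty
    exact ⟨pullback.fst U.ι (Spec.map (CommRingCat.ofHom (algebraMap A R))) x⟩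
  -- the algebras of sections
  let O := Γ(U.toScheme, ⊤)
  let C := Γ(V.left, ⊤)
  let _ : Algebra A O := (toΓ U.ι).toAlgebra
  let _ : Algebra A C := (toΓ (v ≫ U.ι)).toAlgebra
  obtain ⟨ι, hι, ⟨e⟩⟩ := Groth.Agent.Pi1C.SplitSections.exists_algEquiv_tensor_of_isSplit A R U V hV rfl rfl
  have hid : ∀ z : R ⊗[A] (R ⊗[A] O), IsIdempotentElem z → ∃ s : R ⊗[A] R,
      LinearMap.lTensor R (Algebra.TensorProduct.includeLeft : R →ₐ[A] R ⊗[A] O).toLinearMap s = z := by
    apply lTensor_surjOn_idem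
    apply exists_tmul_one_eq U rfl
    intro q hq
    exact Groth.Agent.Pi1C.StrictHensTensor.isConnected_specializes A R U hU hc q hq
  -- the image of `A` in `O`
  let J : Ideal A := RingHom.ker (algebraMap A O)
  have hJ : J ≤ nilradical A := ker_le_nilradical A U rfl hU hne
  let A' := A ⧸ J
  let _ : Algebra A' O := (Ideal.Quotient.lift J (algebraMap A O) (fun _ h => h)).toAlgebra
  have : IsScalarTower A A' O := IsScalarTower.of_algebraMap_eq' rfl
  have hJC : ∀ a ∈ J, algebraMap A C a = 0 := by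
    intro a ha
    have h1 := Groth.Agent.Pi1C.FEtExtend.toΓ_comp v U.ι
    change toΓ (v ≫ U.ι) a = 0
    rw [h1]
    have ha : toΓ U.ι a = 0 := ha
    rw [RingHom.comp_apply, ha, map_zero]
  have hJB : ∀ a ∈ J, algebraMap A (desc e) a = 0 := by
    intro a ha
    apply Subtype.ext
    exact hJC a ha
  let _ : Algebra A' (desc e) := (Ideal.Quotient.lift J (algebraMap A (desc e)) hJB).toAlgebra
  have : IsScalarTower A A' (desc e) := IsScalarTower.of_algebraMap_eq' rfl
  have hs : Function.Surjective (algebraMap A A') := Ideal.Quotient.mk_surjective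
  have hi : Function.Injective (algebraMap A' O) := by
    rw [injective_iff_map_eq_zero]
    intro x hx
    obtain ⟨a, rfl⟩ := hs x
    exact Ideal.Quotient.eq_zero_iff_mem.mpr hx
  obtain ⟨hB1, hB2⟩ := finite_etale_desc e hid A' hs hi
  -- the model over `Spec A'`
  let Y' : FEt.Cat (Spec (CommRingCat.of A')) := Groth.Agent.Pi1A.FEtAffine.ofAlgebra A' (desc e)
  let i : Spec (CommRingCat.of A') ⟶ Spec (CommRingCat.of A) := Spec.map (CommRingCat.ofHom (algebraMap A A'))
  have hi1 : IsClosedImmersion i := IsClosedImmersion.spec_of_surjective _ hs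
  have hi2 : Surjective i := by
    refine ⟨fun x => ?_⟩
    exact (PrimeSpectrum.comap_quotientMk_bijective_of_le_nilradical hJ).2 x
  have heq : (FEt.restrict i).IsEquivalence := Groth.Agent.S0238.result i
  let Y := (FEt.restrict i).objPreimage Y'
  let eY : (FEt.restrict i).obj Y ≅ Y' := (FEt.restrict i).objObjPreimageIso Y'
  let j : U.toScheme ⟶ Spec (CommRingCat.of A') :=
    U.toScheme.toSpecΓ ≫ Spec.map (CommRingCat.ofHom (algebraMap A' O))
  have hΓ : ∀ (Z : Scheme.{u}) (f : Z ⟶ Spec (CommRingCat.of A)),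
      Z.toSpecΓ ≫ Spec.map (CommRingCat.ofHom (toΓ f)) = f := by
    intro Z f
    have h1 : CommRingCat.ofHom (toΓ f) = (Scheme.ΓSpecIso (CommRingCat.of A)).inv ≫ f.appTop := rfl
    rw [h1, Spec.map_comp, ← Scheme.toSpecΓ_naturality_assoc]
    simp
  have hji : j ≫ i = U.ι := by
    rw [Category.assoc, ← Spec.map_comp]
    exact hΓ _ U.ι
  let g : V.left ⟶ Spec (CommRingCat.of (desc e)) :=
    V.left.toSpecΓ ≫ Spec.map (CommRingCat.ofHom (desc e).val.toRingHom)
  have hg : (Scheme.ΓSpecIso (CommRingCat.of (desc e))).inv ≫ g.appTop =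
      CommRingCat.ofHom (desc e).val.toRingHom := by
    simp [g]
  have hw : g ≫ Spec.map (CommRingCat.ofHom (algebraMap A (desc e))) = v ≫ U.ι := by
    rw [Category.assoc, ← Spec.map_comp]
    exact hΓ _ (v ≫ U.ι)
  have hp : IsPullback g v (Spec.map (CommRingCat.ofHom (algebraMap A (desc e)))) U.ι := by
    refine isPullback_of_localization _ v g hw ?_ ?_
    · intro a _ x hx
      rw [hg] at hx
      exact ⟨0, by rw [pow_zero, one_mul]; exact Subtype.ext hx⟩
    · intro a ha y
      rw [hg]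
      obtain ⟨n, hn⟩ := exists_pow_smul_mem_desc e a (exists_pow_smul_eq A U rfl a ha) y
      refine ⟨n, ⟨_, hn⟩, ?_⟩
      change a ^ n • y = (algebraMap A C a) ^ n * y
      rw [Algebra.smul_def, map_pow]
  have hp' : IsPullback g v (Spec.map (CommRingCat.ofHom (algebraMap A' (desc e)))) j := by
    apply isPullback_of_comp_mono i
    have h1 : Spec.map (CommRingCat.ofHom (algebraMap A' (desc e))) ≫ i =
        Spec.map (CommRingCat.ofHom (algebraMap A (desc e))) := by
      rw [← Spec.map_comp]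
      rfl
    rw [h1, hji]
    exact hp
  exact ⟨Y, ⟨(Groth.Agent.Pi1A.FEtAffine.restrictCongr hji.symm ≪≫
    Groth.Agent.Pi1A.FEtAffine.restrictComp j i).app Y ≪≫ (FEt.restrict j).mapIso eY ≪≫
    Groth.Agent.Pi1C.FEtExtend.isoOfIsPullback j Y' V g hp'⟩⟩

end Groth.Agent.Pi1C.SplitExtend
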