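import Mathlib.RingTheory.Etale.Descent
import Mathlib.RingTheory.Etale.Pi
import Mathlib.RingTheory.Etale.Field
import Mathlib.RingTheory.Finiteness.Descent
import Mathlib.RingTheory.Flat.FaithfullyFlat.Algebra
import Mathlib.RingTheory.Algebraic.Integral
import Mathlib.RingTheory.IntegralClosure.IntegrallyClosed
import Groth.Agent.Pi1C.IndEtaleIC

/-!
# Normal domains and ind-etale extensions: finite etale algebras over the fraction field

`A` a normal domain with fraction field `K`, `R` an ind-etale `A`-algebra (Lazard form) which is a domain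
with fraction field `L`.

* `isAlgebraic`: `R` is algebraic over `A`.
* `isIntegrallyClosed`: `R` is integrally closed in `L`.
* `finite_and_etale`: if `A → R` is faithfully flat and `M` is a finite etale `K`-algebra such that
  `L ⊗[K] M ≃ (ι → L)`, `ι` finite, then `integralClosure A M` is finite etale over `A`, and it spans `M`.
-/

set_option autoImplicit false

universe u

open TensorProduct nonZeroDivisors

namespace Groth.Agent.Pi1C.SplitIntClosure

open Groth.Agent.Pi1C.IndEtaleWE

variable {A R K L : Type u} [CommRing A] [IsDomain A] [CommRing R] [Algebra A R]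
  [Field K] [Field L] [Algebra A K] [IsFractionRing A K] [Algebra R L] [IsFractionRing R L]
  [Algebra K L] [Algebra A L] [IsScalarTower A K L] [IsScalarTower A R L]

include K L in
theorem faithfulSMul : FaithfulSMul A R := by
  rw [faithfulSMul_iff_algebraMap_injective]
  have h1 : Function.Injective (algebraMap A L) := by
    rw [IsScalarTower.algebraMap_eq A K L]
    exact (algebraMap K L).injective.comp (IsFractionRing.injective A K)
  rw [IsScalarTower.algebraMap_eq A R L] at h1
  exact Function.Injective.of_comp h1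

include K L in
theorem isAlgebraic (h : Lazard A R) : Algebra.IsAlgebraic A R := by
  refine ⟨fun r => ?_⟩
  obtain ⟨E, _, _, _, χ, e, he, -⟩ := exists_etale_of_aeval h (n := 1) 0 (fun _ => r) (by simp)
  have hfin : Module.Finite K (K ⊗[A] E) := Algebra.FormallyUnramified.finite_of_free K (K ⊗[A] E)
  let g : K ⊗[A] E →ₐ[K] L := Algebra.TensorProduct.lift (Algebra.ofId K L)
    ((IsScalarTower.toAlgHom A R L).comp χ) (fun _ _ => Commute.all _ _)
  have h1 : IsIntegral K (g (1 ⊗ₜ e 0)) := (Algebra.IsIntegral.isIntegral (R := K) (1 ⊗ₜ[A] e 0)).map g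
  have h2 : g (1 ⊗ₜ e 0) = algebraMap R L r := by
    simp [g, he]
  rw [h2] at h1
  have h3 : IsAlgebraic A (algebraMap R L r) :=
    (IsFractionRing.isAlgebraic_iff A K L).mpr h1.isAlgebraic
  exact (isAlgebraic_algebraMap_iff (IsFractionRing.injective R L)).mp h3

theorem exists_algebraMap_of_isIntegral [IsIntegrallyClosed A] (h : Lazard A R) [Algebra.IsPushout A R K L]
    (l : L) (hl : IsIntegral R l) : ∃ r, algebraMap R L r = l := by
  let e : R ⊗[A] K ≃ₐ[R] L := Algebra.IsPushout.equiv A R K L
  have h1 : IsIntegral R (e.symm l) := hl.map e.symm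
  obtain ⟨w, hw⟩ := (Groth.Agent.Pi1C.IndEtaleIC.toIntegralClosure_bijective h K).2 ⟨_, h1⟩
  have h2 : ∀ w : R ⊗[A] integralClosure A K, ∃ r, algebraMap R L r =
      e ((TensorProduct.toIntegralClosure A R K w : integralClosure R (R ⊗[A] K)) : R ⊗[A] K) := by
    intro w
    induction w using TensorProduct.induction_on with
    | zero => exact ⟨0, by simp⟩
    | tmul a b =>
      obtain ⟨c, hc⟩ := (IsIntegrallyClosed.isIntegral_iff (R := A) (K := K)).mp b.2
      refine ⟨a * algebraMap A R c, ?_⟩
      simp only [TensorProduct.toIntegralClosure]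
      change _ = e (a ⊗ₜ[A] (b : K))
      rw [Algebra.IsPushout.equiv_tmul, map_mul, ← hc, ← IsScalarTower.algebraMap_apply,
        ← IsScalarTower.algebraMap_apply]
    | add x y hx hy =>
      obtain ⟨r, hr⟩ := hx
      obtain ⟨s, hs⟩ := hy
      exact ⟨r + s, by rw [map_add, hr, hs, map_add, Subalgebra.coe_add, map_add]⟩
  obtain ⟨r, hr⟩ := h2 w
  rw [hw] at hr
  exact ⟨r, by rw [hr]; simp⟩

/-- The integral closure of `R` in `L^ι` is `R^ι`. -/
noncomputable def piEquivIntegralClosure (ι : Type*)
    (hR : ∀ l : L, IsIntegral R l → ∃ r, algebraMap R L r = l) [Finite ι] :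
    (ι → R) ≃ₐ[R] integralClosure R (ι → L) := by
  refine AlgEquiv.ofBijective
    ((AlgHom.codRestrict (AlgHom.pi (fun i : ι => (Algebra.ofId R L).comp (Pi.evalAlgHom R (fun _ : ι => R) i)))
      (integralClosure R (ι → L)) ?_)) ⟨?_, ?_⟩
  · intro r
    exact (Algebra.IsIntegral.isIntegral (R := R) r).map (AlgHom.pi (fun i : ι => (Algebra.ofId R L).comp (Pi.evalAlgHom R (fun _ : ι => R) i)))
  · intro x y hxy
    funext i
    have h1 := congrFun (congrArg Subtype.val hxy) i
    exact IsFractionRing.injective R L h1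
  · rintro ⟨x, hx⟩
    have h1 : ∀ i, ∃ r, algebraMap R L r = x i := fun i =>
      hR _ (hx.map (Pi.evalAlgHom R (fun _ : ι => L) i))
    choose r hr using h1
    exact ⟨r, Subtype.ext (funext hr)⟩

theorem exists_equiv_pi [IsIntegrallyClosed A] (h : Lazard A R) (M : Type u) [CommRing M] [Algebra K M]
    [Algebra A M] [IsScalarTower A K M] (ι : Type*) [Finite ι] (e : L ⊗[K] M ≃ₐ[L] (ι → L)) :
    Nonempty (R ⊗[A] integralClosure A M ≃ₐ[R] (ι → R)) := by
  have := faithfulSMul (A := A) (R := R) (K := K) (L := L)
  have := isAlgebraic (A := A) (R := R) (K := K) (L := L) h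
  have hdomR : IsDomain R := (IsFractionRing.injective R L).isDomain
  have hpo : Algebra.IsPushout A R K L := inferInstance
  have hpo' : Algebra.IsPushout A K R L := inferInstance
  have hR := exists_algebraMap_of_isIntegral (A := A) (R := R) (K := K) (L := L) h
  let e1 : R ⊗[A] integralClosure A M ≃ₐ[R] integralClosure R (R ⊗[A] M) :=
    AlgEquiv.ofBijective _ (Groth.Agent.Pi1C.IndEtaleIC.toIntegralClosure_bijective h M)
  let e2 : R ⊗[A] M ≃ₐ[R] L ⊗[K] M := (Algebra.IsPushout.cancelBaseChangeAlg A R K L M).symm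
  let e3 : L ⊗[K] M ≃ₐ[R] (ι → L) := e.restrictScalars R
  exact ⟨e1.trans (((e2.trans e3).mapIntegralClosure).trans (piEquivIntegralClosure ι hR).symm)⟩

/-- Main theorem of this file. -/
theorem finite_and_etale [IsIntegrallyClosed A] (h : Lazard A R) [Module.FaithfullyFlat A R]
    (M : Type u) [CommRing M] [Algebra K M]
    [Algebra A M] [IsScalarTower A K M] (ι : Type*) [Finite ι] (e : L ⊗[K] M ≃ₐ[L] (ι → L)) :
    Module.Finite A (integralClosure A M) ∧ Algebra.Etale A (integralClosure A M) := by
  obtain ⟨e'⟩ := exists_equiv_pi h M ι e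
  have h1 : Module.Finite R (R ⊗[A] integralClosure A M) := Module.Finite.equiv e'.toLinearEquiv.symm
  have h2 : Algebra.Etale R (R ⊗[A] integralClosure A M) := Algebra.Etale.of_equiv e'.symm
  exact ⟨Module.Finite.of_finite_tensorProduct_of_faithfullyFlat R,
    Algebra.Etale.of_etale_tensorProduct_of_faithfullyFlat (T := R)⟩

/-- `K ⊗[A] (integral closure of A in M) = M` for `M` integral over the fraction field `K` of `A`. -/
theorem nonempty_equiv_of_integral (M : Type u) [CommRing M] [Algebra K M]
    [Algebra A M] [IsScalarTower A K M] [Algebra.IsIntegral K M] :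
    Nonempty (K ⊗[A] integralClosure A M ≃ₐ[K] M) := by
  have h1 : IsLocalization (Algebra.algebraMapSubmonoid (integralClosure A M) A⁰) M := by
    refine ⟨⟨?_, ?_, ?_⟩⟩
    · rintro ⟨_, f, hf, rfl⟩
      have := (IsLocalization.map_units K (⟨f, hf⟩ : A⁰)).map (algebraMap K M)
      rw [← IsScalarTower.algebraMap_apply] at this
      rw [← IsScalarTower.algebraMap_apply]
      exact this
    · intro m
      obtain ⟨⟨a, ha⟩, hm⟩ := IsIntegral.exists_multiple_integral_of_isLocalization A⁰ m
        (Algebra.IsIntegral.isIntegral (R := K) m)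
      refine ⟨⟨⟨a • m, hm⟩, ⟨algebraMap A _ a, a, ha, rfl⟩⟩, ?_⟩
      simp only
      rw [← IsScalarTower.algebraMap_apply, mul_comm, ← Algebra.smul_def]
      rfl
    · intro x y hxy
      exact ⟨1, by rw [Subtype.ext hxy]⟩
  have hpo : Algebra.IsPushout A K (integralClosure A M) M :=
    (Algebra.isPushout_of_isLocalization A⁰ K (integralClosure A M) M).symm
  exact ⟨Algebra.IsPushout.equiv A K (integralClosure A M) M⟩

end Groth.Agent.Pi1C.SplitIntClosure
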