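import Mathlib.AlgebraicGeometry.AffineSpace
import Groth.Prelude.Def_Pi1
import Groth.Agent.Pi1C.PuncturedSections2

/-!
# Sections of a coproduct of schemes and of a split finite etale cover
-/

set_option autoImplicit false

universe u

open CategoryTheory CategoryTheory.Limits AlgebraicGeometry TensorProduct

namespace Groth.Agent.Pi1C.SplitSections

theorem sections_sigma_bijective {ι : Type u} (X : ι → Scheme.{u}) :
    Function.Bijective (fun (x : Γ(∐ X, ⊤)) (i : ι) => (Sigma.ι X i).appTop x) := by
  let E : ∀ Y : Scheme.{u}, (Y ⟶ Spec (CommRingCat.of (MvPolynomial PUnit.{u + 1} (ULift.{u} ℤ)))) ≃ (PUnit.{u + 1} → Γ(Y, ⊤)) :=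
    fun Y => AffineSpace.toSpecMvPolyIntEquiv PUnit.{u + 1}
  have hE : ∀ {Y Z : Scheme.{u}} (f : Y ⟶ Z) (x : Γ(Z, ⊤)),
      f ≫ (E Z).symm (fun _ => x) = (E Y).symm (fun _ => f.appTop x) := by
    intro Y Z f x
    apply (E Y).injective
    funext i
    rw [Equiv.apply_symm_apply]
    have := AffineSpace.toSpecMvPolyIntEquiv_comp PUnit.{u + 1} f ((E Z).symm (fun _ => x)) i
    refine this.trans ?_
    have h2 := congrFun ((E Z).apply_symm_apply (fun _ => x)) i
    exact congrArg f.appTop h2
  constructor
  · intro x y hxy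
    have h1 : (E _).symm (fun _ => x) = (E _).symm (fun _ => y) := by
      apply Sigma.hom_ext
      intro i
      rw [hE, hE]
      congr 1
      funext _
      exact congrFun hxy i
    exact congrFun ((E _).symm.injective h1) PUnit.unit
  · intro v
    let f : ∐ X ⟶ _ := Sigma.desc (fun i => (E (X i)).symm (fun _ => v i))
    refine ⟨E _ f PUnit.unit, ?_⟩
    funext i
    have h1 : f = (E _).symm (fun _ => E _ f PUnit.unit) := by
      rw [Equiv.eq_symm_apply]
    have h2 : Sigma.ι X i ≫ f = (E (X i)).symm (fun _ => v i) := Sigma.ι_desc _ _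
    rw [h1, hE] at h2
    exact congrFun ((E _).symm.injective h2) PUnit.unit

end Groth.Agent.Pi1C.SplitSections
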