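import Groth.Agent.VarietyB.ProjGlue
import Mathlib.Algebra.Polynomial.Laurent
import Mathlib.RingTheory.Localization.Away.Basic

/-!
# Twisted sections

For `D : CoordData X I`, `Sec D a` is the group of families `e i ∈ Γ(X, U i)` with
`e i = (f i j) ^ a * e j` on `U i ⊓ U j` (i.e. `H⁰(X, 𝒪(a))`).
-/

set_option autoImplicit false
universe u
open AlgebraicGeometry CategoryTheory
open Groth.Agent.VarietyB.ProjGlue

namespace Groth.Agent.Pi1C.TwistSec

variable {X : Scheme.{u}} {I : Type} (D : CoordData X I)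

/-- Restriction to the left factor. -/
noncomputable def resL (i j : I) : Γ(X, D.U i) →+* Γ(X, D.U i ⊓ D.U j) :=
  (X.presheaf.map (homOfLE (inf_le_left : D.U i ⊓ D.U j ≤ D.U i)).op).hom

/-- Restriction to the right factor. -/
noncomputable def resR (i j : I) : Γ(X, D.U j) →+* Γ(X, D.U i ⊓ D.U j) :=
  (X.presheaf.map (homOfLE (inf_le_right : D.U i ⊓ D.U j ≤ D.U j)).op).hom

/-- The transition unit `x_j / x_i`. -/
noncomputable def u (i j : I) : Γ(X, D.U i ⊓ D.U j)ˣ := (D.f_isUnit i j).unit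

theorem u_val (i j : I) : (u D i j : Γ(X, D.U i ⊓ D.U j)) = resL D i j (D.f i j) :=
  (D.f_isUnit i j).unit_spec

theorem resL_f_mul (i j l : I) :
    resL D i j (D.f i l) = u D i j * resR D i j (D.f j l) := by
  rw [u_val]
  exact D.f_mul i j l

theorem u_mul_f (i j : I) : (u D i j : Γ(X, D.U i ⊓ D.U j)) * resR D i j (D.f j i) = 1 := by
  rw [← resL_f_mul, D.f_self, map_one]

/-- Twisted sections of degree `a`. -/
noncomputable def Sec (a : ℤ) : AddSubgroup (∀ i, Γ(X, D.U i)) where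
  carrier := {e | ∀ i j, resL D i j (e i) = ((u D i j ^ a : Γ(X, D.U i ⊓ D.U j)ˣ) :
    Γ(X, D.U i ⊓ D.U j)) * resR D i j (e j)}
  zero_mem' i j := by simp
  add_mem' {e e'} h h' i j := by
    rw [Pi.add_apply, Pi.add_apply, map_add, map_add, h i j, h' i j, mul_add]
  neg_mem' {e} h i j := by
    rw [Pi.neg_apply, Pi.neg_apply, map_neg, map_neg, h i j, mul_neg]

theorem mem_Sec {a : ℤ} {e : ∀ i, Γ(X, D.U i)} : e ∈ Sec D a ↔ ∀ i j,
    resL D i j (e i) = ((u D i j ^ a : Γ(X, D.U i ⊓ D.U j)ˣ) :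
      Γ(X, D.U i ⊓ D.U j)) * resR D i j (e j) := Iff.rfl

theorem one_mem : (1 : ∀ i, Γ(X, D.U i)) ∈ Sec D 0 := by
  intro i j
  simp

theorem mul_mem {a b : ℤ} {e e' : ∀ i, Γ(X, D.U i)} (h : e ∈ Sec D a) (h' : e' ∈ Sec D b) :
    e * e' ∈ Sec D (a + b) := by
  intro i j
  rw [Pi.mul_apply, Pi.mul_apply, map_mul, map_mul, h i j, h' i j, zpow_add, Units.val_mul]
  ring

theorem coord_mem (l : I) : (fun i => D.f i l) ∈ Sec D 1 := by
  intro i j
  rw [zpow_one, resL_f_mul]

theorem pow_mem {a : ℤ} {e : ∀ i, Γ(X, D.U i)} (h : e ∈ Sec D a) (n : ℕ) :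
    e ^ n ∈ Sec D (n * a) := by
  induction n with
  | zero => simpa using one_mem D
  | succ n ih =>
    rw [pow_succ, Nat.cast_succ, add_mul, one_mul]
    exact mul_mem D ih h

theorem coord_pow_mem (l : I) (n : ℕ) : (fun i => D.f i l ^ n) ∈ Sec D n := by
  have := pow_mem D (coord_mem D l) n
  rwa [mul_one] at this

section affine

variable (hU : ∀ i, IsAffineOpen (D.U i)) (hb : ∀ i j, X.basicOpen (D.f i j) = D.U i ⊓ D.U j)

include hU hb in
/-- A function on `U j` which vanishes on `U j ⊓ U i` is killed by a power of `f j i`. -/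
theorem exists_pow_mul_eq_zero (i j : I) (e : Γ(X, D.U j)) (h : resL D j i e = 0) :
    ∃ N : ℕ, D.f j i ^ N * e = 0 := by
  have h3 := (hU j).isLocalization_basicOpen (D.f j i)
  have h4 : algebraMap Γ(X, D.U j) Γ(X, X.basicOpen (D.f j i)) e = 0 := by
    change X.presheaf.map (homOfLE (X.basicOpen_le (D.f j i))).op e = 0
    have h5 : homOfLE (X.basicOpen_le (D.f j i)) =
        homOfLE (hb j i).le ≫ homOfLE (inf_le_left : D.U j ⊓ D.U i ≤ D.U j) := rfl
    rw [h5, op_comp, Functor.map_comp, CommRingCat.comp_apply]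
    change X.presheaf.map (homOfLE (hb j i).le).op (resL D j i e) = 0
    rw [h, map_zero]
  obtain ⟨N, hN⟩ := (IsLocalization.Away.exists_of_eq (S := Γ(X, X.basicOpen (D.f j i)))
    (D.f j i) (h4.trans (map_zero _).symm))
  exact ⟨N, by rw [hN, mul_zero]⟩

include hU hb in
/-- A function on `U j ⊓ U i` extends to `U j` after multiplication by a power of `f j i`. -/
theorem exists_extend (i j : I) (e : Γ(X, D.U j ⊓ D.U i)) :
    ∃ (N : ℕ) (e' : Γ(X, D.U j)), resL D j i e' = resL D j i (D.f j i) ^ N * e := by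
  have h3 := (hU j).isLocalization_basicOpen (D.f j i)
  let E : Γ(X, X.basicOpen (D.f j i)) := X.presheaf.map (homOfLE (hb j i).le).op e
  obtain ⟨N, e', h⟩ := IsLocalization.Away.surj (D.f j i) E
  refine ⟨N, e', ?_⟩
  have h6 : Function.Injective (X.presheaf.map (homOfLE (hb j i).le).op).hom := by
    have : IsIso (homOfLE (hb j i).le) := ⟨homOfLE (hb j i).ge, rfl, rfl⟩
    exact (ConcreteCategory.bijective_of_isIso (X.presheaf.map (homOfLE (hb j i).le).op)).1
  apply h6
  have h5 : ∀ z : Γ(X, D.U j), (X.presheaf.map (homOfLE (hb j i).le).op).hom (resL D j i z) =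
      algebraMap Γ(X, D.U j) Γ(X, X.basicOpen (D.f j i)) z := by
    intro z
    change (X.presheaf.map _ ≫ X.presheaf.map _).hom z = X.presheaf.map _ z
    rw [← Functor.map_comp]
    rfl
  rw [h5, ← h, map_mul, map_pow, h5]
  exact mul_comm _ _

/-- Restriction of functions. -/
noncomputable def res {V W : X.Opens} (h : V ≤ W) : Γ(X, W) →+* Γ(X, V) :=
  (X.presheaf.map (homOfLE h).op).hom

omit I D in
theorem res_res {U V W : X.Opens} (h : U ≤ V) (h' : V ≤ W) (z : Γ(X, W)) :
    res h (res h' z) = res (h.trans h') z := by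
  change (X.presheaf.map _ ≫ X.presheaf.map _).hom z = X.presheaf.map _ z
  rw [← Functor.map_comp]
  rfl

omit I D in
theorem res_self {V : X.Opens} (h : V ≤ V) (z : Γ(X, V)) : res h z = z := by
  have : homOfLE h = 𝟙 V := rfl
  change (X.presheaf.map (homOfLE h).op).hom z = z
  rw [this, op_id, X.presheaf.map_id]
  rfl

omit I D in
theorem exists_pow_mul_eq_zero' {V W : X.Opens} (hV : IsAffineOpen V) (g z : Γ(X, V))
    (hW : W ≤ V) (hg : X.basicOpen g ≤ W) (h : res hW z = 0) : ∃ M : ℕ, g ^ M * z = 0 := by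
  have h3 := hV.isLocalization_basicOpen g
  have h4 : algebraMap Γ(X, V) Γ(X, X.basicOpen g) z = 0 := by
    change res (X.basicOpen_le g) z = 0
    rw [← res_res hg hW, h, map_zero]
  obtain ⟨N, hN⟩ := (IsLocalization.Away.exists_of_eq (S := Γ(X, X.basicOpen g))
    g (h4.trans (map_zero _).symm))
  exact ⟨N, by rw [hN, mul_zero]⟩

theorem res_f_mul {W : X.Opens} (i j l : I) (hi : W ≤ D.U i) (hj : W ≤ D.U j) :
    res hi (D.f i l) = res hi (D.f i j) * res hj (D.f j l) := by
  have h := congrArg (res (le_inf hi hj)) (D.f_mul i j l)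
  rw [map_mul] at h
  change res _ (res _ _) = res _ (res _ _) * res _ (res _ _) at h
  rwa [res_res, res_res, res_res] at h

include hU hb in
/-- Functions on a chart extend to twisted sections. -/
theorem exists_sec [Finite I] (i : I) (e : Γ(X, D.U i)) :
    ∃ (N : ℕ) (σ : ∀ j, Γ(X, D.U j)), σ ∈ Sec D N ∧ σ i = e := by
  classical
  have := Fintype.ofFinite I
  choose N e₁ h₁ using fun j => exists_extend D hU hb i j (resR D j i e)
  let N₀ : ℕ := ∑ j, N j
  have hN₀ : ∀ j, N j ≤ N₀ := fun j => Finset.single_le_sum (fun _ _ => Nat.zero_le _) (Finset.mem_univ j)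
  obtain ⟨e₂, h₂⟩ : ∃ e₂ : ∀ j, Γ(X, D.U j), ∀ j,
      resL D j i (e₂ j) = resL D j i (D.f j i) ^ N₀ * resR D j i e := by
    refine ⟨fun j => D.f j i ^ (N₀ - N j) * e₁ j, fun j => ?_⟩
    rw [map_mul, map_pow, h₁, ← mul_assoc, ← pow_add, Nat.sub_add_cancel (hN₀ j)]
  have haff : ∀ j l, IsAffineOpen (D.U j ⊓ D.U l) := fun j l => by
    rw [← hb]; exact (hU j).basicOpen _
  have h₃ : ∀ j l, ∃ M : ℕ, (resL D j l (D.f j i)) ^ M *
      (resL D j l (e₂ j) - resL D j l (D.f j l) ^ N₀ * resR D j l (e₂ l)) = 0 := by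
    intro j l
    have hj : D.U j ⊓ D.U l ⊓ D.U i ≤ D.U j := inf_le_left.trans inf_le_left
    have hl : D.U j ⊓ D.U l ⊓ D.U i ≤ D.U l := inf_le_left.trans inf_le_right
    have hi : D.U j ⊓ D.U l ⊓ D.U i ≤ D.U i := inf_le_right
    have key : ∀ j' (hj' : D.U j ⊓ D.U l ⊓ D.U i ≤ D.U j'),
        res hj' (e₂ j') = res hj' (D.f j' i) ^ N₀ * res hi e := by
      intro j' hj'
      have h := congrArg (res (le_inf hj' hi)) (h₂ j')
      rw [map_mul, map_pow] at h
      change res _ (res _ _) = (res _ (res _ _)) ^ _ * res _ (res _ _) at h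
      rwa [res_res, res_res, res_res] at h
    refine exists_pow_mul_eq_zero' (haff j l) _ _
      (inf_le_left : D.U j ⊓ D.U l ⊓ D.U i ≤ D.U j ⊓ D.U l) ?_ ?_
    · refine le_inf (X.basicOpen_le _) ?_
      change X.basicOpen (X.presheaf.map _ (D.f j i)) ≤ _
      rw [Scheme.basicOpen_res, hb]
      exact inf_le_right.trans inf_le_right
    · rw [map_sub, map_mul, map_pow]
      change res _ (res _ _) - (res _ (res _ _)) ^ _ * res _ (res _ _) = 0
      rw [res_res, res_res, res_res, key j hj, key l hl, res_f_mul D j l i hj hl, mul_pow,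
        ← mul_assoc, sub_self]
  choose M hM using h₃
  let M₀ : ℕ := ∑ j, ∑ l, M j l
  have hM₀ : ∀ j l, M j l ≤ M₀ := fun j l =>
    (Finset.single_le_sum (f := fun l => M j l) (fun _ _ => Nat.zero_le _) (Finset.mem_univ l)).trans
      (Finset.single_le_sum (f := fun j => ∑ l, M j l) (fun _ _ => Nat.zero_le _)
        (Finset.mem_univ j))
  refine ⟨N₀ + M₀, fun j => D.f j i ^ M₀ * e₂ j, ?_, ?_⟩
  · intro j l
    have h4 : (resL D j l (D.f j i)) ^ M₀ *
      (resL D j l (e₂ j) - resL D j l (D.f j l) ^ N₀ * resR D j l (e₂ l)) = 0 := by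
      rw [← Nat.sub_add_cancel (hM₀ j l), pow_add, mul_assoc, hM, mul_zero]
    rw [mul_sub, sub_eq_zero] at h4
    change resL D j l (D.f j i ^ M₀ * e₂ j) = _ * resR D j l (D.f l i ^ M₀ * e₂ l)
    rw [map_mul, map_pow, h4, map_mul, map_pow]
    have h5 : ((u D j l ^ ((N₀ + M₀ : ℕ) : ℤ) : Γ(X, D.U j ⊓ D.U l)ˣ) : Γ(X, D.U j ⊓ D.U l)) =
        resL D j l (D.f j l) ^ N₀ * resL D j l (D.f j l) ^ M₀ := by
      rw [zpow_natCast, Units.val_pow_eq_pow_val, u_val, pow_add]
    have h6 : resL D j l (D.f j i) = resL D j l (D.f j l) * resR D j l (D.f l i) := D.f_mul j l i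
    rw [h5, h6, mul_pow]
    ring
  · have h7 := h₂ i
    rw [D.f_self, map_one, one_pow, one_mul] at h7
    have h8 : e₂ i = e := by
      have hle : D.U i ≤ D.U i ⊓ D.U i := le_inf le_rfl le_rfl
      have h := congrArg (res hle) h7
      change res _ (res _ _) = res _ (res _ _) at h
      rwa [res_res, res_res, res_self, res_self] at h
    change D.f i i ^ M₀ * e₂ i = e
    rw [D.f_self, one_pow, one_mul, h8]

include hU hb in
/-- A twisted section vanishing on the chart `i` is killed by a power of `x_i`. -/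
theorem exists_pow_mul_eq_zero_of_apply [Finite I] {a : ℤ} {σ : ∀ j, Γ(X, D.U j)}
    (hσ : σ ∈ Sec D a) (i : I) (h : σ i = 0) : ∃ N : ℕ, ∀ j, D.f j i ^ N * σ j = 0 := by
  classical
  have := Fintype.ofFinite I
  have h1 : ∀ j, ∃ N : ℕ, D.f j i ^ N * σ j = 0 := by
    intro j
    refine exists_pow_mul_eq_zero D hU hb i j (σ j) ?_
    rw [hσ j i, h, map_zero, mul_zero]
  choose N hN using h1
  refine ⟨∑ j, N j, fun j => ?_⟩
  have hle : N j ≤ ∑ j, N j := Finset.single_le_sum (fun _ _ => Nat.zero_le _) (Finset.mem_univ j)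
  rw [← Nat.sub_add_cancel hle, pow_add, mul_assoc, hN, mul_zero]

end affine

end Groth.Agent.Pi1C.TwistSec
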