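import Mathlib.RingTheory.TotallySplit
import Mathlib.RingTheory.Etale.Descent
import Mathlib.LinearAlgebra.Contraction
import Mathlib.RingTheory.TensorProduct.Quotient

/-!
# Weil restriction of algebras along a finite projective algebra (affine internal hom)

For `R`-algebras `B` (finite projective as a module) and `C`, the functor
`T ↦ (C →ₐ[R] T ⊗[R] B)` on `R`-algebras is representable. When `B` and `C` are finite étale and
`B` has constant rank, the representing algebra is finite étale.
-/

set_option autoImplicit false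
universe u
open TensorProduct

namespace Groth.Agent.Pi1C.WeilAlg

variable {R B C : Type u} [CommRing R] [CommRing B] [CommRing C] [Algebra R B] [Algebra R C]

/-- Push forward of `ev : C → W ⊗ B` along `h : W → T`. -/
noncomputable def push {W : Type u} [CommRing W] [Algebra R W] (ev : C →ₐ[R] W ⊗[R] B)
    {T : Type u} [CommRing T] [Algebra R T] (h : W →ₐ[R] T) : C →ₐ[R] T ⊗[R] B :=
  (Algebra.TensorProduct.map h (AlgHom.id R B)).comp ev

@[simp] lemma push_apply {W : Type u} [CommRing W] [Algebra R W] (ev : C →ₐ[R] W ⊗[R] B)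
    {T : Type u} [CommRing T] [Algebra R T] (h : W →ₐ[R] T) (c : C) :
    push ev h c = Algebra.TensorProduct.map h (AlgHom.id R B) (ev c) := rfl

lemma map_id_comp {W T T' : Type u} [CommRing W] [Algebra R W] [CommRing T] [Algebra R T]
    [CommRing T'] [Algebra R T'] (h : W →ₐ[R] T) (k : T →ₐ[R] T') :
    Algebra.TensorProduct.map (k.comp h) (AlgHom.id R B) =
      (Algebra.TensorProduct.map k (AlgHom.id R B)).comp
        (Algebra.TensorProduct.map h (AlgHom.id R B)) := by
  ext <;> simp

lemma push_comp {W : Type u} [CommRing W] [Algebra R W] (ev : C →ₐ[R] W ⊗[R] B)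
    {T T' : Type u} [CommRing T] [Algebra R T] [CommRing T'] [Algebra R T']
    (h : W →ₐ[R] T) (k : T →ₐ[R] T') : push ev (k.comp h) = push (push ev h) k := by
  ext c
  simp [map_id_comp]

@[simp] lemma push_id {W : Type u} [CommRing W] [Algebra R W] (ev : C →ₐ[R] W ⊗[R] B) :
    push ev (AlgHom.id R W) = ev := by
  ext c
  simp

/-- `ev : C → W ⊗ B` is universal: `W` represents the functor `T ↦ (C →ₐ[R] T ⊗[R] B)`. -/
def IsRep {W : Type u} [CommRing W] [Algebra R W] (ev : C →ₐ[R] W ⊗[R] B) : Prop :=
  ∀ (T : Type u) [CommRing T] [Algebra R T],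
    Function.Bijective (fun h : W →ₐ[R] T => push ev h)

section Coef

variable {n : ℕ} (b : Fin n → B) (bs : Fin n → B →ₗ[R] R)

/-- Coefficient maps `T ⊗ B → T`. -/
noncomputable def coef (bs : Fin n → B →ₗ[R] R) (T : Type u) [CommRing T] [Algebra R T]
    (i : Fin n) : T ⊗[R] B →ₗ[R] T :=
  (TensorProduct.rid R T).toLinearMap ∘ₗ (bs i).lTensor T

@[simp] lemma coef_tmul (T : Type u) [CommRing T] [Algebra R T] (i : Fin n) (x : B) (t : T) :
    coef bs T i (t ⊗ₜ x) = bs i x • t := by
  simp [coef]

lemma sum_coef (hb : ∀ x : B, ∑ i, bs i x • b i = x) (T : Type u) [CommRing T] [Algebra R T]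
    (z : T ⊗[R] B) : ∑ i, coef bs T i z ⊗ₜ[R] b i = z := by
  induction z with
  | zero => simp
  | tmul t x =>
    simp only [coef_tmul]
    conv_rhs => rw [← hb x]
    rw [TensorProduct.tmul_sum]
    simp [TensorProduct.smul_tmul]
  | add x y hx hy =>
    simp only [map_add, TensorProduct.add_tmul, Finset.sum_add_distrib, hx, hy]

lemma map_coef {T T' : Type u} [CommRing T] [Algebra R T] [CommRing T'] [Algebra R T']
    (h : T →ₐ[R] T') (i : Fin n) (z : T ⊗[R] B) :
    h (coef bs T i z) = coef bs T' i (Algebra.TensorProduct.map h (AlgHom.id R B) z) := by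
  induction z with
  | zero => simp
  | tmul t x => simp
  | add x y hx hy => simp [hx, hy]

end Coef

theorem exists_dualBasis (R B : Type u) [CommRing R] [CommRing B] [Algebra R B]
    [Module.Finite R B] [Module.Projective R B] :
    ∃ (n : ℕ) (b : Fin n → B) (bs : Fin n → B →ₗ[R] R), ∀ x : B, ∑ i, bs i x • b i = x := by
  obtain ⟨n, f, g, -, -, eq⟩ := Module.Finite.exists_comp_eq_id_of_projective R B
  refine ⟨n, fun i => f (Pi.single i 1), fun i => LinearMap.proj i ∘ₗ g, fun x => ?_⟩
  have h1 : ∑ i, (g x i) • (Pi.single i (1 : R) : Fin n → R) = g x := by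
    ext j
    simp [Finset.sum_apply, Pi.single_apply]
  calc ∑ i, (LinearMap.proj i ∘ₗ g) x • f (Pi.single i 1)
      = f (∑ i, (g x i) • (Pi.single i (1 : R) : Fin n → R)) := by
        rw [map_sum]
        refine Finset.sum_congr rfl fun i _ => ?_
        rw [map_smul]
        rfl
    _ = x := by
        rw [h1]
        exact congr($eq x)

section Construction

variable (C)
variable {n : ℕ} (b : Fin n → B) (bs : Fin n → B →ₗ[R] R)

/-- the "universal" element before imposing relations. -/
noncomputable def univ (c : C) : MvPolynomial (C × Fin n) R ⊗[R] B :=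
  ∑ i, MvPolynomial.X (c, i) ⊗ₜ[R] b i

/-- the set of relations. -/
noncomputable def relSet : Set (MvPolynomial (C × Fin n) R) :=
  {x | ∃ c i, x = MvPolynomial.X (c, i) - coef bs _ i (univ (R := R) C b c)} ∪
  {x | ∃ c c' i, x = coef bs _ i (univ (R := R) C b (c + c') - univ C b c - univ C b c')} ∪
  {x | ∃ c c' i, x = coef bs _ i (univ (R := R) C b (c * c') - univ C b c * univ C b c')} ∪
  {x | ∃ (r : R) (i : Fin n), x = coef bs _ i (univ (R := R) C b (algebraMap R C r) -
      algebraMap R _ r)}

/-- The ideal of relations. -/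
noncomputable def relIdeal : Ideal (MvPolynomial (C × Fin n) R) := Ideal.span (relSet C b bs)

/-- The representing algebra. -/
abbrev WAlg : Type u := MvPolynomial (C × Fin n) R ⧸ relIdeal C b bs

/-- quotient map. -/
noncomputable abbrev qmap : MvPolynomial (C × Fin n) R →ₐ[R] WAlg C b bs :=
  Ideal.Quotient.mkₐ R (relIdeal C b bs)

lemma qmap_eq_zero {x : MvPolynomial (C × Fin n) R} (hx : x ∈ relSet C b bs) :
    qmap C b bs x = 0 := by
  rw [Ideal.Quotient.mkₐ_eq_mk, Ideal.Quotient.eq_zero_iff_mem]
  exact Ideal.subset_span hx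

lemma map_qmap_eq_zero (hb : ∀ x : B, ∑ i, bs i x • b i = x)
    (z : MvPolynomial (C × Fin n) R ⊗[R] B)
    (hz : ∀ i, coef bs _ i z ∈ relSet C b bs) :
    Algebra.TensorProduct.map (qmap C b bs) (AlgHom.id R B) z = 0 := by
  rw [← sum_coef b bs hb _ z, map_sum]
  refine Finset.sum_eq_zero fun i _ => ?_
  rw [Algebra.TensorProduct.map_tmul, qmap_eq_zero C b bs (hz i), TensorProduct.zero_tmul]

/-- The universal homomorphism. -/
noncomputable def evW (hb : ∀ x : B, ∑ i, bs i x • b i = x) : C →ₐ[R] WAlg C b bs ⊗[R] B :=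
  AlgHom.mk' (R := R)
    { toFun := fun c => Algebra.TensorProduct.map (qmap C b bs) (AlgHom.id R B) (univ C b c)
      map_one' := by
        have := map_qmap_eq_zero C b bs hb
          (univ (R := R) C b (algebraMap R C 1) - algebraMap R _ 1)
          (fun i => Or.inr ⟨1, i, rfl⟩)
        rw [map_sub, sub_eq_zero, map_one, map_one, map_one] at this
        exact this
      map_mul' := fun c c' => by
        have := map_qmap_eq_zero C b bs hb
          (univ (R := R) C b (c * c') - univ C b c * univ C b c')
          (fun i => Or.inl (Or.inr ⟨c, c', i, rfl⟩))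
        rw [map_sub, sub_eq_zero] at this
        rw [this, map_mul]
      map_zero' := by
        have := map_qmap_eq_zero C b bs hb
          (univ (R := R) C b (algebraMap R C 0) - algebraMap R _ 0)
          (fun i => Or.inr ⟨0, i, rfl⟩)
        rw [map_sub, sub_eq_zero] at this
        simpa using this
      map_add' := fun c c' => by
        have := map_qmap_eq_zero C b bs hb
          (univ (R := R) C b (c + c') - univ C b c - univ C b c')
          (fun i => Or.inl (Or.inl (Or.inr ⟨c, c', i, rfl⟩)))
        rw [map_sub, map_sub, sub_sub, sub_eq_zero] at this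
        exact this }
    (fun r c => by
        have h1 := map_qmap_eq_zero C b bs hb
          (univ (R := R) C b (algebraMap R C r * c) - univ C b (algebraMap R C r) * univ C b c)
          (fun i => Or.inl (Or.inr ⟨_, c, i, rfl⟩))
        rw [map_sub, sub_eq_zero] at h1
        have h2 := map_qmap_eq_zero C b bs hb
          (univ (R := R) C b (algebraMap R C r) - algebraMap R _ r)
          (fun i => Or.inr ⟨r, i, rfl⟩)
        rw [map_sub, sub_eq_zero] at h2
        change Algebra.TensorProduct.map (qmap C b bs) (AlgHom.id R B) (univ C b (r • c)) =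
          r • Algebra.TensorProduct.map (qmap C b bs) (AlgHom.id R B) (univ C b c)
        rw [Algebra.smul_def r c, h1, map_mul, h2, AlgHom.commutes, ← Algebra.smul_def])

lemma evW_apply (hb : ∀ x : B, ∑ i, bs i x • b i = x) (c : C) :
    evW C b bs hb c =
      Algebra.TensorProduct.map (qmap C b bs) (AlgHom.id R B) (univ C b c) := rfl

theorem isRep_evW (hb : ∀ x : B, ∑ i, bs i x • b i = x) : IsRep (evW (R := R) C b bs hb) := by
  intro T _ _
  constructor
  · intro h h' hh
    apply Ideal.Quotient.algHom_ext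
    apply MvPolynomial.algHom_ext
    rintro ⟨c, i⟩
    have key : ∀ k : WAlg C b bs →ₐ[R] T,
        k (qmap C b bs (MvPolynomial.X (c, i))) = coef bs T i (push (evW C b bs hb) k c) := by
      intro k
      have h1 : qmap C b bs (MvPolynomial.X (c, i)) = coef bs _ i (evW C b bs hb c) := by
        have := qmap_eq_zero C b bs (x := MvPolynomial.X (c, i) - coef bs _ i (univ C b c))
          (Or.inl (Or.inl (Or.inl ⟨c, i, rfl⟩)))
        rw [map_sub, sub_eq_zero] at this
        rw [this, evW_apply, map_coef]
      rw [h1, map_coef]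
      rfl
    have := (key h).trans ((congrArg (fun f : C →ₐ[R] T ⊗[R] B => coef bs T i (f c)) hh).trans
      (key h').symm)
    exact this
  · intro φ
    let h0 : MvPolynomial (C × Fin n) R →ₐ[R] T :=
      MvPolynomial.aeval (fun p => coef bs T p.2 (φ p.1))
    have hu : ∀ c, Algebra.TensorProduct.map h0 (AlgHom.id R B) (univ C b c) = φ c := by
      intro c
      rw [univ, map_sum]
      simp only [Algebra.TensorProduct.map_tmul, AlgHom.id_apply]
      have : ∀ i, h0 (MvPolynomial.X (c, i)) = coef bs T i (φ c) := fun i => by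
        simp [h0]
      simp only [this]
      exact sum_coef b bs hb T (φ c)
    have hker : ∀ x ∈ relIdeal C b bs, h0 x = 0 := by
      intro x hx
      have : relIdeal C b bs ≤ RingHom.ker h0 := by
        apply Ideal.span_le.mpr
        rintro x (((⟨c, i, rfl⟩ | ⟨c, c', i, rfl⟩) | ⟨c, c', i, rfl⟩) | ⟨r, i, rfl⟩)
        · rw [SetLike.mem_coe, RingHom.mem_ker, map_sub, map_coef, hu]
          simp [h0]
        · rw [SetLike.mem_coe, RingHom.mem_ker, map_coef, map_sub
              (Algebra.TensorProduct.map h0 (AlgHom.id R B)), map_sub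
              (Algebra.TensorProduct.map h0 (AlgHom.id R B)), hu, hu, hu]
          simp
        · rw [SetLike.mem_coe, RingHom.mem_ker, map_coef, map_sub, map_mul, hu, hu, hu]
          simp
        · rw [SetLike.mem_coe, RingHom.mem_ker, map_coef, map_sub, hu, AlgHom.commutes,
            AlgHom.commutes, sub_self, map_zero]
      exact this hx
    refine ⟨Ideal.Quotient.liftₐ (relIdeal C b bs) h0 hker, ?_⟩
    ext c
    rw [push_apply, evW_apply, ← AlgHom.comp_apply, ← map_id_comp]
    have : (Ideal.Quotient.liftₐ (relIdeal C b bs) h0 hker).comp (qmap C b bs) = h0 :=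
      Ideal.Quotient.liftₐ_comp _ _ _
    rw [this]
    exact hu c

end Construction

/-- Existence of the representing algebra. -/
theorem exists_isRep (R B C : Type u) [CommRing R] [CommRing B] [CommRing C] [Algebra R B]
    [Algebra R C] [Module.Finite R B] [Module.Projective R B] :
    ∃ (W : Type u) (_ : CommRing W) (_ : Algebra R W) (ev : C →ₐ[R] W ⊗[R] B), IsRep ev := by
  obtain ⟨n, b, bs, hb⟩ := exists_dualBasis R B
  exact ⟨WAlg C b bs, inferInstance, inferInstance, evW C b bs hb, isRep_evW C b bs hb⟩

/-- Uniqueness of the representing algebra. -/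
theorem IsRep.nonempty_algEquiv {W W' : Type u} [CommRing W] [Algebra R W] [CommRing W']
    [Algebra R W'] {ev : C →ₐ[R] W ⊗[R] B} {ev' : C →ₐ[R] W' ⊗[R] B} (h : IsRep ev)
    (h' : IsRep ev') : Nonempty (W ≃ₐ[R] W') := by
  obtain ⟨a, ha⟩ := (h W').2 ev'
  obtain ⟨a', ha'⟩ := (h' W).2 ev
  dsimp only at ha ha'
  refine ⟨AlgEquiv.ofAlgHom a a' ?_ ?_⟩
  · apply (h' W').1
    dsimp only
    rw [push_comp, ha', ha, push_id]
  · apply (h W).1
    dsimp only
    rw [push_comp, ha, ha', push_id]

section BaseChange

variable (R' : Type u) [CommRing R'] [Algebra R R']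

/-- The comparison `T' ⊗[R] B ≃ T' ⊗[R'] (R' ⊗[R] B)` as an `R`-algebra equivalence. -/
noncomputable def kappa (B : Type u) [CommRing B] [Algebra R B]
    (T' : Type u) [CommRing T'] [Algebra R' T'] [Algebra R T'] [IsScalarTower R R' T'] :
    T' ⊗[R] B ≃ₐ[R] T' ⊗[R'] (R' ⊗[R] B) :=
  ((Algebra.TensorProduct.cancelBaseChange R R' T' T' B).symm).restrictScalars R

@[simp] lemma kappa_tmul (T' : Type u) [CommRing T'] [Algebra R' T'] [Algebra R T']
    [IsScalarTower R R' T'] (t : T') (x : B) :
    kappa R' B T' (t ⊗ₜ x) = t ⊗ₜ[R'] ((1 : R') ⊗ₜ[R] x) := by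
  simp [kappa]

lemma map_kappa {T₁ T₂ : Type u} [CommRing T₁] [Algebra R' T₁] [Algebra R T₁]
    [IsScalarTower R R' T₁] [CommRing T₂] [Algebra R' T₂] [Algebra R T₂]
    [IsScalarTower R R' T₂] (h : T₁ →ₐ[R'] T₂) (z : T₁ ⊗[R] B) :
    Algebra.TensorProduct.map h (AlgHom.id R' (R' ⊗[R] B)) (kappa R' B T₁ z) =
      kappa R' B T₂ (Algebra.TensorProduct.map (h.restrictScalars R) (AlgHom.id R B) z) := by
  induction z with
  | zero => simp
  | tmul x t => simp
  | add x y hx hy => simp [hx, hy]

/-- The base change of `ev : C → W ⊗ B` to `R'`. -/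
noncomputable def bcEv {W : Type u} [CommRing W] [Algebra R W] (ev : C →ₐ[R] W ⊗[R] B) :
    (R' ⊗[R] C) →ₐ[R'] ((R' ⊗[R] W) ⊗[R'] (R' ⊗[R] B)) :=
  Algebra.TensorProduct.liftEquivRight R R' C ((R' ⊗[R] W) ⊗[R'] (R' ⊗[R] B))
    (((kappa (R := R) R' B (R' ⊗[R] W)).toAlgHom).comp (push ev Algebra.TensorProduct.includeRight))

theorem IsRep.baseChange {W : Type u} [CommRing W] [Algebra R W] {ev : C →ₐ[R] W ⊗[R] B}
    (h : IsRep ev) : IsRep (R := R') (B := R' ⊗[R] B) (C := R' ⊗[R] C) (bcEv R' ev) := by
  intro T' _ _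
  let _ : Algebra R T' := Algebra.compHom T' (algebraMap R R')
  have _ : IsScalarTower R R' T' := IsScalarTower.of_algebraMap_eq' rfl
  have key : (fun h' : (R' ⊗[R] W) →ₐ[R'] T' =>
      push (R := R') (B := R' ⊗[R] B) (C := R' ⊗[R] C) (bcEv R' ev) h') =
      (fun g : C →ₐ[R] T' ⊗[R'] (R' ⊗[R] B) =>
        Algebra.TensorProduct.liftEquivRight R R' C (T' ⊗[R'] (R' ⊗[R] B)) g) ∘
      (fun f : C →ₐ[R] T' ⊗[R] B => ((kappa (R := R) R' B T').toAlgHom).comp f) ∘
      (fun k : W →ₐ[R] T' => push ev k) ∘
      (fun h' : (R' ⊗[R] W) →ₐ[R'] T' => (Algebra.TensorProduct.liftEquivRight R R' W T').symm h') := by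
    funext h'
    apply Algebra.TensorProduct.ext
    · ext
    · ext c
      simp only [Function.comp_apply, bcEv, AlgHom.comp_apply, AlgHom.restrictScalars_apply,
        Algebra.TensorProduct.includeRight_apply, push_apply,
        Algebra.TensorProduct.liftEquivRight_apply, Algebra.TensorProduct.lift_tmul, map_one,
        one_mul, Algebra.TensorProduct.liftEquivRight_symm_apply]
      refine (map_kappa (R := R) R' h' _).trans ?_
      rw [map_id_comp]
      rfl
  rw [key]
  refine (Equiv.bijective _).comp (Function.Bijective.comp ?_ ((h T').comp (Equiv.bijective _)))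
  constructor
  · intro f g hfg
    ext c
    exact (kappa (R := R) R' B T').injective (DFunLike.congr_fun hfg c)
  · intro g
    refine ⟨((kappa (R := R) R' B T').symm.toAlgHom).comp g, ?_⟩
    ext c
    simp

end BaseChange

section Split

/-- A universal family of `n` homs `C → W`. -/
def IsRepN (n : ℕ) {W : Type u} [CommRing W] [Algebra R W] (a : Fin n → (C →ₐ[R] W)) : Prop :=
  ∀ (T : Type u) [CommRing T] [Algebra R T],
    Function.Bijective (fun (h : W →ₐ[R] T) (i : Fin n) => h.comp (a i))

theorem exists_isRepN (R C : Type u) [CommRing R] [CommRing C] [Algebra R C] [Module.Finite R C]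
    [Algebra.Etale R C] (n : ℕ) :
    ∃ (W : Type u) (_ : CommRing W) (_ : Algebra R W) (_ : Module.Finite R W)
      (_ : Algebra.Etale R W) (a : Fin n → (C →ₐ[R] W)), IsRepN n a := by
  induction n with
  | zero =>
    refine ⟨R, inferInstance, inferInstance, inferInstance, inferInstance, Fin.elim0, ?_⟩
    intro T _ _
    constructor
    · intro h h' _
      exact Subsingleton.elim _ _
    · intro g
      exact ⟨Algebra.ofId R T, funext fun i => i.elim0⟩
  | succ n ih =>
    obtain ⟨W, _, _, _, _, a, ha⟩ := ih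
    have : Algebra.Etale C (C ⊗[R] W) := inferInstance
    have : Algebra.Etale R (C ⊗[R] W) := Algebra.Etale.comp R C (C ⊗[R] W)
    have : Module.Finite R (C ⊗[R] W) := inferInstance
    refine ⟨C ⊗[R] W, inferInstance, inferInstance, inferInstance, inferInstance,
      Fin.cons (Algebra.TensorProduct.includeLeft)
        (fun i => Algebra.TensorProduct.includeRight.comp (a i)), ?_⟩
    intro T _ _
    constructor
    · intro h h' hh
      apply Algebra.TensorProduct.ext
      · have := congrFun hh 0
        simpa using this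
      · apply (ha T).1
        funext i
        have := congrFun hh i.succ
        ext c
        simpa using DFunLike.congr_fun this c
    · intro g
      obtain ⟨k, hk⟩ := (ha T).2 (fun i => g i.succ)
      refine ⟨Algebra.TensorProduct.lift (g 0) k (fun _ _ => Commute.all _ _), ?_⟩
      funext i
      refine Fin.cases ?_ (fun i => ?_) i
      · ext c
        simp
      · have := congrFun hk i
        dsimp only at this ⊢
        rw [← this]
        ext c
        simp

/-- `T ⊗ (Fin n → R) → (Fin n → T)`. -/
noncomputable def piHom (R : Type u) [CommRing R] (n : ℕ) (T : Type u) [CommRing T]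
    [Algebra R T] : T ⊗[R] (Fin n → R) →ₐ[R] (Fin n → T) :=
  AlgHom.pi fun i => Algebra.TensorProduct.lift (AlgHom.id R T)
    ((Algebra.ofId R T).comp (Pi.evalAlgHom R (fun _ : Fin n => R) i)) (fun _ _ => Commute.all _ _)

lemma piHom_bijective (R : Type u) [CommRing R] (n : ℕ) (T : Type u) [CommRing T]
    [Algebra R T] : Function.Bijective (piHom R n T) := by
  have : (piHom R n T : T ⊗[R] (Fin n → R) → (Fin n → T)) =
      TensorProduct.piScalarRight R R T (Fin n) := by
    funext z
    induction z with
    | zero => simp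
    | tmul t x =>
      funext i
      simp [piHom, Algebra.smul_def, mul_comm]
    | add x y hx hy => simp only [map_add, hx, hy]
  rw [this]
  exact (TensorProduct.piScalarRight R R T (Fin n)).bijective

/-- `T ⊗ (Fin n → R) ≃ (Fin n → T)`. -/
noncomputable def piEquiv (R : Type u) [CommRing R] (n : ℕ) (T : Type u) [CommRing T]
    [Algebra R T] : T ⊗[R] (Fin n → R) ≃ₐ[R] (Fin n → T) :=
  AlgEquiv.ofBijective (piHom R n T) (piHom_bijective R n T)

lemma piEquiv_apply (R : Type u) [CommRing R] (n : ℕ) (T : Type u) [CommRing T]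
    [Algebra R T] (z : T ⊗[R] (Fin n → R)) : piEquiv R n T z = piHom R n T z := rfl

lemma piHom_map {n : ℕ} {T T' : Type u} [CommRing T] [Algebra R T] [CommRing T'] [Algebra R T']
    (h : T →ₐ[R] T') (z : T ⊗[R] (Fin n → R)) (i : Fin n) :
    piHom R n T' (Algebra.TensorProduct.map h (AlgHom.id R (Fin n → R)) z) i =
      h (piHom R n T z i) := by
  induction z with
  | zero => simp
  | tmul t x => simp [piHom, AlgHom.commutes]
  | add x y hx hy => simp only [map_add, Pi.add_apply, hx, hy]

/-- Universal element attached to a universal family. -/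
noncomputable def evPi {n : ℕ} {W : Type u} [CommRing W] [Algebra R W]
    (a : Fin n → (C →ₐ[R] W)) : C →ₐ[R] W ⊗[R] (Fin n → R) :=
  ((piEquiv R n W).symm : (Fin n → W) →ₐ[R] W ⊗[R] (Fin n → R)).comp (AlgHom.pi a)

lemma IsRepN.isRep {n : ℕ} {W : Type u} [CommRing W] [Algebra R W]
    {a : Fin n → (C →ₐ[R] W)} (h : IsRepN n a) : IsRep (evPi a) := by
  intro T _ _
  have hpush : ∀ (k : W →ₐ[R] T) (c : C) (i : Fin n),
      piHom R n T (push (evPi a) k c) i = k (a i c) := by
    intro k c i
    rw [push_apply, piHom_map]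
    congr 1
    change piEquiv R n W ((piEquiv R n W).symm (AlgHom.pi a c)) i = _
    rw [AlgEquiv.apply_symm_apply]
    rfl
  constructor
  · intro k k' hk
    apply (h T).1
    funext i
    ext c
    change k (a i c) = k' (a i c)
    rw [← hpush, ← hpush]
    exact congrArg (fun f : C →ₐ[R] T ⊗[R] (Fin n → R) => piHom R n T (f c) i) hk
  · intro φ
    obtain ⟨k, hk⟩ := (h T).2 (fun i => (Pi.evalAlgHom R (fun _ : Fin n => T) i).comp
      ((piHom R n T).comp φ))
    refine ⟨k, ?_⟩
    ext c
    apply (piHom_bijective R n T).1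
    funext i
    refine (hpush k c i).trans ?_
    exact DFunLike.congr_fun (congrFun hk i) c

/-- Transport of representability along an isomorphism `B ≃ B'`. -/
lemma IsRep.congr {B' : Type u} [CommRing B'] [Algebra R B'] (e : B ≃ₐ[R] B')
    {W : Type u} [CommRing W] [Algebra R W] {ev : C →ₐ[R] W ⊗[R] B} (h : IsRep ev) :
    IsRep ((Algebra.TensorProduct.map (AlgHom.id R W) (e : B →ₐ[R] B')).comp ev) := by
  intro T _ _
  have hcomm : ∀ (k : W →ₐ[R] T) (z : W ⊗[R] B),
      Algebra.TensorProduct.map k (AlgHom.id R B')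
        (Algebra.TensorProduct.map (AlgHom.id R W) (e : B →ₐ[R] B') z) =
      Algebra.TensorProduct.congr (AlgEquiv.refl (R := R) (A₁ := T)) e
        (Algebra.TensorProduct.map k (AlgHom.id R B) z) := by
    intro k z
    induction z with
    | zero => simp
    | tmul t x => simp
    | add x y hx hy => simp only [map_add, hx, hy]
  constructor
  · intro k k' hk
    apply (h T).1
    dsimp only
    ext c
    apply (Algebra.TensorProduct.congr (AlgEquiv.refl (R := R) (A₁ := T)) e).injective
    rw [push_apply, push_apply, ← hcomm, ← hcomm]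
    exact DFunLike.congr_fun hk c
  · intro φ
    obtain ⟨k, hk⟩ := (h T).2
      (((Algebra.TensorProduct.congr (AlgEquiv.refl (R := R) (A₁ := T)) e).symm :
        T ⊗[R] B' →ₐ[R] T ⊗[R] B).comp φ)
    refine ⟨k, ?_⟩
    ext c
    rw [push_apply, AlgHom.comp_apply, hcomm]
    have := DFunLike.congr_fun hk c
    rw [push_apply] at this
    rw [this]
    exact (Algebra.TensorProduct.congr (AlgEquiv.refl (R := R) (A₁ := T)) e).apply_symm_apply (φ c)

end Split

/-- If `B` is finite étale of constant rank and `C` is finite étale over `R`, the algebra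
representing `T ↦ (C →ₐ[R] T ⊗[R] B)` is finite étale. -/
theorem IsRep.finite_etale [Module.Finite R B] [Algebra.Etale R B] [Module.Finite R C]
    [Algebra.Etale R C] {n : ℕ} (hn : Module.rankAtStalk (R := R) B = n)
    {W : Type u} [CommRing W] [Algebra R W] {ev : C →ₐ[R] W ⊗[R] B} (h : IsRep ev) :
    Module.Finite R W ∧ Algebra.Etale R W := by
  obtain ⟨R', _, _, _, _, _, hsplit⟩ := Algebra.IsFiniteSplit.exists_tensorProduct_of_etale hn
  obtain ⟨m, ⟨e⟩⟩ := hsplit.nonempty_algEquiv_fun
  obtain ⟨W', _, _, _, _, a, ha⟩ := exists_isRepN R' (R' ⊗[R] C) m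
  have h1 := ha.isRep.congr e.symm
  obtain ⟨f⟩ := h1.nonempty_algEquiv (h.baseChange R')
  have h2 : Module.Finite R' (R' ⊗[R] W) := Module.Finite.equiv f.toLinearEquiv
  have h3 : Algebra.Etale R' (R' ⊗[R] W) := Algebra.Etale.of_equiv f
  refine ⟨?_, Algebra.Etale.of_etale_tensorProduct_of_faithfullyFlat R'⟩
  exact Module.Finite.of_finite_tensorProduct_of_faithfullyFlat R'

end Groth.Agent.Pi1C.WeilAlg
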